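import Cfsg.Agent.H64.SFBasic
import Cfsg.Agent.H67.SAAB

/-! STD-F4, slot AB: the structure of `C(t)` and the edge lemma (generic `X`). -/

set_option autoImplicit false
set_option linter.unusedSectionVars false

namespace H4.SFAB

open H64.SG (O2 Syl Cz Cs Ns cjs Is2 Inv2 IsO2 mem_Cs mem_Cz is2_of_sq isPGroup_iff_is2)
open H67.SA (St eq_bot_of_odd le_O2_of_perfect mem_cjs conj_mem_cjs cjs_inv_le mem_St_iff_map)
open H59.SO H98 Subgroup

universe u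

variable {X : Type} [Group X] [Finite X] {G : Type u} [Group G] [Finite G]
  {e : X →* G} {g t y : G} {β : MulAut X} {u u' : X} {A A' : Subgroup X}

/-- The elements that induce an automorphism in `B`. -/
def oi (e : X →* G) (B : Subgroup (MulAut X)) : Subgroup G where
  carrier := {g | ∃ β, Ind e g β ∧ β ∈ B}
  one_mem' := ⟨1, ind_one, B.one_mem⟩
  mul_mem' := fun ⟨_, a, b⟩ ⟨_, c, d⟩ => ⟨_, a.mul c, mul_mem b d⟩
  inv_mem' := fun ⟨_, a, b⟩ => ⟨_, a.inv, inv_mem b⟩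

theorem ind_O2 (hi : Function.Injective e) (h : Ind e g β) (hg : g ∈ O2 (Ns e.range)) :
    β ∈ O2 (⊤ : Subgroup (MulAut X)) := by
  obtain ⟨α, h1, h2⟩ : g ∈ oi e (O2 ⊤) := (closure_le _).2 (fun a ha => by
    obtain ⟨α, h1⟩ := exists_ind hi ha.1
    exact ⟨α, h1, H64.SG.mem_O2_of_odd (mem_top _) (h1.odd hi ha.2)⟩) hg
  exact h.unique hi h1 ▸ h2

theorem map_O2 (e : X →* G) {B : Subgroup G} (h : A.map e ≤ B) {s : X} (hs : s ∈ O2 A) :
    e s ∈ O2 B := by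
  refine H64.SG.O2_mono h ?_
  rw [H64.SG.O2_eq, ← H98.map_res, ← H64.SG.O2_eq]
  exact mem_map_of_mem _ hs

theorem cyclic (h : B0 e t) [(e.range.subgroupOf (Cz t)).Normal] {S : Subgroup (Cz t)}
    (hS : IsPGroup 2 S) (h1 : ∀ s ∈ S, ∃ l, Ind e s.1 (MulAut.conj l)) :
    IsCyclic (S.map (QuotientGroup.mk' (e.range.subgroupOf (Cz t)))) := by
  let φ := QuotientGroup.mk' (e.range.subgroupOf (Cz t))
  obtain ⟨T, hT⟩ := H98.exists_isSyl 2 ((Cs e.range).subgroupOf (Cz t))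
  have h2 : IsCyclic T := (equivMapOfInjective _ _ (Cz t).subtype_injective).isCyclic.2
    (h.cyc _ (map_le_iff_le_comap.2 hT.le) (hT.isPGroup.map _))
  refine H64.SG.isCyclic_of_syl (hT.map φ)
    (isCyclic_of_surjective _ (φ.subgroupMap_surjective T)) (hS.map φ) ?_
  rintro _ ⟨s, hs, rfl⟩
  obtain ⟨l, h3⟩ := h1 s hs
  refine ⟨s * ⟨e l, h.mem_Cz l⟩⁻¹, ind_conj_iff.1 h3, ?_⟩
  rw [map_mul, map_inv, show φ ⟨e l, h.mem_Cz l⟩ = 1 from (QuotientGroup.eq_one_iff _).2 ⟨l, rfl⟩,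
    inv_one, mul_one]

section
variable (a3 : ∀ α : MulAut X, Is2 α → α ∈ O2 (⊤ : Subgroup (MulAut X)) → ∃ g, α = MulAut.conj g)
include a3

theorem odd0 (h : B0 e t) [(e.range.subgroupOf (Cz t)).Normal] :
    Odd (Nat.card (((O2 (Cz t)).subgroupOf (Cz t)).map
      (QuotientGroup.mk' (e.range.subgroupOf (Cz t))))) := by
  obtain ⟨S, hS⟩ := H98.exists_isSyl 2 ((O2 (Cz t)).subgroupOf (Cz t))
  have h3 := H64.SG.odd_O2 (hS.map _) (cyclic h hS.isPGroup fun s hs => by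
    obtain ⟨β, h1⟩ := exists_ind h.inj (h.cz s.2)
    obtain ⟨l, rfl⟩ := a3 β (h1.is2 h.inj ((isPGroup_iff_is2.1 hS.isPGroup s hs).map
      (Cz t).subtype)) (ind_O2 h.inj h1 (H64.SG.O2_mono h.cz (hS.le hs)))
    exact ⟨l, h1⟩)
  rwa [H64.SG.O2_eq, H64.SG.O2_eq, H98.res_subgroupOf, ← H98.res_top, H98.map_res, H98.res_res,
    ← H98.map_res, H98.res_top, ← H98.res_subgroupOf, ← H64.SG.O2_eq] at h3

theorem ol0 (h : B0 e t) (hy : y ∈ O2 (Cz t)) (y2 : Is2 y) : y ∈ e.range := by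
  have : (e.range.subgroupOf (Cz t)).Normal := normal_subgroupOf_of_le_normalizer h.cz
  have y1 := H64.SG.O2_le _ hy
  exact (QuotientGroup.eq_one_iff (⟨y, y1⟩ : Cz t)).1 (Is2.eq_one
    (Is2.map (g := (⟨y, y1⟩ : Cz t)) (y2.imp fun _ e => Subtype.ext e) (QuotientGroup.mk' _))
    (H64.SG.odd_orderOf_of_mem (odd0 a3 h) (mem_map_of_mem _ hy)))

theorem pf0 (h : B0 e t) {N : Subgroup G} (n1 : N ≤ Cz t) (n2 : N ≤ ⁅N, N⁆) :
    N ≤ e.range := fun b hb => by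
  have : (e.range.subgroupOf (Cz t)).Normal := normal_subgroupOf_of_le_normalizer h.cz
  have h2 := eq_bot_of_odd (N := (N.subgroupOf (Cz t)).map
    (QuotientGroup.mk' (e.range.subgroupOf (Cz t)))) (by
      rw [← map_commutator]
      refine map_mono ?_
      rw [← map_le_map_iff_of_injective (subtype_injective _), map_commutator,
        subgroupOf_map_subtype, inf_eq_left.2 n1]
      exact n2) ((odd0 a3 h).of_dvd_nat (card_dvd_of_le (map_mono (comap_mono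
        ((le_O2_of_perfect n2).trans (H64.SG.O2_mono n1))))))
  exact (QuotientGroup.eq_one_iff (⟨b, n1 hb⟩ : Cz t)).1
    (mem_bot.1 (h2.le (mem_map_of_mem (QuotientGroup.mk' _) hb)))

/-- `ol` at a conjugate of `t` that centralises the image of `C(u)`. -/
theorem le_cjs (h : B0 e t) (hA : IsO2 A (Cz u)) (oq : A ≤ O2 (Cz u))
    (c : (Cz u).map e ≤ Cz (g * t * g⁻¹)) : A.map e ≤ cjs g e.range := by
  rintro _ ⟨a, ha, rfl⟩
  exact range_cje (g := g) (e := e) ▸ ol0 a3 (h.cje g) (map_O2 e c (oq ha))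
    ((isPGroup_iff_is2.1 hA.2.2.1 a ha).map e)

end

theorem self_mem (hu : Inv2 u) (hA : IsO2 A (Cz u)) : u ∈ A :=
  hA.2.2.2 (zpowers u) (zpowers_le.2 (mem_Cz.2 rfl)) (fun _ ha =>
    H64.SG.Cs_le_Ns _ (H64.SG.mem_Cs_zpowers.2 (mem_Cz.1 ha))) (is2_of_sq hu.1).zpowers
    (mem_zpowers u)

theorem st_of_fix (hA : IsO2 A (Cz u)) (h : β u = u) : β ∈ St A := by
  rw [mem_St_iff_map, hA.eq, map_pCoreOf_of_injective β.injective]
  congr 1
  refine mem_St_iff_map.1 fun a => ?_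
  rw [mem_Cz, mem_Cz, ← β.injective.eq_iff, map_mul, map_mul, h]

theorem map_Cz (h : B1 e t) : (Cz u).map e ≤ Cz (t * e u) := by
  rintro _ ⟨a, ha, rfl⟩
  rw [mem_Cz, mul_assoc, ← map_mul, mem_Cz.1 ha, map_mul, ← mul_assoc, h.comm, mul_assoc]

theorem half (h : B1 e t) (hA : IsO2 A (Cz u)) (hA' : IsO2 A' (Cz u'))
    (h1 : g * t * g⁻¹ = t * e u) (h2 : g * e u' * g⁻¹ = e u)
    (h3 : cjs g (A'.map e) ≤ e.range) : cjs g (A'.map e) ≤ A.map e := by
  rw [← map_comap_eq_self h3]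
  refine map_mono (hA.2.2.2 _ (fun a ha => ?_) (fun c hc => ?_)
    (isP_comap h.inj ((hA'.2.2.1.map e).map _)))
  · obtain ⟨_, ⟨b, hb, rfl⟩, r⟩ := ha
    rw [mem_Cz, ← e_comm_iff h.inj, ← r, ← h2]
    change _ * (g * e b * g⁻¹) = g * e b * g⁻¹ * _
    rw [conj_mul, conj_mul, ← map_mul, mem_Cz.1 (hA'.1 hb), map_mul]
  · have k1 : g⁻¹ * e c * g ∈ Cz t := by
      rw [← mem_cjs, H64.SG.cj_Cz, h1]
      exact map_Cz h ⟨c, hc, rfl⟩
    obtain ⟨β, i⟩ := exists_ind h.inj (h.cz k1)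
    have k2 : β u' = u' := (i.comm_iff h.inj).1 (by
      rw [show e u' = g⁻¹ * e u * g by rw [← h2]; group]
      calc _ = g⁻¹ * e (c * u) * g := by rw [map_mul]; group
        _ = _ := by rw [← mem_Cz.1 hc, map_mul]; group)
    have k3 : e c ∈ Ns (cjs g (A'.map e)) := by
      rw [← H64.SG.cj_Ns, mem_cjs]
      exact i.mem_Ns_map (st_of_fix hA' k2)
    exact mem_normalizer_iff.2 fun a => by
      rw [mem_comap, mem_comap, map_mul, map_mul, map_inv]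
      exact mem_normalizer_iff.1 k3 _

theorem jobAB (hA : H64.SF.JobFA) (hI : H64.SF.JobFI) : H64.SF.JobAB.{u} := by
  intro F _ _ _ G _ _ e t h
  have fa := hA F
  have fi := hI F
  refine ⟨fun _ => ol0 fa.a3 h, fun _ => pf0 fa.a3 h, fun u c => ?_, fun g u A hu h1 hA => ?_⟩
  · have hu := (inv2_e h.inj).1 (H9.UF.inv2_conj h.inv c)
    obtain ⟨g, hg⟩ := isConj_iff.1 c
    have o := H64.SG.isO2_pCoreOf (Cz u)
    refine (h.toB1.cje g).not_mem fa.ns ?_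
    rw [range_cje, hg]
    refine le_cjs fa.a3 h o (fi.oq u _ hu o) ?_ ⟨u, self_mem hu o, rfl⟩
    rintro _ ⟨a, ha, rfl⟩
    rw [hg, mem_Cz, ← map_mul, mem_Cz.1 ha, map_mul]
  · have k1 := le_cjs fa.a3 h hA (fi.oq u _ hu hA) (h1 ▸ map_Cz h.toB1)
    obtain ⟨_, ⟨u', rfl⟩, h2⟩ := k1 ⟨u, self_mem hu hA, rfl⟩
    change g * e u' * g⁻¹ = e u at h2
    have hu' : Inv2 u' := (inv2_e h.inj).1 (H9.UF.inv2_conj ((inv2_e h.inj).2 hu)
      (isConj_iff.2 ⟨g, h2⟩).symm)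
    have o := H64.SG.isO2_pCoreOf (Cz u')
    have h3 : g⁻¹ * t * g⁻¹⁻¹ = t * e u' := by
      apply (MulAut.conj g).injective
      rw [map_mul (MulAut.conj g) t, MulAut.conj_apply, MulAut.conj_apply, MulAut.conj_apply, h1, h2,
        mul_assoc t, ← map_mul, hu.1, map_one]
      group
    have k2 := le_cjs fa.a3 h o (fi.oq u' _ hu' o) (h3 ▸ map_Cz h.toB1)
    refine ⟨k1, u', _, hu', o, h2, le_antisymm (half h.toB1 hA o h1 h2 ?_) fun a ha => ?_⟩
    · simpa using cjs_inv_le k2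
    · exact mem_cjs.2 (half h.toB1 o hA h3 (by rw [← h2]; group) (cjs_inv_le k1)
        (by simpa using (conj_mem_cjs (g := g⁻¹)).2 ha))

end H4.SFAB
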