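import Cfsg.Agent.H5.RuSpec

/-! RU-MOD (blueprints/RU.md): the 8-dimensional module of `L3(2)` and its quadratic map. -/

set_option autoImplicit false
set_option maxRecDepth 100000

namespace H4.RuMod
open Subgroup H5.Ru H5.Ru.W0

universe u

section
variable {X : Type*} [CommGroup X]

/-- the fixed points -/
abbrev fx (s : MulAut X) : Subgroup X := MonoidHom.eqLocus s.toMonoidHom (MonoidHom.id X)

theorem card_fx_le [Finite X] {g r s : MulAut X} (h : ∀ x, g (r x) = s (g x)) :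
    Nat.card (fx r) ≤ Nat.card (fx s) :=
  Nat.card_le_card_of_injective (fun x => (⟨g x, (h x).symm.trans (congrArg g x.2)⟩ : fx s))
    fun _ _ e => Subtype.ext (g.injective (congrArg Subtype.val e))

theorem inv_card [Finite X] (h2 : ∀ x : X, x * x = 1) {A : Subgroup X} {t : MulAut X}
    (ht : ∀ x, t (t x) = x) (hA : ∀ x ∈ A, t x ∈ A) :
    Nat.card A ≤ Nat.card (A ⊓ fx t : Subgroup X) ^ 2 ∧
      (Nat.card (A ⊓ fx t : Subgroup X) ^ 2 ≤ Nat.card A → ∀ w ∈ A ⊓ fx t, ∃ x ∈ A, x * t x = w) := by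
  let φ : A →* (A ⊓ fx t : Subgroup X) := MonoidHom.mk' (fun x => ⟨x * t x, mul_mem x.2 (hA x x.2),
    show t _ = _ by rw [map_mul, ht, mul_comm]; rfl⟩) fun x y => Subtype.ext (by
      simp only [coe_mul, map_mul]; ac_rfl)
  have hk : φ.ker = (A ⊓ fx t).subgroupOf A := by
    ext x
    rw [MonoidHom.mem_ker, Subtype.ext_iff, mem_subgroupOf, mem_inf, and_iff_right x.2]
    show (x : X) * t x = 1 ↔ t x = x
    rw [← h2 x, mul_right_inj]
  have e := φ.ker.card_mul_index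
  rw [index_ker, hk, Nat.card_congr (subgroupOfEquivOfLe inf_le_left).toEquiv] at e
  refine ⟨by rw [← e, sq]; exact Nat.mul_le_mul_left _ (card_le_card_group _), fun h w hw => ?_⟩
  rw [← e, sq] at h
  obtain ⟨x, hx⟩ := (eq_top_of_le_card φ.range (Nat.le_of_mul_le_mul_left h Nat.card_pos)).ge
    (mem_top ⟨w, hw⟩)
  exact ⟨x, x.2, congrArg Subtype.val hx⟩

/-- `⟨a, c, b, r⟩` acts like `S4` with normal four-group `⟨a, c⟩` -/
structure A4 (x0 : X) (a c b r : MulAut X) : Prop where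
  h2 : ∀ x : X, x * x = 1
  ne : x0 ≠ 1
  aa : ∀ x, a (a x) = x
  cc : ∀ x, c (c x) = x
  bb : ∀ x, b (b x) = x
  ac : ∀ x, a (c x) = c (a x)
  bc : ∀ x, b (c x) = c (b x)
  ba : ∀ x, b (a x) = c (a (b x))
  rrr : ∀ x, r (r (r x)) = x
  ra : ∀ x, r (a x) = c (r x)
  rc : ∀ x, r (c x) = c (a (r x))
  rb : ∀ x, r (b x) = b (r (r x))
  fix : ∀ x, (c x = x ∧ a x = x) ∧ b x = x ↔ (x = 1 ∨ x = x0)

/-- the norm of the four-group -/
def nu4 (a c : MulAut X) (x : X) : X := x * c x * a (x * c x)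
/-- the norm of the dihedral group -/
def nu8 (a c b : MulAut X) (x : X) : X := nu4 a c x * b (nu4 a c x)
/-- the norm of the element of order three -/
def nu3 {Y : Type*} [Group Y] (r : MulAut Y) (x : Y) : Y := x * r x * r (r x)

variable {x0 : X} {a c b r : MulAut X}

theorem nu4_mul (x y : X) : nu4 a c (x * y) = nu4 a c x * nu4 a c y := by
  simp only [nu4, map_mul]; ac_rfl

theorem nu8_mul (x y : X) : nu8 a c b (x * y) = nu8 a c b x * nu8 a c b y := by
  simp only [nu8, nu4_mul, map_mul]; ac_rfl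

theorem A4.nu4_mem (h : A4 x0 a c b r) (x : X) : nu4 a c x ∈ fx c ⊓ fx a :=
  ⟨show c _ = nu4 a c x by simp only [nu4, map_mul, h.ac, h.cc]; ac_rfl,
    show a _ = nu4 a c x by simp only [nu4, map_mul, h.ac, h.aa]; ac_rfl⟩

theorem A4.b_mem (h : A4 x0 a c b r) (x : X) (hx : x ∈ fx c ⊓ fx a) : b x ∈ fx c ⊓ fx a := by
  have h1 : c (b x) = b x := by rw [← h.bc, show c x = x from hx.1]
  refine ⟨h1, c.injective (show c (a (b x)) = c (b x) from ?_)⟩
  rw [← h.ba, show a x = x from hx.2, h1]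

theorem A4.r_mem (h : A4 x0 a c b r) (x : X) (hx : x ∈ fx c ⊓ fx a) : r x ∈ fx c ⊓ fx a := by
  have h1 : c (r x) = r x := by rw [← h.ra, show a x = x from hx.2]
  refine ⟨h1, c.injective (show c (a (r x)) = c (r x) from ?_)⟩
  rw [← h.rc, show c x = x from hx.1, h1]

theorem A4.mul_b (h : A4 x0 a c b r) {x : X} (hx : x ∈ fx c ⊓ fx a) :
    x * b x = 1 ∨ x * b x = x0 :=
  (h.fix _).1 ⟨mul_mem hx (h.b_mem x hx), by rw [map_mul, h.bb, mul_comm]⟩

theorem A4.eq_of_mul (h : A4 x0 a c b r) {x y : X} (e : x * y = 1) : y = x := by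
  rwa [← h.h2 x, mul_right_inj] at e

theorem A4.nu4_r (h : A4 x0 a c b r) (x : X) : nu4 a c (r x) = r (nu4 a c x) := by
  simp only [nu4, map_mul, h.ac, h.ra, h.rc, h.cc, h.aa]; ac_rfl

theorem A4.nu3_mem (h : A4 x0 a c b r) (x : X) : nu3 r x ∈ fx r :=
  show r _ = nu3 r x by simp only [nu3, map_mul, h.rrr]; ac_rfl

variable [Finite X]

theorem A4.cardD (h : A4 x0 a c b r) : Nat.card (fx c ⊓ fx a ⊓ fx b : Subgroup X) ≤ 2 := by
  classical
  refine le_trans (Nat.card_le_card_of_injective (β := Bool) (fun x => decide (x.1 = 1))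
    fun x y e => Subtype.ext ?_) (by simp)
  have e := decide_eq_decide.1 e
  rcases (h.fix x).1 x.2 with h1 | h1 <;> rcases (h.fix y).1 y.2 with h2 | h2
  exacts [h1.trans h2.symm, h1.trans (e.1 h1).symm, (e.2 h2).trans h2.symm, h1.trans h2.symm]

theorem A4.cardF (h : A4 x0 a c b r) : Nat.card (fx c ⊓ fx a : Subgroup X) ≤ 4 :=
  (inv_card h.h2 h.bb h.b_mem).1.trans (Nat.pow_le_pow_left h.cardD 2)

theorem A4.free (h : A4 x0 a c b r) (hX : Nat.card X = 256) :
    4 ≤ Nat.card (fx c ⊓ fx a : Subgroup X) ∧ ∃ y, nu8 a c b y = x0 := by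
  obtain ⟨h1, k1⟩ := inv_card h.h2 (A := ⊤) h.cc fun _ _ => trivial
  obtain ⟨h2, k2⟩ := inv_card h.h2 (A := fx c) h.aa fun x hx =>
    show c (a x) = a x by rw [← h.ac, show c x = x from hx]
  obtain ⟨-, k3⟩ := inv_card h.h2 h.bb h.b_mem
  rw [top_inf_eq, card_top, hX] at h1 k1
  have f := h.cardF
  have d := h.cardD
  have c1 : 16 ≤ Nat.card (fx c) := by nlinarith
  have c2 : 4 ≤ Nat.card (fx c ⊓ fx a : Subgroup X) := by nlinarith
  obtain ⟨x, hx, e1⟩ := k3 (by nlinarith) x0 ((h.fix x0).2 (Or.inr rfl))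
  obtain ⟨y, hy, rfl⟩ := k2 (by nlinarith) x hx
  obtain ⟨z, -, rfl⟩ := k1 (Nat.pow_le_pow_left (h2.trans (Nat.pow_le_pow_left f 2)) 2) y hy
  exact ⟨c2, z, e1⟩

omit [Finite X] in
theorem A4.one_of_ne (h : A4 x0 a c b r) (h0 : r x0 ≠ x0) {x : X} (hx : x ∈ fx c ⊓ fx a)
    (hr : r x = x) : x = 1 := by
  rcases h.mul_b hx with e | e
  · exact ((h.fix x).1 ⟨hx, h.eq_of_mul e⟩).resolve_right fun e => h0 (e ▸ hr)
  · exact absurd (by rw [← e, map_mul, h.rb, hr, hr]) h0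

theorem A4.card_of_ne (h : A4 x0 a c b r) (h0 : r x0 ≠ x0) : Nat.card (fx r) ≤ 4 := by
  have k : ∀ x ∈ fx r, x * c x ∈ fx c ⊓ fx a := fun x hx =>
    ⟨show c _ = x * c x by rw [map_mul, h.cc, mul_comm], h.eq_of_mul (h.one_of_ne h0 (h.nu4_mem x)
      ((h.nu4_r x).symm.trans (congrArg _ hx)))⟩
  refine (Nat.card_le_card_of_injective (fun x : fx r => (⟨x * c x, k x x.2⟩ : (fx c ⊓ fx a :)))
    fun x y e => Subtype.ext ?_).trans h.cardF
  have e : (x : X) * c x = y * c y := congrArg Subtype.val e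
  have hr : r (x * y : X) = x * y := (mul_mem x.2 y.2 : _ ∈ fx r)
  have hc : c (x * y : X) = x * y := h.eq_of_mul (by
    rw [map_mul, mul_mul_mul_comm, e, h.h2])
  refine (h.eq_of_mul (h.one_of_ne h0 ⟨hc, c.injective ?_⟩ hr)).symm
  show c (a _) = c (x * y)
  rw [← hr, ← h.rc, hc, hr, hc]

omit [Finite X] in
theorem A4.fix_of_eq (h : A4 x0 a c b r) (h0 : r x0 = x0) {x : X} (hx : x ∈ fx c ⊓ fx a) :
    r x = x := by
  have k : ∀ x ∈ fx c ⊓ fx a, x * b x = 1 → r x = x := fun x hx e =>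
    ((h.fix x).1 ⟨hx, h.eq_of_mul e⟩).elim (fun e => by rw [e, map_one]) fun e => e ▸ h0
  rcases h.mul_b hx with e | e
  · exact k x hx e
  rcases h.mul_b (h.r_mem x hx) with e' | e'
  · exact r.injective (k _ (h.r_mem x hx) e')
  have := k _ (mul_mem hx (h.r_mem x hx)) (by rw [map_mul, mul_mul_mul_comm, e, e', h.h2])
  rw [map_mul, mul_comm, mul_left_inj] at this
  exact (congrArg r this).symm.trans (h.rrr x)

omit [Finite X] in
theorem A4.nu8_nu3 (h : A4 x0 a c b r) (h0 : r x0 = x0) (x : X) :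
    nu8 a c b (nu3 r x) = nu8 a c b x := by
  have k : ∀ x, nu8 a c b (r x) = nu8 a c b x := fun x => by
    rw [nu8, h.nu4_r, h.fix_of_eq h0 (h.nu4_mem x), nu8]
  rw [nu3, nu8_mul, nu8_mul, k, k, k, h.h2, one_mul]

theorem A4.card_of_eq (h : A4 x0 a c b r) (hX : Nat.card X = 256) (h0 : r x0 = x0) :
    4 < Nat.card (fx r) := by
  obtain ⟨h1, y, hy⟩ := h.free hX
  by_contra hn
  have e := eq_of_le_of_card_ge (fun _ => h.fix_of_eq h0 : fx c ⊓ fx a ≤ fx r)
    ((not_lt.1 hn).trans h1)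
  obtain ⟨e1, e2⟩ := e.ge (h.nu3_mem y)
  refine h.ne (hy.symm.trans ((h.nu8_nu3 h0 y).symm.trans ?_))
  rw [nu8, nu4, show c _ = nu3 r y from e1, h.h2, map_one, mul_one, map_one, mul_one]

end

section
variable {X : Type*} [CommGroup X] {y : ℕ → X}

theorem pv_one (y : ℕ → X) (c : ℕ) : pv (fun i => if i < 8 then y i else 1) c = 1 := by
  simp [pv, pr_succ _ _ 2, pr_succ _ _ 1, pr_succ _ _ 0, show ∀ g : ℕ → X, pr g c 0 = 1 from fun _ => rfl]

theorem rel_of (h2 : ∀ x : X, x * x = 1) (y : ℕ → X) : Rel fun i => if i < 8 then y i else 1 :=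
  ⟨fun _ _ _ _ => mul_comm _ _, fun _ _ => h2 _, fun _ _ => by rw [pv_one, h2],
    fun _ _ _ _ => by rw [pv_one, mul_one, mul_comm]⟩

/-- coordinates as a homomorphism from `W0` -/
theorem exists_hom (h2 : ∀ x : X, x * x = 1) (y : ℕ → X) :
    ∃ Y : W0 →* X, ∀ w, Y w = pr y (xi w) 8 := by
  refine ⟨(rel_of h2 y).lift, fun w => ?_⟩
  rw [Rel.lift_apply, pr_eleven, pv_one, mul_one, pr_ext (g' := y) fun k hk => if_pos hk]
  exact pr_congr _ fun k hk => by
    show _ = Nat.testBit (w.val % 2 ^ 8) k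
    rw [Nat.testBit_mod_two_pow, decide_eq_true hk, Bool.true_and]

theorem pr_xor (h2 : ∀ x : X, x * x = 1) (y : ℕ → X) {c d : ℕ} (hc : c < 256) (hd : d < 256) :
    pr y (c ^^^ d) 8 = pr y c 8 * pr y d 8 := by
  obtain ⟨Y, hY⟩ := exists_hom h2 y
  have := Y.map_mul (ofN c) (ofN d)
  rwa [hY, hY, hY, xi_mul, xi_ofN hc, xi_ofN hd] at this

theorem ax_lt (i c : ℕ) : ax i c < 256 := m256 _

theorem lin (h2 : ∀ x : X, x * x = 1) {s : MulAut X} {k : ℕ}
    (h : ∀ j < 8, s (y j) = pr y (ax k (2 ^ j)) 8) : ∀ c < 256, s (pr y c 8) = pr y (ax k c) 8 := by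
  obtain ⟨Y, hY⟩ := exists_hom h2 y
  have e : s.toMonoidHom.comp Y = Y.comp (al k).toMonoidHom := hom_ext fun j hj => by
    have : xi (gen j) = 2 ^ j := xi_ofN (pow_lt256 hj)
    show s (Y _) = Y (al k _)
    rw [hY, hY, xi_al, this, pr_two_pow, if_pos hj, h j hj]
  intro c hc
  have : s (Y (ofN c)) = Y (al k (ofN c)) := DFunLike.congr_fun e (ofN c)
  rwa [hY, hY, xi_al, xi_ofN hc] at this

/-- one step towards a fixed vector -/
def st (d x : ℕ) : ℕ := if ax d x = x then x else x ^^^ ax d x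

theorem basis [Finite X] (h2 : ∀ x : X, x * x = 1) (hX : Nat.card X = 256) {e : ℕ → MulAut X}
    (h : ∀ k < 8, ∀ c < 256, e k (pr y c 8) = pr y (ax k c) 8) (h1 : pr y 255 8 ≠ 1) (x : X) :
    ∃ c < 256, x = pr y c 8 := by
  have k : ∀ d < 8, ∀ c, c < 256 ∧ pr y c 8 = 1 → st d c < 256 ∧ pr y (st d c) 8 = 1 := by
    intro d hd c hc
    unfold st
    split_ifs
    · exact hc
    · exact ⟨Nat.xor_lt_two_pow (n := 8) hc.1 (ax_lt _ _), by
        rw [pr_xor h2 y hc.1 (ax_lt _ _), ← h d hd c hc.1, hc.2, map_one, mul_one]⟩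
  have s : ∀ c < 256, c ≠ 0 → st 2 (st 1 (st 4 c)) = 255 := by decide +kernel
  have inj : Function.Injective fun c : Fin 256 => pr y c 8 := fun c d e => Fin.ext (by
    have l := Nat.xor_lt_two_pow (n := 8) c.2 d.2
    refine Nat.xor_eq_zero_iff.1 (by_contra fun n => h1 ?_)
    rw [← s _ l n]
    refine (k 2 (by decide) _ (k 1 (by decide) _ (k 4 (by decide) _ ⟨l, ?_⟩))).2
    rw [pr_xor h2 y c.2 d.2, show pr y c 8 = pr y d 8 from e, h2])
  obtain ⟨c, hc⟩ := (inj.bijective_of_nat_card_le (by simp [hX])).2 x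
  exact ⟨c, c.2, hc.symm⟩

end

theorem cub {A : Type*} [CommGroup A] (h2 : ∀ a : A, a * a = 1) {a b c d e f g : A}
    (h : a * b * c * d * e * f * g = 1) : a * e * d = b * e * f * (c * e * g) := by
  rw [← mul_one (a * e * d), ← h, ← one_mul (_ * (c * e * g)), ← one_mul 1, ← h2 a, h2, ← h2 d]
  nth_rewrite 1 [← one_mul (d * d), ← h2 a]
  ac_rfl

/-- cells of the flag variety: `0` is the big cell -/
def gd (k i : ℕ) : Bool := Nat.rec (motive := fun _ => ℕ → Bool)
  (fun i => !allN (fun j => allN (fun d => !Nat.beq i (mulL (mulL j 13) d)) 8) 8)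
  (fun _ ih i => ih i || (ih (mulL i 20) && ih (mulL i 10)) || (ih (mulL i 49) && ih (mulL i 11))) k i

/-- orbit representatives on `X` -/
def rep (k : ℕ) : ℕ := [0, 1, 6, 10, 22, 23, 30].getD k 0
def wT (c : ℕ) : ℕ := 0xda08822744939195c41273329113136840f0e223b85390c252e250d1c21014e9c080a39291146134d0889060878381325253d291d07681d180f3e300b0f6a1e583f2d1e1759261f153e2603292a7c7e51a10e03754a8d0c15552803011501043d3d42500ca55013184054061a151a0615260a1e0b110a1d601110620b0c010770224a1414191449160d5d36411b041b452a10123a6d3c0e3a0d8c12801b0404230d9d3a0c246c0871a44908421414103464022c0207024b350f1033820701062d09091f2d0517174598469a2209271c0e2090122e191911161618031c0992053200375294050c0500001803237a310435660a1d960002031600080209010000 >>> (8 * c) % 256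
def oT (c : ℕ) : ℕ := 0x2da6a57345637b3cf39339337b392451dae24d995ab1a6997a4ce4db66db4e565a8f4aa39a38d599c8eaae28ab6db451715d23d1c72a924cf389d762d9bd9b6ca6d18ead2395369952b7626db291b1a69995a4d99a372ab134d96d16d1489248 >>> (3 * c) % 8
/-- the equivariant map with the values `l` at the representatives -/
def cand (l : List ℕ) (c : ℕ) : W0 := al (wT c) (nu (l.getD (oT c) 0))
def cubic (q : ℕ → W0) (x y w : ℕ) : Prop :=
  q (x ^^^ y ^^^ w) * q (x ^^^ y) * q (x ^^^ w) * q (y ^^^ w) * q x * q y * q w = 1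
instance decCubic (q : ℕ → W0) (x y w : ℕ) : Decidable (cubic q x y w) := by
  unfold cubic; infer_instance

def fin (l : List ℕ) : Prop := cubic (cand l) 1 16 8 → cubic (cand l) 6 16 8 →
  (∀ c < 256, cand l c = 1) ∨ ∀ c < 256, cand l c = ofN c * ofN c
instance decFin (l : List ℕ) : Decidable (fin l) := by unfold fin; infer_instance
/-- quantify over the fixed points of `al i` on `V0` -/
def fa (i : ℕ) (p : ℕ → Bool) : Bool := allN (fun t => !decide (al i (nu t) = nu t) || p t) 8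
theorem of_fa {i t : ℕ} {p : ℕ → Bool} (h : fa i p = true) (l : t < 8) (e : al i (nu t) = nu t) :
    p t = true := by simpa [e] using of_allN h l

theorem quad {q : ℕ → W0} (hV : ∀ c < 256, q c ∈ V0) (he : ∀ i < 168, ∀ c < 256, q (ax i c) = al i (q c))
    (h0 : q 0 = 1) (h1 : cubic q 1 16 8) (h2 : cubic q 6 16 8) :
    (∀ c < 256, q c = 1) ∨ ∀ c < 256, q c = ofN c * ofN c := by
  have t : ∀ c < 256, wT c < 168 ∧ oT c < 7 ∧ rep (oT c) < 256 ∧ ax (wT c) (rep (oT c)) = c := by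
    decide +kernel
  have s : ∀ c < 256, ∀ i < 168, ax i c = c → ∃ t < 8, q c = nu t ∧ al i (nu t) = nu t :=
    fun c hc i hi e => by
      obtain ⟨t, ht, e'⟩ := (mem_V0_iff _).1 (hV c hc)
      exact ⟨t, ht, e', by rw [← e', ← he i hi c hc, e]⟩
  obtain ⟨t1, l1, e1, f1⟩ := s 1 (by decide) 67 (by decide) (by decide +kernel)
  obtain ⟨t2, l2, e2, f2⟩ := s 6 (by decide) 67 (by decide) (by decide +kernel)
  obtain ⟨t3, l3, e3, f3⟩ := s 10 (by decide) 2 (by decide) (by decide +kernel)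
  obtain ⟨t4, l4, e4, f4⟩ := s 22 (by decide) 137 (by decide) (by decide +kernel)
  obtain ⟨t5, l5, e5, f5⟩ := s 23 (by decide) 41 (by decide) (by decide +kernel)
  obtain ⟨t6, l6, e6, f6⟩ := s 30 (by decide) 32 (by decide) (by decide +kernel)
  have e : ∀ c < 256, q c = cand [0, t1, t2, t3, t4, t5, t6] c := fun c hc => by
    obtain ⟨a1, a2, a3, a4⟩ := t c hc
    rw [cand, ← a4, he _ a1 _ a3, a4]
    congr 1
    generalize oT c = k at a2
    interval_cases k
    exacts [h0, e1, e2, e3, e4, e5, e6]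
  have key : fa 67 (fun t1 => fa 67 fun t2 => fa 2 fun t3 => fa 137 fun t4 => fa 41 fun t5 =>
      fa 32 fun t6 => decide (fin [0, t1, t2, t3, t4, t5, t6])) = true := by decide +kernel
  have k1 := of_fa key l1 f1
  have k2 := of_fa k1 l2 f2
  have k3 := of_fa k2 l3 f3
  have k4 := of_fa k3 l4 f4
  have k5 := of_fa k4 l5 f5
  have k6 := of_fa k5 l6 f6
  have k7 : fin [0, t1, t2, t3, t4, t5, t6] := of_decide_eq_true k6
  unfold cubic at h1 h2
  repeat rw [e _ (by decide)] at h1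
  repeat rw [e _ (by decide)] at h2
  exact (k7 h1 h2).imp
    (fun k c hc => (e c hc).trans (k c hc)) fun k c hc => (e c hc).trans (k c hc)

theorem jobMod : JobMod.{u} := by
  intro X _ _ e q x0 hX h2 he h0 hf hV hq q1 hc nd
  have ee : ∀ i j k, i < 168 ∧ j < 168 ∧ mulL i j = k → ∀ x, e i (e j x) = e k x :=
    fun i j k h x => by rw [← h.2.2, ← he i h.1 j h.2.1]; rfl
  have e0 : ∀ x, e 0 x = x := fun x => (e 0).injective (ee 0 0 0 (by decide +kernel) x)
  have e2 : ∀ i j k l m, (i < 168 ∧ j < 168 ∧ mulL i j = m) ∧ (k < 168 ∧ l < 168 ∧ mulL k l = m) →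
      ∀ x, e i (e j x) = e k (e l x) := fun i j k l m h x => (ee _ _ _ h.1 x).trans (ee _ _ _ h.2 x).symm
  have e3 : ∀ i j k l m n p, (i < 168 ∧ j < 168 ∧ mulL i j = p) ∧ (l < 168 ∧ m < 168 ∧ mulL l m = n) ∧
      (k < 168 ∧ n < 168 ∧ mulL k n = p) → ∀ x, e i (e j x) = e k (e l (e m x)) :=
    fun i j k l m n p h x => by rw [ee _ _ _ h.1, ee _ _ _ h.2.1, ee _ _ _ h.2.2]
  have ei : ∀ i, i < 168 ∧ i < 168 ∧ mulL i i = 0 → ∀ x, e i (e i x) = x :=
    fun i h x => (ee _ _ _ h x).trans (e0 x)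
  have er : ∀ i j, (i < 168 ∧ i < 168 ∧ mulL i i = j) ∧ (i < 168 ∧ j < 168 ∧ mulL i j = 0) →
      ∀ x, e i (e i (e i x)) = x := fun i j h x => by rw [ee _ _ _ h.1 x, ee _ _ _ h.2 x, e0]
  have e1 : ∀ x, e 1 (e 2 x) = e 7 x := ee _ _ _ (by decide +kernel)
  have f4 : ∀ x, e 1 x = x → e 2 x = x → e 4 x = x := fun x a b => by
    rw [← ee 7 7 4 (by decide +kernel), ← e1, ← e1, b, a, b, a]
  have A : A4 x0 (e 1) (e 4) (e 2) (e 20) := ⟨h2, h0, ei _ (by decide +kernel),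
    ei _ (by decide +kernel), ei _ (by decide +kernel), e2 _ _ _ _ 5 (by decide +kernel),
    e2 _ _ _ _ 6 (by decide +kernel), e3 _ _ _ _ _ 7 3 (by decide +kernel), er _ 10 (by decide +kernel),
    e2 _ _ _ _ (mulL 20 1) (by decide +kernel), e3 _ _ _ _ _ (mulL 1 20) (mulL 20 4) (by decide +kernel),
    e3 _ _ _ _ _ 10 (mulL 20 2) (by decide +kernel),
    fun x => Iff.trans ⟨fun h => ⟨h.1.2, h.2⟩, fun h => ⟨⟨f4 x h.1 h.2, h.1⟩, h.2⟩⟩ (hf x)⟩
  have B : A4 x0 (e 2) (e 4) (e 1) (e 49) := ⟨h2, h0, A.bb, A.cc, A.aa, A.bc, A.ac,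
    e3 _ _ _ _ _ 3 7 (by decide +kernel), er _ 11 (by decide +kernel),
    e2 _ _ _ _ (mulL 49 2) (by decide +kernel), e3 _ _ _ _ _ (mulL 2 49) (mulL 49 4) (by decide +kernel),
    e3 _ _ _ _ _ 11 (mulL 49 1) (by decide +kernel),
    fun x => Iff.trans ⟨fun h => ⟨h.2, h.1.2⟩, fun h => ⟨⟨f4 x h.1 h.2, h.2⟩, h.1⟩⟩ (hf x)⟩
  have p8 : ∀ g : ℕ → X, pr g 255 8 = g 0 * g 1 * g 2 * g 3 * g 4 * g 5 * g 6 * g 7 := fun g => by
    rw [← one_mul (g 0)]; rfl
  have nA : ∀ x, nu8 (e 1) (e 4) (e 2) x = pr (fun d => e d x) 255 8 := fun x => by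
    simp only [p8, nu8, nu4, map_mul, e0, ee 1 4 5 (by decide +kernel), ee 2 4 6 (by decide +kernel),
      ee 2 1 3 (by decide +kernel), ee 2 5 7 (by decide +kernel)]
    ac_rfl
  have nB : ∀ x, nu8 (e 2) (e 4) (e 1) x = pr (fun d => e d x) 255 8 := fun x => by
    simp only [p8, nu8, nu4, map_mul, e0, ee 1 4 5 (by decide +kernel), ee 2 4 6 (by decide +kernel),
      e1, ee 1 6 3 (by decide +kernel)]
    ac_rfl
  have fD : ∀ d < 8, e d x0 = x0 := by
    obtain ⟨a, b⟩ := (hf x0).2 (Or.inr rfl)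
    have c := f4 x0 a b
    intro d hd
    interval_cases d
    exacts [e0 _, a, b, by rw [← ee 2 1 3 (by decide +kernel), a, b], c, by rw [← ee 1 4 5 (by decide +kernel), c, a],
      by rw [← ee 2 4 6 (by decide +kernel), c, b], by rw [← e1, b, a]]
  have both : e 20 x0 ≠ x0 ∧ e 49 x0 ≠ x0 := by
    have c1 := card_fx_le (e2 73 20 49 73 (mulL 73 20) (by decide +kernel))
    have c2 := card_fx_le (e2 34 49 20 34 (mulL 34 49) (by decide +kernel))
    by_cases r1 : e 20 x0 = x0 <;> by_cases r2 : e 49 x0 = x0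
    · exfalso
      let _ : CommGroup V0 := { (inferInstance : Group V0) with
        mul_comm := fun a b => Subtype.ext (V0_comm a.2 b) }
      let g : X →* W0 := MonoidHom.mk' (fun x => q (x0 * x) * q x0 * q x) fun x y =>
        congrArg Subtype.val (cub (A := V0) (fun a => Subtype.ext (V0_sq a.2))
          (a := ⟨_, hV (x0 * (x * y))⟩) (b := ⟨_, hV (x0 * x)⟩) (c := ⟨_, hV (x0 * y)⟩)
          (d := ⟨_, hV (x * y)⟩) (e := ⟨_, hV x0⟩) (f := ⟨_, hV x⟩) (g := ⟨_, hV y⟩)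
          (Subtype.ext (mul_assoc x0 x y ▸ hc x0 x y)))
      have ge : ∀ i < 168, e i x0 = x0 → ∀ x, g (e i x) = al i (g x) := fun i hi h x => by
        show q (x0 * e i x) * q x0 * q (e i x) = al i (q (x0 * x) * q x0 * q x)
        rw [map_mul, map_mul, ← hq i hi, ← hq i hi, ← hq i hi, map_mul, h]
      obtain ⟨-, y, hy⟩ := A.free hX
      have h1 : nu8 (e 1) (e 4) (e 2) (nu3 (e 49) (nu3 (e 20) y)) = x0 := by
        rw [nA, ← nB, B.nu8_nu3 r2, nB, ← nA, A.nu8_nu3 r1, hy]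
      have h3 : g (nu3 (e 49) (nu3 (e 20) y)) = 1 := by
        have k : ∀ c < 8, nu3 (al 49) (nu3 (al 20) (nu c)) = 1 := by decide +kernel
        obtain ⟨c, hc, e'⟩ := (mem_V0_iff (g y)).1 (mul_mem (mul_mem (hV _) (hV _)) (hV _))
        rw [← k c hc, ← e']
        simp only [nu3, map_mul, ge 49 (by decide) r2, ge 20 (by decide) r1]
      generalize nu3 (e 49) (nu3 (e 20) y) = y' at h1 h3
      have b := basis (y := fun d => e d y') h2 hX (e := e) (fun k hk => lin h2 fun j hj => by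
        have t : ∀ k < 8, ∀ j < 8, ax k (2 ^ j) = 2 ^ mulL k j := by decide +kernel
        rw [t k hk j hj, pr_two_pow, if_pos (mulL_lt8 k hk j hj)]
        exact ee _ _ _ ⟨by omega, by omega, rfl⟩ _) (by rw [← nA, h1]; exact h0)
      refine h0 (nd x0 fun x => ?_)
      have : g x = 1 := by
        obtain ⟨c, -, rfl⟩ := b x
        rw [map_pr, pr_ext (g' := fun _ => 1) fun d hd => by
          rw [ge d (by omega) (fD d hd), h3, map_one]]
        simpa using (map_pr (1 : W0 →* W0) (fun _ => 1) c 8).symm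
      have : q (x0 * x) * (q x0 * q x) = 1 := (mul_assoc _ _ _).symm.trans this
      rw [eq_inv_of_mul_eq_one_left this, inv_eq_iff_mul_eq_one, V0_sq (mul_mem (hV _) (hV _))]
    · exact absurd ((A.card_of_eq hX r1).trans_le (c1.trans (B.card_of_ne r2))) (lt_irrefl _)
    · exact absurd ((B.card_of_eq hX r2).trans_le (c2.trans (A.card_of_ne r1))) (lt_irrefl _)
    · exact ⟨r1, r2⟩
  have rel : ∀ {a b r s}, A4 x0 (e a) (e 4) (e b) (e r) → e r x0 ≠ x0 → r < 168 → s < 168 →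
      mulL r r = s → ∀ i < 168, e i x0 = e (mulL i r) x0 * e (mulL i s) x0 := by
    intro a b r s h hr l1 l2 rs i hi
    have m : x0 ∈ fx (e 4) ⊓ fx (e a) := ((h.fix x0).2 (Or.inr rfl)).1
    have := congrArg (e i) (h.one_of_ne hr (mul_mem (mul_mem m (h.r_mem _ m))
      (h.r_mem _ (h.r_mem _ m))) (h.nu3_mem x0))
    rw [map_one, map_mul, map_mul, ee r r s ⟨l1, l1, rs⟩, ee _ _ _ ⟨hi, l1, rfl⟩,
      ee _ _ _ ⟨hi, l2, rfl⟩, mul_assoc] at this
    exact (h.eq_of_mul this).symm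
  let y : ℕ → X := fun j => e (mulL j 13) x0
  have l13 : ∀ j < 8, mulL j 13 < 168 := fun j hj => mulL_lt j (by omega) 13 (by decide)
  have cell : ∀ k, ∀ i < 168, gd k i = true → e i x0 = pr y (ax i 255) 8 := by
    intro k
    induction k with
    | zero =>
      intro i hi h
      have t : ∀ j < 8, ∀ d < 8, ax (mulL (mulL j 13) d) 255 = 2 ^ j := by decide +kernel
      have : ¬ ∀ j < 8, ∀ d < 8, i ≠ mulL (mulL j 13) d := by
        simpa only [gd, Nat.rec_zero, Bool.not_eq_true', ← Bool.not_eq_true, allN_iff,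
          Bool.not_eq_eq_eq_not, Bool.not_true, Nat.beq_eq] using h
      push Not at this
      obtain ⟨j, hj, d, hd, rfl⟩ := this
      rw [t j hj d hd, pr_two_pow, if_pos hj, ← ee _ _ _ ⟨l13 j hj, by omega, rfl⟩, fD d hd]
    | succ k ih =>
      intro i hi h
      have t : ∀ i < 168, ax i 255 = ax (mulL i 20) 255 ^^^ ax (mulL i 10) 255 ∧
          ax i 255 = ax (mulL i 49) 255 ^^^ ax (mulL i 11) 255 := by decide +kernel
      have h : (gd k i || (gd k (mulL i 20) && gd k (mulL i 10)) ||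
        (gd k (mulL i 49) && gd k (mulL i 11))) = true := h
      have l := fun j hj => mulL_lt i hi j hj
      simp only [Bool.or_eq_true, Bool.and_eq_true] at h
      rcases h with (h | h) | h
      · exact ih i hi h
      · rw [rel A both.1 (by decide) (by decide : 10 < 168) (by decide +kernel) i hi, (t i hi).1,
          pr_xor h2 y (ax_lt _ _) (ax_lt _ _), ih _ (l _ (by decide)) h.1, ih _ (l _ (by decide)) h.2]
      · rw [rel B both.2 (by decide) (by decide : 11 < 168) (by decide +kernel) i hi, (t i hi).2,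
          pr_xor h2 y (ax_lt _ _) (ax_lt _ _), ih _ (l _ (by decide)) h.1, ih _ (l _ (by decide)) h.2]
  have o : ∀ i < 168, e i x0 = pr y (ax i 255) 8 := fun i hi =>
    cell 3 i hi ((by decide +kernel : ∀ i < 168, gd 3 i = true) i hi)
  have act : ∀ i < 168, ∀ c < 256, e i (pr y c 8) = pr y (ax i c) 8 := fun i hi => lin h2 fun j hj => by
    have t : ∀ i < 168, ∀ j < 8, ax i (2 ^ j) = ax (mulL i (mulL j 13)) 255 := by decide +kernel
    rw [t i hi j hj, ← o _ (mulL_lt i hi _ (l13 j hj))]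
    exact ee _ _ _ ⟨hi, l13 j hj, rfl⟩ _
  have b := basis h2 hX (fun k hk => act k (by omega)) (by
    rw [show 255 = ax 0 255 by decide +kernel, ← o 0 (by decide), e0]; exact h0)
  have cu : ∀ a b c, a < 256 ∧ b < 256 ∧ c < 256 → cubic (fun c => q (pr y c 8)) a b c :=
    fun a b c h => by
      simpa only [cubic, pr_xor h2 y (Nat.xor_lt_two_pow (n := 8) h.1 h.2.1) h.2.2,
        pr_xor h2 y h.1 h.2.1, pr_xor h2 y h.1 h.2.2, pr_xor h2 y h.2.1 h.2.2] using hc _ _ _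
  refine ⟨y, b, act, (quad (q := fun c => q (pr y c 8)) (fun c _ => hV _)
    (fun i hi c hc => by rw [← act i hi c hc, hq i hi])
    ((congrArg q (mul_left_cancel ((pr_xor h2 y (c := 0) (d := 0) (by decide) (by decide)).symm.trans
      (mul_one _).symm))).trans q1) (cu _ _ _ (by decide))
    (cu _ _ _ (by decide))).resolve_left fun k => h0 (nd x0 fun x => ?_)⟩
  have : ∀ x, q x = 1 := fun x => by
    obtain ⟨c, hc, rfl⟩ := b x
    exact k c hc
  rw [this, this, this, mul_one]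

end H4.RuMod
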