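/- Schmidt's theorem on minimal non-nilpotent groups. -/
import Cfsg.Agent.H4.NilpCoprime
import Cfsg.Agent.S0071

set_option autoImplicit false
open Cfsg Pointwise

namespace H4

universe u

variable {G : Type u} [Group G] [Finite G]

/-- A non-nilpotent finite group contains a `q`-subgroup normalized but not centralized by a
`p`-element for a prime `p ≠ q`. -/
theorem exists_normalizes_not_centralizes (h : ¬ Group.IsNilpotent G) :
    ∃ p q : ℕ, p.Prime ∧ q.Prime ∧ p ≠ q ∧ ∃ (Q : Subgroup G) (g : G), IsPGroup q Q ∧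
      IsPGroup p (Subgroup.zpowers g) ∧ g ∈ Subgroup.normalizer (Q : Set G) ∧
      g ∉ Subgroup.centralizer (Q : Set G) := by
  by_contra hne
  push Not at hne
  apply h
  apply isNilpotent_of_normal_compl
  intro q hq
  have := Fact.mk hq
  obtain ⟨P⟩ : Nonempty (Sylow q G) := inferInstance
  obtain ⟨N, hN, hc⟩ := (Cfsg.Agent.S0071.result P).mpr fun Q hQ g hg hcop => by
    have h1 : Subgroup.zpowers g ≤ Subgroup.centralizer (Q : Set G) := by
      refine le_of_forall_pelement fun p hp hd x hx hP => ?_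
      refine hne p q hp hq ?_ Q x (P.isPGroup'.to_le hQ) hP
        ((Subgroup.zpowers_le (G := G)).mpr hg hx)
      rintro rfl
      rw [Nat.card_zpowers] at hd
      exact hp.one_lt.ne' (Nat.eq_one_of_dvd_coprimes hcop hd dvd_rfl)
    exact h1 (Subgroup.mem_zpowers g)
  exact ⟨N, hN, isPiHall_compl_of_isComplement' P hc⟩

/-- Structure of a minimal non-nilpotent group. -/
theorem schmidt_structure (h1 : ¬ Group.IsNilpotent G)
    (h2 : ∀ H : Subgroup G, H ≠ ⊤ → Group.IsNilpotent H) :
    ∃ p q : ℕ, p.Prime ∧ q.Prime ∧ p ≠ q ∧ ∃ (Q : Subgroup G) (g : G), Q.Normal ∧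
      IsPiHall {q} Q ∧ IsPiHall {p} (Subgroup.zpowers g) ∧ Subgroup.zpowers g ⊔ Q = ⊤ ∧
      g ∉ Subgroup.centralizer (Q : Set G) := by
  obtain ⟨p, q, hp, hq, hne, Q, g, hQ, hg, hn, hc⟩ := exists_normalizes_not_centralizes h1
  have hn' := (Subgroup.zpowers_le (G := G)).mpr hn
  have hcop := coprime_card_of_isPGroup hp hq hne hg hQ
  have htop : Subgroup.zpowers g ⊔ Q = ⊤ := by
    by_contra htop
    have := h2 _ htop
    exact hc (le_centralizer_of_nilpotent (L := Subgroup.zpowers g ⊔ Q) le_sup_left le_sup_right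
      hcop (Subgroup.mem_zpowers g))
  have hN : Q.Normal := by
    rw [← Subgroup.normalizer_eq_top_iff, eq_top_iff, ← htop]
    exact sup_le hn' Subgroup.le_normalizer
  have hcard := card_sup_mul_card_inf_of_le_normalizer hn'
  rw [htop, (Subgroup.disjoint_of_coprime_natCard hcop).eq_bot, Subgroup.card_bot, mul_one,
    Subgroup.card_top] at hcard
  have hi1 : Q.index = Nat.card (Subgroup.zpowers g) :=
    Nat.eq_of_mul_eq_mul_left Nat.card_pos (Q.card_mul_index.trans (hcard.trans (mul_comm _ _)))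
  have hi2 : (Subgroup.zpowers g).index = Nat.card Q :=
    Nat.eq_of_mul_eq_mul_left Nat.card_pos ((Subgroup.zpowers g).card_mul_index.trans hcard)
  have hQπ := isPiSubgroup_of_isPGroup (π := {q}) hq hQ rfl
  have hgπ := isPiSubgroup_of_isPGroup (π := {p}) hp hg rfl
  refine ⟨p, q, hp, hq, hne, Q, g, hN, ⟨hQπ, fun r hr hrq hd => ?_⟩, ⟨hgπ, fun r hr hrp hd => ?_⟩,
    htop, hc⟩
  · rw [hi1] at hd
    exact hne ((hgπ r hr hd).symm.trans hrq)
  · rw [hi2] at hd
    exact hne (hrp.symm.trans (hQπ r hr hd))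

omit [Finite G] in
theorem commutator_le_of_zpowers_sup {Q : Subgroup G} [Q.Normal] {g : G}
    (h : Subgroup.zpowers g ⊔ Q = ⊤) : commutator G ≤ Q := by
  rw [← Subgroup.Normal.quotient_commutative_iff_commutator_le]
  have : IsCyclic (G ⧸ Q) := by
    refine ⟨⟨QuotientGroup.mk' Q g, fun x => ?_⟩⟩
    have h1 := congrArg (Subgroup.map (QuotientGroup.mk' Q)) h
    rw [Subgroup.map_sup, (Subgroup.map_eq_bot_iff Q).mpr (by rw [QuotientGroup.ker_mk']),
      sup_bot_eq, Subgroup.map_top_of_surjective _ (QuotientGroup.mk'_surjective Q),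
      MonoidHom.map_zpowers] at h1
    exact (h1 ▸ Subgroup.mem_top x : x ∈ Subgroup.zpowers (QuotientGroup.mk' Q g))
  exact IsCyclic.isMulCommutative

/-- A finite group all of whose proper subgroups are nilpotent is solvable. -/
theorem solvable_of_proper_nilpotent (h : ∀ H : Subgroup G, H ≠ ⊤ → Group.IsNilpotent H) :
    Group.IsSolvable G := by
  by_cases h1 : Group.IsNilpotent G
  · infer_instance
  obtain ⟨p, q, hp, hq, hne, Q, g, hN, hQ, hg, htop, -⟩ := schmidt_structure h1 h
  have := Fact.mk hq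
  have := (isPGroup_of_isPiSubgroup_singleton hQ.1).isNilpotent
  have := Subgroup.Normal.quotient_commutative_iff_commutator_le.mpr
    (commutator_le_of_zpowers_sup htop)
  exact (Group.isSolvable_iff_subgroup_quotient Q).mpr
    ⟨inferInstance, Group.isSolvable_of_comm this.is_comm.comm⟩

end H4
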