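/- Sylow theory in the `IsPiHallOf {p}` language, and Wielandt's theorem on nilpotent Hall
subgroups. -/
import Cfsg.Agent.H4.Schmidt
import Cfsg.Agent.H1.Cocycle

set_option autoImplicit false
open Cfsg Pointwise

namespace H4

universe u

variable {G : Type u} [Group G] [Finite G]

theorem le_conj_sylow_top {p : ℕ} (hp : p.Prime) {S Q : Subgroup G} (hS : IsPiHall {p} S)
    (hQ : IsPiSubgroup {p} Q) : ∃ g : G, Q ≤ MulAut.conj g • S := by
  have := Fact.mk hp
  obtain ⟨S, rfl⟩ := exists_sylow_of_isPiHall_singleton hS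
  obtain ⟨T, hT⟩ := (isPGroup_of_isPiSubgroup_singleton hQ).exists_le_sylow
  obtain ⟨g, rfl⟩ := MulAction.exists_smul_eq G S T
  exact ⟨g, hT⟩

/-- Sylow's theorem inside a subgroup `M`. -/
theorem le_conj_sylowOf {p : ℕ} (hp : p.Prime) {M S Q : Subgroup G} (hS : IsPiHallOf {p} S M)
    (hQM : Q ≤ M) (hQ : IsPiSubgroup {p} Q) : ∃ g ∈ M, Q ≤ MulAut.conj g • S := by
  rw [isPiHallOf_iff] at hS
  obtain ⟨g, hg⟩ := le_conj_sylow_top hp hS.2 (isPiSubgroup_subgroupOf hQ M)
  refine ⟨g, g.2, ?_⟩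
  have := Subgroup.map_mono (f := M.subtype) hg
  rwa [map_conj_smul, Subgroup.map_subgroupOf_eq_of_le hS.1,
    Subgroup.map_subgroupOf_eq_of_le hQM] at this

theorem exists_sylowOf {p : ℕ} (hp : p.Prime) (M : Subgroup G) :
    ∃ S : Subgroup G, IsPiHallOf {p} S M := by
  have := Fact.mk hp
  obtain ⟨P⟩ : Nonempty (Sylow p M) := inferInstance
  exact ⟨_, isPiHallOf_map_subtype (isPiHall_singleton_sylow P)⟩

theorem exists_sylowOf_ge {p : ℕ} (hp : p.Prime) {M Q : Subgroup G} (hQM : Q ≤ M)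
    (hQ : IsPiSubgroup {p} Q) : ∃ S : Subgroup G, IsPiHallOf {p} S M ∧ Q ≤ S := by
  obtain ⟨S, hS⟩ := exists_sylowOf hp M
  obtain ⟨g, hg, hle⟩ := le_conj_sylowOf hp hS hQM hQ
  have := isPiHallOf_conj_smul hS (MulAut.conj g)
  rw [Subgroup.conj_smul_eq_self_of_mem hg] at this
  exact ⟨_, this, hle⟩

theorem sylowOf_conj {p : ℕ} (hp : p.Prime) {M S T : Subgroup G} (hS : IsPiHallOf {p} S M)
    (hT : IsPiHallOf {p} T M) : ∃ g ∈ M, MulAut.conj g • S = T := by
  obtain ⟨g, hg, hle⟩ := le_conj_sylowOf hp hS hT.1 hT.2.1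
  have := isPiHallOf_conj_smul hS (MulAut.conj g)
  rw [Subgroup.conj_smul_eq_self_of_mem hg] at this
  exact ⟨g, hg, (eq_of_isPiHallOf_of_le hT this.2.1 hle this.1).symm⟩

omit [Finite G] in
/-- Transitivity of Hall subgroups. -/
theorem isPiHallOf_trans {π : Set ℕ} {H L M : Subgroup G} (h : IsPiHallOf π H L) (hle : L ≤ M)
    (hL : ∀ p : ℕ, p.Prime → p ∈ π → ¬ p ∣ L.relIndex M) : IsPiHallOf π H M := by
  refine ⟨h.1.trans hle, h.2.1, fun p hp hπ hd => ?_⟩
  rw [← Subgroup.relIndex_mul_relIndex H L M h.1 hle] at hd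
  rcases (Nat.Prime.dvd_mul hp).mp hd with h1 | h1
  · exact h.2.2 p hp hπ h1
  · exact hL p hp hπ h1

omit [Finite G] in
theorem isPiHall_of_isPiHallOf {π : Set ℕ} {H L : Subgroup G} (h : IsPiHallOf π H L)
    (hL : ∀ p : ℕ, p.Prime → p ∈ π → ¬ p ∣ L.index) : IsPiHall π H :=
  isPiHallOf_top.mp (isPiHallOf_trans h le_top (by simpa using hL))

/-- A subgroup is the product of a Hall `π`-subgroup and a Hall `σ`-subgroup if every prime lies
in `π` or `σ`. -/
theorem le_of_isPiHallOf_le {π σ : Set ℕ} {A B K L : Subgroup G} (hA : IsPiHallOf π A K)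
    (hB : IsPiHallOf σ B K) (h : ∀ p : ℕ, p.Prime → p ∣ Nat.card K → p ∈ π ∨ p ∈ σ)
    (hAL : A ≤ L) (hBL : B ≤ L) : K ≤ L := by
  intro g hg
  obtain ⟨x, hx, y, hy, rfl⟩ := exists_mul_of_coprime_relIndex (A := A) (B := B)
    (Nat.coprime_of_dvd fun p hp h1 h2 =>
      (h p hp (h1.trans (Subgroup.relIndex_dvd_card _ _))).elim
        (fun hπ => hA.2.2 p hp hπ h1) fun hσ => hB.2.2 p hp hσ h2) hg
  exact L.mul_mem (hAL hx.1) (hBL hy.1)

omit [Finite G] in
theorem le_normalizer_map_subtype {K : Subgroup G} (M : Subgroup K) [hM : M.Normal] :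
    K ≤ Subgroup.normalizer ((M.map K.subtype : Subgroup G) : Set G) := by
  intro x hx
  rw [← conj_smul_eq_iff_mem_normalizer]
  have := map_conj_smul K.subtype ⟨x, hx⟩ M
  rw [hM.conj_smul_eq_self] at this
  exact this.symm

omit [Finite G] in
theorem relIndex_map_subtype {K : Subgroup G} (M : Subgroup K) :
    (M.map K.subtype).relIndex K = M.index := by
  rw [Subgroup.relIndex, Subgroup.subgroupOf,
    Subgroup.comap_map_eq_self_of_injective K.subtype_injective]

/-- Wielandt: a nilpotent Hall pi-subgroup contains a conjugate of every pi-subgroup. -/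
theorem le_conj_nilpotent_hall {π : Set ℕ} {H : Subgroup G} [Group.IsNilpotent H]
    (hH : IsPiHall π H) (n : ℕ) : ∀ K : Subgroup G, Nat.card K = n → IsPiSubgroup π K →
      ∃ x : G, K ≤ MulAut.conj x • H := by
  induction n using Nat.strong_induction_on with
  | _ n ih =>
  intro K hn hK
  have ih' : ∀ L : Subgroup G, L < K → ∃ x : G, L ≤ MulAut.conj x • H := fun L hL =>
    ih _ (hn ▸ Set.ncard_lt_ncard hL) L rfl (isPiSubgroup_of_le hK hL.le)
  have hlt : ∀ M : Subgroup K, M ≠ ⊤ → M.map K.subtype < K := fun M hM =>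
    lt_of_le_of_ne (Subgroup.map_subtype_le M) fun h => hM (by
      apply Subgroup.map_injective K.subtype_injective
      rw [h, ← MonoidHom.range_eq_map, Subgroup.range_subtype])
  have hnil : ∀ L : Subgroup G, L < K → Group.IsNilpotent L := fun L hL => by
    obtain ⟨x, hx⟩ := ih' L hL
    have := isNilpotent_smul (MulAut.conj x) H
    exact isNilpotent_of_le hx
  have hsol : Group.IsSolvable K := solvable_of_proper_nilpotent fun M hM => by
    have := hnil _ (hlt M hM)
    exact Group.nilpotent_of_mulEquiv (M.equivMapOfInjective _ K.subtype_injective).symm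
  by_cases hbot : K = ⊥
  · exact ⟨1, hbot ▸ bot_le⟩
  have := (Subgroup.nontrivial_iff_ne_bot K).mpr hbot
  obtain ⟨M, hM, hq⟩ := H1.exists_normal_prime_index K
  have hne : M ≠ ⊤ := by
    rintro rfl
    rw [Subgroup.index_top] at hq
    exact Nat.not_prime_one hq
  set q := M.index
  have hqπ : q ∈ π := hK q hq M.index_dvd_card
  have := hnil _ (hlt M hne)
  obtain ⟨L, hL⟩ := exists_isPiHallOf {r | r ≠ q} (M.map K.subtype)
  have hKL : K ≤ Subgroup.normalizer (L : Set G) := (le_normalizer_map_subtype M).trans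
    (normalizer_le_normalizer_of_isPiHallOf hL (le_normalizer_isPiHallOf_of_nilpotent hL))
  have hLK : IsPiHallOf {r | r ≠ q} L K :=
    isPiHallOf_trans hL (Subgroup.map_subtype_le M) fun r hr hrq hd => by
      rw [relIndex_map_subtype] at hd
      exact hrq ((Nat.prime_dvd_prime_iff_eq hr hq).mp hd)
  obtain ⟨x, hx⟩ := ih' L (lt_of_le_of_lt hL.1 (hlt M hne))
  have hH' := isPiHall_smul hH (MulAut.conj x)
  have := isNilpotent_smul (MulAut.conj x) H
  obtain ⟨S, hS⟩ := exists_sylowOf hq (MulAut.conj x • H)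
  have hS' : IsPiHall {q} S := isPiHall_of_isPiHallOf hS fun r hr hrq => hH'.2 r hr (hrq ▸ hqπ)
  have hSL : S ≤ Subgroup.normalizer (L : Set G) :=
    (le_centralizer_of_nilpotent hS.1 hx (coprime_of_pi hS.2.1 fun r hr hrq hd =>
      hL.2.1 r hr hd hrq)).trans (Subgroup.centralizer_le_normalizer _)
  obtain ⟨Q, hQ⟩ := exists_sylowOf hq K
  obtain ⟨y, hy, hle⟩ := le_conj_sylowOf hq (isPiHallOf_of_isPiHall hS' hSL) (hQ.1.trans hKL) hQ.2.1
  refine ⟨y * x, ?_⟩
  rw [← conj_smul_conj_smul]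
  refine le_of_isPiHallOf_le hLK hQ (fun r _ _ => (em (r = q)).symm) ?_
    (hle.trans (Subgroup.pointwise_smul_le_pointwise_smul_iff.mpr hS.1))
  rw [← conj_smul_eq_iff_mem_normalizer.mpr hy]
  exact Subgroup.pointwise_smul_le_pointwise_smul_iff.mpr hx

end H4
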