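import Cfsg.Agent.H4.PReg
import Cfsg.Agent.H4.HallBasic
import Cfsg.Agent.H26.NilpComm
import Cfsg.Agent.H99.Sidki
import Cfsg.Agent.H24.KT
import Cfsg.Agent.H84.NonIso
import Cfsg.Agent.H34.BS
import Cfsg.Agent.H42.OddOrder
import Cfsg.Agent.H98.PReduced

/-! A nilpotency criterion for the terms of the lower central series (row S3900). -/

set_option autoImplicit false

open Cfsg Subgroup H98 H24 H4.PR

namespace H4.BW

universe u

variable {G H : Type*} [Group G] [Group H] {k : ℕ}

/-- the commutator -/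
abbrev cm (a b : G) : G := a * b * a⁻¹ * b⁻¹

/-- left-normed commutator values with `k + 1` entries -/
def V (k : ℕ) (x : G) : Prop := ∃ (a : G) (l : List G), l.length = k ∧ x = l.foldl cm a

theorem map_foldl (f : G →* H) (l : List G) (a : G) :
    f (l.foldl cm a) = (l.map f).foldl cm (f a) := by
  induction l generalizing a with
  | nil => rfl
  | cons b l ih => simp [ih]

theorem V.map {x : G} (h : V k x) (f : G →* H) : V k (f x) :=
  have ⟨a, l, h1, h2⟩ := h
  ⟨f a, l.map f, by simpa using h1, h2 ▸ map_foldl f l a⟩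

theorem V.succ {x : G} (h : V k x) (y : G) : V (k + 1) (cm x y) :=
  have ⟨a, l, h1, h2⟩ := h
  ⟨a, l ++ [y], by simpa using h1, by simp [h2]⟩

theorem V.pred {x : G} (h : V (k + 1) x) : V k x := by
  obtain ⟨a, _ | ⟨b, l⟩, h1, h2⟩ := h
  exacts [absurd h1 (by simp), ⟨cm a b, l, by simpa using h1, h2⟩]

theorem V.inv {x : G} (h : V k x) : V k x⁻¹ := by
  obtain ⟨a, l, rfl, rfl⟩ := h
  rcases l.eq_nil_or_concat with rfl | ⟨l, b, rfl⟩
  · exact ⟨a⁻¹, [], rfl, rfl⟩
  · have := (V.succ ⟨a, l, rfl, rfl⟩ b⁻¹).map (MulAut.conj b).toMonoidHom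
    convert this using 1
    · simp
    · simp [cm, mul_assoc]

theorem foldl_mem_lcs (l : List G) {a : G} {n : ℕ} (h : a ∈ (⊤ : Subgroup G).lowerCentralSeries n) :
    l.foldl cm a ∈ (⊤ : Subgroup G).lowerCentralSeries (n + l.length) := by
  induction l generalizing a n with
  | nil => exact h
  | cons b l ih =>
    have := ih (n := n + 1) (a := cm a b) (commutator_mem_commutator h (mem_top b))
    rwa [add_assoc, add_comm 1] at this

theorem V.mem {x : G} (h : V k x) : x ∈ (⊤ : Subgroup G).lowerCentralSeries k := by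
  obtain ⟨a, l, rfl, rfl⟩ := h
  simpa using foldl_mem_lcs l (n := 0) (mem_top a)

theorem V_iff {x : G} : V k x ↔ ∃ f : Fin (k + 1) → G,
    x = ((List.ofFn f).tail).foldl (fun a b => a * b * a⁻¹ * b⁻¹) (f 0) := by
  refine ⟨?_, fun ⟨f, h⟩ => ⟨f 0, _, by simp, h⟩⟩
  rintro ⟨a, l, rfl, rfl⟩
  exact ⟨(a :: l).get, by rw [List.ofFn_get]; rfl⟩

theorem foldl_mem {Q : Subgroup G} {l : List G} {a : G} (ha : a ∈ Q)
    (hl : ∀ b ∈ l, b ∈ normalizer (Q : Set G)) : l.foldl cm a ∈ Q := by
  induction l generalizing a with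
  | nil => exact ha
  | cons b l ih =>
    refine ih ?_ fun c hc => hl c (List.mem_cons_of_mem _ hc)
    simpa [cm, mul_assoc] using
      mul_mem ha (conj_mem_of_mem_normalizer (hl b List.mem_cons_self) (inv_mem ha))

theorem mem_upper {a : G} (h : ∀ l : List G, l.length = k → l.foldl cm a = 1) :
    a ∈ Subgroup.upperCentralSeries G k := by
  induction k generalizing a with
  | zero => exact h [] rfl
  | succ k ih => exact Subgroup.mem_upperCentralSeries_succ_iff.2 fun y => ih fun l hl => h (y :: l) (by simp [hl])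

theorem lift_list (f : G →* H) {L : Subgroup G} (l : List H) (h : ∀ b ∈ l, b ∈ L.map f) :
    ∃ l' : List G, (∀ b ∈ l', b ∈ L) ∧ l'.map f = l := by
  induction l with
  | nil => exact ⟨[], by simp, rfl⟩
  | cons b l ih =>
    obtain ⟨l', h1, rfl⟩ := ih fun c hc => h c (List.mem_cons_of_mem _ hc)
    obtain ⟨c, hc, rfl⟩ := h b List.mem_cons_self
    exact ⟨c :: l', List.forall_mem_cons.2 ⟨hc, h1⟩, rfl⟩

/-- Lifting a `p`-subgroup together with its normalizer. -/
theorem lift_p [Finite G] {p : ℕ} [Fact p.Prime] (f : G →* H) {W : Subgroup G} {A L : Subgroup H}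
    (hA : IsPGroup p A) (h1 : A ≤ W.map f) (h2 : L ≤ W.map f) (h3 : L ≤ normalizer (A : Set H)) :
    ∃ B ≤ W, IsPGroup p B ∧ B.map f = A ∧ L ≤ (W ⊓ normalizer (B : Set G)).map f := by
  obtain ⟨B, hB⟩ := exists_isSyl p (W ⊓ A.comap f)
  have e : (W ⊓ A.comap f).map f = A := le_antisymm (map_le_iff_le_comap.2 inf_le_right) fun a ha =>
    have ⟨w, hw, e⟩ := h1 ha
    ⟨w, ⟨hw, mem_comap.2 (e ▸ ha)⟩, e⟩
  have e' : B.map f = A := (e ▸ hB.map f).eq_of_isPGroup hA
  refine ⟨B, hB.le.trans inf_le_left, hB.isPGroup, e', fun x hx => ?_⟩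
  obtain ⟨w, hw, rfl⟩ := h2 hx
  obtain ⟨a, ha, n, hn, rfl⟩ := hB.frattini_mem (g := w) (le_normalizer_inf
    (zpowers_le.2 (le_normalizer hw)) ((zpowers_le.2 (mem_comap.2 hx)).trans
      (comap_le_normalizer_comap f h3)) (mem_zpowers w))
  obtain ⟨b, hb, e⟩ := e'.ge hn.2
  exact ⟨a * b, ⟨W.mul_mem ((W.mul_mem_cancel_right hn.1).1 hw) (hB.le hb).1,
    mul_mem ha (le_normalizer hb)⟩, by rw [map_mul, map_mul, e]⟩

/-- values centralize what they normalize, in coprime situations -/
def P (k : ℕ) (G : Type*) [Group G] : Prop :=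
  ∀ x y : G, V k x → (orderOf (cm x y)).Coprime (orderOf x) → cm x y = 1

theorem P.sub (h : P k G) (L : Subgroup G) : P k L := fun x y hx hc =>
  Subtype.ext (h x y (hx.map L.subtype) (by simpa [← orderOf_coe] using hc))

/-- the form that passes to quotients -/
def W (k : ℕ) (G : Type*) [Group G] : Prop := ∀ q s : ℕ, q.Prime → s.Prime → q ≠ s →
  ∀ Y Q L : Subgroup G, IsPGroup s Y → IsPGroup q Q → Q ≤ L → L ≤ normalizer (Y : Set G) →
  L ≤ normalizer (Q : Set G) → ∀ a ∈ Q, ∀ l : List G, (∀ b ∈ l, b ∈ L) → l.length = k →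
  l.foldl cm a ∈ centralizer (Y : Set G)

theorem P.w (h : P k G) : W k G := fun q s hq hs ne Y Q L hY hQ h1 h2 h3 a ha l hl e y hy => by
  have h4 := foldl_mem ha fun b hb => h3 (hl b hb)
  obtain ⟨i, hi⟩ := pe_of hq hQ h4
  obtain ⟨j, hj⟩ := pe_of hs hY (mul_mem (conj_mem_of_mem_normalizer (h2 (h1 h4)) hy) (inv_mem hy))
  have := h _ y ⟨a, l, e, rfl⟩ (coprime_orderOf_of_pow hs hq ne.symm hj hi)
  rw [mul_inv_eq_one, mul_inv_eq_iff_eq_mul] at this
  exact this.symm

theorem W.map [Finite G] (h : W k G) (f : G →* H) (hf : Function.Surjective f) : W k H := by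
  intro q s hq hs ne Y Q L hY hQ h1 h2 h3 a ha l hl e
  have := Fact.mk hq
  have := Fact.mk hs
  have ht := map_top_of_surjective f hf
  obtain ⟨Y, -, hY', rfl, h4⟩ := lift_p f (W := ⊤) hY (ht ▸ le_top) (ht ▸ le_top) h2
  obtain ⟨Q, h5, hQ', rfl, h6⟩ := lift_p f hQ (h1.trans h4) h4 h3
  obtain ⟨l, h7, rfl⟩ := lift_list f l fun b hb => h6 (hl b hb)
  obtain ⟨a, ha, rfl⟩ := ha
  rw [← map_foldl]
  exact map_le_centralizer_map f le_rfl ⟨_, h q s hq hs ne Y Q _ hY' hQ' (le_inf h5 le_normalizer)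
    (inf_le_left.trans inf_le_right) inf_le_right a ha l h7 (by simpa using e), rfl⟩

theorem nilp_of_fit : ∀ (k : ℕ) (H : Type u) [Group H] [Finite H] [Group.IsSolvable H],
    fittingSubgroup H ≤ Subgroup.upperCentralSeries H k → Group.IsNilpotent H
  | 0, H, _, _, _, h => by
    rcases subsingleton_or_nontrivial H with _ | _
    exacts [inferInstance, (H2.fitting_ne_bot H (le_bot_iff.1 h)).elim]
  | k + 1, H, _, _, _, h => by
    let f := QuotientGroup.mk' (center H)
    have := Subgroup.isNilpotent_of_ker_le_center (f.subgroupComap (fittingSubgroup _)) fun x hx =>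
      mem_center_iff.2 fun g => Subtype.ext (mem_center_iff.1
        ((QuotientGroup.eq_one_iff x.1).1 (congrArg Subtype.val hx)) g)
    refine Group.of_quotient_center_nilpotent (nilp_of_fit k _ ?_)
    rw [← comap_le_comap_of_surjective (QuotientGroup.mk'_surjective _),
      Subgroup.comap_upperCentralSeries_quotient_center]
    exact (H2.le_fitting _).trans h

theorem nilp_of_central {K M : Subgroup G} [M.Normal] (h : K ≤ centralizer (M : Set G))
    (hK : Group.IsNilpotent (K.map (QuotientGroup.mk' M))) : Group.IsNilpotent K :=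
  Subgroup.isNilpotent_of_ker_le_center ((QuotientGroup.mk' M).subgroupMap K) fun x hx =>
    mem_center_iff.2 fun g => Subtype.ext
      (h g.2 x ((QuotientGroup.eq_one_iff x.1).1 (congrArg Subtype.val hx))).symm

theorem solv (n : ℕ) : ∀ (G : Type u) [Group G] [Finite G] [Group.IsSolvable G], Nat.card G = n →
    W k G → Group.IsNilpotent ((⊤ : Subgroup G).lowerCentralSeries k) := by
  induction n using Nat.strong_induction_on with
  | _ n ih =>
  intro G _ _ _ hn h
  rcases subsingleton_or_nontrivial G with _ | _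
  · infer_instance
  obtain ⟨M, hM, h1, h2⟩ := H2.exists_minimal_normal G
  obtain ⟨s, hs, -, h3, h4⟩ := H2.exists_elementaryAbelian_of_minimal_normal h1 h2
  have := Fact.mk hs
  have hq := QuotientGroup.mk'_surjective M
  have h5 := ih _ (hn ▸ card_quotient_lt M h1) (G ⧸ M) rfl (h.map _ hq)
  rw [← map_top_of_surjective _ hq, ← map_lowerCentralSeries] at h5
  refine nilp_of_central ?_ h5
  let f := QuotientGroup.mk' (centralizer (M : Set G))
  have hf : Function.Surjective f := QuotientGroup.mk'_surjective _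
  have ht := map_top_of_surjective f hf
  have h6 : fittingSubgroup _ ≤ Subgroup.upperCentralSeries (G ⧸ centralizer (M : Set G)) k := by
    rw [H2.fitting_eq_iSup_pCore]
    refine iSup_le fun ⟨q, hq⟩ => ?_
    have := Fact.mk hq
    obtain ⟨Q, -, hQ, e, h7⟩ := lift_p f (W := ⊤) (L := ⊤) (H2.pCore_isPGroup q _) (ht ▸ le_top)
      ht.ge (normalizer_eq_top _).ge
    rw [top_inf_eq] at h7
    rw [← e]
    rintro _ ⟨a, ha, rfl⟩
    refine mem_upper fun l hl => ?_
    obtain ⟨l, h8, rfl⟩ := lift_list f l fun b _ => h7 (mem_top b)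
    rw [← map_foldl, QuotientGroup.mk'_apply, QuotientGroup.eq_one_iff]
    by_cases qs : q = s
    · subst qs
      have h9 : (M ⊓ centralizer (Q : Set G)).Normal := normal_of_top_le_normalizer fun g _ => by
        obtain ⟨c, hc, e⟩ := h7 (mem_top (f g))
        rw [← mul_inv_cancel_left c g]
        exact mul_mem (le_normalizer_inf (le_top.trans (normalizer_eq_top _).ge)
          (normalizer_le_normalizer_centralizer Q) hc) (centralizer_le_normalizer _
            (centralizer_anti inf_le_left (QuotientGroup.eq.1 e)))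
      exact le_centralizer_iff.1 (inf_eq_left.1 ((h2 _ h9 inf_le_left).resolve_left
        (inf_centralizer_ne_bot h4 hQ (le_top.trans (normalizer_eq_top _).ge) h1))) (foldl_mem ha h8)
    · exact h q s hq hs qs M Q _ h4 hQ le_normalizer (le_top.trans (normalizer_eq_top _).ge) le_rfl a ha l
        h8 (by simpa using hl)
  have := nilp_of_fit k _ h6
  rw [H2.fitting_eq_top_of_isNilpotent, top_le_iff,
    ← Subgroup.lowerCentralSeries_eq_bot_iff_upperCentralSeries_eq_top, ← ht, ← map_lowerCentralSeries,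
    Subgroup.map_eq_bot_iff, QuotientGroup.ker_mk'] at h6
  exact h6

theorem engel [Finite G] {A : Subgroup G} (hA : IsMulCommutative A) {t : G}
    (h1 : t ∈ normalizer (A : Set G)) (h2 : (orderOf t).Coprime (Nat.card A))
    (h3 : t ∉ centralizer (A : Set G)) (k : ℕ) :
    ∃ a ∈ A, (List.replicate k t).foldl cm a ≠ 1 := by
  have h4 := zpowers_le.2 h1
  have h5 := (H8.fitting_decomposition A (zpowers t) hA h4
    ((Nat.card_zpowers t ▸ h2).coprime_dvd_left (relIndex_dvd_card _ _))).1
  have h6 := commutator_le_left' h4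
  have h7 : t ∈ normalizer ((⁅A, zpowers t⁆ : Subgroup G) : Set G) :=
    le_normalizer_commutator h4 le_normalizer (mem_zpowers t)
  obtain ⟨a, ha, a1⟩ := SetLike.exists_of_lt (bot_lt_iff_ne_bot.2 fun e => h3 (le_centralizer_iff.1
    (commutator_eq_bot_iff_le_centralizer.1 e) (mem_zpowers t)))
  refine ⟨a, h6 ha, ?_⟩
  induction k generalizing a with
  | zero => exact a1
  | succ k ih =>
    refine ih (cm a t) (foldl_mem (l := [t]) ha (by simpa using h7)) fun e => a1 (h5.le ⟨ha, h6 ha, ?_⟩)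
    rw [zpowers_eq_closure, centralizer_closure]
    exact mem_cent_iff.2 (mul_inv_eq_iff_eq_mul.1 (mul_inv_eq_one.1 e))

/-- An element of odd order acts nontrivially on an elementary abelian `2`-subgroup. -/
theorem exists_act [Finite G] [IsSimpleGroup G] (h : ¬ Group.IsSolvable G) :
    ∃ (A : Subgroup G) (t : G), IsMulCommutative A ∧ (∀ a ∈ A, a ^ 2 = 1) ∧
      t ∈ normalizer (A : Set G) ∧ (orderOf t).Coprime 2 ∧ t ∉ centralizer (A : Set G) := by
  obtain ⟨S⟩ : Nonempty (Sylow 2 G) := inferInstance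
  have h1 : (S : Subgroup G) ≠ ⊥ := fun e => h (H42.odd_order (Nat.odd_iff.2 (Nat.two_dvd_ne_zero.1
    ((isSyl_sylow S).eq_bot_iff.1 e ∘ fun d => by rwa [card_top]))))
  obtain ⟨z, hz, z1⟩ := SetLike.exists_of_lt (bot_lt_iff_ne_bot.2 (oz_ne_bot S.isPGroup' h1))
  obtain ⟨-, z2, z3⟩ := mem_oz.1 hz
  have z4 : orderOf z = 2 := orderOf_eq_prime z3 z1
  have hS := le_cent_iff_mem_centralizer.2 z2
  obtain ⟨T, h2, g, -, h3, -, h4, h5⟩ := H84.exists_centric_of_not_iso (G0 := ⊤) z4
    (fun _ => .inl trivial) S hS fun hi => by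
      rcases (inferInstance : (oddCore G).Normal).eq_bot_or_eq_top with e | e
      · have hc : z ∈ center G := mem_center_iff.2 fun g => by
          have := H34.zstar hi g
          rw [e, mem_bot, mul_inv_eq_one, mul_inv_eq_iff_eq_mul] at this
          exact this.symm
        rcases (inferInstance : (center G).Normal).eq_bot_or_eq_top with e | e
        · exact z1 (e.le hc)
        · exact h (Group.isSolvable_of_comm fun a b => mem_center_iff.1 (e.ge (mem_top b)) a)
      · have := H2.odd_card_oddCore G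
        rw [e, card_top] at this
        exact h (H42.odd_order this)
  have h6 := h2.trans inf_le_left
  obtain ⟨D, d1, d2, d3, -, U, -, d4, d5⟩ := H84.exists_maximal_normalizer_not_le (A := zpowers z) S hS
    (fun c hc a ha => by
      obtain ⟨i, rfl⟩ := ha
      exact ⟨i, (mul_inv_eq_iff_eq_mul.2 (Commute.zpow_right (mem_cent_iff.1 hc) i)).symm⟩)
    (zpowers_le.2 (h5 z trivial (centralizer_anti h6 z2) 1 z3)) (h6.trans hS) (S.isPGroup'.to_le h6)
    fun e => h4 (mul_inv_eq_iff_eq_mul.2 (mem_cent_iff.1 (e h3)))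
  by_contra! hn
  have h7 : z ∈ oz 2 D := mem_oz.2 ⟨d1 (mem_zpowers z), centralizer_anti d2 z2, z3⟩
  refine d3 ((isSyl_of_not_dvd_relIndex d5.1 d5.2.1 d5.2.2).sup_res.ge.trans (sup_le d4
    (res_le_of_forall fun t ht hc => mem_cent_iff.2 (hn (oz 2 D) t
      ⟨⟨fun a b => Subtype.ext (oz_le_centralizer D b.2 a (oz_le D a.2))⟩⟩
      (fun a ha => (mem_oz.1 ha).2.2) (le_normalizer_oz le_rfl ht) hc z h7).symm)))

theorem solv_of_nil (h : Group.IsNilpotent ((⊤ : Subgroup G).lowerCentralSeries k)) :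
    Group.IsSolvable G := by
  have : Group.IsNilpotent (G ⧸ (⊤ : Subgroup G).lowerCentralSeries k) :=
    Subgroup.nilpotent_iff_lowerCentralSeries.2 ⟨k, by
      rw [← map_top_of_surjective _ (QuotientGroup.mk'_surjective _), ← map_lowerCentralSeries,
        Subgroup.map_eq_bot_iff, QuotientGroup.ker_mk']⟩
  exact H2.isSolvable_of_normal_of_quotient ((⊤ : Subgroup G).lowerCentralSeries k)

theorem main (n : ℕ) : ∀ (G : Type u) [Group G] [Finite G], Nat.card G = n →
    P k G → Group.IsNilpotent ((⊤ : Subgroup G).lowerCentralSeries k) := by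
  induction n using Nat.strong_induction_on with
  | _ n ih =>
  intro G _ _ hn h
  by_cases hs : Group.IsSolvable G
  · exact solv _ G rfl h.w
  have sub : ∀ L : Subgroup G, L ≠ ⊤ → Group.IsNilpotent (L.lowerCentralSeries k) := fun L hL => by
    have := ih _ (hn ▸ card_lt_of_ne_top L hL) L rfl (h.sub L)
    rw [← top_subtype_lowerCentralSeries]
    exact H2.isNilpotent_map _ _
  exfalso
  rcases subsingleton_or_nontrivial G with _ | _
  · exact hs inferInstance
  obtain ⟨N, _, h1, h2⟩ := exists_normal_simple_quot G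
  have h3 : ¬ Group.IsSolvable (G ⧸ N) := fun _ => by
    have := solv_of_nil (ih _ (hn ▸ card_lt_of_ne_top N h1) N rfl (h.sub N))
    exact hs (H2.isSolvable_of_normal_of_quotient N)
  let f := QuotientGroup.mk' N
  have hf : Function.Surjective f := QuotientGroup.mk'_surjective _
  have ht := map_top_of_surjective f hf
  obtain ⟨A, t, a1, a2, a3, a4, a5⟩ := exists_act h3
  have hA : IsPGroup 2 A := isPGroup_iff_forall.2 fun a ha => ⟨1, a2 a ha⟩
  obtain ⟨v, hv, v1⟩ := engel a1 a3 (by
    obtain ⟨j, hj⟩ := hA.exists_card_eq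
    rw [hj]; exact a4.pow_right j) a5 k
  obtain ⟨U, -, hU, rfl, u1⟩ := lift_p f (W := ⊤) hA (ht ▸ le_top) (ht ▸ le_top) (zpowers_le.2 a3)
  obtain ⟨t, ⟨-, u2⟩, rfl⟩ := u1 (mem_zpowers t)
  obtain ⟨v, hv, rfl⟩ := hv
  rw [← List.map_replicate, ← map_foldl] at v1
  have hV : V k ((List.replicate k t).foldl cm v) := ⟨v, _, by simp, rfl⟩
  have aU : (List.replicate k t).foldl cm v ∈ U :=
    foldl_mem hv fun b hb => (List.eq_of_mem_replicate hb) ▸ u2
  generalize (List.replicate k t).foldl cm v = a at v1 hV aU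
  obtain ⟨b, b1, b2, b3⟩ := H99.exists_inverted_of_not_mem ((pow_two _).symm.trans (a2 _ ⟨a, aU, rfl⟩))
    fun e => by
      rcases (inferInstance : (pCore 2 (G ⧸ N)).Normal).eq_bot_or_eq_top with e' | e'
      · exact v1 (e'.le e)
      · have := (isPGroup_top_iff.1 (e' ▸ H2.pCore_isPGroup 2 (G ⧸ N))).isNilpotent
        exact h3 inferInstance
  have c1 : f a ∈ normalizer (zpowers b : Set (G ⧸ N)) := mem_normalizer_fintype fun _ ⟨i, e⟩ =>
    ⟨-i, by simp only [← e, ← conj_zpow, b3]; simp⟩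
  have c2 : normalizer (zpowers b : Set (G ⧸ N)) ≠ ⊤ := fun e => by
    rcases (normalizer_eq_top_iff.1 e).eq_bot_or_eq_top with e' | e'
    · exact b1 (zpowers_eq_bot.1 e')
    · have := isCyclic_iff_exists_zpowers_eq_top.2 ⟨b, e'⟩
      exact h3 (Group.isSolvable_of_comm fun a b => mul_comm' a b)
  have c3 : ∀ j, b ∈ (normalizer (zpowers b : Set (G ⧸ N))).lowerCentralSeries j := fun j => by
    induction j with
    | zero => exact le_normalizer (mem_zpowers b)
    | succ j ih =>
      refine mem_of_pow (n := 2) ?_ (Nat.coprime_two_left.2 b2)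
      have := commutator_mem_commutator ih c1
      rwa [commutatorElement_def, mul_assoc, mul_assoc, ← mul_assoc (f a), ← conj_inv, b3, inv_inv,
        ← pow_two] at this
  set L := (normalizer (zpowers b : Set (G ⧸ N))).comap f
  have c4 := sub L fun e => c2 (by rw [← map_comap_eq_self_of_surjective hf (normalizer _), ← ht]; congr)
  have c5 := c3 k
  rw [← map_comap_eq_self_of_surjective hf (normalizer _), ← map_lowerCentralSeries] at c5
  obtain ⟨y, hy, e⟩ := c5
  obtain ⟨j, hj⟩ := H7.exists_pow_coprime (p := 2) y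
  have c6 := pow_mem hy (2 ^ j)
  have c7 := conj_mem_of_mem_normalizer (L.self_le_normalizer_lowerCentralSeries k c1) c6
  have c8 := H7.hasNPC_iff_mul_coprime.1 (H7.hasNPC_of_normalizer_centralizer (p := 2)
    (G := L.lowerCentralSeries k) fun Q hQ g _ hg x hx => by
      obtain ⟨i, hi⟩ := pe_of Nat.prime_two hQ hx
      exact H26.commute_of_coprime_orderOf (hi ▸ hg.symm.pow_left i)) ⟨_, c7⟩ ⟨_, inv_mem c6⟩
      (by rwa [orderOf_mk, orderOf_conj']) (by rwa [orderOf_mk, orderOf_inv])
  obtain ⟨i, hi⟩ := pe_of Nat.prime_two hU aU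
  rw [← orderOf_coe] at c8
  have c9 := congrArg f (h a (y ^ 2 ^ j) hV (hi ▸ c8.pow_right i))
  simp only [map_mul, map_inv, map_pow, e, ← conj_pow, b3, map_one, inv_pow] at c9
  rw [← mul_inv_rev, inv_eq_one, ← pow_add, ← two_mul, ← pow_succ'] at c9
  exact b1 (mem_of_pow (K := ⊥) c9 ((Nat.coprime_two_left.2 b2).pow_left _))

end H4.BW
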