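import Cfsg.Agent.H4.TwoSizes
import Cfsg.Agent.H4.ClassGraph
import Cfsg.Agent.H4.Kazarin
import Cfsg.Agent.H7.Frobenius
import Cfsg.Agent.H98.Coprime

/-! Groups with two `p`-regular class sizes (row S4033). -/

set_option autoImplicit false

open Cfsg Subgroup H98 H24

namespace H4.PR

variable {G : Type*} [Group G]

/-- the centralizer of an element -/
abbrev Cz (x : G) : Subgroup G := centralizer ({x} : Set G)

/-- `x` has order a power of `s` -/
abbrev PE (s : ℕ) (x : G) : Prop := ∃ k, orderOf x = s ^ k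

theorem PE.ndvd {s p : ℕ} {x : G} (h : PE s x) (hs : s.Prime) (hp : p.Prime) (ne : s ≠ p) :
    ¬ p ∣ orderOf x := fun hd => by
  obtain ⟨k, hk⟩ := h
  exact ne ((Nat.prime_dvd_prime_iff_eq hp hs).1 (hp.dvd_of_dvd_pow (hk ▸ hd))).symm

theorem PE.zp {s : ℕ} {x : G} (h : PE s x) : IsPGroup s (zpowers x) :=
  isPGroup_zpowers_of_orderOf h.choose_spec

theorem pe_of {s : ℕ} (hs : s.Prime) {T : Subgroup G} (h : IsPGroup s T) {x : G} (hx : x ∈ T) :
    PE s x := (H18.exists_orderOf_eq_pow_iff hs).2 (isPGroup_iff_forall.1 h x hx)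

theorem mem_of_pow {K : Subgroup G} {x : G} {n : ℕ} (h : x ^ n ∈ K) (hc : n.Coprime (orderOf x)) :
    x ∈ K := zpowers_le.2 h (mem_zpowers_pow_iff.2 hc)

theorem PE.cop {s t j : ℕ} {x : G} (h : PE s x) (hs : s.Prime) (ht : t.Prime) (ne : t ≠ s) :
    (t ^ j).Coprime (orderOf x) := by
  obtain ⟨k, hk⟩ := h
  rw [hk]; exact Nat.coprime_pow_primes _ _ ht hs ne

/-- No nontrivial `t'`-subgroup is normalized by a nontrivial `t`-element. -/
def NF (p : ℕ) (H : Type*) [Group H] : Prop := ∀ t : ℕ, t.Prime → t ≠ p → ∀ X : Subgroup H,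
  ¬ t ∣ Nat.card X → ∀ w ∈ normalizer (X : Set H), w ≠ 1 → PE t w → X = ⊥

theorem NF.sub {p : ℕ} (h : NF p G) (Y : Subgroup G) : NF p Y := fun t ht ne X hX w hw w1 hw' => by
  rw [← map_subtype_inj, Subgroup.map_bot]
  exact h t ht ne _ (by rwa [card_subtype]) w
    (map_le_normalizer_map Y.subtype (zpowers_le.2 hw) ⟨w, mem_zpowers w, rfl⟩)
    (fun e => w1 (Subtype.ext e)) (by simpa [PE] using hw')

theorem NF.npc [Finite G] {p q : ℕ} [hq : Fact q.Prime] (h : NF p G)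
    (hpq : q = p ∨ ¬ p ∣ Nat.card G) : HasNormalPComplement q G := by
  refine H7.hasNPC_of_normalizer_centralizer fun Q hQ g hg hc => ?_
  by_cases g1 : g = 1
  · exact g1 ▸ one_mem _
  obtain ⟨t, ht, hd⟩ := Nat.exists_prime_and_dvd (mt orderOf_eq_one_iff.1 g1)
  have tq : t ≠ q := fun e => ht.one_lt.ne' (Nat.eq_one_of_dvd_coprimes hc hd (e ▸ dvd_rfl))
  have ho := orderOf_pow_orderOf_div (orderOf_pos g).ne' hd
  obtain ⟨n, hn⟩ := hQ.exists_card_eq
  rw [h t ht (fun e => hpq.elim (fun e' => tq (e.trans e'.symm)) fun e' =>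
      e' (e ▸ hd.trans (orderOf_dvd_natCard g))) Q
    (fun hd => tq ((Nat.prime_dvd_prime_iff_eq ht hq.out).1 (ht.dvd_of_dvd_pow (hn ▸ hd)))) _
    (pow_mem hg _) (fun e => ht.one_lt.ne' (ho.symm.trans (orderOf_eq_one_iff.2 e)))
    ⟨1, ho.trans (pow_one t).symm⟩, centralizer_bot']
  trivial

theorem NF.eq [Finite G] {p r r' : ℕ} (h : NF p G) (hp : p.Prime) (hr : r.Prime) (hr' : r'.Prime)
    (n1 : r ≠ p) (n2 : r' ≠ p) (d1 : r ∣ Nat.card G) (d2 : r' ∣ Nat.card G) : r = r' := by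
  have := Fact.mk hp
  have := Fact.mk hr
  have := Fact.mk hr'
  by_contra ne
  have h1 := H7.hasNPC_iff_not_dvd.1 (h.npc (q := p) (.inl rfl))
  have h2 := H7.hasNPC_iff_not_dvd.1 ((h.sub (pResidual p G)).npc (q := r) (.inr h1))
  obtain ⟨w, hw⟩ := exists_prime_orderOf_dvd_card' r d1
  obtain ⟨v, hv⟩ := exists_prime_orderOf_dvd_card' r' d2
  have hw' := H7.mem_pResidual_of_coprime (p := p) (g := w) (hw ▸ (Nat.coprime_primes hr hp).2 n1)
  have hv' := H7.mem_pResidual_of_coprime (p := p) (g := v) (hv ▸ (Nat.coprime_primes hr' hp).2 n2)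
  have := H7.pResidual_normal (G := pResidual p G) (p := r)
  have h3 := h.sub (pResidual p G) r hr n1 _ h2 ⟨w, hw'⟩ (by rw [normalizer_eq_top]; trivial)
    (fun e => hr.one_lt.ne' (hw.symm.trans (orderOf_eq_one_iff.2 (congrArg Subtype.val e))))
    ⟨1, by simpa using hw⟩
  have h4 := H7.mem_pResidual_of_coprime (p := r) (g := (⟨v, hv'⟩ : pResidual p G))
    (by simpa [hv] using (Nat.coprime_primes hr' hr).2 (Ne.symm ne))
  rw [h3, mem_bot, Subtype.ext_iff] at h4
  exact hr'.one_lt.ne' (hv.symm.trans (orderOf_eq_one_iff.2 h4))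

/-- the central `π`-elements of `K` -/
def A (K : Subgroup G) (π : Set ℕ) : Subgroup G :=
  piElts π (K ⊓ centralizer (K : Set G))
    ⟨⟨fun a b => Subtype.ext (b.2.2 a a.2.1)⟩⟩

theorem A_le (K : Subgroup G) (π : Set ℕ) : A K π ≤ K := fun _ h => h.1.1

theorem nor_A [Finite G] (K : Subgroup G) (π : Set ℕ) :
    normalizer (K : Set G) ≤ normalizer (A K π : Set G) := fun g hg =>
  mem_normalizer_fintype fun _ ha => ⟨conj_mem_of_mem_normalizer
    (le_normalizer_inf le_rfl (normalizer_le_normalizer_centralizer K) hg) ha.1, ha.2.conj g⟩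

theorem A_pgroup [Finite G] (K : Subgroup G) {s : ℕ} (hs : s.Prime) : IsPGroup s (A K {s}) :=
  isPGroup_iff_forall.2 fun _ h =>
    (H18.exists_orderOf_eq_pow_iff hs).1 ((isPiElt_singleton_iff hs).1 h.2)

/-- The main case. -/
structure Hy (G : Type*) [Group G] (p m : ℕ) : Prop where
  hp : p.Prime
  two : ∀ x : G, ¬ p ∣ orderOf x → x ∉ center G → (Cz x).index = m
  many : ∀ q : ℕ, q.Prime → q ≠ p → ∃ s : ℕ, s.Prime ∧ s ≠ p ∧ s ≠ q ∧ ∃ w : G, w ∉ center G ∧ PE s w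

namespace Hy

variable [Finite G] {p m : ℕ} (h : Hy G p m) {x y a w : G} {s : ℕ}
include h

theorem eq_of_le (hx : ¬ p ∣ orderOf x) (xz : x ∉ center G) (hy : ¬ p ∣ orderOf y)
    (yz : y ∉ center G) (e : Cz x ≤ Cz y) : Cz x = Cz y := by
  have := relIndex_mul_index e
  rw [h.two x hx xz, ← h.two y hy yz, mul_eq_right₀ index_ne_zero_of_finite, relIndex_eq_one] at this
  exact le_antisymm e this

theorem cop (hx : ¬ p ∣ orderOf x) (xz : x ∉ center G) (hy : ¬ p ∣ orderOf y) (e : y ∈ Cz x)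
    (hc : (orderOf x).Coprime (orderOf y)) : Cz x ≤ Cz y := by
  have c : Commute x y := (mem_cent_iff.1 e).symm
  have h1 := centralizer_mul_of_coprime c hc
  rw [← h.eq_of_le (x := x * y) (by
    rw [c.orderOf_mul_eq_mul_orderOf_of_coprime hc, h.hp.dvd_mul]; exact fun e => e.elim hx hy)
    (fun e => xz (by
      rw [← ind_eq_one_iff, ← Nat.dvd_one, ← ind_eq_one_iff.2 e]; exact ind_dvd_ind_mul_left c hc))
    hx xz (h1.le.trans inf_le_left), Cz, h1]
  exact inf_le_right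

theorem exs (hx : ¬ p ∣ orderOf x) (xz : x ∉ center G) (hs : s.Prime) (sp : s ≠ p)
    (wz : w ∉ center G) (hw : PE s w) : ∃ y ∈ Cz x, y ∉ center G ∧ PE s y := by
  have := Fact.mk hs
  by_contra hn
  obtain ⟨T, hT⟩ := exists_isSyl s (Cz x)
  have TZ : T ≤ center G := fun t ht => by_contra fun e =>
    hn ⟨t, hT.le ht, e, pe_of hs hT.isPGroup ht⟩
  have c : Nat.card (Cz x) = Nat.card (Cz w) := by
    have h1 := (Cz x).card_mul_index
    rw [← (Cz w).card_mul_index, h.two x hx xz, ← h.two w (hw.ndvd hs h.hp sp) wz] at h1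
    exact Nat.eq_of_mul_eq_mul_right (ind_pos w) h1
  have hT' : IsSyl s T (Cz w) := isSyl_of_card_eq
    (TZ.trans (center_le_centralizer _)) (c ▸ hT.card_eq)
  exact wz (TZ (hT'.le_of_le_normalizer hw.zp (zpowers_le.2 (mem_cent_iff.2 rfl))
    (TZ.trans (center_le_normalizer _)) (mem_zpowers w)))

theorem cle (hx : ¬ p ∣ orderOf x) (xz : x ∉ center G) (ha : ¬ p ∣ orderOf a) (e : a ∈ Cz x) :
    Cz x ≤ Cz a := by
  obtain ⟨i, r, k, hr, d, hk, hz⟩ : ∃ i r k : ℕ, r.Prime ∧ r ∣ orderOf x ∧ orderOf (x ^ i) = r ^ k ∧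
      x ^ i ∉ center G := by
    by_contra! hn
    exact xz (mem_of_forall_primePow_mem x hn)
  have rp : r ≠ p := fun e => hx (e ▸ d)
  have h1 := PE.ndvd ⟨k, hk⟩ hr h.hp rp
  rw [h.eq_of_le hx xz h1 hz (cent_le_cent_pow x i)] at e ⊢
  refine le_cent_iff_mem_centralizer.2 (mem_of_forall_primePow_mem a fun j q l hq d' hl => ?_)
  have qp : q ≠ p := fun e => ha (e ▸ d')
  have h2 := PE.ndvd ⟨l, hl⟩ hq h.hp qp
  rw [← le_cent_iff_mem_centralizer]
  by_cases rq : r = q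
  · obtain ⟨s, hs, sp, sr, w, wz, hw⟩ := h.many r hr rp
    obtain ⟨y, hy, yz, n, hn⟩ := h.exs h1 hz hs sp wz hw
    have h3 := PE.ndvd ⟨n, hn⟩ hs h.hp sp
    have h4 := h.cop h1 hz h3 hy (coprime_orderOf_of_pow hr hs sr.symm hk hn)
    exact h4.trans (h.cop h3 yz h2 (h4 (pow_mem e j)) (coprime_orderOf_of_pow hs hq (rq ▸ sr) hn hl))
  · exact h.cop h1 hz h2 (pow_mem e j) (coprime_orderOf_of_pow hr hq rq hk hl)

theorem ceq (hx : ¬ p ∣ orderOf x) (xz : x ∉ center G) (ha : ¬ p ∣ orderOf a) (az : a ∉ center G)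
    (e : a ∈ Cz x) : Cz a = Cz x := (h.eq_of_le hx xz ha az (h.cle hx xz ha e)).symm

theorem memA (hx : ¬ p ∣ orderOf x) (xz : x ∉ center G) {π : Set ℕ} (hπ : p ∉ π) (e : a ∈ Cz x)
    (ha : IsPiElt π a) : a ∈ A (Cz x) π :=
  ⟨⟨e, le_cent_iff_mem_centralizer.1 (h.cle hx xz (fun d => hπ (ha p h.hp d)) e)⟩, ha⟩

theorem memA' (hx : ¬ p ∣ orderOf x) (xz : x ∉ center G) (hs : s.Prime) (sp : s ≠ p) (e : a ∈ Cz x)
    (ha : PE s a) : a ∈ A (Cz x) {s} :=
  h.memA hx xz (Ne.symm sp) e ((isPiElt_singleton_iff hs).2 ha)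

theorem cenA (hx : ¬ p ∣ orderOf x) (xz : x ∉ center G) (hs : s.Prime) (sp : s ≠ p)
    (wz : w ∉ center G) (hw : PE s w) : centralizer (A (Cz x) {s} : Set G) = Cz x := by
  obtain ⟨y, hy, yz, hy'⟩ := h.exs hx xz hs sp wz hw
  refine le_antisymm (fun g hg => ?_) fun g hg a ha => (ha.1.2 g hg).symm
  rw [← h.ceq hx xz (hy'.ndvd hs h.hp sp) yz hy]
  exact mem_cent_iff.2 (hg y (h.memA' hx xz hs sp hy hy')).symm

theorem claim (hx : ¬ p ∣ orderOf x) (xz : x ∉ center G) (hs : s.Prime) (sp : s ≠ p)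
    {X : Subgroup G} (hX : X ≤ normalizer (Cz x : Set G)) (hd : ¬ s ∣ (Cz x).relIndex X)
    (w1 : w ∈ normalizer (Cz x : Set G)) (w2 : w ∈ normalizer (X : Set G)) (w3 : w ∉ Cz x)
    (hw : PE s w) : X ≤ Cz x := by
  have := Fact.mk hs
  have hc := h.cenA hx xz hs sp (fun e => w3 (center_le_centralizer _ e)) hw
  have hn := hX.trans (nor_A (Cz x) {s})
  have hT := A_pgroup (Cz x) hs
  obtain ⟨n, hn'⟩ := hT.exists_card_eq
  have h1 := (H8.fitting_decomposition (A (Cz x) {s}) X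
    ⟨⟨fun a b => Subtype.ext (b.2.1.2 a a.2.1.1)⟩⟩ hn
    (by rw [hc, hn']; exact ((hs.coprime_iff_not_dvd.2 hd).symm.pow_right n))).1
  have h2 := commutator_le_left' hn
  rw [← hc, ← le_centralizer_iff, ← commutator_eq_bot_iff_le_centralizer]
  by_contra h3
  refine inf_centralizer_ne_bot (hT.to_le h2) hw.zp (le_normalizer_commutator
    (zpowers_le.2 (nor_A _ _ w1)) (zpowers_le.2 w2)) h3 (eq_bot_iff.2 fun a ha => h1.le
      ⟨ha.1, h2 ha.1, center_le_centralizer _ (by_contra fun az => w3 ?_)⟩)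
  rw [← h.ceq hx xz ((pe_of hs hT (h2 ha.1)).ndvd hs h.hp sp) az (A_le _ _ (h2 ha.1))]
  exact mem_cent_iff.2 (ha.2 w (mem_zpowers w))

theorem nf (hx : ¬ p ∣ orderOf x) (xz : x ∉ center G) :
    NF p (normalizer (Cz x : Set G) ⧸ (Cz x).subgroupOf (normalizer (Cz x : Set G))) := by
  intro t ht ne X hX v hv v1 hv'
  set N := normalizer (Cz x : Set G)
  let f := QuotientGroup.mk' ((Cz x).subgroupOf N)
  have hf : Function.Surjective f := QuotientGroup.mk'_surjective _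
  obtain ⟨w, rfl, hw⟩ := H18.exists_lift_primePow f hf ht hv'
  have e := relIndex_ker (X.comap f) f
  rw [QuotientGroup.ker_mk', map_comap_eq_self_of_surjective hf] at e
  have h1 := h.claim (w := w) hx xz ht ne (X := (X.comap f).map N.subtype) (map_subtype_le _)
    (by rwa [← relIndex_subgroupOf (map_subtype_le _), show ((X.comap f).map N.subtype).subgroupOf N = X.comap f from
      comap_map_eq_self_of_injective N.subtype_injective _, e])
    w.2 (map_le_normalizer_map N.subtype (zpowers_le.2 (comap_le_normalizer_comap f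
      (zpowers_le.2 hv) (mem_zpowers (f w)))) ⟨w, mem_zpowers w, rfl⟩)
    (fun e => v1 ((QuotientGroup.eq_one_iff w).2 e)) (by simpa [PE] using hw)
  refine eq_bot_iff.2 fun a ha => ?_
  obtain ⟨a, rfl⟩ := hf a
  exact (QuotientGroup.eq_one_iff a).2 (h1 ⟨a, ha, rfl⟩)

theorem not_le {r : ℕ} [Fact r.Prime] (d : r ∣ m) (R : Sylow r G) (hx : ¬ p ∣ orderOf x)
    (xz : x ∉ center G) : ¬ (R : Subgroup G) ≤ Cz x := fun e =>
  R.not_dvd_index (d.trans (h.two x hx xz ▸ ind_dvd_of_le e))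

theorem dvd (hx : ¬ p ∣ orderOf x) (xz : x ∉ center G) {r : ℕ} (hr : r.Prime) (rp : r ≠ p)
    (d : r ∣ m) : r ∣ (Cz x).relIndex (normalizer (Cz x : Set G)) := by
  have := Fact.mk hr
  obtain ⟨R, hR⟩ := (A_pgroup (Cz x) hr).exists_le_sylow
  have h1 := h.not_le d R hx xz
  obtain ⟨g, ⟨g1, g2⟩, g3⟩ := SetLike.exists_of_lt
    (lt_inf_normalizer R.isPGroup' (hR.lt_of_ne fun e => h1 (e ▸ A_le _ _)))
  have hg := pe_of hr R.isPGroup' g1
  have g4 : g ∉ Cz x := fun e => g3 (h.memA' hx xz hr rp e hg)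
  have g5 := normalizer_le_normalizer_centralizer _ g2
  rw [h.cenA hx xz hr rp (fun e => g4 (center_le_centralizer _ e)) hg] at g5
  by_contra hn
  refine g4 (mem_of_coprime_index (N := (Cz x).subgroupOf _) (x := ⟨g, g5⟩) ?_)
  obtain ⟨k, hk⟩ := hg
  rw [orderOf_mk, hk]
  exact (hr.coprime_iff_not_dvd.2 hn).pow_left k

theorem one (hx : ¬ p ∣ orderOf x) (xz : x ∉ center G) {r r' : ℕ} (hr : r.Prime) (hr' : r'.Prime)
    (n1 : r ≠ p) (n2 : r' ≠ p) (d1 : r ∣ m) (d2 : r' ∣ m) : r = r' :=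
  (h.nf hx xz).eq h.hp hr hr' n1 n2 (h.dvd hx xz hr n1 d1) (h.dvd hx xz hr' n2 d2)

/-- The end of the proof: a normal subgroup that is an `r`-group modulo `D`. -/
theorem fin {r : ℕ} [hr : Fact r.Prime] (rp : r ≠ p) (d : r ∣ m) (R : Sylow r G) (xR : x ∈ R)
    (xz : x ∉ center G) (hR : ∀ g ∈ R, g * x * g⁻¹ * x⁻¹ ∈ center G) (D M : Subgroup G) [D.Normal]
    [hM : M.Normal] (xM : x ∈ M) (hD : ∀ a ∈ D, ∃ j, a ^ p ^ j ∈ center G)
    (hMD : IsPGroup r (M.map (QuotientGroup.mk' D))) : False := by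
  have pe : ∀ g ∈ R, PE r g := fun g hg => pe_of hr.out R.isPGroup' hg
  have hx := (pe x xR).ndvd hr.out h.hp rp
  have RN : (R : Subgroup G) ≤ normalizer (Cz x : Set G) := fun g hg => cj_eq_self_iff.1 (by
    rw [← cent_conj]
    ext c
    rw [mem_cent_iff, mem_cent_iff, ← inv_mul_cancel_right (g * x * g⁻¹) x, ← mul_assoc c,
      mem_center_iff.1 (hR g hg) c, mul_assoc _ c, mul_assoc _ x c, mul_right_inj])
  obtain ⟨s, hs, sp, sr, v, vz, hv⟩ := h.many r hr.out rp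
  have := Fact.mk hs
  obtain ⟨b, bx, bz, hb⟩ := h.exs hx xz hs sp vz hv
  have hb' := hb.ndvd hs h.hp sp
  have bA := h.memA' hx xz hs sp bx hb
  have MK : (R : Subgroup G) ⊓ M ≤ Cz x := fun a ha => by
    have h1 : a * b * a⁻¹ * b⁻¹ ∈ A (Cz x) {s} :=
      mul_mem (conj_mem_of_mem_normalizer (nor_A _ _ (RN ha.1)) bA) (inv_mem bA)
    have h2 : a * b * a⁻¹ * b⁻¹ ∈ M := by
      simpa [mul_assoc] using mul_mem ha.2 (hM.conj_mem _ (inv_mem ha.2) b)
    have h3 := pe_of hs (A_pgroup _ hs) h1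
    obtain ⟨i, hi⟩ := isPGroup_iff_forall.1 hMD _ ⟨_, h2, rfl⟩
    rw [← map_pow, QuotientGroup.mk'_apply, QuotientGroup.eq_one_iff] at hi
    obtain ⟨j, hj⟩ := hD _ (mem_of_pow hi (h3.cop hs hr.out sr.symm))
    have h4 := mem_of_pow hj (h3.cop hs h.hp sp.symm)
    generalize e : a * b * a⁻¹ * b⁻¹ = z at h3 h4
    have h5 : ∀ n : ℕ, a ^ n * b = z ^ n * b * a ^ n := fun n => by
      induction n with
      | zero => simp
      | succ n ih =>
        rw [pow_succ' a, mul_assoc, ih, ← mul_assoc, ← mul_assoc, mem_center_iff.1 (pow_mem h4 n) a,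
          pow_succ z, ← e]
        group
    have h6 := h5 (orderOf a)
    rw [pow_orderOf_eq_one, one_mul, mul_one, right_eq_mul] at h6
    obtain ⟨k, hk⟩ := pe a ha.1
    have h7 : z ∈ (⊥ : Subgroup G) := mem_of_pow (mem_bot.2 h6) (hk ▸ h3.cop hs hr.out sr.symm)
    rw [← h.ceq hx xz hb' bz bx, mem_cent_iff, ← mul_inv_eq_one, mul_inv_rev, ← mul_assoc]
    have := h5 1
    rw [mem_bot.1 h7] at this
    simp only [pow_one, one_mul] at this
    rw [this]; group
  have sm : ¬ s ∣ m := fun e => sr (h.one hx xz hs hr.out sp rp e d)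
  obtain ⟨w, wR, wx⟩ := SetLike.not_le_iff_exists.1 (h.not_le d R hx xz)
  have wz : w ∉ center G := fun e => wx (center_le_centralizer _ e)
  have hw := (pe w wR).ndvd hr.out h.hp rp
  obtain ⟨B, hB⟩ := H18.exists_sylow_le_of_not_dvd (H := Cz w) (by rwa [h.two w hw wz])
  obtain ⟨g, -, hg⟩ := (isSyl_sylow B).exists_cj_le hb.zp le_top
  have nz : ∀ g y : G, y ∉ center G → g * y * g⁻¹ ∉ center G := fun g y hy e =>
    hy (by simpa [mul_assoc] using (inferInstance : (center G).Normal).conj_mem _ e g⁻¹)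
  have h1 : w ∈ Cz (g * x * g⁻¹) := by
    rw [Cz, cent_conj, ← Cz, ← h.ceq hx xz hb' bz bx, ← cent_conj, ← Cz,
      h.ceq hw wz (by rwa [orderOf_conj']) (nz g b bz) (hB (hg (conj_mem_cj (mem_zpowers b))))]
    exact mem_cent_iff.2 rfl
  have hS : IsSyl r ((R : Subgroup G) ⊓ M) M :=
    (isSyl_sylow R).inf_of_le_normalizer le_top (by rw [normalizer_eq_top]; exact le_top)
  obtain ⟨k, kM, hk⟩ := hS.exists_cj_le (PE.zp (x := g * x * g⁻¹) (by
    rw [PE, orderOf_conj']; exact pe x xR)) (zpowers_le.2 (hM.conj_mem x xM g))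
  obtain ⟨a, ha, e⟩ := ((hS.map (QuotientGroup.mk' D)).eq_of_isPGroup hMD).ge ⟨k, kM, rfl⟩
  have h2 : a⁻¹ * k ∈ D := QuotientGroup.eq.1 e
  have h3 := hk (conj_mem_cj (mem_zpowers _))
  have h4 : k * w * k⁻¹ ∈ Cz x := by
    rw [← h.ceq hx xz ((pe _ h3.1).ndvd hr.out h.hp rp) (nz _ _ (nz _ _ xz)) (MK h3), Cz, cent_conj]
    exact conj_mem_cj h1
  have h5 : a⁻¹ * k * w * (a⁻¹ * k)⁻¹ ∈ Cz x := by
    simpa [mul_assoc] using mul_mem (mul_mem (inv_mem (MK ha)) h4) (MK ha)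
  obtain ⟨j, hj⟩ := hD (a⁻¹ * k * w * (a⁻¹ * k)⁻¹ * w⁻¹) (by
    simpa [mul_assoc] using mul_mem h2 ((inferInstance : D.Normal).conj_mem _ (inv_mem h2) w))
  generalize a⁻¹ * k * w * (a⁻¹ * k)⁻¹ = c at h5 hj
  have h6 : ∀ n : ℕ, (c * w⁻¹) ^ n * w ^ n ∈ Cz x := fun n => by
    induction n with
    | zero => simp
    | succ n ih =>
      have := mul_mem h5 (conj_mem_of_mem_normalizer' (RN wR) ih)
      rw [pow_succ', pow_succ w]
      simpa only [mul_assoc] using this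
  exact wx (mem_of_pow ((mul_mem_cancel_left (center_le_centralizer _ hj)).1 (h6 _))
    ((pe w wR).cop hr.out h.hp rp.symm))

theorem not_dvd (hx : ¬ p ∣ orderOf x) (xz : x ∉ center G) {r : ℕ} (hr : r.Prime) (rp : r ≠ p) :
    ¬ r ∣ m := fun d => by
  have := Fact.mk hr
  have := Fact.mk h.hp
  obtain ⟨R⟩ : Nonempty (Sylow r G) := inferInstance
  let f := QuotientGroup.mk' (center G)
  have hf : Function.Surjective f := QuotientGroup.mk'_surjective _
  have hR := R.isPGroup'.map f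
  obtain ⟨_, ⟨⟨y, yR, rfl⟩, h1⟩, h2⟩ := SetLike.exists_of_lt (bot_lt_iff_ne_bot.2
    (inf_centralizer_ne_bot hR hR le_normalizer fun e => h.not_le d R hx xz
      ((((Subgroup.map_eq_bot_iff _).1 e).trans (QuotientGroup.ker_mk' _).le).trans (center_le_centralizer _))))
  have yz : y ∉ center G := fun e => h2 ((QuotientGroup.eq_one_iff y).2 e)
  have py := pe_of hr R.isPGroup' yR
  have hy := py.ndvd hr h.hp rp
  have h3 : ⁅normalClosure {f y}, normalClosure {f y}⁆ ≤ pCore p _ :=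
    commutator_normalClosure_le_pCore (Nat.eq_prime_pow_of_unique_prime_dvd index_ne_zero_of_finite
      fun {q} hq hd => by_contra fun qp => by
        have := h.one hx xz hq hr qp rp
          (hd.trans (h.two y hy yz ▸ H18.index_centralizer_map_dvd f hf y)) d
        exact R.not_dvd_index (this.symm.dvd.trans ((hd.trans (ind_dvd_of_le
          (le_cent_iff_mem_centralizer.2 h1))).trans (index_map_dvd _ hf))))
  let D := (pCore p (G ⧸ center G)).comap f
  have hc : IsMulCommutative ((normalClosure {y}).map (QuotientGroup.mk' D)) := by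
    rw [← le_centralizer_iff_isMulCommutative, ← commutator_eq_bot_iff_le_centralizer,
      ← map_commutator, Subgroup.map_eq_bot_iff, QuotientGroup.ker_mk', ← map_le_iff_le_comap, map_commutator,
      map_normalClosure _ _ hf, Set.image_singleton]
    exact h3
  have hn : ((normalClosure {y}).map (QuotientGroup.mk' D)).Normal :=
    normalClosure_normal.map _ (QuotientGroup.mk'_surjective D)
  refine h.fin rp d R yR yz (fun g hg => ?_) D (normalClosure {y}) (subset_normalClosure rfl)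
    (fun a ha => ?_) (isPGroup_iff_forall.2 fun a ha => ?_)
  · rw [← QuotientGroup.eq_one_iff]
    show f _ = 1
    rw [map_mul, map_mul, map_mul, h1 _ ⟨g, hg, rfl⟩]; simp
  · obtain ⟨j, hj⟩ := isPGroup_iff_forall.1 (H2.pCore_isPGroup p _) _ ha
    exact ⟨j, (QuotientGroup.eq_one_iff _).1 hj⟩
  · have h4 : (normalClosure {y}).map (QuotientGroup.mk' D) ≤ piElts {r} _ hc := by
      conv_lhs => rw [map_normalClosure _ _ (QuotientGroup.mk'_surjective D), Set.image_singleton]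
      exact normalClosure_le_normal (Set.singleton_subset_iff.2 ⟨⟨y, subset_normalClosure rfl, rfl⟩,
        ((isPiElt_singleton_iff hr).2 py).map _⟩)
    exact (H18.exists_orderOf_eq_pow_iff hr).1 ((isPiElt_singleton_iff hr).1 (h4 ha).2)

theorem main (hx : ¬ p ∣ orderOf x) (xz : x ∉ center G) : ∃ H : Subgroup G, IsMulCommutative H ∧
    ¬ p ∣ Nat.card H ∧ ∃ k : ℕ, H.index = p ^ k := by
  refine ⟨A (Cz x) {p}ᶜ, ⟨⟨fun a b => Subtype.ext (b.2.1.2 a a.2.1.1)⟩⟩,
    fun e => mem_of_dvd_card_piElts h.hp e rfl, _, Nat.eq_prime_pow_of_unique_prime_dvd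
      index_ne_zero_of_finite fun {q} hq hd => by_contra fun qp => ?_⟩
  have := Fact.mk hq
  obtain ⟨Q, hQ⟩ := H18.exists_sylow_le_of_not_dvd (H := Cz x) (p := q)
    (by rw [h.two x hx xz]; exact h.not_dvd hx xz hq qp)
  exact Q.not_dvd_index (hd.trans (index_dvd_of_le fun a ha => h.memA hx xz (fun e => e rfl) (hQ ha)
    ((isPiElt_compl_singleton_iff h.hp).2 ((pe_of hq Q.isPGroup' ha).ndvd hq h.hp qp))))

end Hy

theorem two_primes [Finite G] {p q : ℕ} [hp : Fact p.Prime] [hq : Fact q.Prime] (qp : q ≠ p)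
    (h : ∀ s : ℕ, s.Prime → s ≠ p → s ≠ q → ∀ w : G, PE s w → w ∈ center G) (P : Sylow p G)
    (Q : Sylow q G) : ∃ B : Subgroup G, B ≤ center G ∧
      Nat.card ↥((P : Subgroup G) ⊔ (Q : Subgroup G)) = Nat.card P * Nat.card Q ∧
      ((P : Subgroup G) ⊔ (Q : Subgroup G)).Normal ∧
      ((P : Subgroup G) ⊔ (Q : Subgroup G)) ⊓ B = ⊥ ∧ ((P : Subgroup G) ⊔ (Q : Subgroup G)) ⊔ B = ⊤ := by
  let B := piElts {p, q}ᶜ (center G) inferInstance
  have h1 : ∀ s : ℕ, s.Prime → s ∣ B.index → s = p ∨ s = q := fun s hs hd => by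
    by_contra! hn
    have := Fact.mk hs
    obtain ⟨S⟩ : Nonempty (Sylow s G) := inferInstance
    refine S.not_dvd_index (hd.trans (index_dvd_of_le fun a ha => ?_))
    have := pe_of hs S.isPGroup' ha
    exact ⟨h s hs hn.1 hn.2 a this, ((isPiElt_singleton_iff hs).2 this).mono (by simp [hn])⟩
  have h2 : ∀ s : ℕ, s.Prime → s ∣ Nat.card B → ¬ (s = p ∨ s = q) := fun s hs hd => by
    simpa using mem_of_dvd_card_piElts hs hd
  obtain ⟨K, hK⟩ := exists_right_complement'_of_coprime (N := B)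
    (Nat.coprime_of_dvd' fun s hs d1 d2 => (h2 s hs d1 (h1 s hs d2)).elim)
  have BZ : B ≤ center G := fun _ h => h.1
  have hn : K.Normal := normal_of_top_le_normalizer
    (hK.sup_eq_top ▸ sup_le (BZ.trans (center_le_normalizer _)) le_normalizer)
  have h3 : ∀ (s : ℕ) [Fact s.Prime] (S : Sylow s G), s = p ∨ s = q → (S : Subgroup G) ≤ K :=
    fun s hs S e a ha => mem_of_coprime_index (by
      obtain ⟨k, hk⟩ := pe_of hs.out S.isPGroup' ha
      rw [hk, hK.index_eq_card]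
      exact (hs.out.coprime_iff_not_dvd.2 fun d => h2 s hs.out d e).pow_left k)
  have h4 := h3 p P (.inl rfl)
  have h5 := h3 q Q (.inr rfl)
  have h6 : ∀ s : ℕ, s.Prime → s ∣ Nat.card K → s = p ∨ s = q := fun s hs d =>
    h1 s hs (hK.symm.index_eq_card ▸ d)
  have h7 : (P : Subgroup G) ⊔ (Q : Subgroup G) = K := le_antisymm (sup_le h4 h5) (relIndex_eq_one.1
    (Nat.eq_one_iff_not_exists_prime_dvd.2 fun s hs d => by
      have d' := d.trans (relIndex_dvd_index_of_le (sup_le h4 h5))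
      rcases h6 s hs (d.trans (relIndex_dvd_card _ _)) with e | e
      exacts [P.not_dvd_index (e.symm.dvd.trans (d'.trans (index_dvd_of_le le_sup_left))),
        Q.not_dvd_index (e.symm.dvd.trans (d'.trans (index_dvd_of_le le_sup_right)))]))
  rw [h7]
  refine ⟨B, BZ, ?_, hn, hK.symm.disjoint.eq_bot, hK.symm.sup_eq_top⟩
  have h8 : (P : Subgroup G).relIndex K = q ^ _ := Nat.eq_prime_pow_of_unique_prime_dvd
    index_ne_zero_of_finite fun {s} hs d => (h6 s hs (d.trans (relIndex_dvd_card _ _))).resolve_left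
      fun e => P.not_dvd_index (e.symm.dvd.trans (d.trans (relIndex_dvd_index_of_le h4)))
  have h9 : Nat.card K = Nat.card P * (P : Subgroup G).relIndex K := by
    rw [← ((P : Subgroup G).subgroupOf K).card_mul_index, relIndex,
      Nat.card_congr (subgroupOfEquivOfLe h4).toEquiv]
  rw [(isSyl_sylow_of_le Q h5).card_eq, h9, h8, Nat.factorization_mul Nat.card_pos.ne'
    (pow_ne_zero _ hq.out.ne_zero), P.card_eq_multiplicity]
  simp [hp.out.factorization_pow, hq.out.factorization_pow, qp.symm]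

end H4.PR
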