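import Cfsg.Agent.H4.SPGBP

/-! STD-SP type I fusion, slot BC: the centraliser of `Q_l` and of the perfect core of `C(a_l)`. -/

set_option autoImplicit false
set_option linter.unusedSectionVars false

namespace H4.SPGBC

open Subgroup H67.SP H86.SPG H4.SPGBP
open H67.UA hiding Par
open H64.SG (Cz Cs mem_Cz)
open H37.SP (hs hsr h0 t_ac t_sq t_inv t_cj)

variable {n : ℕ} {F : Type} [Field F] [StarRing F] [TrivialStar F] [CharP F 2] [Finite F]
  [FV n F] {x m : XU n F} {l : ℕ} {y y' z v : Vn n F}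

theorem tt_inj {u v : Vn n F} (h : TT u = TT v) : u = v := eq_of_hf fun y => by
  have h1 := t_ac u y
  rw [h, t_ac, add_right_inj] at h1
  have h2 := congrArg (fun w => hf w y) h1
  simp only [hf_smul_left, hs y] at h2
  have h3 : (hf u y + hf v y) ^ 2 = 0 := by
    linear_combination h2 + (hf u y * hf v y + hf u y ^ 2) * two0 F
  linear_combination (pow_eq_zero_iff two_ne_zero).1 h3 - hf v y * two0 F

theorem wk_mono (hl : 2 * l ≤ n + 1) (h : Wk l v) : Wk (n + 1 - l) v := fun i k => h i (by omega)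

theorem m_ker (hl : 2 * l ≤ n + 1) (hm : m ∈ Mk n F l) (hv : Wk (n + 1 - l) v) : NN m v = 0 :=
  eq_of_hf fun z => by
    rw [NN, hf_add_left, hf_ac_left, ← hf_add_right, hf_zero_left]
    exact (FV.wk_perp l (by omega) v).1 hv _ ((FV.mem_M l _).1 (inv_mem hm) z)

theorem m_sq (hl : 2 * l ≤ n + 1) (hm : m ∈ Mk n F l) : m * m = 1 := ac_ext fun v => by
  have := m_ker hl hm (wk_mono hl ((FV.mem_M l m).1 hm v))
  rw [ac_mul, ac_one, ac_eq m v, ac_add, ac_eq m v, ac_eq m (NN m v), show NN m (NN m v) = 0 from this,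
    add_zero, add_assoc, v_add_self, add_zero]

theorem cq (h4 : 4 ≤ l) (hl : 2 * l ≤ n + 1) : Cs (Qk n F l) = Mk n F l := by
  refine le_antisymm (fun g hg => (FV.mem_M l g).2 fun z => ?_) fun m hm a ha => ?_
  · have cj : ∀ u v : Vn n F, Wk l u → Wk (n + 1 - l) v → ∀ c, g * EE u v c * g⁻¹ = EE u v c :=
      fun u v hu hv c => by rw [← hg _ (FV.EE_Q l hl u v c hu hv), mul_inv_cancel_right]
    have f1 : ∀ u : Vn n F, Wk l u → ac g u = u := fun u hu =>
      tt_inj ((t_cj g u).symm.trans (cj u 0 hu (fun _ _ => rfl) 1))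
    have f2 : ∀ (i : Fin (n + 1)) (v : Vn n F), i.val < l → Wk (n + 1 - l) v →
        ∃ a : F, ac g v = v + a • ev i := fun i v hi hv => by
      have hu : Wk l (ev i : Vn n F) := fun j k => by rw [ev_apply, if_neg (by rintro rfl; omega)]
      have ok := FV.ok (ev i) v 0 ((FV.wk_perp l (by omega) v).1 hv _ hu)
      have ok' := ok.ac g
      have e := (cj _ _ hu hv 0).symm.trans (EE_conj ok g)
      rw [f1 _ hu] at ok' e
      obtain ⟨a, e', -⟩ := EE_inj (ev_ne i) ok ok' e
      exact ⟨a, e'⟩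
    have f3 : ∀ v : Vn n F, Wk (n + 1 - l) v → ac g v = v := fun v hv => by
      obtain ⟨a, e⟩ := f2 ⟨0, by omega⟩ v (by simp only; omega) hv
      obtain ⟨b, e'⟩ := f2 ⟨1, by omega⟩ v (by simp only; omega) hv
      have := congrFun (add_left_cancel (e.symm.trans e')) ⟨0, by omega⟩
      simp only [Pi.smul_apply, ev_apply, if_true, Fin.mk.injEq, zero_ne_one, if_false,
        smul_eq_mul, mul_one] at this
      rw [e, this, mul_zero, zero_smul, add_zero]
    have := (FV.wk_perp (n + 1 - l) (by omega) (ac g z + z)).2 fun w hw => by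
      rw [hf_add_left]
      conv_lhs => lhs; rw [← f3 w hw, hf_ac]
      exact CharTwo.add_self_eq_zero _
    rwa [show n + 1 - (n + 1 - l) = l by omega] at this
  · exact (mem_Cz.1 (FV.gen_Q l hl (Cz m) (fun u v c hu hv => EE_mem (m_ker hl hm (wk_mono hl hu))
      (m_ker hl hm hv) ((FV.wk_perp l (by omega) v).1 hv _ hu) c) ha)).symm

section

variable (h : Nf x l) (h4 : 4 ≤ l) (hl : 2 * l ≤ n + 1) (hm : m ∈ Mk n F l)
  (hc : Pc (Cz x) ≤ Cz m)
include h h4 hl hm hc

theorem key (a : Wp l y) (b : Wp l y') (c : Wp l z) (e : be x y y' = 1) (e1 : be x y z = 0)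
    (e2 : be x y' z = 0) : be m z y = 0 := by
  have k := NN_ac (hc (rho_mem h h4 hl a b e)) z
  have p1 : hf (NN x y') y = 1 := (be_comm h.sq y' y).trans e
  have p2 : hf (NN x y) y = 0 := be_self h y
  have p3 : hf (NN x y') y' = 0 := be_self h y'
  have p4 : hf (NN x y) y' = 1 := e
  rw [rho_ker (v := NN m z) h e (ker_of h hl (wk_mono hl ((FV.mem_M l m).1 hm z))), ac_mul, u_ac h y', e2,
    c.perp hl b, zero_smul, zero_smul, add_zero, add_zero, u_ac h, e1, c.perp hl a, zero_smul,
    zero_smul, add_zero, add_zero] at k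
  have k0 := left_eq_add.1 k
  have k1 := congrArg (fun w => hf w y) k0
  have k2 := congrArg (fun w => hf w y') k0
  simp only [hf_add_left, hf_smul_left, p1, p2, p3, p4, hf_zero_left, mul_one, mul_zero, add_zero,
    zero_add] at k1 k2
  rw [k1, add_zero] at k2
  exact k2

theorem dec (a : Wp l y) (b : Wp l y') (c : Wp l z) (e : be x y y' = 1) :
    be m z y = be x y z * be m y' y := by
  have cm := be_comm h.sq
  obtain ⟨w, w', q⟩ := exists_qd h h4 hl a b e
  have k := CharTwo.add_self_eq_zero (1 : F)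
  have s1 := key h h4 hl hm hc a b q.c e q.ac q.bc
  have s2 := key h h4 hl hm hc a (b.add q.d) (a.add q.c) (by rw [be_addr, e, q.ad, add_zero])
    (by rw [be_addr, be_self h, q.ac, add_zero]) (by
      simp [be_addl, be_addr, cm y' y, cm w' y, cm w' w, e, q.bc, q.ad, q.cd, k])
  rw [be_addl, s1, add_zero] at s2
  have s3 := key h h4 hl hm hc a b ((c.add (a.smul (be x y' z))).add (b.smul (be x y z))) e
    (by simp [be_addr, be_smulr, be_self h, e, CharTwo.add_self_eq_zero])
    (by simp [be_addr, be_smulr, be_self h, cm y' y, e, CharTwo.add_self_eq_zero])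
  rw [be_addl, be_addl, be_smull, be_smull, s2, mul_zero, add_zero] at s3
  linear_combination s3 - be x y z * be m y' y * two0 F

theorem scal : ∃ c : F, ∀ v, NN m v = c • NN x v := by
  have cm := be_comm h.sq
  have cm' := be_comm (m_sq hl hm)
  obtain ⟨u, a, u0, -⟩ := exists_perp (x := x) h4 hl 0 0
  obtain ⟨u', b, e⟩ := exists_dual h a u0
  have s1 : ∀ y z, Wp l y → Wp l z → be x y u = 1 → be m z y = be m u' u * be x z y :=
    fun y z c d e' => by
      rw [dec h h4 hl hm hc c a d e', cm' u y, dec h h4 hl hm hc a b c e, cm u y, e', one_mul, cm y z,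
        mul_comm]
  have s2 : ∀ y z, Wp l y → Wp l z → be m z y = be m u' u * be x z y := fun y z c d => by
    have k1 := s1 _ z (c.add (b.smul (1 + be x y u))) d (by
      rw [be_addl, be_smull, cm u' u, e]; linear_combination be x y u * two0 F)
    have k2 := s1 _ z b d ((cm _ _).trans e)
    rw [be_addr, be_addr, be_smulr, be_smulr, k2] at k1
    linear_combination k1
  have sp : ∀ v, ∃ y k, Wp l y ∧ NN x k = 0 ∧ NN m k = 0 ∧ v = y + k := fun v => by
    obtain ⟨y, c, e'⟩ := lift h (NN_wk h v)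
    have k : NN x (y + v) = 0 := by rw [NN_add, ← e', v_add_self]
    exact ⟨y, y + v, c, k, m_ker hl hm (wk_of h hl k), by rw [← add_assoc, v_add_self, zero_add]⟩
  refine ⟨be m u' u, fun v => eq_of_hf fun v' => ?_⟩
  obtain ⟨y, k, c, k1, k2, rfl⟩ := sp v
  obtain ⟨y', k', c', k1', k2', rfl⟩ := sp v'
  rw [hf_smul_left, NN_add, NN_add, k1, k2, add_zero, add_zero, hf_add_right, hf_add_right,
    adj h.sq y k', adj (m_sq hl hm) y k', k1', k2', hf_zero_right, add_zero, add_zero]
  exact s2 y' y c' c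

theorem fin [FW n F] : x * m = 1 ∨ IsConj x (x * m) := by
  obtain ⟨c, hc'⟩ := scal h h4 hl hm hc
  have e : ∀ v, ac (x * m) v = v + (1 + c) • NN x v := fun v => by
    rw [ac_mul, ac_eq m, hc', ac_add, ac_smul, ac_eq x v, ac_eq x (NN x v), NN_NN h.sq, add_zero,
      add_smul, one_smul, add_assoc]
  by_cases k : 1 + c = 0
  · exact Or.inl (ac_ext fun v => by rw [e, k, zero_smul, add_zero, ac_one])
  refine Or.inr ((FW.rkc _ _ h.sq (ac_ext fun v => ?_)).2 ⟨?_, iff_of_true h.alt fun v => ?_⟩)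
  · rw [ac_mul, e, e, NN_add, NN_smul, NN_NN h.sq, smul_zero, add_zero, add_assoc, v_add_self,
      add_zero, ac_one]
  · have : mt (x * m) - 1 = (1 + c) • (mt x - 1) := Matrix.ext fun i j => by
      have := congrFun (e (ev j)) i
      simp only [NN, Pi.add_apply, Pi.smul_apply, ac_ev, ev_apply, smul_eq_mul] at this
      simp only [Matrix.sub_apply, Matrix.smul_apply, Matrix.one_apply, smul_eq_mul, this,
        CharTwo.sub_eq_add, Matrix.add_apply]
      linear_combination (if i = j then (1 : F) else 0) * two0 F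
    rw [rk, rk, this, Matrix.rank_smul_of_mem_nonZeroDivisors _ (mem_nonZeroDivisors_of_ne_zero k)]
  · rw [e, hf_add_left, hf_smul_left, h0, show hf (NN x v) v = 0 from be_self h v, mul_zero, add_zero]

end

theorem bc [FW n F] [FA n F] (bp : BP n F) : BC n F := ⟨fun _ => cq, fun x l h h4 hl α hα => by
  have q := bp x l h h4 hl
  obtain ⟨m, rfl⟩ := FA.lin α (ev 0) (ev_ne 0) fun c => hα _ (q (FV.EE_Q l hl _ 0 c
    (fun j k => by rw [ev_apply, if_neg (by rintro rfl; simp at k; omega)]) fun _ _ => rfl))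
  have hc : Pc (Cz x) ≤ Cz m := fun y hy => mem_Cz.2 (mul_inv_eq_iff_eq_mul.1 (hα y hy))
  exact ⟨m, rfl, fin h h4 hl ((cq h4 hl).le fun a ha => (mem_Cz.1 (hc (q ha))).symm) hc⟩⟩

theorem jobBC : JobBC := fun _ _ _ _ _ _ _ _ _ bp => bc bp

end H4.SPGBC
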