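import Cfsg.Agent.H86.SPGDef
import Cfsg.Agent.H37.SPPC

/-! STD-SP type I fusion, slot BP: `Q_l` lies in the perfect core of `C(a_l)`. -/

set_option autoImplicit false
set_option linter.unusedSectionVars false

namespace H4.SPGBP

open Subgroup H67.SP H86.SPG
open H67.UA hiding Par
open H64.SG (Cz Cs mem_Cz)
open H37.SP (hs hsr h0 t_ac t_sq t_inv t_cj)
open scoped commutatorElement

theorem cj_Pc {G : Type*} [Group G] {H : Subgroup G} {a d : G} (ha : a ∈ H) (hd : d ∈ Pc H) :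
    a * d * a⁻¹ ∈ Pc H := by
  refine le_Pc (N := (Pc H).map (MulAut.conj a).toMonoidHom) ?_ ?_ (mem_map_of_mem _ hd)
  · rintro _ ⟨y, hy, rfl⟩
    exact mul_mem (mul_mem ha (Pc_le H hy)) (inv_mem ha)
  · rw [← map_commutator]; exact map_mono (Pc_perf H)

theorem cm_Pc {G : Type*} [Group G] {H : Subgroup G} {a d : G} (ha : a ∈ H) (hd : d ∈ Pc H) :
    d * a * d⁻¹ * a⁻¹ ∈ Pc H := by
  simpa only [mul_assoc] using mul_mem hd (cj_Pc ha (inv_mem hd))

theorem braid {G : Type*} [Group G] {a b c : G} (ha : a * a = 1) (hb : b * b = 1)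
    (h1 : Commute c a) (h2 : Commute c b) (h3 : a * b * a = b * a * b) : ⁅a * c, a * b⁆ = a * b := by
  have i1 : a⁻¹ = a := inv_eq_of_mul_eq_one_right ha
  have i2 : b⁻¹ = b := inv_eq_of_mul_eq_one_right hb
  calc _ = a * (c * (a * b) * c⁻¹) * a⁻¹ * b⁻¹ * a⁻¹ := by rw [commutatorElement_def]; group
    _ = a * a * (b * a * b) * a := by
      rw [(h1.mul_right h2).eq, mul_inv_cancel_right, i1, i2]; simp only [mul_assoc]
    _ = _ := by rw [ha, one_mul, ← h3, mul_assoc, ha, mul_one]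

variable {n : ℕ} {F : Type} [Field F] [StarRing F] [TrivialStar F] [CharP F 2] [Finite F]
  [FV n F] {x : XU n F} {l : ℕ} {y y' w w' v : Vn n F}

/-- `N = x + 1` -/
def NN (x : XU n F) (y : Vn n F) : Vn n F := ac x y + y
/-- the form `β` -/
def be (x : XU n F) (y z : Vn n F) : F := hf (NN x y) z
/-- the span of the last `l` basis vectors -/
def Wp (l : ℕ) (y : Vn n F) : Prop := ∀ i : Fin (n + 1), l ≤ i.rev.val → y i = 0
/-- the short root element `y ∧ N y` -/
noncomputable def UY (x : XU n F) (y : Vn n F) : XU n F := qq (NN x y) y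

theorem NN_add (x : XU n F) (y z : Vn n F) : NN x (y + z) = NN x y + NN x z := by
  simp only [NN, ac_add]; abel
theorem NN_smul (x : XU n F) (a : F) (y : Vn n F) : NN x (a • y) = a • NN x y := by
  simp only [NN, ac_smul, smul_add]
theorem be_addl (x : XU n F) (y z w : Vn n F) : be x (y + z) w = be x y w + be x z w := by
  simp only [be, NN_add, hf_add_left]
theorem be_addr (x : XU n F) (y z w : Vn n F) : be x y (z + w) = be x y z + be x y w :=
  hf_add_right _ _ _
theorem be_smull (x : XU n F) (a : F) (y z : Vn n F) : be x (a • y) z = a * be x y z := by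
  simp only [be, NN_smul, hf_smul_left]
theorem be_smulr (x : XU n F) (a : F) (y z : Vn n F) : be x y (a • z) = a * be x y z := hsr _ _ _
theorem ac_eq (x : XU n F) (y : Vn n F) : ac x y = y + NN x y := by
  rw [NN, add_comm (ac x y), ← add_assoc, v_add_self, zero_add]
theorem Wp.add (h : Wp l y) (h' : Wp l w) : Wp l (y + w) := fun i k => by simp [h i k, h' i k]
theorem Wp.smul (h : Wp l y) (a : F) : Wp l (a • y) := fun i k => by simp [h i k]
theorem wk_add (h : Wk l y) (h' : Wk l w) : Wk l (y + w) := fun i k => by simp [h i k, h' i k]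
theorem wk_smul (h : Wk l y) (a : F) : Wk l (a • y) := fun i k => by simp [h i k]

theorem Wp.perp (hl : 2 * l ≤ n + 1) (h : Wp l y) (h' : Wp l w) : hf y w = 0 :=
  Finset.sum_eq_zero fun i _ => by
    by_cases k : l ≤ i.rev.val
    · rw [h i k, zero_mul]
    · rw [h' i.rev (by rw [Fin.rev_rev]; rw [Fin.val_rev] at k; omega), star_zero, mul_zero]

theorem adj (h : x * x = 1) (y z : Vn n F) : hf (NN x y) z = hf y (NN x z) := by
  simp only [NN, hf_add_left, hf_add_right, hf_ac_left, inv_eq_of_mul_eq_one_right h]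
theorem be_comm (h : x * x = 1) (y z : Vn n F) : be x y z = be x z y := by rw [be, adj h, hs, be]
theorem NN_NN (h : x * x = 1) (y : Vn n F) : NN x (NN x y) = 0 := by
  rw [NN, NN, ac_add, ← ac_mul, h, ac_one, add_comm y, v_add_self]
theorem NN_perp (h : x * x = 1) (y z : Vn n F) : hf (NN x y) (NN x z) = 0 := by
  rw [adj h, NN_NN h, hf_zero_right]
theorem be_self (h : Nf x l) (y : Vn n F) : be x y y = 0 := by
  rw [be, NN, hf_add_left, h.alt, h0, add_zero]
theorem NN_wk (h : Nf x l) (y : Vn n F) : Wk l (NN x y) := (h.im _).1 ⟨y, rfl⟩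
theorem lift (h : Nf x l) (hw : Wk l w) : ∃ y, Wp l y ∧ w = NN x y := h.lift w hw
theorem pp (h : Nf x l) (y : Vn n F) : Pp y (NN x y) := FV.pp _ _ ((hs _ _).trans (be_self h y))

theorem ker_of (h : Nf x l) (hl : 2 * l ≤ n + 1) (hv : Wk (n + 1 - l) v) : NN x v = 0 :=
  eq_of_hf fun z => by
    rw [adj h.sq, (FV.wk_perp l (by omega) v).1 hv _ (NN_wk h z), hf_zero_left]

theorem wk_of (h : Nf x l) (hl : 2 * l ≤ n + 1) (hv : NN x v = 0) : Wk (n + 1 - l) v :=
  (FV.wk_perp l (by omega) v).2 fun w hw => by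
    obtain ⟨y, -, rfl⟩ := lift h hw
    rw [← adj h.sq, hv, hf_zero_left]

theorem EE_mem {u : Vn n F} (hu : NN x u = 0) (hv : NN x v = 0) (p : hf v u = 0) (c : F) :
    EE u v c ∈ Cz x := mem_Cz.2 (by
  rw [← mul_inv_eq_iff_eq_mul, EE_conj (FV.ok u v c p), ac_eq, ac_eq, hu, hv, add_zero, add_zero])

theorem NN_zero (x : XU n F) : NN x 0 = 0 := by simp [NN]

theorem NN_ac {g : XU n F} (hg : g ∈ Cz x) (y : Vn n F) : NN x (ac g y) = ac g (NN x y) := by
  simp only [NN, ac_add, ← ac_mul, mem_Cz.1 hg]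

theorem u_ac (h : Nf x l) (y v : Vn n F) :
    ac (UY x y) v = v + be x y v • y + hf v y • NN x y := by
  rw [UY, ac_qq (pp h y), be, hs v]

theorem u_cj (h : Nf x l) {g : XU n F} (hg : g ∈ Cz x) (y : Vn n F) :
    g * UY x y * g⁻¹ = UY x (ac g y) := by
  rw [UY, UY, qq, EE_conj (pp h y).ok, NN_ac hg]

theorem u_mem (h : Nf x l) (y : Vn n F) : UY x y ∈ Cz x := mem_Cz.2 (by
  have := EE_shift 1 (NN x y) y 0
  rw [one_smul, tr_eq_zero.2 (star_one F), add_zero] at this
  rw [← mul_inv_eq_iff_eq_mul, UY, qq_comm, qq, EE_conj (pp h y).symm.ok, ac_eq, NN_NN h.sq, add_zero,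
    ac_eq, this])

theorem u_sq (h : Nf x l) (y : Vn n F) : UY x y * UY x y = 1 := by
  rw [UY, EE_mul (pp h y).ok (pp h y).ok]; simp [h0]

theorem u_cj' (h : Nf x l) (hl : 2 * l ≤ n + 1) (a : Wp l y) (b : Wp l w) :
    UY x y * UY x w * UY x y = UY x (w + be x y w • y) := by
  have := u_cj h (u_mem h y) w
  rwa [inv_eq_of_mul_eq_one_right (u_sq h y), u_ac h, b.perp hl a, zero_smul, add_zero] at this

theorem u_comm (h : Nf x l) (hl : 2 * l ≤ n + 1) (a : Wp l y) (b : Wp l w) (e : be x y w = 0) :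
    Commute (UY x y) (UY x w) := by
  have := u_cj' h hl a b
  rw [e, zero_smul, add_zero, ← eq_mul_inv_iff_mul_eq, inv_eq_of_mul_eq_one_right (u_sq h y)] at this
  exact this

/-- two perpendicular hyperbolic pairs -/
structure Qd (x : XU n F) (l : ℕ) (y y' w w' : Vn n F) : Prop where
  a : Wp l y
  b : Wp l y'
  c : Wp l w
  d : Wp l w'
  ab : be x y y' = 1
  cd : be x w w' = 1
  ac : be x y w = 0
  ad : be x y w' = 0
  bc : be x y' w = 0
  bd : be x y' w' = 0

theorem caseB (h : Nf x l) (hl : 2 * l ≤ n + 1) (q : Qd x l y y' w w') :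
    UY x y * UY x y' ∈ Pc (Cz x) := by
  let N : Subgroup (XU n F) := closure {g | ∃ y y' w w', Qd x l y y' w w' ∧ g = UY x y * UY x y'}
  have m : ∀ {y y' w w'}, Qd x l y y' w w' → UY x y * UY x y' ∈ N := fun a =>
    subset_closure ⟨_, _, _, _, a, rfl⟩
  refine le_Pc (N := N) ((closure_le _).2 ?_) ((closure_le _).2 ?_) (m q) <;>
    rintro _ ⟨y, y', w, w', q, rfl⟩
  · exact mul_mem (u_mem h y) (u_mem h y')
  have k := CharTwo.add_self_eq_zero (1 : F)
  have c := be_comm h.sq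
  have m1 := mul_mem (m (y := y) (y' := y' + w') (w := w') (w' := w + y) (by
    refine ⟨q.a, q.b.add q.d, q.d, q.c.add q.a, ?_, ?_, ?_, ?_, ?_, ?_⟩ <;>
      simp [be_addl, be_addr, be_self h, q.ab, q.cd, q.ac, q.ad, q.bc, q.bd, c w' w, c w' y,
        c y' y, k])) (m (y := y' + w') (y' := w) (w := y') (w' := y + w) (by
    refine ⟨q.b.add q.d, q.c, q.b, q.a.add q.c, ?_, ?_, ?_, ?_, ?_, ?_⟩ <;>
      simp [be_addl, be_addr, be_self h, q.ab, q.cd, q.ac, q.ad, q.bc, q.bd, c w' w, c w' y,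
        c y' y, c w' y', c w y', c w y, k]))
  rw [mul_assoc, ← mul_assoc (UY x (y' + w')), u_sq h, one_mul] at m1
  have := commutator_mem_commutator m1 (m q)
  rwa [braid (u_sq h y) (u_sq h y') (u_comm h hl q.a q.c q.ac).symm (u_comm h hl q.b q.c q.bc).symm (by
    rw [u_cj' h hl q.a q.b, u_cj' h hl q.b q.a, c y' y, q.ab, one_smul, one_smul, add_comm])] at this

theorem exists_dual (h : Nf x l) (a : Wp l y) (hy : y ≠ 0) : ∃ y', Wp l y' ∧ be x y y' = 1 := by
  obtain ⟨i, hi⟩ := Function.ne_iff.1 hy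
  have k : i.rev.val < l := not_le.1 fun k => hi (a i k)
  obtain ⟨y', b, e⟩ := lift h (w := (y i)⁻¹ • ev i.rev) fun j m => by
    rw [Pi.smul_apply, ev_apply, if_neg (by rintro rfl; omega), smul_zero]
  refine ⟨y', b, ?_⟩
  rw [be_comm h.sq, be, ← e, hf_smul_left, hf_ev_left, Fin.rev_rev, star_trivial, inv_mul_cancel₀ hi]

theorem exists_perp (h4 : 4 ≤ l) (hl : 2 * l ≤ n + 1) (y y' : Vn n F) :
    ∃ w, Wp l w ∧ w ≠ 0 ∧ be x y w = 0 ∧ be x y' w = 0 := by
  let f : F × F × F → Vn n F := fun p i =>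
    if i.val = n then p.1 else if i.val = n - 1 then p.2.1 else if i.val = n - 2 then p.2.2 else 0
  have hf' : ∀ p, Wp l (f p) := fun p i k => by
    rw [Fin.val_rev] at k
    simp only [f]
    rw [if_neg (by omega), if_neg (by omega), if_neg (by omega)]
  have := Fintype.ofFinite F
  obtain ⟨p, p', hp, e⟩ := Fintype.exists_ne_map_eq_of_card_lt
    (fun p : F × F × F => (be x y (f p), be x y' (f p))) (by
      have : 1 < Fintype.card F := Fintype.one_lt_card
      simp only [Fintype.card_prod]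
      nlinarith)
  obtain ⟨e1, e2⟩ := Prod.mk.inj e
  refine ⟨f p + f p', (hf' p).add (hf' p'), fun k => hp ?_, ?_, ?_⟩
  · have k' : f p = f p' := by rw [← add_zero (f p), ← k, ← add_assoc, v_add_self, zero_add]
    have k0 := congrFun k' ⟨n, by omega⟩
    have k1 := congrFun k' ⟨n - 1, by omega⟩
    have k2 := congrFun k' ⟨n - 2, by omega⟩
    simp only [f, if_true, if_neg (show n - 1 ≠ n by omega), if_neg (show n - 2 ≠ n by omega),
      if_neg (show n - 2 ≠ n - 1 by omega)] at k0 k1 k2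
    exact Prod.ext k0 (Prod.ext k1 k2)
  · rw [be_addr, e1, CharTwo.add_self_eq_zero]
  · rw [be_addr, e2, CharTwo.add_self_eq_zero]

theorem exists_qd (h : Nf x l) (h4 : 4 ≤ l) (hl : 2 * l ≤ n + 1) (a : Wp l y) (b : Wp l y')
    (e : be x y y' = 1) : ∃ w w', Qd x l y y' w w' := by
  obtain ⟨w, c, c0, c1, c2⟩ := exists_perp (x := x) h4 hl y y'
  obtain ⟨z, d, d1⟩ := exists_dual h c c0
  have k := be_comm h.sq
  refine ⟨w, z + be x y' z • y + be x y z • y', a, b, c, (d.add (a.smul _)).add (b.smul _), e, ?_, c1,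
    ?_, c2, ?_⟩ <;>
    simp [be_addr, be_smulr, be_self h, k w y, k w y', k y' y, c1, c2, d1, e, CharTwo.add_self_eq_zero]

/-- The elements `ρ` of order three. -/
theorem rho_mem (h : Nf x l) (h4 : 4 ≤ l) (hl : 2 * l ≤ n + 1) (a : Wp l y) (b : Wp l y')
    (e : be x y y' = 1) : UY x y * UY x y' ∈ Pc (Cz x) := by
  obtain ⟨w, w', q⟩ := exists_qd h h4 hl a b e
  exact caseB h hl q

theorem rho_ker (h : Nf x l) (e : be x y y' = 1) (hv : NN x v = 0) :
    ac (UY x y * UY x y') v = v + (hf v y' • NN x y' + (hf v y + hf v y') • NN x y) := by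
  have k : ∀ z, be x z v = 0 := fun z => by rw [be, adj h.sq, hv, hf_zero_right]
  have k' : be x y (NN x y') = 0 := NN_perp h.sq _ _
  have e' : hf (NN x y') y = 1 := (be_comm h.sq y' y).trans e
  simp only [ac_mul, u_ac h, k, k', e', zero_smul, add_zero, be_addr, be_smulr, hf_add_left,
    hf_smul_left, mul_zero, mul_one, add_assoc]

theorem rho_N (h : Nf x l) (e : be x y y' = 1) : ac (UY x y * UY x y') (NN x y) = NN x y' := by
  have e1 : hf (NN x y) y' = 1 := e
  have e2 : hf (NN x y) y = 0 := be_self h y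
  rw [rho_ker h e (NN_NN h.sq y), e1, e2, zero_add, one_smul, one_smul, add_comm (NN x y'),
    ← add_assoc, v_add_self, zero_add]

theorem tt_mem (h : Nf x l) (h4 : 4 ≤ l) (hl : 2 * l ≤ n + 1) (hw : Wk l v) : TT v ∈ Pc (Cz x) := by
  obtain ⟨y, a, rfl⟩ := lift h hw
  by_cases hy : y = 0
  · simp [hy, NN_zero]
  have tm : ∀ z, TT (NN x z) ∈ Cz x := fun z => EE_mem (NN_NN h.sq z) (NN_zero x) (by simp) 1
  have t1 : ∀ {z z'}, Wp l z → Wp l z' → be x z z' = 1 → TT (NN x z') * TT (NN x z) ∈ Pc (Cz x) :=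
    fun {z z'} a b e => by
      have := cm_Pc (tm z) (rho_mem h h4 hl a b e)
      rwa [t_cj, rho_N h e, t_inv] at this
  obtain ⟨y', b, e⟩ := exists_dual h a hy
  obtain ⟨w, w', q⟩ := exists_qd h h4 hl a b e
  have pr : ∀ {g g' : XU n F}, g * TT (NN x y) ∈ Pc (Cz x) → g' * TT (NN x y) ∈ Pc (Cz x) →
      g * g' ∈ Pc (Cz x) := fun {g g'} k k' => by
    have := mul_mem k (cj_Pc (tm y) k')
    rwa [← mul_assoc (TT _), mul_inv_cancel_right, mul_assoc, ← mul_assoc (TT _), t_sq, one_mul] at this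
  have tr : ∀ {g g' g'' : XU n F}, g * g' ∈ Pc (Cz x) → g' * g'' ∈ Pc (Cz x) → g' * g' = 1 →
      g * g'' ∈ Pc (Cz x) := fun {g g' g''} k k' s => by
    have := mul_mem k k'
    rwa [mul_assoc, ← mul_assoc g', s, one_mul] at this
  have c := be_comm h.sq
  have s0 : TT (NN x y) * TT (NN x y) ∈ Pc (Cz x) := t_sq (NN x y) ▸ one_mem _
  have s1 := t1 a b e
  have s2 := t1 a (a.add b) (by rw [be_addr, be_self h, e, zero_add])
  have s3 := t1 a (b.add q.c) (by rw [be_addr, e, q.ac, add_zero])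
  have s4 := t1 a (a.add (b.add q.c)) (by rw [be_addr, be_addr, be_self h, e, q.ac]; simp)
  have s5 := tr (t1 b (a.add q.c) (by rw [be_addr, c, e, q.bc, add_zero])) s1 (t_sq _)
  have s6 := tr (t1 (b.add q.d) q.c (by rw [be_addl, q.bc, c, q.cd, zero_add]))
    (t1 a (b.add q.d) (by rw [be_addr, e, q.ad, add_zero])) (t_sq _)
  have p : ∀ z z', Pp (NN x z) (NN x z') := fun z z' => FV.pp _ _ (NN_perp h.sq z z')
  have id := qq_add (p y y') (p y w) (p w y').p
  rw [← NN_add, qq_eq_TT (p _ _), qq_eq_TT (p _ _), qq_eq_TT (p _ _), ← NN_add, ← NN_add,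
    ← NN_add] at id
  have k1 := mul_mem (mul_mem (pr s2 s0) (pr s1 s5)) (pr s0 s6)
  have k2 := mul_mem (pr s4 s0) s3
  rw [← mul_assoc, id] at k2
  simp only [← mul_assoc] at k1 k2
  exact (mul_mem_cancel_left k1).1 k2

theorem qq_mem (h : Nf x l) (h4 : 4 ≤ l) (hl : 2 * l ≤ n + 1) (hv : Wk l v) (hw : Wk l w) :
    qq v w ∈ Pc (Cz x) := by
  obtain ⟨a, -, rfl⟩ := lift h hv
  obtain ⟨b, -, rfl⟩ := lift h hw
  rw [qq_eq_TT (FV.pp _ _ (NN_perp h.sq b a))]
  exact mul_mem (mul_mem (tt_mem h h4 hl (wk_add hw hv)) (tt_mem h h4 hl hw)) (tt_mem h h4 hl hv)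

theorem bp : BP n F := fun x l h h4 hl => FV.gen_Q l hl _ fun u v c hu hv => by
  have hv' := ker_of h hl hv
  have p : ∀ z, Pp v (NN x z) := fun z => FV.pp _ _ (by rw [← adj h.sq, hv', hf_zero_left])
  have k1 : Tc c u ∈ Pc (Cz x) := by
    have := tt_mem h h4 hl (wk_smul hu (rt c))
    rwa [TT, Tc_smul, mul_one, nm, star_trivial, ← pow_two, rt_sq] at this
  obtain ⟨z, a, rfl⟩ := lift h hu
  have e0 : EE (NN x z) v c = qq v (NN x z) * Tc c (NN x z) := by
    rw [EE_mul (p z).symm.ok (FV.ok _ 0 c (by simp))]; simp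
  refine e0 ▸ mul_mem ?_ k1
  by_cases hz : z = 0
  · simp [hz, NN_zero]
  obtain ⟨y', b, e⟩ := exists_dual h a hz
  have e' : be x (z + y') y' = 1 := by rw [be_addl, e, be_self h, add_zero]
  have k2 := cm_Pc (EE_mem (NN_NN h.sq (z + y')) hv' (p _).p 0) (rho_mem h h4 hl (a.add b) b e')
  obtain ⟨s, -, hs'⟩ := lift h (wk_add (wk_smul (NN_wk h y') (hf v y'))
    (wk_smul (NN_wk h (z + y')) (hf v (z + y') + hf v y')))
  have p' : ∀ z z', Pp (NN x z) (NN x z') := fun z z' => FV.pp _ _ (NN_perp h.sq z z')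
  rw [EE_conj (p _).symm.ok, rho_N h e', rho_ker h e' hv', hs', add_comm v, EE_inv (p _).symm.ok,
    star_zero, ← qq, qq_add (p' y' s) (p y').symm (p s).p, mul_assoc,
    mul_mem_cancel_left (qq_mem h h4 hl (NN_wk h s) (NN_wk h y')), ← qq, qq_comm v, qq_comm v,
    ← qq_add (p _) (p _) (p' _ _).p, ← NN_add, add_comm z, ← add_assoc, v_add_self, zero_add] at k2
  rwa [qq_comm]

theorem jobBP : JobBP := fun _ _ _ _ _ _ _ _ _ => bp

end H4.SPGBP
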