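import Cfsg.Agent.H18.FpfHom
import Cfsg.Agent.H1.Glauberman
import Cfsg.Agent.H2.MinNormal
import Cfsg.Agent.H2.PrimeCore

/-! Groups acting on an abelian group `A` such that all nontrivial elements have the same fixed
point subgroup `Z`. -/

set_option autoImplicit false
open Cfsg

namespace H4

variable {X A : Type*} [Group X] [CommGroup A]

theorem exists_fixed_of_isPGroup {X W : Type*} [Group X] [Group W] [Finite W] {t : ℕ} [Fact t.Prime]
    (hX : IsPGroup t X) (φ : X →* MulAut W) (hW : t ∣ Nat.card W) :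
    ∃ w : W, w ≠ 1 ∧ ∀ σ, φ σ w = w := by
  let := MulAction.compHom W φ
  obtain ⟨b, hb, hb1⟩ := hX.exists_fixed_point_of_prime_dvd_card_of_fixed_point W hW
    (a := 1) (fun σ => map_one (φ σ))
  exact ⟨b, hb1.symm, hb⟩

theorem exists_primePow_not_mem [Finite A] (Z : Subgroup A) {t : ℕ} (ht : t.Prime)
    (h : t ∣ Z.index) : ∃ a : A, (∃ k, a ^ t ^ k = 1) ∧ a ∉ Z := by
  have := Fact.mk ht
  obtain ⟨P⟩ : Nonempty (Sylow t A) := inferInstance
  by_contra hcon
  push Not at hcon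
  refine P.not_dvd_index (h.trans (Subgroup.index_dvd_of_le fun a ha => hcon a ?_))
  obtain ⟨k, hk⟩ := P.isPGroup' ⟨a, ha⟩
  exact ⟨k, congrArg Subtype.val hk⟩

/-- The `t`-elements of norm one form a nontrivial complement to the fixed points. -/
theorem exists_norm_subgroup [Finite X] [Finite A] (φ : X →* MulAut A) (Z : Subgroup A)
    (hZ : ∀ σ, ∀ z ∈ Z, φ σ z = z) (hfix : ∀ σ, σ ≠ 1 → ∀ a, φ σ a = a → a ∈ Z)
    (Y : Subgroup X) (hY : Y ≠ ⊥) {t : ℕ} (ht : t.Prime) (htY : ¬ t ∣ Nat.card Y)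
    (htZ : t ∣ Z.index) : ∃ B : Subgroup A, t ∣ Nat.card B ∧ (∀ b ∈ B, b ∈ Z → b = 1) ∧
      ∀ σ ∈ Subgroup.normalizer (Y : Set X), ∀ b ∈ B, φ σ b ∈ B := by
  have := Fact.mk ht
  have := Fintype.ofFinite Y
  let N : A →* A := ∏ y : Y, (φ y).toMonoidHom
  have hN : ∀ a, N a = ∏ y : Y, φ y a := fun a => MonoidHom.finset_prod_apply _ _ _
  have hNZ : ∀ z ∈ Z, N z = z ^ Nat.card Y := fun z hz => by
    rw [hN, Finset.prod_congr rfl fun y _ => hZ _ z hz, Finset.prod_const, Finset.card_univ,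
      Nat.card_eq_fintype_card]
  have hNσ : ∀ σ (hσ : σ ∈ Subgroup.normalizer (Y : Set X)) (a : A), N (φ σ a) = φ σ (N a) := by
    intro σ hσ a
    rw [hN, hN, map_prod]
    refine (Fintype.prod_equiv (Y.normalizerMonoidHom ⟨σ, hσ⟩).toEquiv _ _ fun y => ?_).symm
    change φ σ (φ y a) = φ (σ * y * σ⁻¹) (φ σ a)
    simp only [← MulAut.mul_apply, ← map_mul, inv_mul_cancel_right]
  have hNa : ∀ a, N a ∈ Z := fun a => by
    obtain ⟨y, hy⟩ := Subgroup.ne_bot_iff_exists_ne_one.mp hY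
    refine hfix y (fun h => hy (Subtype.ext h)) _ ?_
    rw [hN, map_prod]
    refine Fintype.prod_equiv (Equiv.mulLeft y) _ _ fun w => ?_
    simp only [← MulAut.mul_apply, ← map_mul, Equiv.coe_mulLeft, Subgroup.coe_mul]
  have hcop : ∀ (a : A) (k : ℕ), a ^ t ^ k = 1 → (orderOf a).Coprime (Nat.card Y) := fun a k hk =>
    Nat.Coprime.coprime_dvd_left (orderOf_dvd_of_pow_eq_one hk)
      (((Nat.Prime.coprime_iff_not_dvd ht).mpr htY).pow_left k)
  let B : Subgroup A := CommGroup.primaryComponent A t ⊓ N.ker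
  have hB : IsPGroup t B := fun b => by
    obtain ⟨k, hk⟩ := b.2.1
    exact ⟨k, Subtype.ext hk⟩
  have hmem : ∀ (a : A) (k : ℕ), a ^ t ^ k = 1 → a ∈ CommGroup.primaryComponent A t := 
    fun a k hk => ⟨k, hk⟩
  refine ⟨B, ?_, fun b hb hbZ => ?_, fun σ hσ b hb => ⟨?_, ?_⟩⟩
  · obtain ⟨a, ⟨k, hk⟩, haZ⟩ := exists_primePow_not_mem Z ht htZ
    have h1 : a ^ Nat.card Y * (N a)⁻¹ ∈ B := by
      refine ⟨hmem _ k ?_, ?_⟩
      · rw [mul_pow, ← pow_mul, mul_comm (Nat.card Y), pow_mul, hk, inv_pow, ← map_pow, hk]; simp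
      · change N _ = 1
        rw [map_mul, map_inv, hNZ _ (hNa a), map_pow, mul_inv_cancel]
    have : Nontrivial B := by
      refine (Subgroup.nontrivial_iff_ne_bot B).mpr fun h => haZ ?_
      rw [h, Subgroup.mem_bot, mul_inv_eq_one] at h1
      obtain ⟨n, hn⟩ := exists_pow_eq_self_of_coprime (hcop a k hk).symm
      rw [← hn, h1]
      exact Z.pow_mem (hNa a) n
    obtain ⟨k, hk0, hk⟩ := hB.nontrivial_iff_card.mp this
    rw [hk]; exact dvd_pow_self t hk0.ne'
  · obtain ⟨k, hk⟩ := hB ⟨b, hb⟩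
    have h1 : N b = 1 := hb.2
    rw [hNZ b hbZ] at h1
    exact orderOf_eq_one_iff.mp (Nat.eq_one_of_dvd_coprimes
      (hcop b k (congrArg Subtype.val hk)) dvd_rfl (orderOf_dvd_of_pow_eq_one h1))
  · obtain ⟨k, hk⟩ := hB ⟨b, hb⟩
    exact hmem _ k (by rw [← map_pow, show b ^ t ^ k = 1 from congrArg Subtype.val hk, map_one])
  · change N _ = 1
    rw [hNσ σ hσ, show N b = 1 from hb.2, map_one]

theorem not_dvd_card_of_normal [Finite X] [Finite A] (φ : X →* MulAut A) (Z : Subgroup A)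
    (hZ : ∀ σ, ∀ z ∈ Z, φ σ z = z) (hfix : ∀ σ, σ ≠ 1 → ∀ a, φ σ a = a → a ∈ Z)
    (Y : Subgroup X) [Y.Normal] (hY : Y ≠ ⊥) {t : ℕ} (ht : t.Prime) (htY : ¬ t ∣ Nat.card Y)
    (htZ : t ∣ Z.index) : ¬ t ∣ Nat.card X := by
  intro htX
  have := Fact.mk ht
  obtain ⟨B, h1, h2, h3⟩ := exists_norm_subgroup φ Z hZ hfix Y hY ht htY htZ
  obtain ⟨σ, hσ⟩ := exists_prime_orderOf_dvd_card' t htX
  obtain ⟨w, hw, hw'⟩ := exists_fixed_of_isPGroup (X := Subgroup.zpowers σ)
    (IsPGroup.of_card (n := 1) (by rw [Nat.card_zpowers, hσ, pow_one]))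
    ((H1.restrictAut φ B fun τ => h3 τ (by rw [Subgroup.normalizer_eq_top]; trivial)).comp
      (Subgroup.zpowers σ).subtype) h1
  refine hw (Subtype.ext (h2 w w.2 (hfix σ ?_ _ (congrArg Subtype.val
    (hw' ⟨σ, Subgroup.mem_zpowers σ⟩)))))
  rintro rfl
  exact ht.one_lt.ne (by rw [← hσ, orderOf_one])

/-- At most one prime divides both `|X|` and `|A : Z|`. -/
theorem eq_of_dvd_card_of_dvd_index [Finite X] [Finite A] (φ : X →* MulAut A) (Z : Subgroup A)
    (hZ : ∀ σ, ∀ z ∈ Z, φ σ z = z) (hfix : ∀ σ, σ ≠ 1 → ∀ a, φ σ a = a → a ∈ Z)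
    {r t : ℕ} (hr : r.Prime) (ht : t.Prime) (hrX : r ∣ Nat.card X) (htX : t ∣ Nat.card X)
    (hrZ : r ∣ Z.index) (htZ : t ∣ Z.index) : r = t := by
  by_contra hrt
  have key : ∀ (s : ℕ) (Y : Subgroup X), s.Prime → Y.Normal → IsPGroup s Y → Y = ⊥ := by
    intro s Y hs hn hY
    by_contra h
    have := Fact.mk hs
    obtain ⟨k, hk⟩ := hY.exists_card_eq
    have h1 : ∀ u : ℕ, u.Prime → u ∣ Nat.card X → u ∣ Z.index → u = s := fun u hu h1 h2 => by
      by_contra hus
      exact not_dvd_card_of_normal φ Z hZ hfix Y h hu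
        (fun hd => hus ((Nat.prime_dvd_prime_iff_eq hu hs).mp (hu.dvd_of_dvd_pow (hk ▸ hd)))) h2 h1
    exact hrt ((h1 r hr hrX hrZ).trans (h1 t ht htX htZ).symm)
  by_cases h2 : 2 ∣ Nat.card X
  · let K : Subgroup X :=
      { carrier := {σ | ∀ (a : A) (k : ℕ), a ^ t ^ k = 1 → a⁻¹ * φ σ a ∈ Z}
        one_mem' := fun a _ _ => by simpa using Z.one_mem
        mul_mem' := fun {σ τ} hσ hτ a k hk => by
          have h1 : a⁻¹ * φ (σ * τ) a = a⁻¹ * φ σ a * φ σ (a⁻¹ * φ τ a) := by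
            simp only [map_mul, map_inv, MulAut.mul_apply]; group
          rw [h1, hZ σ _ (hτ a k hk)]
          exact Z.mul_mem (hσ a k hk) (hτ a k hk)
        inv_mem' := fun {σ} hσ a k hk => by
          have h1 := Z.inv_mem (hσ (φ σ⁻¹ a) k (by rw [← map_pow, hk, map_one]))
          rwa [← MulAut.mul_apply, ← map_mul, mul_inv_cancel, map_one, MulAut.one_apply, mul_inv_rev,
            inv_inv] at h1 }
    have hKn : K.Normal := ⟨fun σ hσ τ a k hk => by
      have h1 := hσ (φ τ⁻¹ a) k (by rw [← map_pow, hk, map_one])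
      rw [← hZ τ _ h1] at h1
      simpa only [map_mul, map_inv, MulAut.mul_apply, MulAut.apply_inv_self] using h1⟩
    have hK : K = ⊥ := key t K ht hKn fun σ => by
      obtain ⟨a, ⟨k, hk⟩, haZ⟩ := exists_primePow_not_mem Z ht htZ
      have h1 : ∀ n : ℕ, φ ((σ : X) ^ n) a = a * (a⁻¹ * φ σ a) ^ n := by
        intro n
        induction n with
        | zero => simp
        | succ n ih =>
          rw [pow_succ', map_mul, MulAut.mul_apply, ih, map_mul, hZ _ _ (Z.pow_mem (σ.2 a k hk) n),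
            pow_succ', ← mul_assoc, mul_inv_cancel_left]
      refine ⟨k, Subtype.ext (by_contra fun h => haZ (hfix _ h a ?_))⟩
      rw [Subgroup.coe_pow, h1, mul_pow, inv_pow, ← map_pow, hk]
      simp
    have hinv : ∀ σ : X, orderOf σ = 2 → ∀ a : A, a * φ σ a ∈ Z := fun σ hσ a =>
      hfix σ (fun h => by simp [h] at hσ) _ (by
        rw [map_mul, ← MulAut.mul_apply, ← map_mul, ← sq, ← hσ, pow_orderOf_eq_one, map_one,
          MulAut.one_apply, mul_comm])
    obtain ⟨σ, hσ⟩ := exists_prime_orderOf_dvd_card' 2 h2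
    have h3 : σ ∈ Subgroup.center X := by
      rw [Subgroup.mem_center_iff]
      intro g
      have h4 : (g * σ * g⁻¹)⁻¹ * σ ∈ K := by
        intro a k hk
        have h5 := hinv (g * σ * g⁻¹)⁻¹ (by
          rw [orderOf_inv, ← hσ]; exact (MulAut.conj g).orderOf_eq σ) (φ σ a)
        have h6 := Z.mul_mem (Z.inv_mem (hinv σ hσ a)) h5
        rwa [mul_inv_rev, mul_comm (φ σ a)⁻¹, mul_assoc, inv_mul_cancel_left, ← MulAut.mul_apply,
          ← map_mul] at h6
      rw [hK, Subgroup.mem_bot, inv_mul_eq_one] at h4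
      exact mul_inv_eq_iff_eq_mul.mp h4
    have h4 := key 2 (Subgroup.zpowers σ) Nat.prime_two
      ⟨fun x hx g => by
        rwa [Subgroup.mem_center_iff.mp (Subgroup.zpowers_le.mpr h3 hx) g, mul_inv_cancel_right]⟩
      (IsPGroup.of_card (n := 1) (by rw [Nat.card_zpowers, hσ, pow_one]))
    rw [Subgroup.zpowers_eq_bot] at h4
    simp [h4] at hσ
  · have hZG : IsZGroup X := ⟨fun s hs S => by
      have := Fact.mk hs
      by_cases hS : (S : Subgroup X) = ⊥
      · rw [hS]; infer_instance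
      obtain ⟨k, hk⟩ := S.isPGroup'.exists_card_eq
      obtain ⟨u, hu, hus, huZ⟩ : ∃ u : ℕ, u.Prime ∧ u ≠ s ∧ u ∣ Z.index := by
        by_cases h : r = s
        · exact ⟨t, ht, fun h' => hrt (h.trans h'.symm), htZ⟩
        · exact ⟨r, hr, h, hrZ⟩
      obtain ⟨B, h3, h4, h5⟩ := exists_norm_subgroup φ Z hZ hfix S hS hu
        (fun hd => hus ((Nat.prime_dvd_prime_iff_eq hu hs).mp (hu.dvd_of_dvd_pow (hk ▸ hd)))) huZ
      have : Nontrivial B := Finite.one_lt_card_iff_nontrivial.mp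
        (hu.one_lt.trans_le (Nat.le_of_dvd Nat.card_pos h3))
      refine H18.isCyclic_of_fpf_hom (H1.restrictAut (φ.comp (S : Subgroup X).subtype) B
        fun σ => h5 σ (Subgroup.le_normalizer σ.2)) (fun σ hσ w hw => Subtype.ext (h4 w w.2
          (hfix σ (fun h => hσ (Subtype.ext h)) _ (congrArg Subtype.val hw)))) ?_ S.isPGroup'
      rintro rfl
      rcases k with _ | k
      · exact hS (Subgroup.card_eq_one.mp hk)
      · exact h2 ((dvd_pow_self 2 k.succ_ne_zero).trans (hk ▸ Subgroup.card_subgroup_dvd_card _))⟩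
    have : Nontrivial X := Finite.one_lt_card_iff_nontrivial.mp
      (hr.one_lt.trans_le (Nat.le_of_dvd Nat.card_pos hrX))
    obtain ⟨M, hn, h3, h4⟩ := H2.exists_minimal_normal X
    obtain ⟨s, hs, -, -, h5⟩ := H2.exists_elementaryAbelian_of_minimal_normal h3 h4
    exact h3 (key s M hs hn h5)

end H4
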