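import Cfsg.Agent.H4.ClassMisc
import Cfsg.Agent.H4.SemiFpf
import Cfsg.Agent.H2.Fitting

/-! Normal subgroups with two class sizes (Ito, Zhao-Guo). -/

set_option autoImplicit false
open Cfsg

namespace H4

variable {G : Type*} [Group G]

theorem cent_conj (g x : G) :
    Subgroup.centralizer ({g * x * g⁻¹} : Set G) = H98.cj g (Subgroup.centralizer ({x} : Set G)) := by
  ext c
  rw [H98.mem_cj, mem_cent_iff, mem_cent_iff]
  constructor
  · intro h
    calc g⁻¹ * c * g * x = g⁻¹ * (c * (g * x * g⁻¹)) * g := by group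
      _ = _ := by rw [h]; group
  · intro h
    calc c * (g * x * g⁻¹) = g * (g⁻¹ * c * g * x) * g⁻¹ := by group
      _ = _ := by rw [h]; group

theorem coprime_orderOf_of_pow {a b : G} {p q j k : ℕ} (hp : p.Prime) (hq : q.Prime) (hpq : p ≠ q)
    (ha : orderOf a = p ^ j) (hb : orderOf b = q ^ k) : (orderOf a).Coprime (orderOf b) := by
  rw [ha, hb]; exact Nat.Coprime.pow _ _ ((Nat.coprime_primes hp hq).mpr hpq)

theorem isPGroup_zpowers_of_orderOf {x : G} {p k : ℕ} (h : orderOf x = p ^ k) :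
    IsPGroup p (Subgroup.zpowers x) := IsPGroup.of_card (by rw [Nat.card_zpowers, h])

theorem cent_le_cent_of_two_sizes [Finite G] {N : Subgroup G} {m : ℕ}
    (h : ∀ x ∈ N, ind x = 1 ∨ ind x = m) {x y : G} (hx : x ∈ N) (hxZ : x ∉ Subgroup.center G)
    (hy : y ∈ N) (hxy : x * y = y * x) (hc : (orderOf x).Coprime (orderOf y)) :
    Subgroup.centralizer ({x} : Set G) ≤ Subgroup.centralizer ({y} : Set G) := by
  have h1 := H24.centralizer_mul_of_coprime hxy hc
  have h2 : ind x = m := (h x hx).resolve_left (mt ind_eq_one_iff.mp hxZ)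
  have h3 : ind (x * y) = m := (h _ (N.mul_mem hx hy)).resolve_left fun h' =>
    hxZ (ind_eq_one_iff.mp (Nat.dvd_one.mp (h' ▸ ind_dvd_ind_mul_left hxy hc)))
  rw [← eq_of_le_of_index_le (h1.le.trans inf_le_left) (h3.trans h2.symm).le, h1]
  exact inf_le_right

/-- If no class of `G` in the normal subgroup `N` has size divisible by `t`, the `t`-elements of `N`
are central in `N`. -/
theorem le_cent_of_not_dvd_ind [Finite G] (N : Subgroup G) [hn : N.Normal] {t : ℕ} (ht : t.Prime)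
    (h : ∀ x ∈ N, ¬ t ∣ ind x) {y : G} (hy : y ∈ N) {k : ℕ} (hk : orderOf y = t ^ k) :
    N ≤ Subgroup.centralizer ({y} : Set G) := by
  have := Fact.mk ht
  obtain ⟨T, hT⟩ := (isPGroup_zpowers_of_orderOf hk).exists_le_sylow
  have hS := (H98.isSyl_sylow T).inf_of_le_normalizer (le_top : N ≤ ⊤)
    Subgroup.le_normalizer_of_normal
  have h1 : N ≤ Subgroup.centralizer (((T : Subgroup G) ⊓ N : Subgroup G) : Set G) := by
    refine le_of_forall_conj_mem fun n hn' => ?_
    obtain ⟨g, hg⟩ := exists_conj_mem_centralizer_sylow T (h n hn')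
    obtain ⟨a, ha, c, hc, rfl⟩ := hS.frattini_mem (g := g) (by
      rw [Subgroup.normalizer_eq_top]; trivial)
    refine ⟨c, hc, fun s hs => ?_⟩
    have h2 := hg _ ((Subgroup.mem_normalizer_iff.mp ha s).mp hs).1
    calc s * (c * n * c⁻¹) = a⁻¹ * (a * s * a⁻¹ * (a * c * n * (a * c)⁻¹)) * a := by group
      _ = _ := by rw [h2]; group
  exact fun n hn' => mem_cent_iff.mpr (h1 hn' y ⟨hT (Subgroup.mem_zpowers y), hy⟩).symm

theorem comm_of_two_sizes_of_not_dvd [Finite G] (N : Subgroup G) [hn : N.Normal] {m : ℕ}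
    (h : ∀ x ∈ N, ind x = 1 ∨ ind x = m) {t : ℕ} (ht : t.Prime) (htm : ¬ t ∣ m) {x : G}
    (hx : x ∈ N) (hxZ : x ∉ Subgroup.center G) {k : ℕ} (hk : orderOf x = t ^ k) :
    IsMulCommutative N := by
  have h1 : ∀ x ∈ N, ¬ t ∣ ind x := fun x hx hd => (h x hx).elim
    (fun h' => ht.one_lt.ne' (Nat.dvd_one.mp (h' ▸ hd))) fun h' => htm (h' ▸ hd)
  have h2 := le_cent_of_not_dvd_ind N ht h1 hx hk
  refine ⟨⟨fun a b => Subtype.ext (mem_of_forall_primePow_mem
    (H := Subgroup.centralizer (N : Set G)) b (fun e q j hq _ hj => ?_) a a.2)⟩⟩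
  have h3 := N.pow_mem b.2 e
  rw [← le_cent_iff_mem_centralizer]
  by_cases hqt : t = q
  · exact le_cent_of_not_dvd_ind N hq (hqt ▸ h1) h3 hj
  · exact h2.trans (cent_le_cent_of_two_sizes h hx hxZ h3 (mem_cent_iff.mp (h2 h3)).symm
      (coprime_orderOf_of_pow ht hq hqt hk hj))

theorem isNilpotent_of_primePow_central [Finite G] (N : Subgroup G) {r : ℕ} (hr : r.Prime)
    (h : ∀ y ∈ N, ∀ s k : ℕ, s.Prime → s ≠ r → orderOf y = s ^ k → y ∈ Subgroup.center G) :
    Group.IsNilpotent N := by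
  have := Fact.mk hr
  let f := (QuotientGroup.mk' (Subgroup.center G)).comp N.subtype
  have h1 : IsPGroup r f.range := by
    rintro ⟨_, n, rfl⟩
    obtain ⟨e, c, hef, ⟨k, hk⟩, hc⟩ := H24.exists_p_decomp hr (n : G)
    have h2 : (n : G) ^ c ∈ Subgroup.center G := mem_of_forall_primePow_mem _
      fun e q j hq hd hj => h _ (N.pow_mem (N.pow_mem n.2 c) e) q j hq (fun h' => hc (h' ▸ hd)) hj
    refine ⟨k, Subtype.ext ?_⟩
    change QuotientGroup.mk' _ (n : G) ^ r ^ k = 1
    rw [← hef, map_mul, show QuotientGroup.mk' _ ((n : G) ^ c) = 1 from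
      (QuotientGroup.eq_one_iff _).mpr h2, mul_one, ← map_pow, ← hk, pow_orderOf_eq_one, map_one]
  have := h1.isNilpotent
  refine Subgroup.isNilpotent_of_ker_le_center f.rangeRestrict fun n hn => ?_
  rw [MonoidHom.ker_rangeRestrict] at hn
  exact Subgroup.mem_center_iff.mpr fun g => Subtype.ext
    (Subgroup.mem_center_iff.mp ((QuotientGroup.eq_one_iff _).mp hn) g)

/-- A normal subgroup containing a noncentral Sylow subgroup and having two class sizes is
nilpotent. -/
theorem isNilpotent_of_two_sizes [Finite G] {r : ℕ} [hr : Fact r.Prime] (R : Sylow r G)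
    (hR : ¬ (R : Subgroup G) ≤ Subgroup.center G) (N : Subgroup G) [hn : N.Normal]
    (hRN : (R : Subgroup G) ≤ N) {m : ℕ} (h : ∀ x ∈ N, ind x = 1 ∨ ind x = m) :
    Group.IsNilpotent N := by
  by_contra hnil
  have h1 : ∀ x ∈ N, x ∉ Subgroup.center G → ind x = m := fun x hx hxZ =>
    (h x hx).resolve_left (mt ind_eq_one_iff.mp hxZ)
  obtain ⟨y, hy, s, k, hs, hsr, hk, hyZ⟩ : ∃ y ∈ N, ∃ s k : ℕ, s.Prime ∧ s ≠ r ∧ orderOf y = s ^ k ∧
      y ∉ Subgroup.center G := by
    by_contra hcon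
    push Not at hcon
    exact hnil (isNilpotent_of_primePow_central N hr.out hcon)
  set C := Subgroup.centralizer ({y} : Set G) with hC
  obtain ⟨w, hwC, hw, j, hj, hwZ⟩ : ∃ w ∈ C, w ∈ N ∧ ∃ j, orderOf w = r ^ j ∧
      w ∉ Subgroup.center G := by
    obtain ⟨W, hW⟩ := H98.exists_isSyl r C
    obtain ⟨x, hx, hxZ⟩ := SetLike.not_le_iff_exists.mp hR
    obtain ⟨w, hw, hwZ⟩ : ∃ w ∈ W, w ∉ Subgroup.center G := by
      by_contra hcon
      push Not at hcon
      obtain ⟨W', hW'⟩ := H98.exists_isSyl r (Subgroup.centralizer ({x} : Set G))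
      have h2 : Nat.card W' = Nat.card W := by
        rw [hW.card_eq, hW'.card_eq]
        congr 3
        refine Nat.eq_of_mul_eq_mul_right (ind_pos y) ?_
        rw [Subgroup.card_mul_index, (h1 y hy hyZ).trans (h1 x (hRN hx) hxZ).symm,
          Subgroup.card_mul_index]
      have h3 := hW'.of_card_ge hW.isPGroup
        (fun w hw => Subgroup.center_le_centralizer _ (hcon w hw)) h2.le
      exact hxZ (hcon x (h3.le_of_le_normalizer' (R.isPGroup'.to_le (Subgroup.zpowers_le.mpr hx))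
        (Subgroup.zpowers_le.mpr (mem_cent_iff.mpr rfl)) (Subgroup.zpowers_le.mpr
          (Subgroup.centralizer_le_normalizer _ fun w hw =>
            (Subgroup.mem_center_iff.mp (hcon w hw) x).symm)) (Subgroup.mem_zpowers x)))
    obtain ⟨j, hj⟩ := IsPGroup.iff_orderOf.mp hW.isPGroup ⟨w, hw⟩
    rw [Subgroup.orderOf_mk] at hj
    refine ⟨w, hW.le hw, mem_of_coprime_index ?_, j, hj, hwZ⟩
    rw [hj]
    exact ((Nat.Prime.coprime_iff_not_dvd hr.out).mpr fun hd =>
      R.not_dvd_index (hd.trans (Subgroup.index_dvd_of_le hRN))).pow_left j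
  have hCw : C = Subgroup.centralizer ({w} : Set G) := eq_of_le_of_index_le
    (cent_le_cent_of_two_sizes h hy hyZ hw (mem_cent_iff.mp hwC).symm
      (coprime_orderOf_of_pow hs hr.out hsr hk hj)) ((h1 y hy hyZ).trans (h1 w hw hwZ).symm).le
  set A := N ⊓ C
  have hA : ∀ a ∈ A, C ≤ Subgroup.centralizer ({a} : Set G) := by
    intro a ha
    rw [le_cent_iff_mem_centralizer]
    refine mem_of_forall_primePow_mem a fun e q i hq _ hi => ?_
    have h2 := A.pow_mem ha e
    rw [← le_cent_iff_mem_centralizer]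
    by_cases hqs : s = q
    · rw [hCw]
      exact cent_le_cent_of_two_sizes h hw hwZ h2.1 (mem_cent_iff.mp (hCw ▸ h2.2 :)).symm
        (coprime_orderOf_of_pow hr.out hq (hqs ▸ hsr.symm) hj hi)
    · exact cent_le_cent_of_two_sizes h hy hyZ h2.1 (mem_cent_iff.mp h2.2).symm
        (coprime_orderOf_of_pow hs hq hqs hk hi)
  have hA' : ∀ a ∈ A, a ∉ Subgroup.center G → C = Subgroup.centralizer ({a} : Set G) :=
    fun a ha haZ => eq_of_le_of_index_le (hA a ha) ((h1 y hy hyZ).trans (h1 a ha.1 haZ).symm).le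
  have hyA : y ∈ A := ⟨hy, mem_cent_iff.mpr rfl⟩
  have hCA : Subgroup.centralizer (A : Set G) = C := le_antisymm
    (fun g hg => mem_cent_iff.mpr (hg y hyA).symm) fun c hc a ha => (mem_cent_iff.mp (hA a ha hc)).symm
  have hAc : IsMulCommutative A := ⟨⟨fun a b => Subtype.ext (mem_cent_iff.mp (hA b b.2 a.2.2))⟩⟩
  set M := Subgroup.normalizer (A : Set G)
  have hCM : C ≤ M := hCA ▸ Subgroup.centralizer_le_normalizer _
  have key : ∀ t i : ℕ, t.Prime → ∀ v ∈ A, v ∉ Subgroup.center G → orderOf v = t ^ i →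
      t ∣ Nat.card (H8.conjHom A M le_rfl).range ∧ t ∣ ((Subgroup.center G).subgroupOf A).index := by
    intro t i ht v hv hvZ hi
    have := Fact.mk ht
    refine ⟨?_, by_contra fun hd => hvZ (mem_of_coprime_index
      (N := (Subgroup.center G).subgroupOf A) (x := ⟨v, hv⟩) (by
        rw [Subgroup.orderOf_mk, hi]; exact ((Nat.Prime.coprime_iff_not_dvd ht).mpr hd).pow_left i))⟩
    rw [H8.card_range_conjHom, hCA]
    by_contra hd
    obtain ⟨T, hT⟩ := H98.exists_isSyl t C
    have hvT : v ∈ T := hT.le_of_le_normalizer' (isPGroup_zpowers_of_orderOf hi)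
      (Subgroup.zpowers_le.mpr hv.2) (Subgroup.zpowers_le.mpr (Subgroup.centralizer_le_normalizer _
        fun c hc => mem_cent_iff.mp (hA v hv (hT.le hc)))) (Subgroup.mem_zpowers v)
    have h2 : ⊤ ⊓ Subgroup.normalizer (T : Set G) ≤ M := by
      rintro g ⟨-, hg⟩
      have h3 : g * v * g⁻¹ ∈ A :=
        ⟨hn.conj_mem v hv.1 g, hT.le ((Subgroup.mem_normalizer_iff.mp hg v).mp hvT)⟩
      have h4 := hA' _ h3 (by rwa [← ind_eq_one_iff, ind_conj, ind_eq_one_iff])
      rw [cent_conj, ← hA' v hv hvZ] at h4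
      rw [← H98.cj_eq_self_iff, H98.cj_inf, ← h4, H98.cj_eq_self_of_normal]
    have h3 : H98.IsSyl t T M := H98.isSyl_of_not_dvd_relIndex (hT.le.trans hCM) hT.isPGroup (by
      rw [← Subgroup.relIndex_mul_relIndex T C M hT.le hCM]
      exact fun h' => (ht.dvd_mul.mp h').elim hT.not_dvd_relIndex hd)
    have h4 := (H98.isSyl_of_isSyl_normalizer
      (h3.of_le (le_inf le_top Subgroup.le_normalizer) h2)).not_dvd_relIndex
    rw [Subgroup.relIndex_top_right] at h4
    have := comm_of_two_sizes_of_not_dvd N h ht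
      (fun h' => h4 (h'.trans (h1 y hy hyZ ▸ Subgroup.index_dvd_of_le hT.le))) hv.1 hvZ hi
    exact hnil (H2.isNilpotent_of_isMulCommutative N)
  let _ : CommGroup A := { mul_comm := hAc.1.1 }
  obtain ⟨h2, h3⟩ := key s k hs y hyA hyZ hk
  obtain ⟨h4, h5⟩ := key r j hr.out w ⟨hw, hwC⟩ hwZ hj
  refine hsr (eq_of_dvd_card_of_dvd_index (H8.conjHom A M le_rfl).range.subtype
    ((Subgroup.center G).subgroupOf A) ?_ ?_ hs hr.out h2 h4 h3 h5)
  · rintro ⟨_, g, rfl⟩ z hz
    refine Subtype.ext ?_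
    change (g : G) * z * (g : G)⁻¹ = z
    rw [show (g : G) * z = z * g from Subgroup.mem_center_iff.mp hz g, mul_inv_cancel_right]
  · rintro ⟨_, g, rfl⟩ hg a ha
    by_contra haZ
    refine hg (Subtype.ext ?_)
    change H8.conjHom A M le_rfl g = 1
    rw [← MonoidHom.mem_ker, H8.ker_conjHom, hCA, hA' a a.2 haZ]
    exact mem_cent_iff.mpr (mul_inv_eq_iff_eq_mul.mp (congrArg Subtype.val ha))

end H4
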