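import Cfsg.Agent.H4.ClassMisc
import Cfsg.Agent.H9.ClassTwo

/-! Mann's lemma on small classes; `p`-groups with two class sizes. -/

set_option autoImplicit false
open Cfsg
open scoped Pointwise commutatorElement

namespace H4

variable {G : Type*} [Group G]

/-- For `t` in an abelian normal subgroup and `x` noncentral, `[t, x]` has a smaller class than
`x`. -/
theorem ind_commutator_lt [Finite G] (K : Subgroup G) [hn : K.Normal] (hK : IsMulCommutative K)
    {t x : G} (ht : t ∈ K) (hx : 1 < ind x) : ind ⁅t, x⁆ < ind x := by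
  by_cases h1 : ⁅t, x⁆ = 1
  · rwa [h1, ind_eq_one_iff.mpr (Subgroup.one_mem _)]
  have hmem : ∀ k ∈ K, ⁅k, x⁆ ∈ K := fun k hk => by
    rw [show ⁅k, x⁆ = k * (x * k⁻¹ * x⁻¹) by simp only [commutatorElement_def, mul_assoc]]
    exact K.mul_mem hk (hn.conj_mem _ (K.inv_mem hk) x)
  set H := K ⊔ Subgroup.centralizer ({x} : Set G) with hH
  have h2 : (Subgroup.centralizer ({⁅t, x⁆} : Set G)).relIndex H <
      (Subgroup.centralizer ({x} : Set G)).relIndex H := by
    rw [relIndex_cent_eq_ncard, relIndex_cent_eq_ncard]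
    have h3 : (fun d => d * ⁅t, x⁆ * d⁻¹) '' (H : Set G) ⊆
        (fun z => z * x⁻¹) '' (((fun d => d * x * d⁻¹) '' (H : Set G)) \ {x}) := by
      rintro _ ⟨d, hd, rfl⟩
      rw [hH, Subgroup.normal_mul] at hd
      obtain ⟨k, hk, c, hc, rfl⟩ := hd
      have h4 : k * c * ⁅t, x⁆ * (k * c)⁻¹ = ⁅c * t * c⁻¹, x⁆ := by
        have h5 := mem_cent_iff.mp hc
        have h6 : c * ⁅t, x⁆ * c⁻¹ = ⁅c * t * c⁻¹, x⁆ := by
          rw [conjugate_commutatorElement, h5, mul_inv_cancel_right]
        calc k * c * ⁅t, x⁆ * (k * c)⁻¹ = k * (c * ⁅t, x⁆ * c⁻¹) * k⁻¹ := by group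
          _ = _ := by rw [h6, mul_comm_of_mem hK hk (hmem _ (hn.conj_mem t ht c)), mul_inv_cancel_right]
      refine ⟨_, ⟨⟨c * t * c⁻¹, Subgroup.mem_sup_left (hn.conj_mem t ht c), rfl⟩, fun h => h1 ?_⟩,
        h4.symm⟩
      have h5 : ⁅c * t * c⁻¹, x⁆ = 1 := mul_inv_eq_one.mpr h
      rw [← h4] at h5
      exact conj_eq_one_iff.mp h5
    refine ((Set.ncard_le_ncard h3).trans (Set.ncard_image_le (Set.toFinite _))).trans_lt ?_
    exact Set.ncard_sdiff_singleton_lt_of_mem ⟨1, H.one_mem, by simp⟩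
  calc ind ⁅t, x⁆ ≤ (Subgroup.centralizer ({⁅t, x⁆} : Set G) ⊓ H).index :=
        Nat.le_of_dvd (Nat.pos_of_ne_zero Subgroup.index_ne_zero_of_finite) (ind_dvd_of_le inf_le_left)
    _ = (Subgroup.centralizer ({⁅t, x⁆} : Set G)).relIndex H * H.index := by
        rw [← Subgroup.inf_relIndex_right, Subgroup.relIndex_mul_index inf_le_right]
    _ < (Subgroup.centralizer ({x} : Set G)).relIndex H * H.index :=
        Nat.mul_lt_mul_of_pos_right h2 (Nat.pos_of_ne_zero Subgroup.index_ne_zero_of_finite)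
    _ = ind x := Subgroup.relIndex_mul_index le_sup_right

/-- Mann: the elements of the two smallest class sizes centralize `A / A ∩ Z(G)`. -/
theorem commutator_closure_le_center [Finite G] (A : Subgroup G) [A.Normal]
    (hA : IsMulCommutative A) {m : ℕ} (hm : 1 < m) (hmin : ∀ x : G, 1 < ind x → m ≤ ind x) :
    ⁅A, Subgroup.closure {x : G | ind x = 1 ∨ ind x = m}⁆ ≤ Subgroup.center G := by
  have h1 : Subgroup.closure {x : G | ind x = 1 ∨ ind x = m} ≤ (Subgroup.centralizer
      (A.map (QuotientGroup.mk' (Subgroup.center G)) : Set (G ⧸ Subgroup.center G))).comap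
        (QuotientGroup.mk' (Subgroup.center G)) := by
    rw [Subgroup.closure_le]
    rintro x hx _ ⟨a, ha, rfl⟩
    rw [← commutatorElement_eq_one_iff_mul_comm, ← map_commutatorElement]
    refine (QuotientGroup.eq_one_iff _).mpr ?_
    rcases hx with hx | hx
    · rw [commutatorElement_eq_one_iff_mul_comm.mpr
        (Subgroup.mem_center_iff.mp (ind_eq_one_iff.mp hx) a)]
      exact Subgroup.one_mem _
    · have h2 := ind_commutator_lt A hA ha (hx ▸ hm)
      have h3 := ind_pos ⁅a, x⁆
      have h4 := hmin ⁅a, x⁆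
      exact ind_eq_one_iff.mp (by omega)
  rw [Subgroup.commutator_le]
  intro a ha x hx
  rw [← QuotientGroup.eq_one_iff]
  change QuotientGroup.mk' _ _ = 1
  rw [map_commutatorElement, commutatorElement_eq_one_iff_mul_comm]
  exact h1 hx _ ⟨a, ha, rfl⟩

theorem commutator_commutator_le_center {A M : Subgroup G}
    (hA : Subgroup.centralizer (A : Set G) ≤ A) (h : ⁅A, M⁆ ≤ Subgroup.center G) :
    ⁅⁅M, M⁆, M⁆ ≤ Subgroup.center G := by
  have h1 : ⁅⁅A, M⁆, M⁆ = ⊥ := Subgroup.commutator_eq_bot_iff_le_centralizer.mpr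
    (h.trans (Subgroup.center_le_centralizer _))
  have h2 : ⁅⁅M, M⁆, A⁆ = ⊥ :=
    Subgroup.commutator_commutator_eq_bot_of_rotate (by rwa [Subgroup.commutator_comm M A]) h1
  exact (Subgroup.commutator_mono
    ((Subgroup.commutator_eq_bot_iff_le_centralizer.mp h2).trans hA) le_rfl).trans h

theorem upperCentralSeries_three_eq_top (h : ∀ x y z : G, ⁅⁅x, y⁆, z⁆ ∈ Subgroup.center G) :
    Subgroup.upperCentralSeries G 3 = ⊤ := by
  rw [eq_top_iff]
  intro x _
  rw [Subgroup.mem_upperCentralSeries_succ_iff]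
  intro y
  rw [Subgroup.mem_upperCentralSeries_succ_iff]
  intro z
  rw [Subgroup.upperCentralSeries_one]
  exact h x y z

/-- Ishikawa: a nilpotent group with two class sizes has class at most three. -/
theorem class_three_of_two_sizes [Finite G] [Group.IsNilpotent G] {m : ℕ} (hm : 1 < m)
    (h : ∀ x : G, ind x = 1 ∨ ind x = m) (x y z : G) : ⁅⁅x, y⁆, z⁆ ∈ Subgroup.center G := by
  obtain ⟨A, hAn, hA, -, -, h1⟩ := H9.exists_scn_ge (A := (⊥ : Subgroup G)) (N := ⊤)
    inferInstance le_top
  have h2 := commutator_closure_le_center A hA hm fun x hx => by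
    rcases h x with h | h <;> omega
  have h3 : ∀ x : G, x ∈ Subgroup.closure {x : G | ind x = 1 ∨ ind x = m} :=
    fun x => Subgroup.subset_closure (h x)
  exact commutator_commutator_le_center (by rwa [top_inf_eq] at h1) h2
    (Subgroup.commutator_mem_commutator (Subgroup.commutator_mem_commutator (h3 x) (h3 y)) (h3 z))

/-- Isaacs: in a `p`-group with two class sizes, `P / Z(P)` has exponent `p`. -/
theorem pow_mem_center_of_two_sizes [Finite G] {p : ℕ} [hp : Fact p.Prime] (hG : IsPGroup p G)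
    {m : ℕ} (hm : 1 < m) (h : ∀ x : G, ind x = 1 ∨ ind x = m) (x : G) :
    x ^ p ∈ Subgroup.center G := by
  have := hG.isNilpotent
  by_contra hx
  set π := QuotientGroup.mk' (Subgroup.center G)
  have hπ : ∀ g : G, π g = 1 ↔ g ∈ Subgroup.center G := fun g => QuotientGroup.eq_one_iff g
  have hs : Function.Surjective π := QuotientGroup.mk'_surjective _
  have hQ := hG.to_quotient (Subgroup.center G)
  have : Nontrivial (G ⧸ Subgroup.center G) := ⟨⟨π (x ^ p), 1, fun h => hx ((hπ _).mp h)⟩⟩
  have := hQ.center_nontrivial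
  obtain ⟨⟨zb, hz1⟩, hz2⟩ := exists_prime_orderOf_dvd_card' (G := Subgroup.center (G ⧸ Subgroup.center G))
    p (by
      obtain ⟨k, hk0, hk⟩ := (hQ.to_subgroup (Subgroup.center _)).nontrivial_iff_card.mp this
      rw [hk]; exact dvd_pow_self p hk0.ne')
  rw [Subgroup.orderOf_mk] at hz2
  obtain ⟨z, rfl⟩ := hs zb
  have hz3 : z ∉ Subgroup.center G := fun h => by
    rw [(hπ z).mpr h, orderOf_one] at hz2
    exact hp.out.one_lt.ne hz2
  have hz4 : ∀ g : G, ⁅g, z⁆ ∈ Subgroup.center G := fun g => by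
    rw [← hπ, map_commutatorElement, commutatorElement_eq_one_iff_mul_comm]
    exact Subgroup.mem_center_iff.mp hz1 _
  have hz5 : z ^ p ∈ Subgroup.center G := by rw [← hπ, map_pow, ← hz2, pow_orderOf_eq_one]
  set C := Subgroup.centralizer ({z} : Set G)
  have key : ∀ g ∉ C, π g ^ p = 1 := by
    intro g hg
    rw [← map_pow, hπ]
    by_contra h1
    have h2 : g ^ p ∈ C := by
      rw [mem_cent_iff, ← commutatorElement_eq_one_iff_mul_comm,
        H9.commutatorElement_pow_left (H9.commute_of_mem_center (hz4 g) g),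
        ← H9.commutatorElement_pow_right (H9.commute_of_mem_center (hz4 g) z),
        commutatorElement_eq_one_iff_mul_comm]
      exact Subgroup.mem_center_iff.mp hz5 g
    have h3 : ∀ w : G, w ∉ Subgroup.center G → ind w = m := fun w hw =>
      (h w).resolve_left fun h' => hw (ind_eq_one_iff.mp h')
    have h4 := eq_of_le_of_index_le (cent_le_cent_pow g p)
      ((h3 g fun h' => h1 (Subgroup.pow_mem _ h' p)).trans (h3 _ h1).symm).le
    exact hg (mem_cent_iff.mpr (mem_cent_iff.mp
      (h4.ge (mem_cent_iff.mpr (mem_cent_iff.mp h2).symm))).symm)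
  have hxC : x ∈ C := by_contra fun h' => hx ((hπ _).mp (map_pow π x p ▸ key x h'))
  obtain ⟨g, hg⟩ : ∃ g, g ∉ C := by
    by_contra hcon
    push Not at hcon
    exact hz3 (Subgroup.mem_center_iff.mpr fun g => mem_cent_iff.mp (hcon g))
  rcases hp.out.eq_two_or_odd' with rfl | hodd
  · by_cases h2 : C.index = 2
    · refine hx (Subgroup.mem_center_iff.mpr fun w => (mem_cent_iff.mp ?_).symm)
      rcases h w with h3 | h3
      · rw [Subgroup.index_eq_one.mp h3]; trivial
      · have h4 : m = 2 := ((h z).resolve_left fun h' => hz3 (ind_eq_one_iff.mp h')).symm.trans h2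
        exact Subgroup.sq_mem_of_index_two (h3.trans h4) x
    · obtain ⟨k, hk1, hk2⟩ : ∃ k, k ∉ C ∧ g * k ∉ C := by
        by_contra hcon
        push Not at hcon
        refine h2 (Subgroup.index_eq_two_iff'.mpr ⟨g, fun b => ?_⟩)
        by_cases hb : b ∈ C
        · exact Or.inr ⟨hb, fun h' => hg ((C.mul_mem_cancel_right hb).mp h')⟩
        · exact Or.inl ⟨hcon b hb, hb⟩
      have hinv : ∀ w ∉ C, ∀ c ∈ C, π w * π c * (π w)⁻¹ = (π c)⁻¹ := by
        intro w hw c hc
        have h3 := key w hw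
        have h4 := key (w * c) fun h' => hw ((C.mul_mem_cancel_right hc).mp h')
        rw [map_mul] at h4
        rw [sq] at h3 h4
        rw [eq_inv_of_mul_eq_one_left h3, inv_inv, ← eq_inv_of_mul_eq_one_left h3]
        exact eq_inv_of_mul_eq_one_left (by rw [← h4]; group)
      have h3 := hinv _ hk2 x hxC
      rw [map_mul, show π g * π k * π x * (π g * π k)⁻¹ = π g * (π k * π x * (π k)⁻¹) * (π g)⁻¹ by
        group, hinv k hk1 x hxC, ← map_inv, hinv g hg _ (C.inv_mem hxC), map_inv, inv_inv] at h3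
      refine hx ((hπ _).mp ?_)
      rw [map_pow, sq]
      nth_rewrite 1 [h3]
      rw [inv_mul_cancel]
  · have hc : ∀ a b c : G, Commute (π c) ⁅π a, π b⁆ := fun a b c => by
      refine (commutatorElement_eq_one_iff_commute.mp ?_).symm
      rw [← map_commutatorElement, ← map_commutatorElement, hπ]
      exact class_three_of_two_sizes hm h a b c
    have h1 := key (x * g) fun h' => hg ((C.mul_mem_cancel_left hxC).mp h')
    have h2 := key g hg
    rw [map_mul, H9.mul_pow_of_odd_of_commute_pow (hc _ _ _) (hc _ _ _) hodd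
      (by rw [h2]; exact Commute.one_left _), h2, mul_one, ← map_pow] at h1
    exact hx ((hπ _).mp h1)

end H4
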