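import Cfsg.Agent.H62.TDW
import Cfsg.Agent.H67.SAW0
import Cfsg.Agent.H67.SAAB

/-! STD-3D4, slot WU: the wreath case, unique fixed point (generic `X`). -/

set_option autoImplicit false
set_option linter.unusedSectionVars false

namespace H4.TDWU

open H64.SG (O2 Syl Cz Cs Ns cjs Is2 Inv2 UF IsO2 fx mem_Cs mem_Cz mem_fx is2_of_sq isPGroup_iff_is2)
open H67.SA (St cI cm mem_cI card_cjs conj_mem_cjs IG IG_le le_IG cm_mem_IG cjs_IG_le cm_eq_of_odd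
  cm_mul_t cm_eq_one eq_bot_of_odd le_O2_of_perfect)
open H81.SU (El Ind cje cje_inj cje_apply range_cje map_cje eq_one_of_Cs Cs_range_le ind_one_iff
  conj_inj exists_ind indH ind_indH mem_ker_indH ind_conj_iff ind_one map_mem_Ns mem_zpowers_two)
open H62.TW H98 Subgroup

universe u

variable {X : Type} [Group X] [Finite X] {d : Sg X} {G : Type u} [Group G] [Finite G]
  {e e' e₁ e₂ : X →* G} {g t y : G} {β : MulAut X}

/-! ### The centraliser of `t` -/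

/-- The elements `g` with `lam (ind g) ∈ B`. -/
def oi {A : Type} [Group A] (lam : MulAut X →* A) (e : X →* G) (B : Subgroup A) : Subgroup G where
  carrier := {g | ∃ β, Ind e g β ∧ lam β ∈ B}
  one_mem' := ⟨1, ind_one, by simp⟩
  mul_mem' := fun ⟨_, a, b⟩ ⟨_, c, d⟩ => ⟨_, a.mul c, by rw [map_mul]; exact mul_mem b d⟩
  inv_mem' := fun ⟨_, a, b⟩ => ⟨_, a.inv, by rw [map_inv]; exact inv_mem b⟩

theorem out_of_O2 {A : Type} [CommGroup A] (lam : MulAut X →* A) (hi : Function.Injective e)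
    (h : Ind e g β) (hg : g ∈ O2 (Ns e.range)) : Odd (orderOf (lam β)) := by
  let B : Subgroup A :=
    { carrier := {a | Odd (orderOf a)}
      one_mem' := by simp
      mul_mem' := fun a b => H64.SG.odd_orderOf_mul a b (mul_comm _ _)
      inv_mem' := fun a => by simpa using a }
  obtain ⟨α, h1, h2⟩ : g ∈ oi lam e B := (closure_le _).2 (fun a ha => by
    obtain ⟨α, h1⟩ := exists_ind hi ha.1
    exact ⟨α, h1, (h1.odd hi ha.2).of_dvd_nat (orderOf_map_dvd _ _)⟩) hg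
  exact h.unique hi h1 ▸ h2

theorem map_O2 (e : X →* G) {A : Subgroup X} {B : Subgroup G} (h : A.map e ≤ B) {s : X}
    (hs : s ∈ O2 A) : e s ∈ O2 B := by
  refine H64.SG.O2_mono h ?_
  rw [H64.SG.O2_eq, ← H98.map_res, ← H64.SG.O2_eq]
  exact mem_map_of_mem _ hs

theorem cyclic (h : B0 e t) [(e.range.subgroupOf (Cz t)).Normal] {S : Subgroup (Cz t)}
    (hS : IsPGroup 2 S) (h1 : ∀ s ∈ S, ∃ l, Ind e s.1 (MulAut.conj l)) :
    IsCyclic (S.map (QuotientGroup.mk' (e.range.subgroupOf (Cz t)))) := by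
  let φ := QuotientGroup.mk' (e.range.subgroupOf (Cz t))
  obtain ⟨T, hT⟩ := H98.exists_isSyl 2 ((Cs e.range).subgroupOf (Cz t))
  have h2 : IsCyclic T := (equivMapOfInjective _ _ (Cz t).subtype_injective).isCyclic.2
    (h.cyc _ (map_le_iff_le_comap.2 hT.le) (hT.isPGroup.map _))
  refine H64.SG.isCyclic_of_syl (hT.map φ)
    (isCyclic_of_surjective _ (φ.subgroupMap_surjective T)) (hS.map φ) ?_
  rintro _ ⟨s, hs, rfl⟩
  obtain ⟨l, h3⟩ := h1 s hs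
  refine ⟨s * ⟨e l, h.mem_Cz l⟩⁻¹, ind_conj_iff.1 h3, ?_⟩
  rw [map_mul, map_inv, show φ ⟨e l, h.mem_Cz l⟩ = 1 from (QuotientGroup.eq_one_iff _).2 ⟨l, rfl⟩,
    inv_one, mul_one]

theorem odd0 (a : WA d) (h : B0 e t) [(e.range.subgroupOf (Cz t)).Normal] :
    Odd (Nat.card (((O2 (Cz t)).subgroupOf (Cz t)).map
      (QuotientGroup.mk' (e.range.subgroupOf (Cz t))))) := by
  obtain ⟨A, _, lam, hl⟩ := a.out
  obtain ⟨S, hS⟩ := H98.exists_isSyl 2 ((O2 (Cz t)).subgroupOf (Cz t))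
  have h3 := H64.SG.odd_O2 (hS.map _) (cyclic h hS.isPGroup fun s hs => by
    obtain ⟨β, h1⟩ := exists_ind h.inj (h.cz s.2)
    obtain ⟨l, rfl⟩ := (hl β).1 (((h1.is2 h.inj ((isPGroup_iff_is2.1 hS.isPGroup s hs).map
      (Cz t).subtype)).map lam).eq_one (out_of_O2 lam h.inj h1 (H64.SG.O2_mono h.cz (hS.le hs))))
    exact ⟨l, h1⟩)
  rwa [H64.SG.O2_eq, H64.SG.O2_eq, H98.res_subgroupOf, ← H98.res_top, H98.map_res, H98.res_res,
    ← H98.map_res, H98.res_top, ← H98.res_subgroupOf, ← H64.SG.O2_eq] at h3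

theorem ol0 (a : WA d) (h : B0 e t) (hy : y ∈ O2 (Cz t)) (y2 : Is2 y) : y ∈ e.range := by
  have : (e.range.subgroupOf (Cz t)).Normal := normal_subgroupOf_of_le_normalizer h.cz
  have y1 := H64.SG.O2_le _ hy
  exact (QuotientGroup.eq_one_iff (⟨y, y1⟩ : Cz t)).1 (Is2.eq_one
    (Is2.map (g := (⟨y, y1⟩ : Cz t)) (y2.imp fun _ e => Subtype.ext e) (QuotientGroup.mk' _))
    (H64.SG.odd_orderOf_of_mem (odd0 a h) (mem_map_of_mem _ hy)))

theorem pf0 (a : WA d) (h : B0 e t) {N : Subgroup G} (n1 : N ≤ Cz t) (n2 : N ≤ ⁅N, N⁆) :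
    N ≤ e.range := fun b hb => by
  have : (e.range.subgroupOf (Cz t)).Normal := normal_subgroupOf_of_le_normalizer h.cz
  have h2 := eq_bot_of_odd (N := (N.subgroupOf (Cz t)).map
    (QuotientGroup.mk' (e.range.subgroupOf (Cz t)))) (by
      rw [← map_commutator]
      refine map_mono ?_
      rw [← map_le_map_iff_of_injective (subtype_injective _), map_commutator,
        subgroupOf_map_subtype, inf_eq_left.2 n1]
      exact n2) ((odd0 a h).of_dvd_nat (card_dvd_of_le (map_mono (comap_mono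
        ((le_O2_of_perfect n2).trans (H64.SG.O2_mono n1))))))
  exact (QuotientGroup.eq_one_iff (⟨b, n1 hb⟩ : Cz t)).1
    (mem_bot.1 (h2.le (mem_map_of_mem (QuotientGroup.mk' _) hb)))

/-- The `2`-subgroups of `C(t)` are small. -/
theorem small (w : WU d) (a : WA d) (h : CE e t) {P : Subgroup G} (p1 : P ≤ Cz t)
    (p2 : IsPGroup 2 P) : Nat.card P < d.q ^ 14 := by
  let ψ := (indH h.inj).comp (inclusion (p1.trans h.cz))
  have h1 := a.ab _ (p2.of_surjective _ ψ.rangeRestrict_surjective)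
  have h2 : Nat.card ψ.ker ≤ 2 := by
    rw [← card_map_of_injective P.subtype_injective]
    refine h.two _ ?_ ((p2.to_subgroup _).map _)
    rintro _ ⟨b, hb, rfl⟩
    exact (mem_ker_indH h.inj).1 hb
  rw [← ψ.ker.card_mul_index, index_ker, pow_succ' _ 13]
  exact Nat.mul_lt_mul_of_le_of_lt (h2.trans w.two_le) h1 (by have := w.two_le; omega)

theorem odd_of (h : CE e t) {C : Subgroup G} (h1 : C ≤ Cs e.range) (h2 : t ∈ Ns C) (h3 : t ∉ C) :
    Odd (Nat.card C) := H64.SG.odd_card_of_forall fun g hg => by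
  obtain ⟨S, s1, s2⟩ := exists_isSyl_le (H9.UF.pg_zp h.inv.1) (le_sup_right : _ ≤ C ⊔ zpowers t)
  have h4 := s1.inf_of_le_normalizer le_sup_left
    (s1.le.trans (sup_le le_normalizer (zpowers_le.2 h2)))
  have h6 : zpowers t = S := eq_of_le_of_card_ge s2 (h.card_zp ▸ h.two S
    (s1.le.trans (sup_le h1 (zpowers_le.2 h.cen))) s1.isPGroup)
  have h7 : S ⊓ C = ⊥ := eq_bot_iff.2 fun a ha => by
    rcases (mem_zpowers_two h.inv.1).1 (h6 ▸ ha.1) with rfl | rfl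
    exacts [one_mem _, absurd ha.2 h3]
  exact H64.SG.odd_orderOf_of_mem (Nat.not_even_iff_odd.1 fun h8 => h4.eq_bot_iff.1 h7
    (even_iff_two_dvd.1 h8)) hg

/-! ### The two factors -/

theorem exists_z (w : WU d) : ∃ z ∈ d.Z, Inv2 z := by
  have : Nontrivial d.Z := Finite.one_lt_card_iff_nontrivial.1 (w.cardZ ▸ w.two_le)
  obtain ⟨z, hz⟩ := exists_ne (1 : d.Z)
  exact ⟨z, z.2, w.el _ (w.ZE z.2), fun h => hz (Subtype.ext h)⟩

theorem eq_top_of_cm (i : WI d) {N : Subgroup X} (hN : N.Normal) {y : X} (hy : y ≠ 1)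
    (h : ∀ a, cm y a ∈ N) : N = ⊤ := by
  have := i.simple
  refine (hN.eq_bot_or_eq_top).resolve_left fun h1 => hy (mem_bot.1 (i.cen ▸ mem_center_iff.2 fun a => ?_))
  exact (cm_eq_one.1 (mem_bot.1 (h1 ▸ h a))).symm

theorem perfect (i : WI d) (f : X →* G) : f.range ≤ ⁅f.range, f.range⁆ := by
  have := i.simple
  obtain ⟨z, hz⟩ := exists_ne (1 : X)
  have h := eq_top_of_cm i (N := ⁅⊤, ⊤⁆) inferInstance hz
    fun a => commutator_mem_commutator (mem_top _) (mem_top a)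
  rw [MonoidHom.range_eq_map, ← map_commutator, h]

theorem normal_comap {R : Subgroup G} {f : X →* G} (h : ∀ b, ∃ n ∈ Ns R, Ind f n (MulAut.conj b)) :
    (R.comap f).Normal := ⟨fun a ha b => by
  obtain ⟨n, h1, h2⟩ := h b
  change f (MulAut.conj b a) ∈ R
  rw [← h2]
  exact conj_mem_of_mem_normalizer h1 ha⟩

theorem conj_t (c : CW e t e₁ e₂) {v : X} (hv : v * v = 1) : e₁ v * t * (e₁ v)⁻¹ = e v * t := by
  rw [c.diag, ← c.sw, ← map_inv, inv_eq_of_mul_eq_one_right hv]; group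

theorem cm₁ (c : CW e t e₁ e₂) (a b : X) : cm (e₁ a) (e b) = e₁ (cm a b) := by
  rw [cm, c.diag, ← mul_assoc, mul_assoc _ (e₂ b), ← map_inv, ← c.comm]
  simp [mul_assoc]

theorem ind₁ (c : CW e t e₁ e₂) (a : X) : Ind e₁ (e a) (MulAut.conj a) := c.diag a ▸ c.ind₁ a a

theorem sup_le_of (c : CW e t e₁ e₂) {R : Subgroup G} (h1 : e.range ≤ R) (h2 : R.comap e₁ = ⊤) :
    G12 e₁ e₂ ≤ R := by
  have h3 : ∀ a, e₁ a ∈ R := fun a => (h2 ▸ mem_top a : a ∈ R.comap e₁)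
  refine sup_le ?_ ?_ <;> rintro _ ⟨a, rfl⟩
  exacts [h3 a, (mul_mem_cancel_left (h3 a)).1 (c.diag a ▸ h1 ⟨a, rfl⟩)]

theorem IG_eq (w : WU d) (i : WI d) (c : CW e t e₁ e₂) (h : B1 e t) :
    IG t e.range = G12 e₁ e₂ := by
  refine le_antisymm (IG_le h.cz c.le fun k hk => ?_) (sup_le_of c le_IG ?_)
  · obtain ⟨v, hv⟩ := hk
    have h3 : e v * t = k * t * k⁻¹ := by rw [hv]; exact inv_mul_cancel_right _ _
    have h4 : e v * t * (e v * t) = 1 := by rw [h3, conj_mul, h.inv.1]; simp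
    rw [mul_assoc, ← mul_assoc t, h.comm, mul_assoc, h.inv.1, mul_one, ← map_mul, ← map_one e] at h4
    exact ⟨e₁ v, mem_sup_left ⟨v, rfl⟩, by rw [conj_t c (h.inj h4), h3]⟩
  · obtain ⟨z, -, hz⟩ := exists_z w
    refine eq_top_of_cm i (normal_comap fun b => ⟨e b, le_normalizer (le_IG ⟨b, rfl⟩), ind₁ c b⟩)
      hz.2 fun a => ?_
    rw [mem_comap, ← cm₁ c]
    exact cm_mem_IG (by rw [cm, conj_t c hz.1]; simp) ⟨a, rfl⟩

theorem ne (i : WI d) (c : CW e t e₁ e₂) : ¬ e₂.range ≤ e₁.range := fun h => by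
  have := i.simple
  obtain ⟨z, hz⟩ := exists_ne (1 : X)
  exact hz (c.inj₂ ((c.eq_one i.cen (h ⟨_, rfl⟩) ⟨_, rfl⟩).trans (map_one _).symm))

/-- A normal copy of `X` in `G₁` is one of the two factors. -/
theorem eq_or (i : WI d) (c : CW e t e₁ e₂) {f : X →* G} (f1 : Function.Injective f)
    (f2 : f.range ≤ G12 e₁ e₂) (f3 : G12 e₁ e₂ ≤ Ns f.range) :
    f.range = e₁.range ∨ f.range = e₂.range := by
  have := i.simple
  have k : ∀ f' : X →* G, Function.Injective f' → f'.range ≤ G12 e₁ e₂ →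
      G12 e₁ e₂ ≤ Ns f'.range → f.range ≠ f'.range → f.range ≤ Cs f'.range := by
    rintro f' a1 a2 a3 a5 v hv _ ⟨s, rfl⟩
    rcases (normal_comap (R := f.range) (f := f') fun b =>
      ⟨f' b, f3 (a2 ⟨b, rfl⟩), H81.SU.ind_conj b⟩).eq_bot_or_eq_top with h1 | h1
    · obtain ⟨r, hr⟩ : cm v (f' s) ∈ f'.range :=
        mul_mem (conj_mem_of_mem_normalizer (a3 (f2 hv)) ⟨s, rfl⟩) (inv_mem ⟨s, rfl⟩)
      have h2 : f' r ∈ f.range := by
        simpa only [hr, cm, mul_assoc] using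
          mul_mem hv (conj_mem_of_mem_normalizer (f3 (a2 ⟨s, rfl⟩)) (inv_mem hv))
      rw [mem_bot.1 (h1.le h2), map_one] at hr
      exact (cm_eq_one.1 hr.symm).symm
    · refine absurd (eq_of_le_of_card_ge ?_ ?_).symm a5
      · rintro _ ⟨a, rfl⟩; exact (h1 ▸ mem_top a : a ∈ f.range.comap f')
      · rw [← Nat.card_congr (MonoidHom.ofInjective f1).toEquiv,
          ← Nat.card_congr (MonoidHom.ofInjective a1).toEquiv]
  by_contra h1
  push Not at h1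
  obtain ⟨z, hz⟩ := exists_ne (1 : X)
  exact hz (f1 ((eq_one_of_Cs f1 i.cen ⟨_, rfl⟩ (centralizer_le f2 (mem_Cs_G12.2
    ⟨k e₁ c.inj le_sup_left c.G12_le_Ns h1.1 ⟨_, rfl⟩,
      k e₂ c.inj₂ le_sup_right c.G12_le_Ns' h1.2 ⟨_, rfl⟩⟩))).trans (map_one _).symm))

theorem pm (i : WI d) (c : CW e t e₁ e₂) {m : G} (hm : m ∈ Ns (G12 e₁ e₂)) :
    m ∈ Ns e₁.range ∧ m ∈ Ns e₂.range ∨
      cjs m e₁.range = e₂.range ∧ cjs m e₂.range = e₁.range := by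
  have key : ∀ f : X →* G, Function.Injective f → f.range ≤ G12 e₁ e₂ → G12 e₁ e₂ ≤ Ns f.range →
      cjs m f.range = e₁.range ∨ cjs m f.range = e₂.range := fun f f1 f2 f3 => by
    rw [← range_cje]
    refine eq_or i c (cje_inj f1 m) ?_ ?_ <;> rw [range_cje]
    · exact (cj_mono m f2).trans (cj_eq_self hm).le
    · rw [← H64.SG.cj_Ns]; exact (cj_eq_self hm).ge.trans (cj_mono m f3)
  have h3 : cjs m e₁.range ≠ cjs m e₂.range := fun h3 =>
    ne i c (map_injective (MulAut.conj m).injective h3).ge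
  rcases key e₁ c.inj le_sup_left c.G12_le_Ns with h1 | h1 <;>
    rcases key e₂ c.inj₂ le_sup_right c.G12_le_Ns' with h2 | h2
  · exact absurd (h1.trans h2.symm) h3
  · exact Or.inl ⟨cj_eq_self_iff.1 h1, cj_eq_self_iff.1 h2⟩
  · exact Or.inr ⟨h1, h2⟩
  · exact absurd (h1.trans h2.symm) h3

/-- Change of the swapping involution. -/
theorem chg (i : WI d) (a : WA d) (c : CW e t e₁ e₂) (h : CE e t)
    (h1 : cjs (g * t * g⁻¹) e₁.range = e₂.range) : ∃ e' : X →* G, e'.range = cjs g e.range ∧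
      CE e' (g * t * g⁻¹) ∧ CW e' (g * t * g⁻¹) e₁ (cje (g * t * g⁻¹) e₁) := by
  have h2 := h.cje g
  generalize g * t * g⁻¹ = s at *
  have h3 : ∀ a b, e₁ a * cje s e₁ b = cje s e₁ b * e₁ a := fun a b =>
    c.le_Cs (h1 ▸ range_cje (g := s) (e := e₁) ▸ ⟨b, rfl⟩) _ ⟨a, rfl⟩
  let e' := (e₁.noncommCoprod (cje s e₁) h3).comp ((MonoidHom.id _).prod (MonoidHom.id _))
  have c' : CW e' s e₁ (cje s e₁) := ⟨c.inj, h3, fun _ => rfl, fun _ => rfl⟩
  have h4 : Function.Injective e' := fun _ _ h4 => (c'.inj2 i.cen h4).1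
  have h5 : e'.range = (cje g e).range := eq_of_le_of_card_ge (pf0 a h2.b0 (by
    rintro _ ⟨a, rfl⟩
    rw [mem_Cz, ← mul_inv_eq_iff_eq_mul, c'.diag, ← conj_mul, c'.sw, (c'.symm h2.inv.1).sw, h3])
    (perfect i e')) (by rw [← Nat.card_congr (MonoidHom.ofInjective h4).toEquiv,
      ← Nat.card_congr (MonoidHom.ofInjective h2.inj).toEquiv])
  exact ⟨e', h5.trans range_cje, ⟨⟨h4, h2.inv, h5 ▸ h2.cen, h5 ▸ h2.cz⟩, h5 ▸ h2.two⟩, c'⟩

theorem ufs (w : WU d) (i : WI d) (a : WA d) (c : CW e t e₁ e₂) (h : CE e t)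
    (hg : cjs (g * t * g⁻¹) e₁.range = e₂.range) : g ∈ Ns (G12 e₁ e₂) := by
  obtain ⟨e', h1, h2, h3⟩ := chg i a c h hg
  have h4 := cjs_IG_le (t := t) (L := e.range) g
  rw [← h1, IG_eq w i h3 h2.toB1, IG_eq w i c h.toB1, G12, G12, range_cje, hg] at h4
  exact mem_normalizer_of_cj_le h4

theorem t_mem (c : CW e t e₁ e₂) (ht : t * t = 1) : t ∈ Ns (G12 e₁ e₂) :=
  pr_top (e₁ := e₁) (e₂ := e₂) ▸ c.t_mem_Ns ht ⊤

theorem odd (i : WI d) (c : CW e t e₁ e₂) (h : CE e t) : Odd (Nat.card (Cs (G12 e₁ e₂))) :=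
  odd_of h (centralizer_le c.le) (normalizer_le_normalizer_centralizer _ (t_mem c h.inv.1))
    fun h1 => ne i c (c.cjs_range.ge.trans
      (cj_eq_self (H64.SG.Cs_le_Ns _ (mem_Cs_G12.1 h1).1)).le)

/-! ### The conjugates of `t` in `𝓜` swap -/

theorem le_of_simple {N D : Subgroup X} (hN : IsSimpleGroup N) (h : N ≤ Ns D) {P : Subgroup X}
    (h1 : P ≤ N) (h2 : P ≤ D) (h3 : P ≠ ⊥) : N ≤ D := by
  refine subgroupOf_eq_top.1 ((normal_subgroupOf_of_le_normalizer h).eq_bot_or_eq_top.resolve_left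
    fun h4 => h3 (eq_bot_iff.2 fun a ha => ?_))
  exact congrArg Subtype.val (mem_bot.1 (h4.le (show (⟨a, h1 ha⟩ : N) ∈ D.subgroupOf N from h2 ha)))

theorem perf {N P : Subgroup X} (hN : IsSimpleGroup N) (h1 : P ≤ N) (h3 : ⁅P, P⁆ ≠ ⊥) :
    N ≤ ⁅N, N⁆ :=
  le_of_simple hN (normalizer_commutator_ge_left N N)
    ((commutator_le_self P).trans h1) (commutator_mono h1 h1) h3

theorem exists_O2 (i : WI d) (a : WA d) (h : β * β = 1) : ∃ z ∈ O2 (fx β), Inv2 z := by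
  by_cases h1 : ∃ g, β = MulAut.conj g
  · obtain ⟨g, rfl⟩ := h1
    rw [H64.SG.fx_conj]
    exact i.oi g (conj_inj i.cen (by rw [map_mul, h, map_one]))
  obtain ⟨h2, P, p1, p2, p3⟩ := a.fs β h (not_exists.1 h1)
  obtain ⟨z, z2⟩ := exists_prime_orderOf_dvd_card' (G := P) 2 (p2.card_eq_or_dvd.resolve_left
    fun h4 => p3 (by rw [card_eq_one.1 h4, commutator_bot_left]))
  rw [← orderOf_coe, orderOf_eq_prime_iff, pow_two] at z2
  exact ⟨z, le_O2_of_perfect (perf h2 p1 p3) (p1 z.2), z2⟩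

theorem outer (i : WI d) (a : WA d) (c : CW e t e₁ e₂) {s : G} (h : CE e' s) {β₁ β₂ : MulAut X}
    (i1 : Ind e₁ s β₁) (i2 : Ind e₂ s β₂) (b1 : ∀ g, β₁ ≠ MulAut.conj g) : False := by
  obtain ⟨n1, P, p1, p2, p3⟩ := a.fs β₁ (i1.sq c.inj h.inv.1) b1
  have n2 := perf n1 p1 p3
  have n3 := pf0 a h.b0 i1.map_fx_le (by rw [← map_commutator]; exact map_mono n2)
  obtain ⟨z, z1, z2⟩ := exists_O2 i a (i2.sq c.inj₂ h.inv.1)
  obtain ⟨y, hy⟩ := ol0 a h.b0 (map_O2 e₂ i2.map_fx_le z1) ((is2_of_sq z2.1).map e₂)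
  obtain ⟨D, -, d2, d3, d4⟩ := i.cs y ((H81.SU.inv2_e h.inj).1 (hy ▸ (H81.SU.inv2_e c.inj₂).2 z2))
  have k : ∀ b v, e' b = e₁ v → b ∈ Cz y := fun b v hb =>
    mem_Cz.2 (h.inj (by rw [map_mul, map_mul, hy, hb, c.comm]))
  have n4 : fx β₁ ≤ (D.map e').comap e₁ := by
    refine le_of_simple n1 (fun v hv => ?_) ((commutator_le_self P).trans p1) ?_ p3
    · obtain ⟨b, hb⟩ := n3 ⟨v, hv, rfl⟩
      exact le_normalizer_comap e₁ (show e₁ v ∈ Ns (D.map e') from hb ▸ map_mem_Ns (d2 (k b v hb)))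
    · rw [← map_le_iff_le_comap, map_commutator,
        ← map_comap_eq_self ((map_mono p1).trans n3), ← map_commutator]
      refine map_mono (d4 _ ?_ ((p2.map e₁).comap_of_injective e' h.inj))
      rintro b ⟨v, -, hv⟩
      exact k b v hv.symm
  have n5 := (((d3.map e').comap_of_injective e₁ c.inj).to_le n4).isNilpotent
  exact (Group.IsSolvable.commutator_lt_top_of_nontrivial (fx β₁)).ne
    (H64.commutator_eq_top_of_le n2)

theorem sw (w : WU d) (i : WI d) (a : WA d) (c : CW e t e₁ e₂) (h : CE e t) {s : G}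
    (hs : s ∈ Ns (G12 e₁ e₂)) (h1 : IsConj t s) : cjs s e₁.range = e₂.range := by
  refine ((pm i c hs).resolve_left fun ⟨h2, h3⟩ => ?_).1
  obtain ⟨g, rfl⟩ := isConj_iff.1 h1
  have h4 := h.cje g
  obtain ⟨β₁, i1⟩ := exists_ind c.inj h2
  obtain ⟨β₂, i2⟩ := exists_ind c.inj₂ h3
  by_cases b1 : ∃ x, β₁ = MulAut.conj x
  swap
  · exact outer i a c h4 i1 i2 (not_exists.1 b1)
  by_cases b2 : ∃ x, β₂ = MulAut.conj x
  swap
  · exact outer i a (c.symm h.inv.1) h4 i2 i1 (not_exists.1 b2)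
  obtain ⟨x₁, rfl⟩ := b1
  obtain ⟨x₂, rfl⟩ := b2
  obtain ⟨A, a1, a2, a3⟩ := i.sz x₁ (conj_inj i.cen (by rw [map_mul, i1.sq c.inj h4.inv.1, map_one]))
  obtain ⟨B, b1, b2, b3⟩ := i.sz x₂ (conj_inj i.cen (by rw [map_mul, i2.sq c.inj₂ h4.inv.1, map_one]))
  rw [← H64.SG.fx_conj] at a1 b1
  refine (small w a h4 (P := pr e₁ e₂ A B) (sup_le ((map_mono a1).trans i1.map_fx_le)
    ((map_mono b1).trans i2.map_fx_le)) (c.isP_pr a2 b2)).not_ge ?_
  rw [c.card_pr i.cen, show 14 = 7 + 7 from rfl, pow_add]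
  exact Nat.mul_le_mul a3 b3

/-! ### The centraliser of `E` -/

theorem cM (w : WU d) (i : WI d) (a : WA d) (c : CW e t e₁ e₂) (h : CE e t)
    (m : G) (m1 : m ∈ Ns (G12 e₁ e₂)) (m2 : m ∈ Cs (d.E.map e)) :
    (Is2 (cm m t) → cm m t ∈ d.E.map e) ∧ (Odd (orderOf m) → m ∈ Cs (G12 e₁ e₂)) := by
  have hZ := w.el
  have key : ∀ m ∈ Ns e₁.range, m ∈ Ns e₂.range → m ∈ Cs (d.E.map e) →
      (Is2 (cm m t) → cm m t ∈ d.E.map e) ∧ m * m ∈ Cs (G12 e₁ e₂) := fun m a1 a2 a3 => by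
    obtain ⟨β₁, i1⟩ := exists_ind c.inj a1
    obtain ⟨β₂, i2⟩ := exists_ind c.inj₂ a2
    have k : ∀ v ∈ d.E, β₁ v = v ∧ β₂ v = v := fun v hv => by
      refine c.inj2 i.cen ?_
      rw [← i1, ← i2, conj_mul, ← c.diag, ← a3 _ ⟨v, hv, rfl⟩, mul_inv_cancel_right]
    obtain ⟨ζ₁, z1, rfl⟩ := mem_cI.1 (a.ctE β₁ fun v hv => (k v hv).1)
    obtain ⟨ζ₂, z2, rfl⟩ := mem_cI.1 (a.ctE β₂ fun v hv => (k v hv).2)
    have k1 : m * (e₁ ζ₁ * e₂ ζ₂)⁻¹ ∈ Cs (G12 e₁ e₂) :=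
      mem_Cs_G12.2 ⟨ind_one_iff.1 (by simpa using i1.mul (c.ind₁ ζ₁ ζ₂).inv),
        ind_one_iff.1 (by simpa using i2.mul (c.ind₂ ζ₁ ζ₂).inv)⟩
    have k0 : e₁ ζ₁ * e₂ ζ₂ ∈ G12 e₁ e₂ := c.mem_G12.2 ⟨_, _, rfl⟩
    have k2 : e₁ ζ₁ * e₂ ζ₂ * (e₁ ζ₁ * e₂ ζ₂) = 1 := by rw [c.mul_mul, hZ _ z1, hZ _ z2]; simp
    have k3 : cm (e₁ ζ₁ * e₂ ζ₂) t = e (ζ₁ * ζ₂) := by
      rw [cm, inv_eq_of_mul_eq_one_right k2, mul_assoc, mul_assoc, ← mul_assoc t, ← conj_mul, c.sw,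
        (c.symm h.inv.1).sw, ← c.comm, c.mul_mul, c.diag, hZ.comm z1 z2]
    obtain ⟨k, rfl⟩ : ∃ k, m = k * (e₁ ζ₁ * e₂ ζ₂) := ⟨m * _⁻¹, (inv_mul_cancel_right _ _).symm⟩
    rw [mul_inv_cancel_right] at k1
    refine ⟨fun k4 => ?_, ?_⟩
    · rw [cm_eq_of_odd (odd i c h) (normalizer_le_normalizer_centralizer _ (t_mem c h.inv.1)) k1
        (k3 ▸ fun a ha => (ha _ (c.le ⟨_, rfl⟩)).symm)
        (k3 ▸ (is2_of_sq (hZ _ (mul_mem z1 z2))).map e) k4, k3]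
      exact ⟨_, mul_mem z1 z2, rfl⟩
    · rw [mul_assoc, ← mul_assoc (e₁ ζ₁ * e₂ ζ₂), k1 _ k0, mul_assoc k, k2, mul_one]
      exact mul_mem k1 k1
  rcases pm i c m1 with ⟨a1, a2⟩ | ⟨a1, a2⟩
  · exact ⟨(key m a1 a2 m2).1, H64.SG.mem_of_sq_mem (key m a1 a2 m2).2⟩
  · refine ⟨cm_mul_t (t := t) m ▸ (key (m * t) (cj_eq_self_iff.1 ?_) (cj_eq_self_iff.1 ?_)
      (mul_mem m2 (Cs_range_le _ h.cen))).1, fun ho => absurd ?_ (ne i c)⟩
    · rw [← cj_cj]; exact (congrArg _ c.cjs_range).trans a2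
    · rw [← cj_cj]; exact (congrArg _ (c.symm h.inv.1).cjs_range).trans a1
    · have : m ∈ Ns e₁.range := H64.SG.mem_of_sq_mem (cj_eq_self_iff.1 (by
        rw [← cj_cj]; exact (congrArg _ a1).trans a2)) ho
      exact a1.ge.trans (cj_eq_self this).le

theorem gen (w : WU d) (i : WI d) (c : CW e t e₁ e₂) {p : G} (o1 : p ∈ Cs e.range)
    (o2 : ∀ ζ ∈ Ns (G12 e₁ e₂), ζ ∈ Cs (d.U.map e) → ζ * p * ζ⁻¹ ∈ Cs e.range) :
    p ∈ Ns (G12 e₁ e₂) := by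
  obtain ⟨z, z3, z4⟩ := exists_z w
  have z1 := o2 (e₁ z) (le_normalizer (mem_sup_left ⟨_, rfl⟩)) (by
    rintro _ ⟨v, hv, rfl⟩
    rw [c.diag, mul_assoc, ← c.comm, ← mul_assoc, ← map_mul, (w.zu.ge z3).2 v hv, map_mul, mul_assoc])
  have z0 : e.range ≤ Cz p := fun a ha => mem_Cz.2 (o1 a ha).symm
  have z2 := eq_top_of_cm i (normal_comap (R := Cz p) (f := e₁) fun b =>
    ⟨e b, le_normalizer (z0 ⟨b, rfl⟩), ind₁ c b⟩) (inv_ne_one.2 z4.2) fun a => by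
      have k1 : (e₁ z)⁻¹ * e a * e₁ z ∈ Cz p := mem_Cz.2 (by
        have := z1 _ ⟨a, rfl⟩
        calc _ = (e₁ z)⁻¹ * (e₁ z * p * (e₁ z)⁻¹ * e a) * e₁ z := by group
          _ = _ := by rw [← this]; group)
      change e₁ _ ∈ Cz p
      rw [← cm₁ c, map_inv, cm, inv_inv]
      exact mul_mem k1 (inv_mem (z0 ⟨a, rfl⟩))
  exact H64.SG.Cs_le_Ns _ fun a ha => (mem_Cz.1 (sup_le_of c z0 z2 ha)).symm

theorem jobWU : JobWU.{u} := fun X _ _ d f G _ _ e t h e₁ e₂ c => by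
  have w := f.u
  have uf : UF (Ns (G12 e₁ e₂)) t := ⟨h.inv, t_mem c h.inv.1, fun g hg => ufs w f.i f.a c h
    (sw w f.i f.a c h hg (isConj_iff.2 ⟨g, rfl⟩))⟩
  have tx : ∀ g, g * g = 1 → IsConj t (t * e g) := fun g hg =>
    isConj_iff.2 ⟨e₁ g, by rw [conj_t c hg, h.comm]⟩
  refine ⟨uf, odd f.i c h, tx, ?_, fun _ => pm f.i c, fun _ => sw w f.i f.a c h⟩
  let A : Option Bool → Subgroup X := fun j => j.elim d.U fun i => cond i d.E d.Q
  let S : Option Bool → Set G := fun j => e '' {v | v ∈ Ns (A j) ∧ v * v = 1}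
  have hA : ∀ j, A j ≤ d.U := by rintro (_ | _ | _); exacts [le_rfl, w.QU, w.EQ.trans w.QU]
  have hE : ∀ j, d.E ≤ A j := by rintro (_ | _ | _); exacts [w.EQ.trans w.QU, w.EQ, le_rfl]
  have hN : ∀ j, d.U ≤ Ns (A j) := by rintro (_ | _ | _); exacts [le_normalizer, w.nQ, w.nE]
  refine H64.SG.jobK9 uf (Cs (G12 e₁ e₂)) e.range none (fun j => (A j).map e) S (odd f.i c h)
    (H64.SG.Cs_le_Ns _) (c.le.trans le_normalizer) h.range_le
    (fun l hl g hg => (hg l (c.le hl)).symm) (fun j => map_mono (hA j)) (map_le_range _ _)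
    (w.isP.map e) ?_ (fun j => ?_) ?_ (fun j m h1 h2 => ?_) (fun _ => gen w f.i c) (some true)
  · rintro j _ ⟨v, hv, rfl⟩
    exact ⟨⟨_, rfl⟩, by rw [← map_mul, hv.2, map_one], map_mem_Ns hv.1, tx _ hv.2⟩
  · rw [← MonoidHom.map_closure]
    exact map_mono (w.invU.trans (closure_mono fun v hv => ⟨hN j hv.1, hv.2⟩))
  · rw [MonoidHom.range_eq_map, ← f.i.gen, MonoidHom.map_closure]
    refine closure_mono ?_
    rintro _ ⟨v, hv | hv, rfl⟩
    exacts [Set.mem_iUnion.2 ⟨some true, v, ⟨hv.2, hv.1⟩, rfl⟩,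
      Set.mem_iUnion.2 ⟨some false, v, ⟨hv.2.1, hv.1⟩, rfl⟩]
  · have := cM w f.i f.a c h m h1 (centralizer_le (map_mono (hE j)) h2)
    exact ⟨fun h3 => map_mono (hE j) (this.1 h3), this.2⟩

end H4.TDWU
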