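import Cfsg.Agent.H4.TDWU
import Cfsg.Agent.H66.TGW3

/-! STD-3D4, slot W1a: class sizes in a `2`-group over `U₁ U₂` (generic `X`; after `H66.TGW3`). -/

set_option autoImplicit false
set_option linter.unusedSectionVars false

namespace H4.TDW1a

open H64.SG (Syl Cz Cs Ns cjs Is2 Inv2 fx mem_Cs mem_Cz mem_fx isPGroup_iff_is2)
open H67.SA (St cI mem_cI conj_mem_cjs)
open H81.SU (Ind exists_ind ind_one_iff e_mem_Cs Cs_range_le map_mem_Cs)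
open H66.SGW (cl ncard_cl cl_mul cl_mono ncard_cl_cj ncard_cl_le)
open H62.TW H98 Subgroup

universe u

variable {X : Type} [Group X] [Finite X] {d : Sg X} {G : Type u} [Group G] [Finite G]
  {e e₁ e₂ : X →* G} {t s : G} {S : Subgroup G} {β : MulAut X}

/-- The hypotheses. -/
structure Ov (d : Sg X) (e : X →* G) (t : G) (e₁ e₂ : X →* G) (S : Subgroup G) : Prop where
  w : WU d
  i : WI d
  a : WA d
  c : CW e t e₁ e₂
  g : GW d e t e₁ e₂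
  pg : IsPGroup 2 S
  le : S ≤ Ns (G12 e₁ e₂)
  ge : pr e₁ e₂ d.U d.U ≤ S

variable (o : Ov d e t e₁ e₂ S)
include o

theorem Ov.symm : Ov d e t e₂ e₁ S :=
  ⟨o.w, o.i, o.a, o.c.symm o.g.uf.inv.1, o.g.symm, o.pg, by rw [G12_comm]; exact o.le,
    by rw [pr_comm]; exact o.ge⟩

theorem Ov.is2 (hs : s ∈ S) : Is2 s := isPGroup_iff_is2.1 o.pg s hs
theorem Ov.U_le : d.U.map e₁ ≤ S := le_sup_left.trans o.ge
theorem Ov.ZU : d.Z ≤ d.U := o.w.zu.ge.trans inf_le_left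

theorem Ov.n2 (hs : s ∈ S) (h : s ∈ Ns e₁.range) : s ∈ Ns e₂.range :=
  ((o.g.pm s (o.le hs)).resolve_right fun k =>
    TDWU.ne o.i o.c (k.1.ge.trans (cj_eq_self h).le)).2

theorem Ov.swap (hs : s ∈ S) (h : s ∉ Ns e₁.range) {a : G} (ha : a ∈ e₁.range) :
    s * a * s⁻¹ ∈ e₂.range :=
  ((o.g.pm s (o.le hs)).resolve_left fun k => h k.1).1 ▸ conj_mem_cjs.2 ha

theorem Ov.idx_symm : (Ns e₂.range).relIndex S = (Ns e₁.range).relIndex S := by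
  rw [← inf_relIndex_right, ← inf_relIndex_right (Ns e₁.range)]
  congr 1
  exact le_antisymm (fun s hs => ⟨o.symm.n2 hs.2 hs.1, hs.2⟩) fun s hs => ⟨o.n2 hs.2 hs.1, hs.2⟩

theorem Ov.idx : (S ≤ Ns e₁.range ∧ (Ns e₁.range).relIndex S = 1) ∨
    (¬ S ≤ Ns e₁.range ∧ (Ns e₁.range).relIndex S = 2) := by
  by_cases h : S ≤ Ns e₁.range
  · exact .inl ⟨h, relIndex_eq_one.2 h⟩
  refine .inr ⟨h, ?_⟩
  obtain ⟨p, hp, h1⟩ := SetLike.not_le_iff_exists.1 h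
  refine relIndex_eq_two_iff_exists_notMem_and.2 ⟨p, hp, h1, fun b hb => or_iff_not_imp_right.2
    fun h2 => cj_eq_self_iff.1 ?_⟩
  rw [← cj_cj]
  exact (congrArg _ ((o.g.pm p (o.le hp)).resolve_left fun k => h1 k.1).1).trans
    ((o.g.pm b (o.le hb)).resolve_left fun k => h2 k.1).2

theorem Ov.Ns_U (hs : s ∈ S) (h : s ∈ Ns e₁.range) : s ∈ Ns (d.U.map e₁) := by
  have h1 := ((H64.SG.syl_iff.1 o.i.syl).map e₁).eq_of_le (o.pg.to_inf_left (K := e₁.range))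
    (le_inf o.U_le (map_le_range _ _)) (by rw [← MonoidHom.range_eq_map]; exact inf_le_right)
  rw [← h1]
  exact le_normalizer_inf (zpowers_le.2 (le_normalizer hs)) (zpowers_le.2 h) (mem_zpowers s)

/-- The elements of `Z₁` have small classes. -/
theorem Ov.small {z : X} (hz : z ∈ d.Z) :
    (cl S (e₁ z)).ncard < d.q * (Ns e₁.range).relIndex S := by
  have h3 := ncard_cl_le (inf_le_left : S ⊓ Ns e₁.range ≤ S) (e₁ z)
  rw [inf_relIndex_left] at h3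
  refine h3.trans_lt (Nat.mul_lt_mul_of_pos_right ?_ (Nat.pos_of_ne_zero index_ne_zero_of_finite))
  rw [← o.w.cardZ, ← card_map_of_injective o.c.inj, ← SetLike.coe_sort_coe, Nat.card_coe_set_eq]
  refine Set.ncard_lt_ncard ⟨?_, fun h => ?_⟩
  · rintro _ ⟨a, ha, rfl⟩
    obtain ⟨β, hβ⟩ := exists_ind o.c.inj ha.2
    have h1 := hβ.st o.c.inj (o.Ns_U ha.1 ha.2)
    refine ⟨β z, o.w.zu.le ⟨(h1 z).1 (o.ZU hz), fun v hv => ?_⟩, (hβ z).symm⟩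
    obtain ⟨v, rfl⟩ := β.surjective v
    rw [← map_mul, ← map_mul, (o.w.zu.ge hz).2 v ((h1 v).2 hv)]
  · obtain ⟨y, y1, y2⟩ := TDWU.exists_z o.w
    obtain ⟨a, -, ha⟩ := h (one_mem _)
    obtain ⟨b, -, hb⟩ := h (mem_map_of_mem e₁ y1)
    rw [conj_eq_one_iff.1 ha, mul_one, mul_inv_cancel, eq_comm, map_eq_one_iff _ o.c.inj] at hb
    exact y2.2 hb

/-- Elements that are not induced by `Z` on the first factor have big classes. -/
theorem Ov.big1 (hs : s ∈ S) (hβ : Ind e₁ s β) (h' : β ∉ cI d.Z) :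
    d.q * (Ns e₁.range).relIndex S ≤ (cl S s).ncard := by
  have h := hβ.mem_Ns
  have c := o.c
  have h3 := cl_mul (d.U.map e₁) s
  have h1 : d.q ≤ (cl (d.U.map e₁) s).ncard := by
    have h2 := o.a.ub β (hβ.st c.inj (o.Ns_U hs h)) (hβ.is2 c.inj (o.is2 hs)) h'
    have h4 : (d.U ⊓ fx β).map e₁ = d.U.map e₁ ⊓ Cz s :=
      le_antisymm (le_inf (map_mono inf_le_left) ((map_mono inf_le_right).trans hβ.map_fx_le)) (by
        rintro _ ⟨⟨v, hv, rfl⟩, h5⟩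
        exact ⟨v, ⟨hv, (hβ.comm_iff c.inj).1 (mem_Cz.1 h5)⟩, rfl⟩)
    rw [← card_map_of_injective c.inj, ← card_map_of_injective (K := d.U) c.inj, h4, ← h3] at h2
    exact Nat.le_of_mul_le_mul_right h2 Nat.card_pos
  rcases o.idx with ⟨-, k⟩ | ⟨h2, k⟩
  · rw [k, mul_one]
    exact h1.trans (Set.ncard_le_ncard (cl_mono o.U_le s))
  rw [k, mul_comm]
  refine (Nat.mul_le_mul_left 2 h1).trans ?_
  have cm : ∀ {a b}, a ∈ d.U.map e₁ → b ∈ e₂.range → Commute a b := fun ha hb =>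
    c.le_Cs hb _ (map_le_range _ _ ha)
  by_cases h4 : ∀ b ∈ S, b ∈ e₂.range → b * s = s * b
  · obtain ⟨p, hp, h5⟩ := SetLike.not_le_iff_exists.1 h2
    refine H66.TGW.two_le o.U_le hp fun x hx v hv k => ?_
    have h6 : d.U.map e₁ ≤ Cz s := fun a ha => by
      have a1 := mul_mem (mul_mem hv ha) (inv_mem hv)
      have a2 := o.swap (inv_mem hp) (mt inv_mem_iff.1 h5) (map_le_range _ _ a1)
      have a3 := h4 _ (mul_mem (mul_mem (inv_mem hp) (o.U_le a1)) (inv_mem (inv_mem hp))) a2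
      have a4 := cm hx a2
      have a5 : Commute (p⁻¹ * (v * a * v⁻¹) * p⁻¹⁻¹) (x * s * x⁻¹) :=
        ((Commute.symm a4).mul_right a3).mul_right (Commute.symm a4).inv_right
      rw [show x * s * x⁻¹ = p⁻¹ * (v * s * v⁻¹) * p⁻¹⁻¹ by rw [← k]; group, commute_iff_eq] at a5
      simp only [conj_mul, mul_left_inj, mul_right_inj] at a5
      exact mem_Cz.2 a5.symm
    rw [inf_eq_left.2 h6, mul_eq_right₀ Nat.card_pos.ne'] at h3
    have := o.w.two_le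
    omega
  · push Not at h4
    obtain ⟨b, b1, b2, b3⟩ := h4
    refine H66.TGW.two_le o.U_le b1 fun x hx v hv k => b3 ?_
    have a1 := map_le_range _ _ (mul_mem (inv_mem hx) hv)
    have e' : b * s * b⁻¹ = x⁻¹ * v * s * (x⁻¹ * v)⁻¹ := by
      calc _ = x⁻¹ * (x * b * s * (x * b)⁻¹) * x := by group
        _ = x⁻¹ * (b * (x * s * x⁻¹) * b⁻¹) * x := by rw [(cm hx b2).eq]; group
        _ = _ := by rw [k]; group
    have h10 := c.eq_one o.i.cen (g := b * s * b⁻¹ * s⁻¹)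
      (by rw [e', mul_assoc, mul_assoc, ← mul_assoc s]
          exact mul_mem a1 (conj_mem_of_mem_normalizer h (inv_mem a1)))
      (by rw [mul_assoc, mul_assoc, ← mul_assoc s]
          exact mul_mem b2 (conj_mem_of_mem_normalizer (o.n2 hs h) (inv_mem b2)))
    rwa [mul_inv_eq_one, mul_inv_eq_iff_eq_mul] at h10

theorem Ov.mem_of {H : Subgroup X} (hH : H ≤ d.U) (hs : s ∈ S) {γ : MulAut X} (h1 : Ind e₁ s β)
    (h2 : Ind e₂ s γ) (b1 : β ∈ cI H) (b2 : γ ∈ cI H) : s ∈ pr e₁ e₂ H H := by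
  obtain ⟨x, x1, rfl⟩ := mem_cI.1 b1
  obtain ⟨v, v1, rfl⟩ := mem_cI.1 b2
  have k0 := o.c.mem_pr.2 ⟨x, x1, v, v1, rfl⟩
  have k1 : s * (e₁ x * e₂ v)⁻¹ ∈ Cs (G12 e₁ e₂) :=
    mem_Cs_G12.2 ⟨ind_one_iff.1 (by simpa using h1.mul (o.c.ind₁ x v).inv),
      ind_one_iff.1 (by simpa using h2.mul (o.c.ind₂ x v).inv)⟩
  exact mul_inv_eq_one.1 ((o.is2 (mul_mem hs (inv_mem (o.ge (pr_mono hH hH k0))))).eq_one
    (H64.SG.odd_orderOf_of_mem o.g.odd k1)) ▸ k0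

/-- Elements outside `Z₁ Z₂` have big classes. -/
theorem Ov.big (hs : s ∈ S) (h : s ∉ pr e₁ e₂ d.Z d.Z) :
    d.q * (Ns e₁.range).relIndex S ≤ (cl S s).ncard := by
  by_cases h1 : s ∈ Ns e₁.range
  · obtain ⟨β, hβ⟩ := exists_ind o.c.inj h1
    obtain ⟨γ, hγ⟩ := exists_ind o.c.inj₂ (o.n2 hs h1)
    by_cases h3 : β ∈ cI d.Z
    · exact o.idx_symm ▸ o.symm.big1 hs hγ fun h4 => h (o.mem_of o.ZU hs hβ hγ h3 h4)
    · exact o.big1 hs hβ h3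
  · have h2 : d.U.map e₁ ⊓ Cz s = ⊥ := eq_bot_iff.2 fun a ha => by
      have := o.swap hs h1 (map_le_range _ _ ha.1)
      rw [mem_Cz.1 ha.2, mul_inv_cancel_right] at this
      exact o.c.eq_one o.i.cen (map_le_range _ _ ha.1) this
    have h3 := cl_mul (d.U.map e₁) s
    rw [h2, card_bot, mul_one, card_map_of_injective o.c.inj, o.w.cardU] at h3
    refine le_trans ?_ (h3.ge.trans (Set.ncard_le_ncard (cl_mono o.U_le s)))
    have hq := o.w.two_le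
    have h5 : (Ns e₁.range).relIndex S ≤ 2 := by rcases o.idx with h | h <;> omega
    calc _ ≤ d.q ^ 2 := by rw [pow_two]; exact Nat.mul_le_mul_left _ (h5.trans hq)
      _ ≤ _ := Nat.pow_le_pow_right (by omega) (by norm_num)

theorem Ov.U_Cs : d.U.map e₁ ≤ Cs (pr e₁ e₂ d.Z d.Z) := by
  rintro _ ⟨v, hv, rfl⟩ _ hz
  obtain ⟨a, ha, b, -, rfl⟩ := o.c.mem_pr.1 hz
  rw [mul_assoc, ← o.c.comm, ← mul_assoc, ← map_mul, ← (o.w.zu.ge ha).2 v hv, map_mul, mul_assoc]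

theorem Ov.inner (hs : s ∈ S) (hβ : Ind e₁ s β) (h : s ∈ Cs (pr e₁ e₂ d.Z d.Z)) : β ∈ cI d.U :=
  o.a.iu β (hβ.st o.c.inj (o.Ns_U hs hβ.mem_Ns)) (hβ.is2 o.c.inj (o.is2 hs))
    (hβ.fix o.c.inj (centralizer_le (SetLike.coe_subset_coe.2 le_sup_left) h))

theorem Ov.inf_cs : S ⊓ Cs (pr e₁ e₂ d.Z d.Z) = pr e₁ e₂ d.U d.U := by
  refine le_antisymm (fun s hs => ?_)
    (le_inf o.ge (sup_le o.U_Cs (pr_comm (e₁ := e₁) (e₂ := e₂) d.Z d.Z ▸ o.symm.U_Cs)))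
  have h3 : s ∈ Ns e₁.range := by
    by_contra h
    obtain ⟨y, y1, y2⟩ := TDWU.exists_z o.w
    have := o.swap hs.1 h ⟨y, rfl⟩
    rw [← hs.2 _ (mem_sup_left ⟨y, y1, rfl⟩), mul_inv_cancel_right] at this
    exact y2.2 ((map_eq_one_iff _ o.c.inj).1 (o.c.eq_one o.i.cen ⟨y, rfl⟩ this))
  obtain ⟨β, hβ⟩ := exists_ind o.c.inj h3
  obtain ⟨γ, hγ⟩ := exists_ind o.c.inj₂ (o.n2 hs.1 h3)
  exact o.mem_of le_rfl hs.1 hβ hγ (o.inner hs.1 hβ hs.2)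
    (o.symm.inner hs.1 hγ (pr_comm (e₁ := e₁) (e₂ := e₂) d.Z d.Z ▸ hs.2))

omit o in
theorem jobW1a : JobW1a.{u} := fun X _ _ d f G _ _ e t _ e₁ e₂ c g S h1 h2 h3 n hn => by
  have o : Ov d e t e₁ e₂ S := ⟨f.u, f.i, f.a, c, g, h1, h2, h3⟩
  have key : ∀ z ∈ S, (cl S z).ncard < d.q * (Ns e₁.range).relIndex S →
      z ∈ cj n⁻¹ (pr e₁ e₂ d.Z d.Z) := fun z hz h4 => by
    rw [mem_cj, inv_inv]
    by_contra h5
    rw [← ncard_cl_cj n, cj_eq_self hn] at h4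
    exact (o.big (conj_mem_of_mem_normalizer hn hz) h5).not_gt h4
  have h4 : n ∈ Ns (pr e₁ e₂ d.Z d.Z) := by
    refine mem_normalizer_of_cj_le (cj_le_iff.2 (sup_le ?_ ?_)) <;> rintro _ ⟨z, hz, rfl⟩
    · exact key _ (o.U_le ⟨z, o.ZU hz, rfl⟩) (o.small hz)
    · exact key _ (o.symm.U_le ⟨z, o.ZU hz, rfl⟩) (o.idx_symm ▸ o.symm.small hz)
  rw [← o.inf_cs]
  exact le_normalizer_inf (zpowers_le.2 hn) (zpowers_le.2 (normalizer_le_normalizer_centralizer _ h4))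
    (mem_zpowers n)

end H4.TDW1a
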