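import Cfsg.Agent.H62.TDW
import Cfsg.Agent.H4.SUW3

/-! STD-3D4, slot W3: centralisers of the elements `e₁ y s` of order `4` (generic `X`). -/

set_option autoImplicit false
set_option linter.unusedSectionVars false

namespace H4.TDW3

open H64.SG (O2 Syl Cz Cs Ns cjs Is2 Inv2 UF IsO2 fx mem_Cs mem_Cz mem_fx is2_of_sq isPGroup_iff_is2)
open H67.SA (St cI cm mem_cI card_cjs conj_mem_cjs mem_cjs cm_eq_one)
open H81.SU (El Ind exists_ind inv2_e)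
open H4.SUW3 (conj_or cz_conj)
open H62.TW H98 Subgroup

universe u

variable {X : Type} [Group X] [Finite X] {d : Sg X} {G : Type u} [Group G] [Finite G]
  {e e₁ e₂ : X →* G} {t : G}

/-- An automorphism fixing `y` normalises `O₂(C(y))`. -/
theorem st_O2 {D : Subgroup X} {y : X} (h : IsO2 D (Cz y)) {β : MulAut X} (hβ : β y = y)
    {v : X} (hv : v ∈ D) : β v ∈ D := by
  have hz : ∀ g, g ∈ Cz y → β g ∈ Cz y := fun g hg => mem_Cz.2 (by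
    rw [← hβ, ← map_mul, ← map_mul, mem_Cz.1 hg])
  have hz' : ∀ g, g ∈ Cz y → β.symm g ∈ Cz y := fun g hg => mem_Cz.2 (β.injective (by
    rw [map_mul, map_mul, hβ, MulEquiv.apply_symm_apply, mem_Cz.1 hg]))
  refine h.2.2.2 (D.map β.toMonoidHom) ?_ (fun g hg => mem_normalizer_of_cj_le ?_)
    (h.2.2.1.map _) ⟨v, hv, rfl⟩
  · rintro _ ⟨a, ha, rfl⟩; exact hz a (h.1 ha)
  · rintro _ ⟨_, ⟨a, ha, rfl⟩, rfl⟩
    refine ⟨_, conj_mem_of_mem_normalizer (h.2.1 (hz' g hg)) ha, ?_⟩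
    simp

theorem fix_both (hc : center X = ⊥) (c : CW e t e₁ e₂) {m : G} {β γ : MulAut X}
    (h1 : Ind e₁ m β) (h2 : Ind e₂ m γ) {a b : X} (h : m * (e₁ a * e₂ b) * m⁻¹ = e₁ a * e₂ b) :
    β a = a ∧ γ b = b :=
  c.inj2 hc (by rw [← h1, ← h2, conj_mul, h])

theorem odd_nor (h : GW d e t e₁ e₂) {m : G} (hm : m ∈ Ns (G12 e₁ e₂)) (ho : Odd (orderOf m)) :
    m ∈ Ns e₁.range ∧ m ∈ Ns e₂.range := by
  refine H64.SG.mem_of_sq_mem (K := Ns e₁.range ⊓ Ns e₂.range) ?_ ho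
  rcases h.pm m hm with k | k
  · exact mul_mem k k
  · exact ⟨cj_eq_self_iff.1 (by rw [← cj_cj]; exact (congrArg (cjs m) k.1).trans k.2),
      cj_eq_self_iff.1 (by rw [← cj_cj]; exact (congrArg (cjs m) k.2).trans k.1)⟩

theorem core (hc : center X = ⊥) (hE : El d.E) (b : B1 e t) (c : CW e t e₁ e₂)
    (g : GW d e t e₁ e₂) {y : X} (hy : Inv2 y) {D : Subgroup X} (hD : IsO2 D (Cz y))
    (h1 : d.E ≤ D) : Cz (e₁ y * t) ≤ Ns (G12 e₁ e₂) := by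
  have tt := b.inv.1
  have ti := b.inv_eq
  have e1 : e₁ y * e₁ y = 1 := by rw [← map_mul, hy.1, map_one]
  have i1 := inv_eq_of_mul_eq_one_right e1
  have dd : e₁ y * t * (e₁ y * t) = e₁ y * e₂ y := by rw [← c.sw, ti]; group
  have d2 : e₁ y * e₂ y * (e₁ y * e₂ y) = 1 := by rw [c.mul_mul, hy.1]; simp
  have d4 : (e₁ y * t) ^ 4 = 1 := by
    rw [show 4 = 2 * 2 from rfl, pow_mul, pow_two, pow_two, dd, d2]
  have di : t * (e₁ y * t) * t⁻¹ = (e₁ y * t)⁻¹ := by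
    rw [_root_.mul_inv_rev, ti, i1, mul_assoc, mul_assoc, tt, mul_one]
  have eM : ∀ v, e v ∈ Ns (G12 e₁ e₂) := fun v => le_normalizer (c.le ⟨v, rfl⟩)
  have cd : ∀ v ∈ d.E, e v * (e₁ y * t) = e₁ y * t * e v := fun v hv => by
    rw [mul_assoc, b.comm v, ← mul_assoc, ← mul_assoc, c.diag, ← mul_assoc, ← map_mul,
      mem_Cz.1 (hD.1 (h1 hv)), map_mul, mul_assoc (e₁ v), ← c.comm y v, ← mul_assoc]
  refine le_trans (fun a ha => H64.SG.Cs_le_Ns _ (H64.SG.mem_Cs_zpowers.2 (mem_Cz.1 ha)))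
    (H64.SG.jobK8 g.uf (IsConj.refl t) g.uf.mem di d4 (fun m m1 m2 => ?_) (d.E.map e) ?_
      (by rw [closure_eq]; exact g.cE) fun O o1 o2 o3 o4 v hv o ho => ?_)
  · have k1 := conj_or d4 (fun k => hy.2 (c.inj2 hc (a := y) (b := y) (c := 1) (d := 1) (by
      rw [← dd, k]; simp)).1) m1
    have k2 : m * (e₁ y * e₂ y) * m⁻¹ = e₁ y * e₂ y := by
      rw [← dd, ← conj_mul]
      rcases k1 with k | k <;> rw [k]
      rw [← _root_.mul_inv_rev, dd, inv_eq_of_mul_eq_one_right d2]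
    have k3 : e₁ y * (m * (e₁ y * t) * m⁻¹) * t⁻¹ ∈ zpowers (e₁ y * t) := by
      rcases k1 with k | k <;> rw [k]
      · rw [← mul_assoc, e1, one_mul, mul_inv_cancel]; exact one_mem _
      · rw [_root_.mul_inv_rev, i1, ti, ← mul_assoc, mul_assoc (e₁ y * t)]
        exact mul_mem (mem_zpowers _) (mem_zpowers _)
    have k4 : m * t * m⁻¹ * t⁻¹ = m * e₁ y * m⁻¹ * (m * (e₁ y * t) * m⁻¹) * t⁻¹ := by
      rw [conj_mul, ← mul_assoc (e₁ y), e1, one_mul]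
    rw [k4]
    rcases g.pm m m2 with k | k
    · obtain ⟨β, hβ⟩ := exists_ind c.inj k.1
      obtain ⟨γ, hγ⟩ := exists_ind c.inj₂ k.2
      rwa [hβ, (fix_both hc c hβ hγ k2).1]
    · obtain ⟨p, hp⟩ : m * e₁ y * m⁻¹ ∈ e₂.range := k.1 ▸ conj_mem_cjs.2 ⟨y, rfl⟩
      obtain ⟨q, hq⟩ : m * e₂ y * m⁻¹ ∈ e₁.range := k.2 ▸ conj_mem_cjs.2 ⟨y, rfl⟩
      rw [← conj_mul, ← hp, ← hq, ← c.comm] at k2
      rw [← hp, (c.inj2 hc k2).2, show e₂ y = e₁ y * t * (e₁ y * t) * e₁ y by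
        rw [dd, c.comm, mul_assoc, e1, mul_one], mul_assoc _ (e₁ y), mul_assoc]
      exact mul_mem (mul_mem (mem_zpowers _) (mem_zpowers _)) k3
  · rintro _ ⟨v, hv, rfl⟩
    exact ⟨by rw [← map_mul, hE v hv, map_one], eM v, cd v hv, b.comm v, g.tx v (hE v hv)⟩
  · obtain ⟨v, hv, rfl⟩ := hv
    obtain ⟨n1, n2⟩ := odd_nor g (o1 ho) (H64.SG.odd_orderOf_of_mem o2 ho)
    obtain ⟨β, hβ⟩ := exists_ind c.inj n1
    obtain ⟨γ, hγ⟩ := exists_ind c.inj₂ n2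
    obtain ⟨f1, f2⟩ := fix_both hc c hβ hγ (a := y) (b := y) (by
      rw [← dd, ← conj_mul, ← mem_Cz.1 (o4 ho), mul_inv_cancel_right])
    have k1 : cm o (e v) ∈ pr e₁ e₂ D D := by
      refine mul_mem ?_ (inv_mem (c.map_le _ ⟨v, h1 hv, rfl⟩))
      rw [c.diag, ← conj_mul, hβ, hγ]
      exact c.mem_pr.2 ⟨_, st_O2 hD f1 (h1 hv), _, st_O2 hD f2 (h1 hv), rfl⟩
    have k2 : cm o (e v) ∈ O := by
      simpa only [cm, mul_assoc] using mul_mem ho (conj_mem_of_mem_normalizer (o3 ⟨H64.SG.Cs_le_Ns _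
        (H64.SG.mem_Cs_zpowers.2 (cd v hv).symm), eM v⟩) (inv_mem ho))
    exact mem_Cz.2 (cm_eq_one.1 ((isPGroup_iff_is2.1 (c.isP_pr hD.2.2.1 hD.2.2.1) _ k1).eq_one
      (H64.SG.odd_orderOf_of_mem o2 k2))).symm

theorem at_t (w : WU d) (i : WI d) (b : B1 e t) (c : CW e t e₁ e₂) (g : GW d e t e₁ e₂) {y : X}
    (hy : Inv2 y) : Cz (e₁ y * t) ≤ Ns (G12 e₁ e₂) := by
  obtain ⟨h, D, -, h2, h3⟩ := i.ic y hy
  have := cz_conj (le_normalizer (c.le ⟨h⁻¹, rfl⟩))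
    (core i.cen w.el b c g (H9.UF.inv2_conj hy (isConj_iff.2 ⟨h, rfl⟩)) h2 h3)
  rwa [← conj_mul, b.conj_t, c.diag, c.ind₁ h⁻¹ h⁻¹, show MulAut.conj h⁻¹ (h * y * h⁻¹) = y by
    simp [mul_assoc]] at this

theorem jobW3 : JobW3.{u} := fun X _ _ d f G _ _ e t b e₁ e₂ c g s hs h1 y hy => by
  obtain ⟨m, rfl⟩ := isConj_iff.1 h1
  have hm := g.uf.uf m hs
  have key : ∀ {f' : X →* G} {p : X}, f' p = m⁻¹ * e₁ y * m⁻¹⁻¹ → Function.Injective f' → Inv2 p :=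
    fun h2 h3 => (inv2_e h3).1 (h2 ▸ H9.UF.inv2_conj ((inv2_e c.inj).2 hy) (isConj_iff.2 ⟨_, rfl⟩))
  rw [show e₁ y * (m * t * m⁻¹) = m * (m⁻¹ * e₁ y * m⁻¹⁻¹ * t) * m⁻¹ by group]
  refine cz_conj hm ?_
  rcases g.pm _ (inv_mem hm) with k | k
  · obtain ⟨p, hp⟩ := conj_mem_of_mem_normalizer k.1 (⟨y, rfl⟩ : e₁ y ∈ e₁.range)
    exact hp ▸ at_t f.u f.i b.toB1 c g (key hp c.inj)
  · obtain ⟨p, hp⟩ : m⁻¹ * e₁ y * m⁻¹⁻¹ ∈ e₂.range := k.1 ▸ conj_mem_cjs.2 ⟨y, rfl⟩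
    have := cz_conj g.uf.mem (at_t f.u f.i b.toB1 c g (key hp c.inj₂))
    rwa [← conj_mul, c.sw, mul_inv_cancel_right, hp] at this

end H4.TDW3
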