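import Cfsg.Agent.H4.TDWU
import Cfsg.Agent.H86.SAWE

/-! STD-3D4, slot WE: the endgame of the wreath case (generic `X`; after `H81.SUWE`). -/

set_option autoImplicit false
set_option linter.unusedSectionVars false

namespace H4.TDWE

open H64.SG (Syl Cz Cs Ns cjs Is2 Inv2 mem_Cs mem_Cz)
open H67.SA (St cm mem_cjs conj_mem_cjs)
open H86.SAWE (exists_step nor_of)
open H81.SU (exists_ind)
open H62.TW Subgroup

universe u

theorem cj_mul {G : Type*} [Group G] (a b : G) (H : Subgroup G) : cjs (a * b) H = cjs a (cjs b H) :=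
  (H98.cj_cj ..).symm

theorem jobWE : JobWE.{u} := fun X _ _ d fa G _ _ e t b e₁ e₂ c g w1a w1b w3 => by
  have e_sq : ∀ {s : X}, s * s = 1 → e₁ s * e₁ s = 1 := fun h => by rw [← map_mul, h, map_one]
  have inf_left : ∀ {g}, g ∈ pr e₁ e₂ d.U d.U → g ∈ e₁.range → g ∈ d.U.map e₁ := by
    rintro _ h1 ⟨a, rfl⟩
    exact ⟨a, ((c.mem_pr' fa.i.cen (b := 1)).1 (by simpa using h1)).1, rfl⟩
  have ne : cjs t e₁.range ≠ e₁.range := fun h => H4.TDWU.ne fa.i c (c.cjs_range.symm.trans h).le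
  by_contra hM
  have hU := H64.SG.syl_iff.1 (c.syl fa.i.syl)
  obtain ⟨S, hS, hUS⟩ := H98.exists_isSyl_le hU.isPGroup (hU.le.trans le_normalizer)
  have SU : S ≤ Ns (pr e₁ e₂ d.U d.U) := by
    rw [← hU.eq_of_le (hS.isPGroup.to_inf_left (K := G12 e₁ e₂)) (le_inf hUS hU.le) inf_le_right]
    exact H98.le_normalizer_inf le_normalizer hS.le
  obtain ⟨W, a, b', WS, aS, ta, tb, aW, bW, bM, ⟨k, ko, kW⟩, WT, -, hi, -⟩ :=
    H9.UF.jobK4 g.uf hM S (H64.SG.syl_iff.2 hS)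
  have WM := WS.trans hS.le
  have hW := hS.isPGroup.to_le WS
  have hi' : ∀ i ∈ Ns W, i ∉ W → i * i ∈ W → ∃ w ∈ W, IsConj t (i * w) := fun i i1 i2 i3 => by
    obtain ⟨w, w1, m, -, w2⟩ := hi i i1 i2 i3
    exact ⟨w, w1, w2 ▸ ta.trans (H9.UF.conj_cj m a)⟩
  have nsw : ∀ s ∈ Ns (G12 e₁ e₂), IsConj t s → s ∉ Ns e₁.range := fun s s1 s2 s3 =>
    ne (c.cjs_range.trans ((g.sw s s1 s2).symm.trans (H98.cj_eq_self_iff.2 s3)))
  have hUW : ¬ pr e₁ e₂ d.U d.U ≤ W := fun h => bM (w1b (w1a W hW WM h bW))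
  by_cases hW1 : W ≤ Ns e₁.range
  · obtain ⟨i, i1, i2, i3, i4⟩ := exists_step hS.isPGroup WS hUS (WS.trans SU) hUW
    obtain ⟨w, w1, w2⟩ := hi' i i3 i2 i4
    exact nsw _ (hS.le (mul_mem (hUS i1) (WS w1))) w2 (mul_mem (c.G12_le_Ns (hU.le i1)) (hW1 w1))
  obtain ⟨w₀, w1, w2⟩ := SetLike.not_le_iff_exists.1 hW1
  have sw0 := (g.pm w₀ (WM w1)).resolve_left fun h => w2 h.1
  have sw : ∀ w ∈ W, w ∉ Ns e₁.range → w * w₀⁻¹ ∈ Ns e₁.range := fun w h1 h2 => by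
    have h3 := (g.pm w (WM h1)).resolve_left fun h => h2 h.1
    refine H98.cj_eq_self_iff.1 ((cj_mul ..).trans ?_)
    have : cjs w₀⁻¹ e₁.range = e₂.range := by
      rw [← sw0.2, ← cj_mul, inv_mul_cancel]; exact H98.cj_one _
    rw [this]; exact h3.2
  have U1 : d.U.map e₁ ≤ S := le_sup_left.trans hUS
  have st : ∀ B, St d.U ≤ St B → ∀ m ∈ Ns (pr e₁ e₂ d.U d.U), m ∈ Ns e₁.range →
      m ∈ Ns (B.map e₁) := fun B hSt m h1 h2 => by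
    obtain ⟨β, hβ⟩ := exists_ind c.inj h2
    refine hβ.mem_Ns_map (hSt (hβ.st c.inj (H98.mem_normalizer_of_cj_le ?_)))
    rintro _ ⟨x, hx, rfl⟩
    exact inf_left (H98.conj_mem_of_mem_normalizer h1 (mem_sup_left hx))
      (H98.conj_mem_of_mem_normalizer h2 (map_le_range _ _ hx))
  have beta : ∀ B ≤ d.U, St d.U ≤ St B → ¬ B.map e₁ ≤ W →
      ∃ y ∈ B, e₁ y ∉ W ∧ e₁ y ∈ Ns W ∧ e₁ (y * y) ∈ W := fun B hB hSt hBW => by
    have h1 : W ⊓ Ns e₁.range ≤ Ns (B.map e₁) := fun m hm => st B hSt m (SU (WS hm.1)) hm.2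
    obtain ⟨_, ⟨y, y1, rfl⟩, y2, y3, y4⟩ := exists_step hS.isPGroup (inf_le_left.trans WS)
      ((map_mono hB).trans U1) h1 fun h => hBW (h.trans inf_le_left)
    have y5 : e₁ y ∈ Ns e₁.range := le_normalizer ⟨y, rfl⟩
    have y6 : w₀ * (e₁ y)⁻¹ * w₀⁻¹ ∈ e₂.range := by
      rw [← sw0.1]; exact conj_mem_cjs.2 (inv_mem ⟨y, rfl⟩)
    refine ⟨y, y1, fun h => y2 ⟨h, y5⟩, nor_of (t := t) inf_le_left w1 ⟨mul_mem w1 w1, ?_⟩ ?_
      (fun w h => ?_) y3 y4 (c.le_Cs y6 _ ⟨y, rfl⟩) WT hi' fun w h h' => ?_, by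
        rw [map_mul]; exact y4.1⟩
    · exact H98.cj_eq_self_iff.1 ((cj_mul ..).trans ((congrArg (cjs w₀) sw0.1).trans sw0.2))
    · refine H98.mem_normalizer_of_cj_le ?_
      rintro _ ⟨w, h, rfl⟩
      refine ⟨H98.conj_mem_of_mem_normalizer (le_normalizer w1) h.1, ?_⟩
      have h2 := ((g.pm w (WM h.1)).resolve_right fun k => ne
        (c.cjs_range.trans (k.1.symm.trans (H98.cj_eq_self_iff.2 h.2)))).2
      rw [← sw0.2, ← H64.SG.cj_Ns]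
      exact conj_mem_cjs.2 h2
    · by_cases k : w ∈ Ns e₁.range
      exacts [Or.inl ⟨h, k⟩, Or.inr (mem_inf.2 ⟨mul_mem h (inv_mem w1), sw w h k⟩)]
    · have h2 : cm (e₁ y) w₀ ∈ G12 e₁ e₂ := by
        rw [show cm (e₁ y) w₀ = e₁ y * (w₀ * (e₁ y)⁻¹ * w₀⁻¹) by unfold cm; group]
        exact mul_mem (mem_sup_left ⟨y, rfl⟩) (mem_sup_right y6)
      exact nsw _ (mul_mem (le_normalizer h2) (WM h.1)) h' (mul_mem (c.G12_le_Ns h2) h.2)
  have fin : ∀ y ∈ d.U, e₁ y ∉ W → e₁ y ∈ Ns W → e₁ (y * y) ∈ W →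
      (y * y = 1 ∨ 2 < Nat.card ↥(W ⊓ e₁.range)) →
      (∀ s ∈ Ns (G12 e₁ e₂), IsConj t s → (e₁ y)⁻¹ * s ∈ W → Cs W ≤ Ns (G12 e₁ e₂)) → False := by
    intro y y1 y2 y3 y4 y5 hC
    rw [map_mul] at y4
    obtain ⟨w, h1, m, m1, h2⟩ := hi _ y3 y2 y4
    have sM : e₁ y * w ∈ Ns (G12 e₁ e₂) := hS.le (mul_mem (U1 ⟨y, y1, rfl⟩) (WS h1))
    have mM := (H9.UF.jobK1 g.uf ta (hS.le aS)).1 m (h2 ▸ sM)
    have ts : IsConj t (e₁ y * w) := h2 ▸ ta.trans (H9.UF.conj_cj m a)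
    have sW' : (e₁ y)⁻¹ * (e₁ y * w) ∈ W := by rwa [inv_mul_cancel_left]
    have kW' : (e₁ y * w * (m * b' * m⁻¹)) ^ k ∈ W := by
      rw [h2, conj_mul, conj_pow]; exact H98.conj_mem_of_mem_normalizer m1 kW
    have h4 := H81.W2.jobW2U e₁.range e₂.range W (e₁ y * w) (m * b' * m⁻¹) (e₁ y) k c.le_Cs'
      (by rw [show Cs e₁.range ⊓ Cs e₂.range = Cs (G12 e₁ e₂) from
        Subgroup.ext fun _ => mem_Cs_G12.symm]; exact g.odd)
      (H9.UF.inv2_conj g.uf.inv ts).1 (g.sw _ sM ts) (fun w hw => g.pm w (WM hw)) hW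
      (mul_mem y3 (le_normalizer h1)) (mul_mem (mul_mem m1 bW) (inv_mem m1))
      (H9.UF.inv2_conj g.uf.inv (tb.trans (H9.UF.conj_cj m b'))).1 ko kW' ⟨y, rfl⟩ y4 sW'
      (y5.imp_left e_sq)
    obtain ⟨i, j, e1, e2, e3⟩ := H64.SG.exists_two_odd (e₁ y * w * (m * b' * m⁻¹))
    have h5 := hC _ sM ts sW' (h4 _ (pow_mem (mem_zpowers _) j) e3)
    obtain ⟨r, hr⟩ := e2.exists_pow ko
    have h6 : (e₁ y * w * (m * b' * m⁻¹)) ^ i ∈ W := by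
      rw [← hr, ← pow_mul _ i k, mul_comm i k, pow_mul]; exact pow_mem (pow_mem kW' i) r
    have h7 := mul_mem (WM h6) h5
    rw [← e1] at h7
    have h8 := mul_mem (mul_mem (inv_mem mM) (mul_mem (inv_mem sM) h7)) mM
    exact bM (by simpa [mul_assoc] using h8)
  have EU := fa.u.EQ.trans fa.u.QU
  by_cases ca : d.E.map e₁ ≤ W
  swap
  · obtain ⟨y, y1, y2, y3, y4⟩ := beta _ EU fa.u.nu ca
    have yy := fa.u.el y y1
    refine fin y (EU y1) y2 y3 y4 (Or.inl yy) fun s s1 s2 s3 m hm => ?_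
    refine w3 s s1 s2 y ⟨yy, fun h => y2 (by rw [h, map_one]; exact one_mem _)⟩ (mem_Cz.2 (hm _ ?_))
    rwa [inv_eq_of_mul_eq_one_right (e_sq yy)] at s3
  have big : 2 < Nat.card ↥(W ⊓ e₁.range) := by
    refine lt_of_lt_of_le ?_ (card_le_of_le (le_inf ca (map_le_range _ _)))
    rw [card_map_of_injective c.inj, fa.u.cardE]
    exact lt_of_lt_of_le (by norm_num) (Nat.pow_le_pow_left fa.u.two_le 5)
  have back : ∀ B, St d.U ≤ St B → B.map e₁ ≤ W → B.map e₂ ≤ W := by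
    rintro B h1 h2 _ ⟨v, hv, rfl⟩
    have h3 := H98.conj_mem_of_mem_normalizer (st B h1 (w₀⁻¹ * t)
      (mul_mem (inv_mem (SU (WS w1))) (c.t_mem_Ns b.inv.1 _)) (H98.cj_eq_self_iff.1 ((cj_mul ..).trans (by
        rw [c.cjs_range, ← sw0.1, ← cj_mul, inv_mul_cancel]; exact H98.cj_one _)))) ⟨v, hv, rfl⟩
    simpa [← c.sw, mul_assoc] using mul_mem (mul_mem w1 (h2 h3)) (inv_mem w1)
  obtain ⟨y, y1, y2, y3, y4⟩ := beta _ le_rfl le_rfl fun h => hUW (sup_le h (back _ le_rfl h))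
  exact fin y y1 y2 y3 y4 (Or.inr big) fun _ _ _ _ => le_trans
    (centralizer_le ((c.map_le _).trans (sup_le ca (back _ fa.u.nu ca)))) g.cE

end H4.TDWE
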