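/- STD-2E6, slot M1: the elements `M r a u = x_r(a u) x_{γ r}(a σ u)`. -/
import Cfsg.Agent.H78.TESpec

set_option autoImplicit false
set_option linter.unusedSectionVars false

namespace H4.TEM1

open Cfsg.Lie H63 H65 H64 H64.SG H68 H46.SF Subgroup H78.TE

universe u

theorem d_pk : ∀ ρ : Rt E6, ∃ v : Rt D4, ip (lr v) ρ = 1 := by decide +kernel
theorem d_ng : ∀ (v : Rt D4) (ρ : Rt E6), ip (ng (lr v)) ρ = - ip (lr v) ρ := by decide +kernel
theorem d_gm : ∀ (v : Rt D4) (ρ : Rt E6), ip (lr v) (gm ρ) = ip (lr v) ρ := by decide +kernel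
theorem d_adj : ∀ v w : Rt D4, ip (lr v) (lr w) = 1 →
    ∃ r : Rt D4, ip (lr r) (lr v) = -1 ∧ lr w = su (lr r) (lr v) := by decide +kernel
set_option synthInstance.maxSize 1000 in
theorem d_third : ∀ ρ : Rt E6, gm ρ ≠ ρ → ∀ v : Rt D4, ip (lr v) ρ = 1 → ∀ w : Rt D4, ip (lr w) ρ = 1 →
    ∃ z : Rt D4, ip (lr z) ρ = 1 ∧ ip (lr v) (lr z) = 1 ∧ ip (lr z) (lr w) = 1 := by decide +kernel
set_option synthInstance.maxSize 1000 in
theorem d_dec : ∀ ρ : Rt E6, gm ρ ≠ ρ → ∃ (r : Rt D4) (s : Rt E6), ip (lr r) s = -1 ∧ gm s ≠ s ∧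
    ρ = su (lr r) s ∧ ∃ v : Rt D4, lr v = su (su (lr r) s) (gm s) := by decide +kernel
set_option synthInstance.maxSize 1000 in
theorem d_cj : ∀ (r : Rt D4) (s : Rt E6), ip (lr r) s = -1 → gm s ≠ s → ∀ v : Rt D4,
    lr v = su (su (lr r) s) (gm s) → ip (lr r) (su (lr r) s) = 1 ∧ ip (lr v) (su (lr r) s) = 1 ∧
      ip (lr v) s = 1 ∧ ip (lr v) (lr r) = 0 ∧ ∃ w : Rt D4, ip (lr w) s = 0 ∧ ip (lr w) (lr r) = 1 ∧
        ip (lr w) (su (lr r) s) = 1 ∧ ip (lr w) (lr v) = 1 := by decide +kernel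
set_option synthInstance.maxSize 1000 in
theorem d_cs : ∀ r s : Rt E6, ip r s = -1 → 0 ≤ ip r (gm s) →
    (∃ v : Rt D4, ip (lr v) r = 1 ∧ ip (lr v) s = 0) ∧ ∃ v : Rt D4, ip (lr v) s = 1 ∧ ip (lr v) r = 0 := by
  decide +kernel
set_option synthInstance.maxSize 1000 in
theorem d_c0 : ∀ r s : Rt E6, 0 ≤ ip r s → 0 ≤ ip r (gm s) → gm r = r ∨ gm s = s ∨ s = r ∨ s = gm r ∨
    (∃ v : Rt D4, ip (lr v) r = 1 ∧ ip (lr v) s = 0) ∧ ∃ v : Rt D4, ip (lr v) s = 1 ∧ ip (lr v) r = 0 := by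
  decide +kernel
set_option synthInstance.maxSize 1000 in
theorem d_same : ∀ r : Rt E6, gm r ≠ r → ∃ p : Rt E6, ip r p = 1 ∧ ip r (gm p) = 0 ∧ ∃ q : Rt E6,
    ip r q = 1 ∧ ip r (gm q) = 0 ∧ ip p q = -1 ∧ 0 ≤ ip p (gm q) ∧ r = su p q := by decide +kernel

theorem cj3 {G : Type*} [Group G] {g a b c d e a' b' c' d' e' : G} (h : a * b * a⁻¹ = c * d * e)
    (ha : g * a * g⁻¹ = a') (hb : g * b * g⁻¹ = b') (hc : g * c * g⁻¹ = c') (hd : g * d * g⁻¹ = d')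
    (he : g * e * g⁻¹ = e') : a' * b' * a'⁻¹ = c' * d' * e' := by
  rw [← ha, ← hb, ← hc, ← hd, ← he]
  calc _ = g * (a * b * a⁻¹) * g⁻¹ := by group
    _ = _ := by rw [h]; group

theorem cj2 {G : Type*} [Group G] {g a b d a' b' d' : G} (h : a * b * a⁻¹ = b * d)
    (ha : g * a * g⁻¹ = a') (hb : g * b * g⁻¹ = b') (hd : g * d * g⁻¹ = d') :
    a' * b' * a'⁻¹ = b' * d' := by
  rw [← ha, ← hb, ← hd]
  calc _ = g * (a * b * a⁻¹) * g⁻¹ := by group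
    _ = _ := by rw [h]; group

/-- The data used. -/
structure Hy {F K : Type} [Field F] [Field K] (T : Qd F K) {G : Type u} [Group G]
    (s : Rt E6 → K → G) (y : ℕ → K → G) : Prop where
  st : StN D4 y
  yc : ∀ (r : Rt D4) ρ, 0 ≤ ip (lr r) ρ → ∀ b u, y r b * s ρ u = s ρ u * y r b
  add : ∀ r u v, s r u * s r v = s r (u + v)
  sgm : ∀ r u, s (gm r) u = s r (T.σ u)
  lng : ∀ (r : Rt D4) u, s (lr r) u = y r (u + T.σ u)
  c0 : ∀ r p, 0 ≤ ip r p → 0 ≤ ip r (gm p) → ∀ a b, s r a * s p b = s p b * s r a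
  cs : ∀ r p, ip r p = -1 → 0 ≤ ip r (gm p) → ∀ a b, s r a * s p b * (s r a)⁻¹ = s p b * s (su r p) (a * b)
  cj : ∀ (r v : Rt D4) p, gm p ≠ p → ip (lr r) p = -1 → lr v = su (su (lr r) p) (gm p) → ∀ u,
    s p u * y r 1 * (s p u)⁻¹ = y r 1 * s (su (lr r) p) u * y v (u * T.σ u)
  tor : ∀ (v : Rt D4) (k : F), k ≠ 0 → ∀ r u, hh D4 y v (T.ι k) * s r u * (hh D4 y v (T.ι k))⁻¹ =
    s r (T.ι k ^ ip (lr v) r * u)

variable {F K : Type} [Field F] [Field K] [CharP K 2] {T : Qd F K} {G : Type u} [Group G]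
  {s : Rt E6 → K → G} {y : ℕ → K → G}

/-- `g` commutes with the long root elements that are not negative on `ρ` -/
def Fx (y : ℕ → K → G) (ρ : Rt E6) (g : G) : Prop :=
  ∀ r : Rt D4, 0 ≤ ip (lr r) ρ → ∀ b, Commute (y r b) g

theorem Fx.nn {ρ : Rt E6} {g : G} (h : Fx y ρ g) {r : Rt D4} (e : ip (lr r) ρ = 0) (a : K) :
    Commute (nn D4 y r a) g := by
  rw [nn_eq]
  exact ((h r e.ge _).mul_left (h (negR r) (by rw [lr_neg, d_ng, e]; rfl) _)).mul_left (h r e.ge _)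

theorem Fx.hh {ρ : Rt E6} {g : G} (h : Fx y ρ g) {r : Rt D4} (e : ip (lr r) ρ = 0) (a : K) :
    hh D4 y r a * g * (hh D4 y r a)⁻¹ = g := by
  have : Commute (H64.hh D4 y r a) g := by rw [hh_eq]; exact (h.nn e _).mul_left (h.nn e _)
  rw [this.eq, mul_inv_cancel_right]

theorem hy (st : StN D4 y) (v r : Rt D4) {a : K} (ha : a ≠ 0) (b : K) :
    hh D4 y v a * y r b * (hh D4 y v a)⁻¹ = y r (a ^ ip (lr v) (lr r) * b) := by
  rw [ip_lr, st.hh_conj v r ha]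

theorem Fx.cj (st : StN D4 y) {ρ : Rt E6} {g : G} (h : Fx y ρ g) (v : Rt D4) {a : K} (ha : a ≠ 0) :
    Fx y ρ (H64.hh D4 y v a * g * (H64.hh D4 y v a)⁻¹) := fun r hr b => by
  have h1 := hy st v r ha ((a ^ ip (lr v) (lr r))⁻¹ * b)
  rw [mul_inv_cancel_left₀ (zpow_ne_zero _ ha)] at h1
  rw [← h1]
  exact (h r hr _).conj _

theorem adj (st : StN D4 y) {ρ : Rt E6} {g : G} (h : Fx y ρ g) {v w : Rt D4} (hv : ip (lr v) ρ = 1)
    (hw : ip (lr w) ρ = 1) (e : ip (lr v) (lr w) = 1) {a : K} (ha : a ≠ 0) :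
    hh D4 y v a * g * (hh D4 y v a)⁻¹ = hh D4 y w a * g * (hh D4 y w a)⁻¹ := by
  obtain ⟨r, e1, e2⟩ := d_adj v w e
  have e3 : ip (lr r) ρ = 0 := by
    have := ip_add ρ e1
    rw [← e2, ip_comm ρ, ip_comm ρ, ip_comm ρ] at this
    omega
  have e4 : refl r v = w := rt_inj (by
    rw [rt_refl, ← ip_lr, e1, lr_add.2 (add_iff.2 ⟨e1, e2⟩)]; simp [add_comm])
  have e5 : ∀ c, nn D4 y r 1 * nn D4 y v c * (nn D4 y r 1)⁻¹ = nn D4 y w c := fun c => by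
    have := conj_nn (D := D4) (x := y) (m := nn D4 y r 1) (s := v) (s' := w) (c := 1)
      (fun u => by rw [nn_conj2 st, e4, one_mul])
      (fun u => by
        rw [← negR_val, nn_conj2 st, refl_negR_right, e4, inv_one, one_mul, negR_val]) c
    rwa [one_mul] at this
  have e6 : nn D4 y r 1 * hh D4 y v a * (nn D4 y r 1)⁻¹ = hh D4 y w a := by
    rw [hh_eq, hh_eq, ← e5, ← e5]; group
  have e7 := ((h.cj st v ha).nn e3 1).eq
  have e8 := (h.nn e3 1).eq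
  calc _ = nn D4 y r 1 * (hh D4 y v a * g * (hh D4 y v a)⁻¹) * (nn D4 y r 1)⁻¹ := by
        rw [e7, mul_inv_cancel_right]
    _ = nn D4 y r 1 * hh D4 y v a * (nn D4 y r 1)⁻¹ * (nn D4 y r 1 * g * (nn D4 y r 1)⁻¹) *
        (nn D4 y r 1 * hh D4 y v a * (nn D4 y r 1)⁻¹)⁻¹ := by group
    _ = _ := by rw [e6, e8, mul_inv_cancel_right]

theorem indep (st : StN D4 y) {ρ : Rt E6} (hρ : gm ρ ≠ ρ) {g : G} (h : Fx y ρ g) {v w : Rt D4}
    (hv : ip (lr v) ρ = 1) (hw : ip (lr w) ρ = 1) {a : K} (ha : a ≠ 0) :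
    hh D4 y v a * g * (hh D4 y v a)⁻¹ = hh D4 y w a * g * (hh D4 y w a)⁻¹ := by
  obtain ⟨z, e1, e2, e3⟩ := d_third ρ hρ v hv w hw
  rw [adj st h hv e1 e2 ha, adj st h e1 hw e3 ha]

/-- a long root of pairing `1` -/
noncomputable def pk (ρ : Rt E6) : Rt D4 := (d_pk ρ).choose
theorem pk_ip (ρ : Rt E6) : ip (lr (pk ρ)) ρ = 1 := (d_pk ρ).choose_spec

open Classical in
/-- the new elements -/
noncomputable def M (s : Rt E6 → K → G) (y : ℕ → K → G) (ρ : Rt E6) (a u : K) : G :=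
  if a = 0 then 1 else hh D4 y (pk ρ) a * s ρ u * (hh D4 y (pk ρ) a)⁻¹

theorem M_zero (ρ : Rt E6) (u : K) : M s y ρ 0 u = 1 := if_pos rfl

theorem M_ne (ρ : Rt E6) {a : K} (ha : a ≠ 0) (u : K) :
    M s y ρ a u = hh D4 y (pk ρ) a * s ρ u * (hh D4 y (pk ρ) a)⁻¹ := if_neg ha

namespace Hy

variable (h : Hy T s y)
include h

theorem y0 (r : Rt D4) : y r 0 = 1 := h.st.toSt.x_zero r

theorem yadd (r : Rt D4) (a b : K) : y r (a + b) = y r a * y r b := (h.st.add r r.2 a b).symm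

theorem fx_s (ρ : Rt E6) (u : K) : Fx y ρ (s ρ u) := fun r hr b => h.yc r ρ hr b u

theorem fx (ρ : Rt E6) (a u : K) : Fx y ρ (M s y ρ a u) := by
  by_cases ha : a = 0
  · rw [ha, M_zero]; exact fun _ _ _ => Commute.one_right _
  · rw [M_ne ρ ha]; exact (h.fx_s ρ u).cj h.st _ ha

theorem M_lng (r : Rt D4) (a u : K) : M s y (lr r) a u = y r (a * (u + T.σ u)) := by
  by_cases ha : a = 0
  · rw [ha, M_zero, zero_mul, h.y0]
  · rw [M_ne _ ha, h.lng, hy h.st _ _ ha, pk_ip, zpow_one]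

theorem hs {ρ : Rt E6} {v : Rt D4} (hv : ip (lr v) ρ = 1) {a : K} (ha : a ≠ 0) (u : K) :
    hh D4 y v a * s ρ u * (hh D4 y v a)⁻¹ = M s y ρ a u := by
  by_cases hρ : gm ρ = ρ
  · obtain ⟨r, rfl⟩ := exists_lr ρ hρ
    rw [h.M_lng, h.lng, hy h.st _ _ ha, hv, zpow_one]
  · rw [M_ne _ ha, indep h.st hρ (h.fx_s ρ u) hv (pk_ip ρ) ha]

theorem e3 {r v : Rt D4} {p : Rt E6} (h1 : gm p ≠ p) (h2 : ip (lr r) p = -1)
    (h3 : lr v = su (su (lr r) p) (gm p)) (u b : K) :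
    s p u * y r b * (s p u)⁻¹ = y r b * M s y (su (lr r) p) b u * y v (b * (u * T.σ u)) := by
  by_cases hb : b = 0
  · simp [hb, M_zero, h.y0]
  obtain ⟨-, -, -, -, w, e1, e2, e3, e4⟩ := d_cj r p h2 h1 v h3
  have k2 := hy h.st w r hb 1
  have k3 := hy h.st w v hb (u * T.σ u)
  rw [e2, zpow_one, mul_one] at k2
  rw [e4, zpow_one] at k3
  exact cj3 (h.cj r v p h1 h2 h3 u) ((h.fx_s p u).hh e1 b) k2 k2 (h.hs e3 hb u) k3

theorem addl (ρ : Rt E6) (a b u : K) : M s y ρ a u * M s y ρ b u = M s y ρ (a + b) u := by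
  by_cases hρ : gm ρ = ρ
  · obtain ⟨r, rfl⟩ := exists_lr ρ hρ
    rw [h.M_lng, h.M_lng, h.M_lng, ← h.yadd, add_mul]
  obtain ⟨r, p, h2, h1, rfl, v, h3⟩ := d_dec ρ hρ
  obtain ⟨e1, e2, -, e3, -⟩ := d_cj r p h2 h1 v h3
  have k := h.e3 h1 h2 h3 u (a + b)
  rw [h.yadd, ← conj_mul, h.e3 h1 h2 h3, h.e3 h1 h2 h3, add_mul, h.yadd] at k
  have c1 := h.fx (su (lr r) p) a u r (by omega) b
  have c2 := h.fx (su (lr r) p) b u v (by omega) (a * (u * T.σ u))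
  have c3 := e4.comm_of_nonneg h.st.toSt (r := v) (s := r) (by rw [← ip_lr]; omega) (a * (u * T.σ u)) b
  generalize y v (a * (u * T.σ u)) = z, y v (b * (u * T.σ u)) = z', y r a = x, y r b = x',
    M s y (su (lr r) p) a u = m, M s y (su (lr r) p) b u = m',
    M s y (su (lr r) p) (a + b) u = m'' at k c1 c2 c3 ⊢
  have : x * m * z * (x' * m' * z') = x * x' * (m * m') * (z * z') := by
    calc _ = x * m * (z * x') * m' * z' := by group
      _ = x * (m * x') * (z * m') * z' := by rw [c3]; group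
      _ = _ := by rw [← c1.eq, c2.eq]; group
  rw [this] at k
  exact mul_left_cancel (mul_right_cancel k)

theorem hM {ρ : Rt E6} {v : Rt D4} (hv : ip (lr v) ρ = 1) {a : K} (ha : a ≠ 0) (b u : K) :
    hh D4 y v a * M s y ρ b u * (hh D4 y v a)⁻¹ = M s y ρ (a * b) u := by
  by_cases hρ : gm ρ = ρ
  · obtain ⟨r, rfl⟩ := exists_lr ρ hρ
    rw [h.M_lng, h.M_lng, hy h.st _ _ ha, hv, zpow_one, mul_assoc]
  obtain ⟨r, p, h2, h1, rfl, z, h3⟩ := d_dec ρ hρ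
  obtain ⟨-, -, -, -, w, e1, e2, e3, e4⟩ := d_cj r p h2 h1 z h3
  rw [indep h.st hρ (h.fx _ b u) hv e3 ha]
  have k2 := hy h.st w r ha b
  have k3 := hy h.st w z ha (b * (u * T.σ u))
  rw [e2, zpow_one] at k2
  rw [e4, zpow_one, ← mul_assoc a] at k3
  have k := cj3 (h.e3 h1 h2 h3 u b) ((h.fx_s p u).hh e1 a) k2 k2 rfl k3
  rw [h.e3 h1 h2 h3] at k
  exact (mul_left_cancel (mul_right_cancel k)).symm

theorem Mcj (r v : Rt D4) (p : Rt E6) (h1 : gm p ≠ p) (h2 : ip (lr r) p = -1)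
    (h3 : lr v = su (su (lr r) p) (gm p)) (a u b : K) : M s y p a u * y r b * (M s y p a u)⁻¹ =
      y r b * M s y (su (lr r) p) (a * b) u * y v (a ^ 2 * b * (u * T.σ u)) := by
  by_cases ha : a = 0
  · simp [ha, M_zero, h.y0]
  obtain ⟨-, e1, e2, e3, -⟩ := d_cj r p h2 h1 v h3
  have k2 := hy h.st v r ha b
  have k3 := hy h.st v v ha (b * (u * T.σ u))
  rw [e3, zpow_zero, one_mul] at k2
  rw [ip_self, zpow_two, ← pow_two, ← mul_assoc (a ^ 2)] at k3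
  exact cj3 (h.e3 h1 h2 h3 u b) (h.hs e2 ha u) k2 k2 (h.hM e1 ha b u) k3

theorem s0 (ρ : Rt E6) : s ρ 0 = 1 := by
  have := h.add ρ 0 0
  rwa [add_zero, mul_eq_left] at this

theorem addr (ρ : Rt E6) (a u v : K) : M s y ρ a u * M s y ρ a v = M s y ρ a (u + v) := by
  by_cases ha : a = 0
  · simp [ha, M_zero]
  · rw [M_ne _ ha, M_ne _ ha, M_ne _ ha, conj_mul, h.add]

theorem one (ρ : Rt E6) (u : K) : M s y ρ 1 u = s ρ u := by
  rw [M_ne _ one_ne_zero, h.st.toSt.hh_one]; simp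

theorem bal (ρ : Rt E6) (c : F) (a u : K) : M s y ρ (T.ι c * a) u = M s y ρ a (T.ι c * u) := by
  by_cases ha : a = 0
  · simp [ha, M_zero]
  by_cases hc : c = 0
  · simp [hc, M_zero, M_ne _ ha, h.s0]
  rw [mul_comm, ← h.hM (pk_ip ρ) ha, M_ne _ ((map_ne_zero T.ι).2 hc), h.tor _ c hc, pk_ip, zpow_one,
    M_ne _ ha]

theorem Mgm (ρ : Rt E6) (a u : K) : M s y (gm ρ) a u = M s y ρ a (T.σ u) := by
  by_cases ha : a = 0
  · simp [ha, M_zero]
  · rw [← h.hs (v := pk ρ) (by rw [d_gm, pk_ip]) ha, h.sgm, M_ne _ ha]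

theorem Mcs (r p : Rt E6) (h1 : ip r p = -1) (h2 : 0 ≤ ip r (gm p)) (a u b v : K) :
    M s y r a u * M s y p b v * (M s y r a u)⁻¹ = M s y p b v * M s y (su r p) (a * b) (u * v) := by
  by_cases ha : a = 0
  · simp [ha, M_zero]
  by_cases hb : b = 0
  · simp [hb, M_zero]
  obtain ⟨⟨w, e1, e2⟩, z, e3, e4⟩ := d_cs r p h1 h2
  have k1 := cj2 (h.cs r p h1 h2 u v) (h.hs e1 ha u) ((h.fx_s p v).hh e2 a)
    (h.hs (v := w) (by rw [ip_add _ h1]; omega) ha (u * v))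
  have k2 := cj2 k1 ((h.fx r a u).hh e4 b) (h.hs e3 hb v)
    (h.hM (v := z) (by rw [ip_add _ h1]; omega) hb a (u * v))
  rwa [mul_comm b] at k2

theorem Mc1 {r p : Rt E6} (h1 : 0 ≤ ip r p) (h2 : 0 ≤ ip r (gm p)) (h3 : p ≠ r) (h4 : p ≠ gm r)
    (a u b v : K) : Commute (M s y r a u) (M s y p b v) := by
  rcases d_c0 r p h1 h2 with e | e | e | e | ⟨⟨w, e1, e2⟩, z, e3, e4⟩
  · obtain ⟨r, rfl⟩ := exists_lr r e
    rw [h.M_lng]; exact h.fx p b v r h1 _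
  · obtain ⟨p, rfl⟩ := exists_lr p e
    rw [h.M_lng]; exact (h.fx r a u p (ip_comm r _ ▸ h1) _).symm
  · exact absurd e h3
  · exact absurd e h4
  by_cases ha : a = 0
  · simp [ha, M_zero]
  by_cases hb : b = 0
  · simp [hb, M_zero]
  have k0 : Commute (s r u) (s p v) := h.c0 r p h1 h2 u v
  have k1 := k0.conj (hh D4 y w a)
  rw [h.hs e1 ha, (h.fx_s p v).hh e2] at k1
  have k2 := k1.conj (hh D4 y z b)
  rwa [h.hs e3 hb, (h.fx r a u).hh e4] at k2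

theorem Mc2 (r : Rt E6) (a u b v : K) : Commute (M s y r a u) (M s y r b v) := by
  by_cases e : gm r = r
  · obtain ⟨r, rfl⟩ := exists_lr r e
    rw [h.M_lng]; exact h.fx _ b v r (by rw [ip_self]; omega) _
  obtain ⟨p, e1, e2, q, e3, e4, e5, e6, e7⟩ := d_same r e
  have k := h.Mcs p q e5 e6 b v 1 1
  rw [mul_one, mul_one, ← e7] at k
  have n : ∀ p, ip r p = 1 → ip r (gm p) = 0 → ∀ b v, Commute (M s y r a u) (M s y p b v) :=
    fun p f1 f2 => h.Mc1 (by omega) (by omega) (by rintro rfl; rw [ip_self] at f1; omega)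
      (by rintro rfl; rw [gm_gm, ip_self] at f2; omega) a u
  rw [← inv_mul_eq_iff_eq_mul.2 k]
  exact (n q e3 e4 1 1).inv_right.mul_right
    (((n p e1 e2 b v).mul_right (n q e3 e4 1 1)).mul_right (n p e1 e2 b v).inv_right)

theorem Mc0 (r p : Rt E6) (h1 : 0 ≤ ip r p) (h2 : 0 ≤ ip r (gm p)) (a u b v : K) :
    M s y r a u * M s y p b v = M s y p b v * M s y r a u := by
  by_cases h3 : p = r
  · rw [h3]; exact h.Mc2 r a u b v
  by_cases h4 : p = gm r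
  · rw [h4, h.Mgm]; exact h.Mc2 r a u b _
  exact h.Mc1 h1 h2 h3 h4 a u b v

end Hy

theorem hy_of (kb : T.KB) {e : T.X →* G} {t : G} (b : T.B4 e.range (T.xe e) t y) :
    Hy T (fun r u => e (T.xs r u)) y where
  st := b.st.stN
  yc r ρ h c u := ((mem_centralizer_iff.1 (b.cp r c)) _ ⟨⟨_, rfl⟩, mem_centralizer_iff.2 fun g hg => by
    obtain ⟨d, rfl⟩ := (kb.st.map e).mem_XR.1 hg
    rw [← map_mul, ← map_mul, kb.cx r ρ h]⟩).symm
  add r u v := by rw [← map_mul, T.xs_add]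
  sgm r u := by rw [T.xs_gm]
  lng r u := by
    obtain ⟨c, hc⟩ := T.exists_tr u
    rw [T.xs_lr r hc, ← hc, b.yx]
  c0 r p h1 h2 a c := by rw [← map_mul, ← map_mul, kb.c0 r p h1 h2]
  cs r p h1 h2 a c := by rw [← map_inv, ← map_mul, ← map_mul, ← map_mul, kb.cs r p h1 h2]
  cj r v p h1 h2 h3 u := by
    obtain ⟨n, hn⟩ := T.exists_nm u
    have := congrArg e (kb.cj r v p h1 h2 h3 u n 1 hn)
    rw [map_one, one_mul, one_mul] at this
    rw [← hn, ← map_one T.ι, b.yx, b.yx]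
    simpa using this
  tor v k hk r u := by
    have h1 : ∀ c, nn D4 y v (T.ι c) = e (nn D4 T.x v c) := fun c => by
      rw [nn_eq, nn_eq, ← map_inv₀, ← map_neg, ← negR_val, b.yx, b.yx, map_mul, map_mul]
    have h2 : hh D4 y v (T.ι k) = e (hh D4 T.x v k) := by
      rw [hh_eq, hh_eq, map_mul, ← h1, ← h1, map_neg, map_one]
    rw [h2, ← map_inv, ← map_mul, ← map_mul, kb.tor v k hk]

theorem jobM1 : JobM1.{u} := by
  intro F K _ _ _ _ _ _ T xf G _ _ e t ht y b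
  have h := hy_of xf.kb b
  refine ⟨M (fun r u => e (T.xs r u)) y, h.addl, h.addr, h.bal, h.one, h.Mgm, h.M_lng, h.Mc0, h.Mcs,
    h.Mcj, fun r a u => ?_, fun r a u => ?_⟩
  · by_cases ha : a = 0
    · simp [ha, M_zero]
    have h1 : ∀ (v : Rt D4) c, t * nn D4 y v c * t⁻¹ = nn D4 y v (T.σ c) := fun v c => by
      rw [nn_eq, nn_eq, ← map_inv₀, ← map_neg, ← negR_val, ← b.ty, ← b.ty]; group
    have h2 : t * hh D4 y (pk r) a * t⁻¹ = hh D4 y (pk r) (T.σ a) := by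
      rw [hh_eq, hh_eq, ← conj_mul, h1, h1, map_neg, map_one]
    have h3 : t * e (T.xs r u) * t⁻¹ = e (T.xs r u) := by
      rw [← mem_centralizer_iff.1 ht _ ⟨_, rfl⟩, mul_inv_cancel_right]
    rw [M_ne _ ha, M_ne _ ((map_ne_zero T.σ).2 ha), ← conj_mul, ← conj_mul, h3, ← h2]
    group
  · by_cases ha : a = 0
    · rw [ha, M_zero]; exact one_mem _
    have h1 : hh D4 y (pk r) a ∈ e.range ⊔ GG D4 y := mem_sup_right (HH_le_GG (hh_mem_HH D4 y _ ha))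
    rw [M_ne _ ha]
    exact mul_mem (mul_mem h1 (mem_sup_left ⟨_, rfl⟩)) (inv_mem h1)

end H4.TEM1
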