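import Cfsg.Agent.H4.SFAB

/-! STD-F4, slot JB: from a commuting conjugate of `t` to an edge at a root element. -/

set_option autoImplicit false
set_option linter.unusedSectionVars false

namespace H4.SFJB

open H64.SG (O2 Cz Cs Ns cjs Is2 Inv2 IsO2 mem_Cs mem_Cz is2_of_sq)
open H67.SA (card_cjs)
open H59.SO (B0 B1 AutOn exists_ind exists_autOn inv2_e card_map_e range_cje)
open H64.SF H98 Subgroup
open H86.WR (XF)

universe u

theorem cjs_o2 {X : Type} [Group X] {A A' : Subgroup X} {u k : X} (hA : IsO2 A (Cz u))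
    (hA' : IsO2 A' (Cz (k * u * k⁻¹))) : cjs k A = A' := by
  rw [hA.eq, hA'.eq, cjs, map_pCoreOf_of_injective (MulAut.conj k).injective, ← H64.SG.cj_Cz]

variable {F : Type} [Field F] [Finite F] [CharP F 2] {G : Type u} [Group G] [Finite G]
  {e : XF F →* G} {t g : G} {u v : XF F}

theorem tt_conj (h : B1 e t) (h1 : TT e t u) (c : IsConj u v) : TT e t v := by
  obtain ⟨k, rfl⟩ := isConj_iff.1 c
  exact h1.trans (isConj_iff.2 ⟨e k, by rw [← conj_mul, h.conj_t, map_mul, map_mul, map_inv]⟩)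

theorem tt_sq (h : B1 e t) (h1 : TT e t u) : u * u = 1 := h.inj (by
  have := (H9.UF.inv2_conj h.inv h1).1
  rwa [mul_assoc, ← mul_assoc (e u), ← h.comm, ← mul_assoc, ← mul_assoc, h.inv.1, one_mul,
    ← map_mul, ← map_one e] at this)

theorem tt_rev (hu : u * u = 1) (h1 : g * t * g⁻¹ = t * e u) (h2 : g * e v * g⁻¹ = e u) :
    TT e t v := (isConj_iff.2 ⟨g, by
  rw [← conj_mul, h1, h2, mul_assoc, ← map_mul, hu, map_one, mul_one]⟩ : IsConj (t * e v) t).symm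

theorem aff (h : B0 e t) (ab : AB e t) {A : Subgroup (XF F)} (hu : Inv2 u) (hA : IsO2 A (Cz u))
    (h1 : TT e t u) (h2 : ∀ u' A', Inv2 u' → IsO2 A' (Cz u') → TT e t u' →
      Nat.card A' = Nat.card A → IsConj u u') :
    ∃ θ, AutOn A θ ∧ ∀ w ∈ A, TT e t w ↔ TT e t (u * θ w) := by
  obtain ⟨g, hg⟩ := isConj_iff.1 h1
  obtain ⟨-, u', A', k1, k2, k3, k4⟩ := ab.edge g u A hu hg hA
  obtain ⟨k, rfl⟩ := isConj_iff.1 (h2 u' A' k1 k2 (tt_rev hu.1 hg k3) (by
    rw [← card_map_e h.inj, ← card_cjs g, k4, card_map_e h.inj]))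
  obtain ⟨θ, a1, a2⟩ := exists_autOn h.inj (A := A) (g := g * e k) (cj_eq_self_iff.1 (by
    rw [← cjs_o2 hA k2] at k4
    rw [← cj_cj]
    exact (congrArg (cjs g) ((H59.SO.ind_conj k).cjs_map A)).trans k4))
  have c : ∀ w ∈ A, IsConj (t * e w) (t * e (u * θ w)) := fun w hw => isConj_iff.2 ⟨g * e k, by
    rw [← conj_mul, a2 w hw, map_mul, ← mul_assoc, ← hg]
    congr 1
    conv_rhs => rw [← h.conj_t k]
    group⟩
  exact ⟨θ, a1, fun w hw => ⟨fun r => r.trans (c w hw), fun r => r.trans (c w hw).symm⟩⟩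

theorem jobJB (hAB : JobAB.{u}) (hA : JobFA) (hI : JobFI) (hM : JobFM) : JobJB.{u} := by
  intro F _ _ _ G _ _ e t h ⟨s, s1, s2, s3⟩
  have fa := hA F
  have fi := hI F
  have ab := hAB F G e t h
  have si := H9.UF.inv2_conj h.inv s1
  obtain ⟨u, hu, tu⟩ : ∃ u, Inv2 u ∧ TT e t u := by
    obtain ⟨α, i⟩ := exists_ind h.inj (h.cz (mem_Cz.2 s3.symm))
    by_cases o : Outer α
    · have a2 := i.sq h.inj si.1
      obtain ⟨z, z1, z2⟩ := fa.oi α a2 o
      obtain ⟨l, hl⟩ := fa.inv α a2 o z (by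
        rw [H64.SG.mem_fx.1 (H64.SG.O2_le _ z1), z2.1])
      obtain ⟨g, rfl⟩ := isConj_iff.1 s1
      obtain ⟨u, r⟩ := (hAB F G _ _ (h.cje g)).ol (e z) (H4.SFAB.map_O2 e
        ((i.map_fx h.inj).le.trans inf_le_right) z1) ((is2_of_sq z2.1).map e)
      change g * e u * g⁻¹ = e z at r
      refine ⟨u, (inv2_e h.inj).1 (H9.UF.inv2_conj ((inv2_e h.inj).2 z2)
        (isConj_iff.2 ⟨g, r⟩).symm), isConj_iff.2 ⟨g⁻¹ * e l * g, ?_⟩⟩
      rw [h.comm, show e u = g⁻¹ * e z * g by rw [← r]; group, hl, map_mul, map_inv, ← i]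
      group
    · obtain ⟨v, rfl⟩ := not_forall.1 o |>.imp fun _ => not_not.1
      obtain ⟨k1, rfl | rfl⟩ := h.inner fa.ns s3.symm si.1 i
      · exact (ab.nr v s1).elim
      · exact ⟨v, ⟨k1, fun r => s2 (by rw [r, map_one, mul_one])⟩, s1⟩
  by_contra n
  have nr : ∀ w, Sh w ∨ Lg w → ¬ TT e t w := fun w a b => n ⟨w, a, b⟩
  have cl : ∀ w, Inv2 w → TT e t w → IsConj (xm F) w ∨ IsConj (xd F) w := fun w a b =>
    ((fi.cls w a).resolve_left fun r => nr w (Or.inl r) b).resolve_left fun r => nr w (Or.inr r) b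
  have t1 : TT e t 1 := by rw [TT, map_one, mul_one]
  by_cases hm : Inv2 (xm F) ∧ TT e t (xm F)
  · obtain ⟨θ, a1, a2⟩ := aff h ab hm.1 fi.o2m hm.2 fun u' A' k1 k2 k3 k4 =>
      (cl u' k1 k3).resolve_right fun r => by
        obtain ⟨k, rfl⟩ := isConj_iff.1 r
        rw [← cjs_o2 fi.o2d k2, card_cjs, fi.card.1, fi.card.2] at k4
        exact absurd (Nat.pow_right_injective (Finite.one_lt_card (α := F)) k4) (by decide)
    exact (hM F).m θ a1 (TT e t) t1 (fun w => tt_conj h.toB1 hm.2) nr a2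
  · have cd : ∀ w, Inv2 w → TT e t w → IsConj (xd F) w := fun w a b =>
      (cl w a b).resolve_left fun r => hm ⟨H9.UF.inv2_conj a r.symm, tt_conj h.toB1 b r.symm⟩
    have c := cd u hu tu
    have td := tt_conj h.toB1 tu c.symm
    obtain ⟨θ, a1, a2⟩ := aff h ab (H9.UF.inv2_conj hu c.symm) fi.o2d td
      fun u' _ k1 _ k3 _ => cd u' k1 k3
    exact (hM F).d θ a1 (TT e t) (fun w => ⟨fun r => or_iff_not_imp_left.2 fun k =>
      cd w ⟨tt_sq h.toB1 r, k⟩ r, fun r => r.elim (fun k => k ▸ t1) (tt_conj h.toB1 td)⟩) a2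

end H4.SFJB
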