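import Cfsg.Agent.H82.FSSpec3
import Cfsg.Agent.H92.Syl

/-! Tower FS, slot NbB: a neighbour commutes with the whole of `⁅X, X⁆`. -/

set_option autoImplicit false
set_option linter.unusedSectionVars false

namespace H4.FSNbB

open Cfsg Subgroup H82.FS
open scoped commutatorElement

universe u

variable {G : Type u} [Group G] [Finite G]

theorem nm {H : Subgroup G} {g x : G} (hg : g ∈ normalizer (H : Set G)) (hx : x ∈ H) :
    g * x * g⁻¹ ∈ H := (mem_normalizer_iff.1 hg x).1 hx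

theorem cmL {H : Subgroup G} {g x : G} (hg : g ∈ normalizer (H : Set G)) (hx : x ∈ H) :
    ⁅g, x⁆ ∈ H := mul_mem (nm hg hx) (inv_mem hx)

theorem cmR {H : Subgroup G} {g x : G} (hg : g ∈ normalizer (H : Set G)) (hx : x ∈ H) :
    ⁅x, g⁆ ∈ H := by rw [← commutatorElement_inv]; exact inv_mem (cmL hg hx)

theorem cml (a b e : G) : ⁅a * b, e⁆ = a * ⁅b, e⁆ * a⁻¹ * ⁅a, e⁆ := by
  simp only [commutatorElement_def]; group

theorem comm_of {H K : Subgroup G} (h : H ⊓ K = ⊥) {x y : G} (hx : x ∈ H) (hy : y ∈ K)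
    (hx' : x ∈ normalizer (K : Set G)) (hy' : y ∈ normalizer (H : Set G)) : Commute x y :=
  commutatorElement_eq_one_iff_commute.1 (mem_bot.1 (h ▸ ⟨cmR hy' hx, cmL hx' hy⟩))

theorem comm_of_sq {H : Subgroup G} (h : ∀ x ∈ H, x * x = 1) {x y : G} (hx : x ∈ H) (hy : y ∈ H) :
    Commute x y := by
  have i : ∀ x ∈ H, x⁻¹ = x := fun x hx => inv_eq_of_mul_eq_one_right (h x hx)
  have := i _ (mul_mem hx hy)
  rw [mul_inv_rev, i x hx, i y hy] at this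
  exact this.symm

theorem two_of_sq {H : Subgroup G} (h : ∀ x ∈ H, x * x = 1) : IsPGroup 2 H := fun x =>
  ⟨1, Subtype.ext (by simpa [pow_two] using h x x.2)⟩

/-- One side full forces the other side full. -/
theorem full {Z Z' N : Subgroup G} (hc : Nat.card Z = Nat.card Z') (h : Z ≤ normalizer (Z' : Set G))
    (hN : ∀ η ∈ Z, η ≠ 1 → ∀ w, Commute w η → w ∈ N) : Z' ≤ N := fun ζ hζ => by
  by_contra hn
  have hi : Function.Injective fun η : Z => (⟨η * ζ * η⁻¹, nm (h η.2) hζ⟩ : Z') := fun a b e => by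
    have e1 : a.1 * ζ * a.1⁻¹ = b * ζ * b.1⁻¹ := congrArg Subtype.val e
    by_contra hab
    refine hn (hN (b⁻¹ * a : Z) (b⁻¹ * a).2 (fun h1 => hab ?_) ζ ?_)
    · exact (inv_mul_eq_one.1 (Subtype.ext h1 : b⁻¹ * a = 1)).symm
    · change ζ * (b.1⁻¹ * a) = b.1⁻¹ * a * ζ
      calc _ = b.1⁻¹ * (b * ζ * b.1⁻¹) * a := by group
        _ = _ := by rw [← e1]; group
  obtain ⟨η, hη⟩ := (Nat.bijective_iff_injective_and_card _).2 ⟨hi, hc⟩ |>.2 1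
  have e1 : η.1 * ζ * η.1⁻¹ = 1 := congrArg Subtype.val hη
  rw [conj_eq_one_iff] at e1
  exact hn (e1 ▸ one_mem N)

variable {p : ℕ} {A N X : Subgroup G}

theorem Z_le (c : Cls 2 A X) : ⁅X, X⁆ ≤ X := c.1.le.trans inf_le_left

theorem Z_comm (c : Cls 2 A X) {z y : G} (hz : z ∈ ⁅X, X⁆) (hy : y ∈ X) : Commute y z :=
  c.2.1 hz y hy

theorem Z_A (c : Cls 2 A X) {z a : G} (hz : z ∈ ⁅X, X⁆) (ha : a ∈ A) : Commute a z :=
  (c.1.le hz).2 a ha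

theorem Z_sq (c : Cls 2 A X) : ∀ z ∈ ⁅X, X⁆, z * z = 1 := fun z hz => by
  rw [Subgroup.commutator_def] at hz
  induction hz using closure_induction with
  | mem x hx =>
    obtain ⟨u, hu, v, hv, rfl⟩ := hx
    have h1 := Z_comm c (commutator_mem_commutator hu hv) hu
    have h2 := Z_comm c (pow_two u ▸ c.2.2 u hu) hv
    calc _ = ⁅u, v⁆ * u * (v * u⁻¹ * v⁻¹) := by simp only [commutatorElement_def]; group
      _ = u * u * v * (u * u)⁻¹ * v⁻¹ := by rw [← h1.eq]; simp only [commutatorElement_def]; group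
      _ = 1 := by rw [← h2.eq]; group
  | one => exact one_mul 1
  | mul x y hx hy ix iy =>
    rw [← Subgroup.commutator_def] at hx hy
    rw [(Z_comm c hy (Z_le c hx)).symm.mul_mul_mul_comm, ix, iy, one_mul]
  | inv x _ ix => rw [← mul_inv_rev, ix, inv_one]

/-- `ζ = ρ c` with `c` centralising `A` and all `A`-conjugates of `ρ`. -/
theorem split (hL : Lin p 2 A) (hX : Sp 2 A X) (c : Cls 2 A X) {ζ y : G} (hy : y ∈ X)
    (hn : ζ ∈ normalizer (X : Set G)) (hd : y⁻¹ * ζ ∈ centralizer (A : Set G)) (h2 : ζ * ζ = 1) :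
    ∃ ρ ∈ X, ∃ e ∈ centralizer (A : Set G), ζ = ρ * e ∧ ∀ a ∈ A, Commute (a * ρ * a⁻¹) e := by
  obtain ⟨e, rfl⟩ : ∃ e, ζ = y * e := ⟨y⁻¹ * ζ, by group⟩
  rw [inv_mul_cancel_left] at hd
  have he : e ∈ normalizer (X : Set G) := by
    simpa using mul_mem (inv_mem (le_normalizer hy)) hn
  let W : Subgroup G :=
    { carrier := {w | w ∈ X ∧ ⁅w, e⁆ ∈ ⁅X, X⁆}
      mul_mem' := fun {a b} ha hb => ⟨mul_mem ha.1 hb.1, by
        rw [cml, (Z_comm c hb.2 ha.1).eq, mul_inv_cancel_right]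
        exact mul_mem hb.2 ha.2⟩
      one_mem' := ⟨one_mem _, by simp⟩
      inv_mem' := fun {a} ha => ⟨inv_mem ha.1, by
        have : ⁅a⁻¹, e⁆ = a⁻¹ * ⁅a, e⁆⁻¹ * a := by simp only [commutatorElement_def]; group
        rw [this, (Z_comm c (inv_mem ha.2) (inv_mem ha.1)).eq, inv_mul_cancel_right]
        exact inv_mem ha.2⟩ }
  have hW : W ≤ X := fun _ h => h.1
  have hA : A ≤ normalizer (W : Set G) := fun a ha => mem_normalizer_fintype fun w hw =>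
    ⟨nm (hX.2.1 ha) hw.1, by
      have : ⁅a * w * a⁻¹, e⁆ = a * ⁅w, a⁻¹ * e * a⁆ * a⁻¹ := by
        simp only [commutatorElement_def]; group
      rw [this, hd _ (inv_mem ha), inv_mul_cancel_right, (Z_A c hw.2 ha).eq, mul_inv_cancel_right]
      exact hw.2⟩
  have hyW : y ∈ W := ⟨hy, by
    have h3 : e * e = (y * (e * y * e⁻¹))⁻¹ :=
      eq_inv_of_mul_eq_one_right (by rw [← h2]; simp only [mul_assoc, inv_mul_cancel_left])
    have h4 : e * e ∈ ⁅X, X⁆ :=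
      c.1.ge ⟨by rw [h3]; exact X.inv_mem (mul_mem hy (nm he hy)), mul_mem hd hd⟩
    have h5 : ⁅y, e⁆ = y * (e * e) * y := by
      have : e * y⁻¹ * e⁻¹ = e * e * y := by rw [h3]; group
      rw [commutatorElement_def, mul_assoc y, mul_assoc y, this]; group
    rw [h5, (Z_comm c h4 hy).eq, mul_assoc]
    exact mul_mem h4 (pow_two y ▸ c.2.2 y hy)⟩
  have h0 := cen_comm hd (fun w (hw : w ∈ W) => hw.2) (c.1.le.trans inf_le_right)
    (c.2.1.trans (centralizer_le hW))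
  obtain ⟨ρ, hρ, η, hη, rfl⟩ := dec hL (hX.1.to_le hW) hA hyW
  have hη' : η ∈ ⁅X, X⁆ := c.1.ge ⟨hη.1.1, hη.2⟩
  refine ⟨ρ, hW (comm_le_left hA hρ), η * e, mul_mem hη.2 hd, mul_assoc _ _ _, fun a ha => ?_⟩
  have h1 := nm (right_le_norm_comm W A ha) hρ
  exact (Z_comm c hη' (hW (comm_le_left hA h1))).mul_right (mem_centralizer_singleton_iff.1 (h0 h1))

/-- In an elementary abelian `O = C_X(ρ e)` all conjugates of `ρ` lie. -/
theorem conj_rho (hL : Lin p 2 A) (hX : Sp 2 A X) (c : Cls 2 A X) {ρ e : G} (hρ : ρ ∈ X)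
    (he : ∀ a ∈ A, Commute (a * ρ * a⁻¹) e) (hO : ∀ u ∈ X, Commute u (ρ * e) → u * u = 1) :
    ∀ a ∈ A, Commute (a * ρ * a⁻¹) ρ := by
  have e1 : Commute ρ e := by simpa using he 1 (one_mem A)
  have r2 : ρ * ρ = 1 := hO ρ hρ ((Commute.refl ρ).mul_right e1)
  have k : ∀ a ∈ A, Commute (a * a * ρ * (a * a)⁻¹) ρ := fun a ha => by
    have x1 := nm (hX.2.1 ha) hρ
    have x2 := nm (hX.2.1 (inv_mem ha)) hρ
    have z1 := commutator_mem_commutator x1 hρ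
    have z2 := commutator_mem_commutator x2 hρ
    have h1 : ⁅a⁻¹ * ρ * a⁻¹⁻¹, ρ⁆ = ⁅a * ρ * a⁻¹, ρ⁆⁻¹ := by
      calc _ = a⁻¹ * ⁅a * ρ * a⁻¹, ρ⁆⁻¹ * a := by simp only [commutatorElement_def]; group
        _ = _ := by rw [(Z_A c (inv_mem z1) (inv_mem ha)).eq, inv_mul_cancel_right]
    have h2 : Commute (a * ρ * a⁻¹ * (a⁻¹ * ρ * a⁻¹⁻¹)) ρ := by
      rw [← commutatorElement_eq_one_iff_commute, cml, (Z_comm c z2 x1).eq, mul_inv_cancel_right, h1,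
        inv_mul_cancel]
    have h3 := hO _ (mul_mem x1 x2) (h2.mul_right ((he a ha).mul_left (he _ (inv_mem ha))))
    have h4 : ρ⁻¹ = ρ := inv_eq_of_mul_eq_one_right r2
    change _ = _
    rw [← mul_inv_eq_one]
    calc _ = a * (a * ρ * a⁻¹ * (a⁻¹ * ρ * a⁻¹⁻¹) * (a * ρ * a⁻¹ * (a⁻¹ * ρ * a⁻¹⁻¹))) * a⁻¹ := by
          simp only [mul_assoc, mul_inv_rev, inv_inv, h4, mul_inv_cancel, mul_one]
      _ = 1 := by rw [h3]; group
  intro a ha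
  have hc : (Nat.card A).Coprime 2 := by
    rw [hL.card]; exact (Nat.coprime_primes hL.hp Nat.prime_two).2 hL.p2
  obtain ⟨b, hb⟩ := (powCoprime hc).surjective ⟨a, ha⟩
  have : a = b * b := by rw [← pow_two]; exact (congrArg Subtype.val hb).symm
  exact this ▸ k b b.2

theorem proper (h : Geo p 2 A N) (iso : Iso A) (bf : BlkF 2 A) (hX : Blk 2 A X) (cf : ConjF 2 A X)
    {Z' N' : Subgroup G} (y1 : N' ≤ normalizer (Z' : Set G))
    (y2 : ∀ ζ ∈ Z', ζ ≠ 1 → ∀ w, Commute w ζ → w ∈ N') (y3 : ∀ ζ ∈ Z', ζ * ζ = 1)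
    (fp : ∀ ζ ∈ Z', ζ ≠ 1 → ζ ∈ normalizer (X : Set G) → ζ ∉ centralizer (A : Set G))
    {ζ₀ η : G} (z1 : ζ₀ ∈ Z') (z2 : ζ₀ ≠ 1) (z3 : ζ₀ ∈ normalizer (X : Set G))
    (e1 : η ∈ ⁅X, X⁆) (e2 : η ≠ 1) (e3 : η ∈ N')
    (p1 : ¬ ⁅X, X⁆ ≤ N') (p2 : ¬ Z' ≤ normalizer (X : Set G)) : False := by
  have : Fact (Nat.Prime 2) := ⟨Nat.prime_two⟩
  have c := h.cls X hX.1
  have x0 : X ⊓ Z' = ⊥ := eq_bot_iff.2 fun w hw => by
    by_contra h1
    exact p1 fun z hz => y2 w hw.2 h1 z (Z_comm c hz hw.1).symm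
  obtain ⟨O, hO⟩ : ∃ O, O = X ⊓ N' := ⟨_, rfl⟩
  obtain ⟨V, hV⟩ : ∃ V, V = Z' ⊓ normalizer (X : Set G) := ⟨_, rfl⟩
  have oX : O ≤ X := hO ▸ inf_le_left
  have oN : O ≤ normalizer (Z' : Set G) := (hO ▸ inf_le_right : O ≤ N').trans y1
  have vZ : V ≤ Z' := hV ▸ inf_le_left
  have vN : V ≤ normalizer (X : Set G) := hV ▸ inf_le_right
  have ov : ∀ u ∈ O, ∀ ζ ∈ V, Commute u ζ := fun u hu ζ hζ =>
    comm_of x0 (oX hu) (vZ hζ) (oN hu) (vN hζ)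
  have om : ∀ ζ ∈ V, ζ ≠ 1 → ∀ u ∈ X, Commute u ζ → u ∈ O := fun ζ hζ h1 u hu h2 =>
    hO ▸ ⟨hu, y2 ζ (vZ hζ) h1 u h2⟩
  have eN : V ⊔ O ≤ normalizer (X : Set G) := sup_le vN (oX.trans le_normalizer)
  have s2 : IsPGroup 2 (Z' ⊔ O : Subgroup G) :=
    IsPGroup.to_sup_of_normal_left' (two_of_sq y3) (hX.1.1.to_le oX) oN
  have lt : V ⊔ O < Z' ⊔ O := lt_of_le_of_ne (sup_le_sup_right vZ O) fun e =>
    p2 (le_sup_left.trans (e.ge.trans eN))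
  obtain ⟨s, hs, sN, sn⟩ := H92.exists_mem_normalizer_not_mem s2 lt
  obtain ⟨η₀, h0, o, ho, rfl⟩ := mem_sup_norm oN hs
  replace sN : η₀ ∈ normalizer ((V ⊔ O : Subgroup G) : Set G) := by
    simpa using mul_mem sN (inv_mem (le_normalizer (mem_sup_right ho : o ∈ V ⊔ O)))
  replace sn : η₀ ∉ normalizer (X : Set G) := fun h1 => sn (mul_mem_sup (hV ▸ ⟨h0, h1⟩) ho)
  have oe : ∀ u ∈ O, u * u = 1 := fun u hu => by
    by_contra h1
    refine sn (cf.cz _ (pow_two u ▸ c.2.2 u (oX hu)) h1 (mem_centralizer_singleton_iff.2 ?_))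
    have h2 : ⁅u, η₀⁆ ∈ V := hV ▸ ⟨cmL (oN hu) h0, eN (cmR sN (mem_sup_right hu))⟩
    refine (commutatorElement_eq_one_iff_commute.1 ?_).symm.eq
    calc _ = u * ⁅u, η₀⁆ * u⁻¹ * ⁅u, η₀⁆ := by simp only [commutatorElement_def]; group
      _ = 1 := by rw [(ov u hu _ h2).eq, mul_inv_cancel_right, y3 _ (vZ h2)]
  have st : ∀ ζ ∈ V, ζ ≠ 1 → ∃ ρ e, e ∈ centralizer (A : Set G) ∧ ζ = ρ * e ∧
      ∀ a ∈ A, a * ρ * a⁻¹ ∈ O := fun ζ hζ h1 => by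
    obtain ⟨y, hy, hd⟩ := cf.dec ζ (vN hζ)
    obtain ⟨ρ, hρ, e, he, rfl, hc⟩ := split h.lin hX.1 c hy (vN hζ) hd (y3 ζ (vZ hζ))
    exact ⟨ρ, e, he, rfl, fun a ha => om _ hζ h1 _ (nm (hX.1.2.1 ha) hρ)
      ((conj_rho h.lin hX.1 c hρ hc (fun u hu h2 => oe u (om _ hζ h1 u hu h2)) a ha).mul_right
        (hc a ha))⟩
  have z4 : ζ₀ ∈ V := hV ▸ ⟨z1, z3⟩
  obtain ⟨ρ, e, he, rfl, hρ⟩ := st ζ₀ z4 z2
  have r0 : ρ ∈ O := by simpa using hρ 1 (one_mem A)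
  have aO : A ≤ normalizer (O : Set G) := fun a ha => mem_normalizer_fintype fun u hu => by
    refine om _ z4 z2 _ (nm (hX.1.2.1 ha) (oX hu)) (Commute.mul_right ?_ ?_)
    · have h1 := comm_of_sq oe hu (hρ _ (inv_mem ha))
      calc _ = a * (u * (a⁻¹ * ρ * a⁻¹⁻¹)) * a⁻¹ := by group
        _ = _ := by rw [h1.eq]; group
    · have h1 : Commute u e := by
        simpa using (comm_of_sq oe hu r0).inv_right.mul_right (ov u hu _ z4)
      have h2 : Commute a e := he a ha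
      exact (h2.mul_left h1).mul_left h2.inv_left
  have aE : A ≤ normalizer ((V ⊔ O : Subgroup G) : Set G) := fun a ha => norm_of_cj_le (by
    rw [cj_sup, cj_eq_iff.2 (aO ha)]
    refine sup_le ?_ le_sup_right
    rintro _ ⟨ζ, hζ, rfl⟩
    change a * ζ * a⁻¹ ∈ _
    by_cases h1 : ζ = 1
    · simp [h1]
    obtain ⟨ρ', e', he', rfl, hρ'⟩ := st ζ hζ h1
    have : a * (ρ' * e') * a⁻¹ = a * ρ' * a⁻¹ * (1 * ρ' * 1⁻¹)⁻¹ * (ρ' * e') := by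
      calc _ = a * ρ' * (a⁻¹ * e') := by rw [he' _ (inv_mem ha)]; group
        _ = _ := by group
    rw [this]
    exact mul_mem (mem_sup_right (mul_mem (hρ' a ha) (inv_mem (hρ' 1 (one_mem A)))))
      (mem_sup_left hζ))
  have e4 : η ∈ O := hO ▸ ⟨Z_le c e1, e3⟩
  obtain ⟨R, r1, r2, r3, r4, r5⟩ := h.R (h.norm_ne_top (s2.to_le lt.le) fun h1 =>
    e2 (mem_bot.1 (h1 ▸ mem_sup_right e4))) aE
  have l1 := sp_comm h.lin (hX.1.1.to_le oX) aO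
  have l2 := comm_le_left aO
  have l3 := r4 _ l1 (l2.trans (le_sup_right.trans le_normalizer))
  have l4 : ⁅O, A⁆ ≠ ⊥ := fun h1 =>
    fp _ z1 z2 z3 (mul_mem (commutator_eq_bot_iff_le_centralizer.1 h1 r0) he)
  have rX : R ≤ X := by
    obtain ⟨W, hW, rW⟩ := exists_blk r1
    by_cases wx : X = W
    · exact wx ▸ rW
    have w1 : W ≠ cj η W := fun h1 =>
      e2 (mem_bot.1 (bf.zl X W hX hW wx ▸ ⟨e1, cj_eq_iff.1 h1.symm⟩))
    have w2 : R ≤ cj η W := by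
      rw [← cj_eq_iff.2 (r3 (le_normalizer (mem_sup_right e4)))]
      exact cj_mono η rW
    have w3 : ⁅R, R⁆ = ⊥ := eq_bot_iff.2 ((le_inf (commutator_mono rW rW) (commutator_mono w2 w2)).trans
      (hW.Z_inf h (hW.cj (h.Z_cen hX.1 e1)) w1).le)
    exact (bf.lag _ X W l1 l4 hX hW wx (l2.trans oX) (l3.trans rW)).2 R r1
      ((commutator_eq_bot_iff_le_centralizer.1 w3).trans
        ((centralizer_le l3).trans (centralizer_le_normalizer _)))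
  obtain ⟨y, hy, e5⟩ := r5 η₀ (cj_le_of aE sN)
  have c1 : y⁻¹ * η₀ ∈ centralizer (A : Set G) := iso (cj_eq_iff.1 (by rw [cj_mul, e5, cj_inv_cj]))
  have c2 : y⁻¹ * η₀ ∈ normalizer ((V ⊔ O : Subgroup G) : Set G) :=
    mul_mem (inv_mem (r2 hy)) sN
  by_cases hx : cj (y⁻¹ * η₀) X = X
  · exact sn (by simpa using mul_mem (le_normalizer (rX hy)) (cj_eq_iff.1 hx))
  · have h1 : y⁻¹ * η₀ * η * (y⁻¹ * η₀)⁻¹ ∈ (⊥ : Subgroup G) := bf.zl _ X (hX.cj c1) hX hx ▸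
      ⟨cj_comm _ X X ▸ conj_mem_cj e1, eN (nm c2 (mem_sup_right e4))⟩
    exact e2 (conj_eq_one_iff.1 (mem_bot.1 h1))

theorem jobNbB : JobNbB.{u} := by
  rintro G _ _ p A N X h iso bf hX cf fpf g hg ⟨z₀, h1, h2, h3⟩ z hz z' hz'
  have c := h.cls X hX.1
  have x1 : normalizer (X : Set G) ≤ normalizer ((⁅X, X⁆ : Subgroup G) : Set G) :=
    le_norm_comm le_rfl le_rfl
  have x2 : ∀ η ∈ ⁅X, X⁆, η ≠ 1 → ∀ w, Commute w η → w ∈ normalizer (X : Set G) :=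
    fun η h1 h2 w h3 => cf.cz η h1 h2 (mem_centralizer_singleton_iff.2 h3)
  have y1 : cj g (normalizer (X : Set G)) ≤ normalizer (cj g ⁅X, X⁆ : Set G) :=
    cj_norm g ⁅X, X⁆ ▸ cj_mono g x1
  have y2 : ∀ ζ ∈ cj g ⁅X, X⁆, ζ ≠ 1 → ∀ w, Commute w ζ → w ∈ cj g (normalizer (X : Set G)) :=
    fun ζ h1 h2 w h3 => mem_cj.2 (x2 _ (mem_cj.1 h1) (fun h => h2 (by
      calc ζ = g * (g⁻¹ * ζ * g) * g⁻¹ := by group
        _ = 1 := by rw [h]; group)) _ (by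
      calc _ = g⁻¹ * (w * ζ) * g := by group
        _ = _ := by rw [h3.eq]; group))
  have y3 : ∀ ζ ∈ cj g ⁅X, X⁆, ζ * ζ = 1 := by
    rintro _ ⟨ζ, h1, rfl⟩
    rw [← map_mul, Z_sq c ζ h1, map_one]
  have y4 : ⁅X, X⁆ ⊓ cj g ⁅X, X⁆ = ⊥ := eq_bot_iff.2 (by
    rintro _ ⟨h1, ζ, h2, rfl⟩
    by_contra h3
    exact hg (cf.ti g ζ h2 (fun h => h3 (by simp [h])) h1))
  have fin : ⁅X, X⁆ ≤ cj g (normalizer (X : Set G)) → cj g ⁅X, X⁆ ≤ normalizer (X : Set G) →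
      Commute (g * z * g⁻¹) z' := fun p1 p2 =>
    (comm_of y4 hz' (conj_mem_cj hz) (y1 (p1 hz')) (x1 (p2 (conj_mem_cj hz)))).symm
  by_cases p1 : ⁅X, X⁆ ≤ cj g (normalizer (X : Set G))
  · exact fin p1 (full (card_cj g _).symm (p1.trans y1) x2)
  by_cases p2 : cj g ⁅X, X⁆ ≤ normalizer (X : Set G)
  · exact fin (full (card_cj g _) (p2.trans x1) y2) p2
  have z1 : g * z₀ * g⁻¹ ∈ cj g ⁅X, X⁆ := conj_mem_cj h1
  have z2 : g * z₀ * g⁻¹ ≠ 1 := fun h => h2 (conj_eq_one_iff.1 h)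
  have z3 := y3 _ z1
  obtain ⟨η, e1, e2, e3⟩ : ∃ η ∈ ⁅X, X⁆, η ≠ 1 ∧ Commute η (g * z₀ * g⁻¹) := by
    generalize g * z₀ * g⁻¹ = ζ at *
    by_cases h4 : z₀ * (ζ * z₀ * ζ⁻¹) = 1
    · refine ⟨z₀, h1, h2, ?_⟩
      have h5 := mul_left_cancel (h4.trans (Z_sq c z₀ h1).symm)
      exact (mul_inv_eq_iff_eq_mul.1 h5).symm
    · have h5 := nm (x1 h3) h1
      refine ⟨_, mul_mem h1 h5, h4, ?_⟩
      calc _ = z₀ * (ζ * z₀ * ζ⁻¹) * (ζ * ζ) * ζ⁻¹ := by group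
        _ = ζ * z₀ * ζ⁻¹ * z₀ * ζ⁻¹ := by rw [z3, mul_one, (Z_comm c h5 (Z_le c h1)).eq]
        _ = ζ * z₀ * (ζ * ζ) * ζ⁻¹ * z₀ * ζ⁻¹ := by rw [z3, mul_one]
        _ = _ := by group
  refine (proper h iso bf hX cf y1 y2 y3 ?_ z1 z2 h3 e1 e2 (y2 _ z1 z2 η e3) p1 p2).elim
  rintro _ ⟨ζ, h4, rfl⟩ h5 h6
  have := fpf g hg ζ h4 (fun h => h5 (by simp [h])) h6 1 (one_mem X)
  rwa [cj_one] at this

end H4.FSNbB
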