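import Cfsg.Agent.H36.E7MSpec
import Cfsg.Agent.S2209

/-! E7MAX, slot CZ: `C(z) = L Q`. -/

set_option autoImplicit false

namespace H4.E7MCZ

open Cfsg.Lie Subgroup H36.E7M

theorem pos_ge : ∀ r < 126, chevE7.IsPosRoot r → 33 ≤ r := by decide +kernel

theorem jobCZ : JobLQ → JobCZ := fun h g hg => by
  have key : ∀ r, 33 ≤ r → r < 126 → ∀ (c : F) (a : GL chevE7.Idx F),
      (a : Matrix chevE7.Idx chevE7.Idx F) = chevE7.x F r c →
      a ∈ (L ⊔ Q).map (chevE7.group F).subtype := fun r h1 h2 c a e => by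
    rw [show a = (H63.xG chevE7 F r c).1 from Units.ext (e.trans (H63.val_eq_xG.2 rfl).symm)]
    rcases (by decide : ∀ c : ZMod 2, c = 0 ∨ c = 1) c with rfl | rfl
    · rw [H63.xG_val, H65.xU_zero]; exact one_mem _
    · refine ⟨x r, ?_, rfl⟩
      by_cases k : r ≤ 92
      exacts [mem_sup_left (x_mem_L h1 k), mem_sup_right (x_mem_Q (by omega) h2)]
  have e := Cfsg.Agent.S2209.result (F := F) (chevE7, [47, 52, 56, 59, 61, 62]) (by simp) z.1
    (x_val 125)
  obtain ⟨g', m, e'⟩ := (e.le.trans (sup_le ((closure_le _).2 (by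
    rintro a ⟨r, c, k, e⟩
    exact key r (pos_ge r k.1 k) k.1 c a e)) ((closure_le _).2 (by
    rintro a ⟨r, k, c, e⟩
    simp only [List.mem_cons, List.not_mem_nil, or_false] at k
    exact key r (by omega) (by omega) c a e))))
      ⟨g.2, mem_centralizer_singleton_iff.2 (hg.map (chevE7.group F).subtype).eq⟩
  obtain rfl : g' = g := Subtype.ext e'
  rw [coe_mul_of_left_le_normalizer_right L Q fun l hl => mem_normalizer_iff.2 fun q =>
    ⟨h.1 l hl q, fun k => cj_inv_cj l q ▸ h.1 _ (inv_mem hl) _ k⟩] at m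
  obtain ⟨l, hl, q, hq, rfl⟩ := m
  exact ⟨l, hl, q, hq, rfl⟩

end H4.E7MCZ
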