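import Cfsg.Agent.H4.QeJ2a
import Cfsg.Agent.H4.QeJ2b
import Cfsg.Agent.H4.JInv
import Cfsg.Agent.H4.SpA
import Cfsg.Agent.H4.Ico5
import Cfsg.Agent.H63.QeKit
import Cfsg.Agent.H80.QEK
import Cfsg.Agent.H15.OutJ2
import Cfsg.Agent.H81.J2S
import Cfsg.Agent.H44.L168a
import Cfsg.Agent.H87.Simple

/-! Tower QE, job `JobJ2`: involutory automorphisms of the Hall–Janko group. -/

set_option autoImplicit false
set_option maxRecDepth 100000

namespace H4.QJ

open Cfsg Subgroup H14 H98 H36.QE H49 H71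
open H14.CO (cen cen1 nor mem_cen mem_cen1)
open scoped commutatorElement

universe u v

section Gen

variable {S Γ : Type*} [Group S] [Group Γ] [Finite S]

theorem exists_aut {ι : S →* Γ} (hι : Function.Injective ι) (σ : Γ) {L : List S}
    (hL : closure {x | x ∈ L} = ⊤) (h : ∀ s ∈ L, ∃ t, ι t * σ = σ * ι s) :
    ∃ τ : MulAut S, ∀ x, ι (τ x) * σ = σ * ι x := by
  have key : ∀ x, ∃ t, ι t * σ = σ * ι x := fun x => by
    have : closure {x | x ∈ L} ≤ (ι.range.comap (MulAut.conj σ).toMonoidHom).comap ι :=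
      (closure_le _).2 fun s hs => (h s hs).imp fun _ e => eq_mul_inv_of_mul_eq e
    exact (this (hL ▸ mem_top x)).imp fun _ e => mul_eq_of_eq_mul_inv e
  choose f hf using key
  let φ : S →* S := MonoidHom.mk' f fun x y => hι (mul_right_cancel (b := σ) (by
    rw [hf, map_mul, map_mul, mul_assoc, hf y, ← mul_assoc, ← mul_assoc, hf x]))
  have hi : Function.Injective φ := fun x y e => hι (mul_left_cancel (a := σ) (by
    rw [← hf, ← hf]; exact congrArg (fun t => ι t * σ) e))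
  exact ⟨MulEquiv.ofBijective φ (Finite.injective_iff_bijective.1 hi), hf⟩

/-- `Lift4` from a projective model. -/
theorem lift4_of_proj {A : Type*} [CommGroup A] (h : HasSchurMultiplier S A) (h4 : ¬ 4 ∣ Nat.card A)
    (hS : commutator S = ⊤) (N : Subgroup Γ) [N.Normal] (hz : N ≤ center Γ)
    (h2 : ∀ k ∈ N, k * k = 1) (φ : S →* Γ ⧸ N) {x : S} {m : Γ} (e : φ x = m) (hm : m * m ≠ 1) :
    Lift4.{v} x := by
  let P : Subgroup (S × Γ) :=
    (φ.comp (MonoidHom.fst S Γ)).eqLocus ((QuotientGroup.mk' N).comp (MonoidHom.snd S Γ))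
  have hk : ∀ k : P, k.1.1 = 1 → k.1.2 ∈ N := fun k h1 => (QuotientGroup.eq_one_iff _).1 (by
    rw [← show φ k.1.1 = (k.1.2 : Γ ⧸ N) from k.2, h1, map_one])
  refine lift4_of_model h h4 hS ((MonoidHom.fst S Γ).comp P.subtype) (fun s => ?_)
    (fun k h1 => mem_center_iff.2 fun g => Subtype.ext (Prod.ext ?_
      (mem_center_iff.1 (hz (hk k h1)) _))) (fun k h1 => Subtype.ext (Prod.ext ?_ (h2 _ (hk k h1))))
    (y := ⟨(x, m), e⟩) fun h1 => hm (congrArg (fun k : P => k.1.2) h1)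
  · obtain ⟨g, hg⟩ := QuotientGroup.mk_surjective (φ s)
    exact ⟨⟨(s, g), hg.symm⟩, rfl⟩
  · show g.1.1 * k.1.1 = k.1.1 * g.1.1
    rw [show k.1.1 = 1 from h1, mul_one, one_mul]
  · show k.1.1 * k.1.1 = 1
    rw [show k.1.1 = 1 from h1, mul_one]

/-- A simple group of order `168` has no automorphism of order five. -/
theorem aut168 [IsSimpleGroup S] (h : Nat.card S = 168) {b : MulAut S} (hb : b ^ 5 = 1) : b = 1 := by
  classical
  have : Fact (Nat.Prime 5) := ⟨by norm_num⟩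
  have key : ∀ k, ¬ 5 ∣ Nat.card {g : S // orderOf g = k} → k ∣ Nat.card (Fix b) := fun k hk => by
    have := Fintype.ofFinite {g : S // orderOf g = k}
    obtain ⟨x, hx⟩ := Equiv.Perm.exists_fixed_point_of_prime (p := 5) (n := 1)
      (σ := (MulAut.toPerm S b).subtypePerm (p := fun g => orderOf g = k) fun x => by
        rw [← b.orderOf_eq x]; rfl)
      (by rwa [← Nat.card_eq_fintype_card])
      (by rw [pow_one, Equiv.Perm.subtypePerm_pow]; ext x; simp [← map_pow, hb])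
    exact x.2 ▸ Subgroup.orderOf_dvd_natCard (Fix b) (congrArg Subtype.val hx)
  have h1 := Nat.Coprime.mul_dvd_of_dvd_of_dvd (by norm_num)
    (key 4 (by rw [H44.L168.card_ord4 h]; norm_num)) (key 7 (by rw [H44.L168.card_ord7 h]; norm_num))
  have h2 : (Fix b).index ∣ 6 := by
    obtain ⟨k, hk⟩ := h1
    have := (Fix b).card_mul_index
    rw [h, hk] at this
    exact ⟨k, by linarith⟩
  have h3 : Fix b = ⊤ := by
    by_contra h3
    have := (H87.two_mul_card_dvd_factorial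
      (H87.nonabelian_of_card_not_prime (by rw [h]; norm_num)) _ h3).trans
      (Nat.factorial_dvd_factorial (Nat.le_of_dvd (by norm_num) h2))
    rw [h] at this
    revert this; decide
  exact MulEquiv.ext fun x => (h3 ▸ mem_top x : x ∈ Fix b)

omit [Finite S] in
theorem one_alt5 : H36.QE.One (alternatingGroup (Fin 5)) := fun x y hx hy =>
  have key : ∀ x : alternatingGroup (Fin 5), x * x = 1 → x = 1 ∨ ∃ g, g * H61.a5s * g⁻¹ = x := by
    decide +kernel
  (isConj_iff.2 ((key x hx.2).resolve_left hx.1)).symm.trans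
    (isConj_iff.2 ((key y hy.2).resolve_left hy.1))

end Gen

open H4.M2

theorem nc : ¬ IsMulCommutative X := fun e => absurd (e.1.1 p q) (by decide +kernel)

theorem hz : center X = ⊥ := H87.center_eq_bot nc

theorem lift4 : Lift4.{v} a := by
  have h1 : zpowers (lf 10) ≤ center (UG DA) := zpowers_le.2 (mem_center_iff.2 fun x =>
    mem_cz.1 ((closure_le (centralizer {lf 10})).2 (fun s hs => mem_cz.2 (ep_gs s hs))
      (gs_top ▸ mem_top x)))
  have hN : (zpowers (lf 10)).Normal := ⟨fun n hn x => by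
    rwa [mem_center_iff.1 (h1 hn) x, mul_inv_cancel_right]⟩
  have key : ∀ x : UG DA, x = 1 ∨ x = lf 10 → QuotientGroup.mk' (zpowers (lf 10)) x = 1 := by
    rintro _ (rfl | rfl)
    exacts [map_one _, (QuotientGroup.eq_one_iff _).2 (mem_zpowers _)]
  have S : Sat 8 20 RJ2 fun l => QuotientGroup.mk' (zpowers (lf 10)) (val2 l) := by
    refine ⟨fun l => eq_inv_of_mul_eq_one_left ?_, map_one _, fun r hr => ?_⟩
    · rw [← map_mul]
      refine key _ ((lt_or_ge l 20).elim (inv2 l) fun hl => .inl ?_)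
      have : val2 l = 1 := by
        unfold val2 vv mkVal
        rw [nth_eq_getD, List.getD_eq_default _ _ (by simpa [expandG] using hl)]
      rw [linv_eq, if_pos (by omega), this, mul_one]
    · rw [← map_evw]; exact key _ (rel2 r hr)
  obtain ⟨φ, h2, -⟩ := exists_hom_of_model (bdJ2 (S.pair sat)) gen_top card.ge
  refine lift4_of_proj H81.J2S.main (by simp) (H87.commutator_eq_top nc) _ h1 ?_ φ
    (h2 14 (by decide)) a_sq
  rintro _ ⟨k, rfl⟩
  show lf 10 ^ k * lf 10 ^ k = 1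
  rw [← (Commute.refl _).mul_zpow, ep_sq, one_zpow]

theorem emb_inj : Function.Injective emb := subHom_inj _ _

/-- The outer involution. -/
noncomputable def tau : MulAut X :=
  (exists_aut emb_inj sig gens_top fun s hs => (sig_gens s hs).imp fun _ e => e.2).choose

theorem tau_spec (x : X) : emb (tau x) * sig = sig * emb x :=
  (exists_aut emb_inj sig gens_top fun s hs => (sig_gens s hs).imp fun _ e => e.2).choose_spec x

theorem tau_eq {x w : X} : tau x = w ↔ emb w * sig = sig * emb x :=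
  ⟨fun e => e ▸ tau_spec x, fun e => emb_inj (mul_right_cancel ((tau_spec x).trans e.symm))⟩

theorem tau_tau (x : X) : tau (tau x) = x := tau_eq.2 (by
  rw [← mul_left_inj sig, mul_assoc, mul_assoc, tau_spec, ← mul_assoc sig, sig_sq, one_mul, mul_one])

theorem tau_h : tau h = h * z := tau_eq.2 (by decide +kernel)

/-- The stabiliser of the two points of an edge. -/
noncomputable def L0 : Subgroup X := closure {s | s ∈ S2}

theorem L0_le : L0 ≤ Fix tau := (closure_le _).2 fun s hs => tau_eq.2 (sig_S2 s hs)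

theorem card_L0 : Nat.card L0 = 168 :=
  (le_antisymm st1.2.1 (le_card_of_lbOK st1.1)).trans (by decide +kernel)

theorem sg_L0 : sg ∈ L0 := st1.2.2 _ fp_eq fp_eq
theorem sg2_L0 : sg2 ∈ L0 := st1.2.2 _ fp_eq fp_eq

theorem cen_L0 {x : X} (hx : x ∈ cen L0) : x = 1 :=
  P7_sg2 x (mem_P7.1 (cent_P7 ▸ centralizer_le ((closure_le L0).2 (by simpa using sg_L0)) hx))
    (mem_cen.1 hx _ sg2_L0)

theorem conj_fix {x : X} {L : Subgroup X} (hx : L ≤ Fix (MulAut.conj x)) : x ∈ cen L :=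
  mem_cen.2 fun _ hl => mem_cen1.1 (Fix_conj x ▸ hx hl)

theorem tau_out (x : X) : MulAut.conj x ≠ tau := fun e => by
  have := tau_h
  rw [← e, cen_L0 (x := x) (conj_fix (e ▸ L0_le)), map_one, MulAut.one_apply] at this
  exact absurd this (by decide +kernel)

theorem dec (θ : MulAut X) : ∃ x, θ = MulAut.conj x ∨ θ = MulAut.conj x * tau := by
  by_cases e : θ ∈ Inn X
  · exact e.imp fun _ e => .inl e.symm
  · obtain ⟨x, e⟩ := (mul_mem_iff_of_index_two (H := Inn X) H15.OutJ2.out (a := θ) (b := tau⁻¹)).2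
      (iff_of_false e fun e => by obtain ⟨x, e⟩ := (Inn X).inv_mem_iff.1 e; exact tau_out x e)
    exact ⟨x, .inr (by rw [e, inv_mul_cancel_right])⟩

theorem fix_pts {x : X} (hx : x ∈ Fix tau) :
    (fp x 0 = 0 ∧ fp x 2 = 2) ∨ (fp x 0 = 2 ∧ fp x 2 = 0) := by
  have key : ∀ i : Fin 100, i = 0 ∨ i = 2 → fp x i = 0 ∨ fp x i = 2 := fun i hi => by
    refine (W3_fix _ (fp x i).2 fun w hw => ?_).imp Fin.ext Fin.ext
    obtain ⟨h1, h2⟩ := W3_ok w hw
    obtain ⟨h3, h4⟩ := sig_LZ (x⁻¹ * w * x)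
      (LZ_iff.2 ((LZ_iff.1 h1).trans (isConj_iff.2 ⟨x⁻¹, by rw [inv_inv]⟩)))
      (tau_eq.1 ((Fix tau).mul_mem ((Fix tau).mul_mem ((Fix tau).inv_mem hx) (tau_eq.2 h2)) hx))
    have h5 : fp (x⁻¹ * w * x) i = i := by
      rcases hi with rfl | rfl
      exacts [fp_eq h3, fp_eq h4]
    rw [map_mul, map_mul, map_inv, Equiv.Perm.mul_apply, Equiv.Perm.mul_apply,
      Equiv.Perm.inv_eq_iff_eq] at h5
    rw [← fp_val, h5]
  have ne : fp x 0 ≠ fp x 2 := (fp x).injective.ne (by decide)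
  rcases key 0 (.inl rfl) with e | e <;> rcases key 2 (.inr rfl) with e' | e'
  exacts [(ne (e.trans e'.symm)).elim, .inl ⟨e, e'⟩, .inr ⟨e, e'⟩, (ne (e.trans e'.symm)).elim]

theorem four_tau : 4 ∣ (Fix tau).index := by
  have h1 : Nat.card (Fix tau) ≤ 336 := by
    refine (card_le_of_inProd (L := [1, tau7] :: trs cL2) fun x hx => ?_).trans (by decide +kernel)
    rcases fix_pts hx with ⟨e, e'⟩ | ⟨e, e'⟩
    · exact ⟨1, by simp, x, inProd_of_card st1.1 st1.2.1 (st1.2.2 x e e'), (one_mul x).symm⟩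
    · refine ⟨tau7, by simp, tau7⁻¹ * x, inProd_of_card st1.1 st1.2.1 (st1.2.2 _ ?_ ?_),
        (mul_inv_cancel_left _ _).symm⟩
      · rw [map_mul, Equiv.Perm.mul_apply, e]; exact fp_eq
      · rw [map_mul, Equiv.Perm.mul_apply, e']; exact fp_eq
  obtain ⟨k, hk⟩ := card_dvd_of_le L0_le
  have h2 := (Fix tau).card_mul_index
  rw [M2.card, hk, card_L0] at h2
  rw [hk, card_L0] at h1
  have h3 : k ≤ 2 := by omega
  interval_cases k <;> omega

theorem top_pL : topS pL0 = SP0 := by rw [pL0, topS]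

theorem card_SP : Nat.card (closure {s | s ∈ SP0}) = 128 := by
  rw [← top_pL, card_of_chain pL_ub pL_lb]; decide +kernel

theorem lang {x : X} (hx : x * tau x = 1) : ∃ k, x = k⁻¹ * tau k := by
  obtain ⟨P, hP⟩ : ∃ P : Sylow 2 X, ∀ w, w ∈ P ↔ w ∈ closure {s | s ∈ SP0} :=
    ⟨Sylow.ofCard (closure {s | s ∈ SP0}) (by
      rw [card_SP, M2.card]; decide +kernel), fun _ => Iff.rfl⟩
  refine H63.Qe.lang2 P tau_tau (fun w hw => (hP _).2 ?_) (fun w hw e => ?_) hx
  · refine mem_comap.1 ((closure_le ((closure {s | s ∈ SP0}).comap tau.toMonoidHom)).2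
      (fun s hs => mem_comap.2 ?_) ((hP _).1 hw))
    obtain ⟨_, hm, e⟩ := sig_P s hs
    obtain ⟨k, -, rfl⟩ := List.mem_map.1 hm
    exact (tau_eq.2 e).symm ▸ wd_mem_closure _ _
  · have h0 := sig_out
    rw [UG.frcL_eq] at h0
    have h1 := of_allProd h0 (inProd_of_ubOK pL_ub (top_pL.symm ▸ (hP _).1 hw))
    rw [UG.frc_eq] at h1
    obtain ⟨k, -, h2⟩ := List.mem_map.1 (memB_iff.1 (of_decide_eq_true h1 (by
      rw [mul_assoc, ← mul_assoc sig, ← tau_spec, mul_assoc, sig_sq, mul_one, ← map_mul, e, map_one])))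
    refine ⟨wd gens k, emb_inj (mul_right_cancel (b := sig) ?_)⟩
    rw [← h2, map_mul, map_inv, mul_assoc, mul_assoc, tau_spec]

theorem card_a : Nat.card (cen1 a) = 240 :=
  (Nat.card_congr (second_invol (MulEquiv.refl _)).1.some.toEquiv).trans (by
    rw [Nat.card_prod, H61.card_alt5]; simp)

theorem index_a : (cen1 a).index = 2520 := by
  have := (cen1 a).card_mul_index
  rw [card_a, M2.card] at this
  omega

theorem ord_two {x : X} (hx : CO.Inv x) : orderOf x = 2 :=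
  orderOf_eq_prime (by rw [pow_two, hx.2]) hx.1

/-- The `2`-local configuration at the central involutions. -/
theorem loc5 {x : X} (hx : ZI x) : ∃ f ∈ cen1 x, f ^ 5 = 1 ∧ ∃ Q : Subgroup X, Q ≤ cen1 x ∧
    IsPGroup 2 Q ∧ f ∈ nor Q ∧ Q ≤ ⁅Q, zpowers f⁆ ∧ ¬ Cy2 Q := by
  obtain ⟨c, rfl⟩ := isConj_iff.1 ((invol_conj (ord_two hx.1)).resolve_right fun e => by
    have := (hx.conj e.symm).2
    rw [index_a] at this
    revert this; decide)
  let j : X1.X →* X := (MulAut.conj c).toMonoidHom.comp io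
  have hj : Function.Injective j := (MulAut.conj c).injective.comp jm.inj
  have hc : ∀ w, j w ∈ cen1 (c * z * c⁻¹) := fun w => mem_cen1.2 (by
    rw [show c * z * c⁻¹ = j X1.z by rw [← io_z]; rfl, ← map_mul, ← map_mul, z_cent])
  have hQ : Nat.card (Q0.map j) = 32 := (card_map_of_injective hj).trans X1.cq_card
  have h1 : Q0 ≤ ⁅Q0, zpowers X1.f⁆ := (closure_le _).2 fun s hs => by
    obtain ⟨w, -, rfl⟩ := List.mem_map.1 ((by decide +kernel : ∀ s ∈ X1.qg, s ∈ List.map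
      (wd ([X1.p, X1.q, X1.r, X1.s].map fun x => x * X1.f * x⁻¹ * X1.f⁻¹))
      [[2, 3], [1, 2, 3], [2, 0, 3], [1, 2], [0, 3], [0, 0]]) s hs)
    refine wd_mem (K := ⁅Q0, zpowers X1.f⁆.toSubmonoid) (fun y hy => ?_) w
    obtain ⟨v, hv, rfl⟩ := List.mem_map.1 hy
    exact commutator_mem_commutator (mem_Q0 ((show _ ⊆ X1.qg by simp [X1.qg]) hv)) (mem_zpowers _)
  refine ⟨j X1.f, hc _, by rw [← map_pow, show X1.f ^ 5 = 1 by decide +kernel, map_one], Q0.map j,
    by rintro _ ⟨w, -, rfl⟩; exact hc w, IsPGroup.of_card (n := 5) hQ,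
    le_normalizer_map _ (mem_map_of_mem _ (mem_normalizer_fintype (Q0_norm _))), ?_, ?_⟩
  · rw [← MonoidHom.map_zpowers, ← map_commutator]; exact map_mono h1
  · rintro ⟨w, -, e⟩
    have := (by decide : ∀ n ∈ [1, 2, 3, 4, 5, 6, 7, 8, 10, 12, 15], n ≤ 15) _ (ord_mem w)
    omega

theorem pv_tau (L : Subgroup X) (hL : CP L (Fix tau)) : PV.{v} tau L := by
  have hle : L ≤ L0 := H80.QE.le_of_sq (fun x hx => by
    rcases fix_pts hx with ⟨e, e'⟩ | ⟨e, e'⟩ <;>
      exact st1.2.2 _ (by rw [map_mul, Equiv.Perm.mul_apply, e]; assumption)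
        (by rw [map_mul, Equiv.Perm.mul_apply, e']; assumption)) hL.le hL.perfect
  obtain ⟨h1, k, hk, h2, -⟩ := H80.QE.cp_normal (hL.of_le hle L0_le) (q := 3) (k := 3) (π := [7])
    card_L0 (by decide) (by decide) (by decide)
  obtain rfl : k = 7 := by simpa using hk
  have h3 : ∀ x ∈ L0, x ^ 7 = 1 → x ∈ L := fun x =>
    H80.QE.mem_of_prime hle h1 (by norm_num) h2 (by rw [card_L0]; norm_num)
  obtain rfl : L = L0 := le_antisymm hle ((closure_le _).2 fun s hs => by
    obtain ⟨w, -, rfl⟩ := List.mem_map.1 (S2_sg s hs)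
    exact wd_mem (K := L.toSubmonoid) (List.forall_mem_cons.2 ⟨h3 _ sg_L0 (by decide +kernel),
      List.forall_mem_singleton.2 (h3 _ sg2_L0 (by decide +kernel))⟩) w)
  have := simple_of_quasi hL.quasi (eq_bot_iff.2 fun x hx => Subtype.ext (cen_L0 (mem_cen.2
    fun y hy => congrArg Subtype.val (mem_center_iff.1 hx ⟨y, hy⟩))))
  have ho : ∀ x : L0, CO.Inv x → orderOf x = 2 := fun x hx =>
    orderOf_eq_prime (by rw [pow_two, hx.2]) hx.1
  refine ⟨fun x _ hx _ => cen_L0 hx, four_tau, .inl ⟨⟨h, ⟨z, st1.2.2 _ fp_eq fp_eq⟩,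
    c1_of_one (fun x y hx hy => H44.L168.conj_of_ord card_L0 ((ho x hx).trans (ho y hy).symm)
      (by rw [ho x hx]; decide)) ⟨fun e => absurd (congrArg Subtype.val e) (by decide +kernel : z ≠ 1),
      Subtype.ext (by decide +kernel : z * z = 1)⟩, by rw [tau_h, inv_mul_cancel_left],
    (by decide +kernel : h * z = z * h)⟩, .inr (.inl ⟨fun θ hθ _ _ => ?_,
      ep_of_exp (m := 15) (k := 7) (fun x _ => (by decide :
        ∀ n ∈ [1, 2, 3, 4, 5, 6, 7, 8, 10, 12, 15], n ≤ 15) _ (ord_mem x))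
        (by rw [M2.card]; norm_num) (by norm_num),
      .inr ⟨5, by norm_num, by norm_num, fun _ _ _ _ => aut168 card_L0, fun _ => loc5⟩⟩)⟩⟩
  obtain ⟨x, rfl | rfl⟩ := dec θ
  · exact .inl (by rw [cen_L0 (conj_fix hθ), map_one])
  · rw [cen_L0 (x := x) (conj_fix fun l hl => by
      have := hθ hl
      rwa [mem_Fix, MulAut.mul_apply, show tau l = l from L0_le hl] at this), map_one, one_mul]
    exact .inr rfl

theorem not_f2 : ¬ IsConj f2 (f2 * f2) := fun e => by
  obtain ⟨c, e⟩ := isConj_iff.1 e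
  let P : Sylow 5 X := Sylow.ofCard P5 (by rw [card_P5, M2.card]; decide +kernel)
  have h1 : ∀ x ∈ P5, x ∈ centralizer (P : Set X) := fun x hx => cent_P5.ge hx
  obtain ⟨n, hn, e'⟩ := P.conj_eq_normalizer_conj_of_mem_centralizer f2 c⁻¹ (h1 _ f2_mem)
    (by rw [inv_inv, e]; exact h1 _ (mul_mem f2_mem f2_mem))
  exact f2_sq n (mem_N5.1 (norm_P5 ▸ hn)) (by rw [← e', inv_inv, e])

theorem pv_a (L : Subgroup X) (hL : CP L (Fix (MulAut.conj a))) : PV.{v} (MulAut.conj a) L := by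
  obtain ⟨ψ, ez, eu⟩ := H61.exists_hom_alt5 (a := z) (b := u) (by decide +kernel) (by decide +kernel)
    (by decide +kernel)
  have hs : IsSimpleGroup (alternatingGroup (Fin 5)) := alternatingGroup.isSimpleGroup (by simp)
  have hψ := H87.hom_injective ψ H61.a5s (by rw [ez]; decide +kernel)
  have mz : z ∈ ψ.range := ⟨_, ez⟩
  have mu : u ∈ ψ.range := ⟨_, eu⟩
  have cm : ∀ s ∈ [a, b, z, u], s * a = a * s ∧ s * b = b * s := by decide +kernel
  have hK : ψ.range ≤ cen1 a := by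
    rw [H61.range_eq_closure_pair H61.closure_a5, ez, eu]
    refine (closure_le _).2 ?_
    rintro _ (rfl | rfl) <;> exact mem_cen1.2 (cm _ (by simp)).1
  rw [Fix_conj] at hL
  have hle : L ≤ ψ.range := H80.QE.le_of_sq (fun x => H80.QE.sq_mem_of_split hK
    (H80.QE.split_of_gen hK (s := {s | s ∈ [a, b, z, u]}) (le_antisymm
      (fun x hx => cent_a (mem_cen1.1 hx)) ((closure_le _).2 fun s hs => mem_cen1.2 (cm s hs).1)) (by
      intro s hs
      simp only [List.mem_cons, List.not_mem_nil, or_false, Set.mem_ofPred_eq] at hs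
      have a2 : a * a = 1 := by decide +kernel
      have b2 : b * b = 1 := by decide +kernel
      rcases hs with rfl | rfl | rfl | rfl
      exacts [⟨a, mem_cen1.2 rfl, a2, fun s hs => (cm s hs).1, a2 ▸ one_mem _⟩,
        ⟨b, mem_cen1.2 (cm b (by simp)).1, b2, fun s hs => (cm s hs).2, b2 ▸ one_mem _⟩,
        ⟨1, one_mem _, one_mul _, by simp, by rwa [one_mul]⟩,
        ⟨1, one_mem _, one_mul _, by simp, by rwa [one_mul]⟩]))) hL.le hL.perfect
  obtain rfl : L = ψ.range := H63.Qe.cp_eq ψ (commutator_le.2 fun x hx y hy =>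
    mul_mem (mul_mem (mul_mem hx hy) (inv_mem hx)) (inv_mem hy)) le_rfl (hL.of_le hle hK)
  refine ⟨?_, by rw [Fix_conj, index_a]; norm_num, .inl ⟨⟨q * r, MonoidHom.ofInjective hψ H61.a5s,
    (c1_of_one one_alt5 ⟨by decide, by decide⟩).congr _, ?_, ?_⟩,
    .inr (.inr ⟨fun θ hθ h4 => ?_, a, mem_cen.2 fun l hl => mem_cen1.1 (hK hl), by decide +kernel,
      lift4⟩)⟩⟩
  · rintro _ ⟨x, rfl⟩ hx -
    have : x ∈ center _ := mem_center_iff.2 fun y => hψ (by
      rw [map_mul, map_mul, mem_cen.1 hx _ ⟨y, rfl⟩])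
    rw [alternatingGroup.center_eq_bot (by simp), mem_bot] at this
    rw [this, map_one]
  · rw [MonoidHom.ofInjective_apply, ez, MulAut.conj_apply]; decide +kernel
  · rw [MonoidHom.ofInjective_apply, ez]; decide +kernel
  have mf := mul_mem mz mu
  obtain ⟨x, rfl | rfl⟩ := dec θ
  · rw [← map_pow] at h4
    have h5 := orderOf_dvd_of_pow_eq_one (H63.Qe.conj_eq_one hz h4)
    have h6 : orderOf (z * u) = 5 := orderOf_eq_prime (by decide +kernel) (by decide +kernel)
    have h7 := ord_mem (z * u * x)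
    rw [Commute.orderOf_mul_eq_mul_orderOf_of_coprime (mem_cen.1 (conj_fix hθ) _ mf)
      (h6 ▸ Nat.Coprime.coprime_dvd_right h5 (by norm_num)), h6] at h7
    rw [← map_mul, ← pow_two, orderOf_dvd_iff_pow_eq_one.1 ((by decide : ∀ n ∈ Nat.divisors 4,
      5 * n ∈ [1, 2, 3, 4, 5, 6, 7, 8, 10, 12, 15] → n ∣ 2) _ (Nat.mem_divisors.2 ⟨h5, by norm_num⟩) h7),
      map_one]
  · have h5 := hθ (mul_mem mf mf)
    rw [mem_Fix, MulAut.mul_apply, tau_eq.2 f_sig, ← f_conj, conj_mul] at h5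
    exact (not_f2 ((isConj_iff.2 ⟨_, rfl⟩).trans ((isConj_iff.2 ⟨x, h5⟩).trans
      (isConj_iff.2 ⟨_, rfl⟩).symm))).elim

theorem ch_z : CharP 2 (cen1 z) :=
  have h := (io_z ▸ jm.jt).toLX
  charP_iff.2 (H4.Sp.ch2_of_sub _ h.toXS.isPGroup (fun x hx => mem_cen1.2 (h.z_comm x hx).symm)
    (fun c hc => h.norm c (mem_cen1.1 hc)) fun c _ hc => by
      obtain ⟨k, hk⟩ := h.toXS.isPGroup ⟨c, h.cent c hc⟩
      exact ⟨k, congrArg Subtype.val hk⟩)

theorem kv : KV.{v} X := KV.of_reps fun θ h1 h2 => by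
  obtain ⟨x, rfl | rfl⟩ := dec θ
  · rcases invol_conj (ord_two (inv_of_conj hz h1 h2)) with e | e
    · exact ⟨_, MulAut.conj.map_isConj e.symm, fun L hL => (kv_inner ch_z hL).elim⟩
    · exact ⟨_, MulAut.conj.map_isConj e.symm, pv_a⟩
  · rw [mul_assoc, ← mul_assoc tau, H63.Qe.conj_mul_aut, mul_assoc,
      show tau * tau = 1 from MulEquiv.ext tau_tau, mul_one, ← map_mul] at h1
    obtain ⟨k, rfl⟩ := lang (H63.Qe.conj_eq_one hz h1)
    exact ⟨tau, isConj_iff.2 ⟨MulAut.conj k, MulEquiv.ext fun x => by simp [mul_assoc]⟩, pv_tau⟩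

theorem jobJ2 : JobJ2.{u} := fun _ _ _ _ _ ⟨e⟩ =>
  have ⟨ψ, _⟩ := H4.Ico.exists_equiv
  KV.congr (e.trans ψ.symm) kv

end H4.QJ
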