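import Cfsg.Agent.H39.F22Spec
import Cfsg.Agent.H59.SU
import Cfsg.Agent.H59.U6G

/-! Chapter F22 of `blueprints/PS3B.md`, job L: the component `U₆(2)` of `C(d) / ⟨d⟩`. -/

set_option autoImplicit false

open Cfsg Subgroup H98 H42.L3 H56.L3 H39.F22
open H28.PS (SL3 Zt HD HA WCQ Concl Side)
open scoped Matrix

namespace H4.F22

universe u

section Quot

variable {G Γ : Type*} [Group G] [Group Γ] {d : G}

/-- `p` is the quotient map of `C(d)` by `⟨d⟩` -/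
structure Cov (d : G) (p : Ce d →* Γ) : Prop where
  surj : Function.Surjective p
  ker : ∀ g, p g = 1 ↔ (g : G) = 1 ∨ (g : G) = d
  sq : d * d = 1

open Classical in
/-- `p` as a function on the whole group -/
noncomputable def pf (p : Ce d →* Γ) (g : G) : Γ := if h : g ∈ Ce d then p ⟨g, h⟩ else 1

/-- the image of a subgroup -/
abbrev im (p : Ce d →* Γ) (X : Subgroup G) : Subgroup Γ := (X.subgroupOf (Ce d)).map p

variable {p : Ce d →* Γ} {a b c : G} {X Y : Subgroup G}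

theorem pf_eq (h : a ∈ Ce d) : pf p a = p ⟨a, h⟩ := dif_pos h

theorem pf_mul (ha : a ∈ Ce d) (hb : b ∈ Ce d) : pf p (a * b) = pf p a * pf p b := by
  rw [pf_eq ha, pf_eq hb, pf_eq (mul_mem ha hb), ← map_mul]; rfl

theorem pf_inv (ha : a ∈ Ce d) : pf p a⁻¹ = (pf p a)⁻¹ := by
  rw [pf_eq ha, pf_eq (inv_mem ha), ← map_inv]; rfl

theorem pf_pow (ha : a ∈ Ce d) (n : ℕ) : pf p (a ^ n) = pf p a ^ n := by
  rw [pf_eq ha, pf_eq (pow_mem ha n), ← map_pow]; rfl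

theorem pf_one : pf p (1 : G) = 1 := (pf_eq (one_mem _)).trans p.map_one

theorem pf_conj (hc : c ∈ Ce d) (ha : a ∈ Ce d) :
    pf p (c * a * c⁻¹) = pf p c * pf p a * (pf p c)⁻¹ := by
  rw [pf_mul (mul_mem hc ha) (inv_mem hc), pf_mul hc ha, pf_inv hc]

theorem pf_mem (hX : X ≤ Ce d) (ha : a ∈ X) : pf p a ∈ im p X :=
  ⟨⟨a, hX ha⟩, ha, (pf_eq _).symm⟩

theorem of_im {γ : Γ} (h : γ ∈ im p X) : ∃ a ∈ X, pf p a = γ :=
  have ⟨a, ha, e⟩ := h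
  ⟨a, ha, (pf_eq a.2).trans e⟩

theorem im_sup (hX : X ≤ Ce d) (hY : Y ≤ Ce d) : im p (X ⊔ Y) = im p X ⊔ im p Y := by
  rw [im, subgroupOf_sup hX hY, Subgroup.map_sup]

theorem im_zpowers (ha : a ∈ Ce d) : im p (zpowers a) = zpowers (pf p a) := by
  rw [pf_eq ha, ← MonoidHom.map_zpowers]
  refine congrArg (Subgroup.map p) ?_
  rw [← map_subtype_inj, subgroupOf_map_subtype, MonoidHom.map_zpowers,
    inf_eq_left.2 (zpowers_le.2 ha)]; rfl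

theorem im_cj (hc : c ∈ Ce d) (hX : X ≤ Ce d) : cj (pf p c) (im p X) = im p (cj c X) := by
  refine le_antisymm ?_ fun γ h => ?_
  · rintro _ ⟨γ, h, rfl⟩
    obtain ⟨a, ha, rfl⟩ := of_im h
    show pf p c * pf p a * (pf p c)⁻¹ ∈ _
    rw [← pf_conj hc (hX ha)]
    exact pf_mem (cj_le_of_le_of_mem hX hc) (conj_mem_cj ha)
  · obtain ⟨_, ⟨a, ha, rfl⟩, rfl⟩ := of_im h
    show pf p (c * a * c⁻¹) ∈ _
    rw [pf_conj hc (hX ha)]
    exact conj_mem_cj (pf_mem hX ha)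

namespace Cov

variable (h : Cov d p)
include h

/-- a lift -/
noncomputable def sec (γ : Γ) : G := (h.surj γ).choose

theorem sec_mem (γ : Γ) : h.sec γ ∈ Ce d := (h.surj γ).choose.2

theorem pf_sec (γ : Γ) : pf p (h.sec γ) = γ := (pf_eq _).trans (h.surj γ).choose_spec

theorem ex (γ : Γ) : ∃ c ∈ Ce d, pf p c = γ := ⟨_, h.sec_mem γ, h.pf_sec γ⟩

theorem pf_d : pf p d = 1 := (pf_eq (mem_Ce.2 rfl)).trans ((h.ker _).2 (.inr rfl))

theorem eq_or (ha : a ∈ Ce d) (hb : b ∈ Ce d) (e : pf p a = pf p b) : a = b ∨ a = b * d := by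
  have : pf p (b⁻¹ * a) = 1 := by rw [pf_mul (inv_mem hb) ha, pf_inv hb, e, inv_mul_cancel]
  rw [pf_eq (mul_mem (inv_mem hb) ha), h.ker] at this
  exact this.imp (fun e => (inv_mul_eq_one.1 e).symm) inv_mul_eq_iff_eq_mul.1

theorem sec4 (ha : a ∈ Ce d) (h3 : a ^ 3 = 1) : h.sec (pf p a) ^ 4 = a := by
  have h4 : a ^ 4 = a := by rw [pow_succ, h3, one_mul]
  rcases h.eq_or (h.sec_mem _) ha (h.pf_sec _) with e | e <;> rw [e]
  · exact h4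
  · rw [Commute.mul_pow (mem_Ce.1 ha), h4, show d ^ 4 = d * d * (d * d) by simp [pow_succ, mul_assoc],
      h.sq, mul_one, mul_one]

theorem eq3 (ha : a ∈ Ce d) (hb : b ∈ Ce d) (h1 : a ^ 3 = 1) (h2 : b ^ 3 = 1)
    (e : pf p a = pf p b) : a = b := by rw [← h.sec4 ha h1, e, h.sec4 hb h2]

theorem mem3 (hX : X ≤ Ce d) (h3 : ∀ x ∈ X, x ^ 3 = 1) (ha : a ∈ Ce d) (h1 : a ^ 3 = 1)
    (e : pf p a ∈ im p X) : a ∈ X :=
  have ⟨b, hb, e⟩ := of_im e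
  h.eq3 (hX hb) ha (h3 b hb) h1 e ▸ hb

theorem ce3 (hc : c ∈ Ce d) (ha : a ∈ Ce d) (h1 : a ^ 3 = 1) (e : pf p c ∈ Ce (pf p a)) :
    c ∈ Ce a := mem_Ce'.2 (h.eq3 (mul_mem (mul_mem hc ha) (inv_mem hc)) ha
  (by rw [conj_pow, h1]; simp) h1 (by rw [pf_conj hc ha, mem_Ce'.1 e]))

theorem nr3 [Finite G] (hX : X ≤ Ce d) (h3 : ∀ x ∈ X, x ^ 3 = 1) (hc : c ∈ Ce d)
    (e : pf p c ∈ nr (im p X)) : c ∈ nr X := mem_normalizer_fintype fun x hx =>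
  h.mem3 hX h3 (mul_mem (mul_mem hc (hX hx)) (inv_mem hc)) (by rw [conj_pow, h3 x hx]; simp)
    (pf_conj (p := p) hc (hX hx) ▸ conj_mem_of_mem_normalizer e (pf_mem hX hx))

theorem cn3 (hX : X ≤ Ce d) (h3 : ∀ x ∈ X, x ^ 3 = 1) (hc : c ∈ Ce d)
    (e : pf p c ∈ cn (im p X)) : c ∈ cn X := fun x hx =>
  (mem_Ce.1 (h.ce3 hc (hX hx) (h3 x hx) (mem_Ce.2 (e _ (pf_mem hX hx)).symm))).symm

end Cov

theorem pf_Ce (hc : c ∈ Ce d) (ha : a ∈ Ce d) (e : c ∈ Ce a) : pf p c ∈ Ce (pf p a) :=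
  mem_Ce.2 (by rw [← pf_mul hc ha, mem_Ce.1 e, pf_mul ha hc])

theorem pf_nr (hc : c ∈ Ce d) (hX : X ≤ Ce d) (e : c ∈ nr X) : pf p c ∈ nr (im p X) :=
  cj_eq_self_iff.1 (by rw [im_cj hc hX, cj_eq_self e])

theorem pf_cn (hc : c ∈ Ce d) (hX : X ≤ Ce d) (e : c ∈ cn X) : pf p c ∈ cn (im p X) := fun _ hγ => by
  obtain ⟨x, hx, rfl⟩ := of_im hγ
  rw [← pf_mul hc (hX hx), ← e x hx, pf_mul (hX hx) hc]

end Quot

section Loc

variable {G : Type*} [Group G] {z : G} {Q : Subgroup G} {l : G → Fin 2 → ZMod 3} {m : G → SL3}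
  {c e : G}

theorem m_one (h : Sd z Q l m) : m 1 = 1 := by
  have := h.m_mul 1 (one_mem _) 1 (one_mem _)
  rwa [mul_one, left_eq_mul] at this

theorem m_inv (h : Sd z Q l m) (hc : c ∈ Ce z ⊓ nr Q) : m c⁻¹ = (m c)⁻¹ :=
  eq_inv_of_mul_eq_one_left (by rw [← h.m_mul _ (inv_mem hc) _ hc, inv_mul_cancel, m_one h])

theorem m_of_cn (h : Sd z Q l m) (hc : c ∈ cn Q) : m c = 1 := by
  have h1 : ∀ v, (m c).1 *ᵥ v = v := fun v => by
    obtain ⟨a, ha, rfl⟩ := h.l_surj v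
    rw [← h.act c ⟨mem_Ce.2 (hc z h.zmem).symm, centralizer_le_normalizer _ hc⟩ a ha, ← hc a ha,
      mul_inv_cancel_right]
  refine Subtype.ext (Matrix.ext fun i j => ?_)
  simpa [Pi.single_apply, Matrix.one_apply] using congrFun (h1 (Pi.single j 1)) i

theorem not_comm (h : Sd z Q l m) (hz : z ≠ 1) : ¬ Q ≤ cn Q := fun hc => by
  obtain ⟨a, ha, e1⟩ := h.l_surj ![1, 0]
  obtain ⟨b, hb, e2⟩ := h.l_surj ![0, 1]
  have := h.comm a ha b hb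
  rw [e1, e2, hc hb a ha, show (![1, 0] 0 * ![0, 1] 1 - ![1, 0] 1 * ![0, 1] 0 : ZMod 3).val = 1 from rfl,
    pow_one, right_eq_mul] at this
  exact hz this

variable {D : D3 G} {t π : G} {r : Fin 3 → G} {R : Subgroup G}

theorem ofB (hc : c ∈ D.B) (i : Fin 3) : c ∈ Ce D.z ⊓ nr (D.Q i) := by
  fin_cases i
  exacts [hc.1.1, ⟨hc.1.1.1, hc.1.2⟩, ⟨hc.1.1.1, hc.2⟩]

theorem mB (h : H3 D) (hc : c ∈ D.B) (he : e ∈ D.B) (i : Fin 3) :
    D.m i (c * e) = D.m i c * D.m i e := (h.sd i).m_mul _ (ofB hc i) _ (ofB he i)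

theorem QK (k : KF D t r π R) {i : Fin 3} (hi : i ≠ 0) : D.Q i ≤ Ce (r 0) := fun a ha =>
  mem_Ce.2 (k.rc 0 i hi a ha)

theorem zK (h : H3 D) (k : KF D t r π R) : D.z ∈ Ce (r 0) := QK k (i := 1) (by decide) (h.sd 1).zmem

theorem q0 (h : H3 D) (k : KF D t r π R) (hc : c ∈ D.Q 0) (hK : c ∈ Ce (r 0)) : c ∈ zpowers D.z := by
  have h1 := (h.sd 0).act _ (ofB (k.rB 0) 0) c hc
  rw [← mem_Ce.1 hK, mul_inv_cancel_right, k.rm 0] at h1
  exact ((h.sd 0).l_ker c hc).1 ((by decide : ∀ v : Fin 2 → ZMod 3, v = (-1 : SL3).1 *ᵥ v → v = 0) _ h1)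

theorem dec12 (h : H3 D) (hc : c ∈ D.Q 1 ⊔ D.Q 2) : ∃ a ∈ D.Q 1, ∃ b ∈ D.Q 2, c = a * b :=
  (mem_sup_left_norm (le_normalizer_of_le_centralizer (h.QQ 1 2 (by decide)))).1 hc

theorem cube12 (h : H3 D) : ∀ c ∈ D.Q 1 ⊔ D.Q 2, c ^ 3 = 1 := fun _ hc => by
  obtain ⟨a, ha, b, hb, rfl⟩ := dec12 h hc
  rw [Commute.mul_pow (h.QQ 1 2 (by decide) ha b hb).symm, (h.sd 1).cube a ha, (h.sd 2).cube b hb,
    mul_one]

theorem cn0 (h : H3 D) : D.Q 1 ⊔ D.Q 2 ≤ cn (D.Q 0) :=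
  sup_le (h.QQ 1 0 (by decide)) (h.QQ 2 0 (by decide))

theorem QQ_K (h : H3 D) (k : KF D t r π R) (hc : c ∈ D.QQ) (hK : c ∈ Ce (r 0)) :
    c ∈ D.Q 1 ⊔ D.Q 2 := by
  rw [D3.QQ, sup_assoc] at hc
  obtain ⟨a, ha, b, hb, rfl⟩ := (mem_sup_right_norm (le_normalizer_of_le_centralizer (cn0 h))).1 hc
  have := (mul_mem_cancel_right (sup_le (QK k (by decide)) (QK k (by decide)) hb)).1 hK
  exact mul_mem (mem_sup_left (zpowers_le.2 (h.sd 1).zmem (q0 h k ha this))) hb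

/-- An element of the base group with trivial action on the last two factors. -/
theorem triv (h : H3 D) (v : HV D) (k : KF D t r π R) (hc : D.P c) (h1 : D.m 1 c = 1)
    (h2 : D.m 2 c = 1) : (∀ i, D.m i c = 1) ∨ ∀ i, D.m i (c * r 0) = 1 := by
  refine (v.inj c hc 1 2 0 (by decide) h1 h2).imp (fun h0 i => ?_) fun h0 i => ?_
  · fin_cases i; exacts [h0, h1, h2]
  · rw [mB h hc.1 (k.rB 0)]
    fin_cases i
    · exact (congrArg₂ (· * ·) h0 (k.rm 0)).trans (by simp)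
    · exact (congrArg₂ (· * ·) h1 (k.rm' 0 1 (by decide))).trans (by simp)
    · exact (congrArg₂ (· * ·) h2 (k.rm' 0 2 (by decide))).trans (by simp)

theorem ker12 (h : H3 D) (v : HV D) (k : KF D t r π R) (hK : c ∈ Ce (r 0)) (hz : c ∈ Ce D.z)
    (n1 : c ∈ nr (D.Q 1)) (n2 : c ∈ nr (D.Q 2)) (h1 : D.m 1 c = 1) (h2 : D.m 2 c = 1) :
    c ∈ D.Q 1 ⊔ D.Q 2 ∨ c * r 0 ∈ D.Q 1 ⊔ D.Q 2 := by
  have hB : c ∈ D.B := ⟨⟨⟨hz, cj_eq_self_iff.1 (k.sw c ⟨centralizer_le_normalizer _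
    (by rwa [zpowers_eq_closure, centralizer_closure]), hK⟩)⟩, n1⟩, n2⟩
  obtain ⟨e, he, h3, h4 ⟩ := v.base
  have hP : D.P c := by
    rcases h4 c hB with h5 | h5 | h5
    · exact h5
    · exact absurd (by simpa [mB h hB he, h1] using h5.2 1) (h3 1)
    · exact absurd (by simpa [mB h hB (inv_mem he), h1, m_inv (h.sd 1) (ofB he 1)] using h5.2 1) (h3 1)
  exact (triv h v k hP h1 h2).imp (fun h5 => QQ_K h k (h.ker c hB h5) hK) fun h5 =>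
    QQ_K h k (h.ker _ (mul_mem hB (k.rB 0)) h5) (mul_mem hK (mem_Ce.2 rfl))

/-- the elements of `R` that act trivially on the `j`-th factor -/
def Rj (h : H3 D) (k : KF D t r π R) (j : Fin 3) : Subgroup G where
  carrier := {c | c ∈ R ∧ D.m j c = 1}
  one_mem' := ⟨one_mem _, m_one (h.sd j)⟩
  mul_mem' ha hb := ⟨mul_mem ha.1 hb.1, by rw [mB h (k.RP _ ha.1).1 (k.RP _ hb.1).1, ha.2, hb.2, mul_one]⟩
  inv_mem' ha := ⟨inv_mem ha.1, by rw [m_inv (h.sd j) (ofB (k.RP _ ha.1).1 j), ha.2, inv_one]⟩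

variable {Γ : Type*} [Group Γ] {p : Ce (r 0) →* Γ}

theorem R_one (h : H3 D) (v : HV D) (k : KF D t r π R) (w : Cov (r 0) p) (hc : c ∈ R)
    (h1 : D.m 1 c = 1) (h2 : D.m 2 c = 1) : pf p c = 1 := by
  rcases triv h v k (k.RP c hc) h1 h2 with h3 | h3
  · rw [k.Rinj c hc h3, pf_one]
  · rw [← mul_one (pf p c), ← w.pf_d, ← pf_mul (k.Rr 0 hc) (mem_Ce.2 rfl),
      k.Rinj _ (mul_mem hc (k.rR 0)) h3, pf_one, w.pf_d]

theorem m_sec (h : H3 D) (k : KF D t r π R) (w : Cov (r 0) p) {i : Fin 3} (hi : i ≠ 0)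
    (hK : c ∈ Ce (r 0)) (hc : c ∈ Ce D.z ⊓ nr (D.Q i)) : D.m i (w.sec (pf p c)) = D.m i c := by
  rcases w.eq_or (w.sec_mem _) hK (w.pf_sec _) with e | e <;> rw [e]
  rw [(h.sd i).m_mul _ hc _ (ofB (k.rB 0) i), k.rm' 0 i hi, mul_one]

theorem z3 (h : H3 D) : D.z ^ 3 = 1 := (h.sd 0).cube _ (h.sd 0).zmem

variable [Finite G]

theorem lift (h : H3 D) (k : KF D t r π R) (w : Cov (r 0) p) {i : Fin 3} (hi : i ≠ 0)
    (hK : c ∈ Ce (r 0)) (hc : pf p c ∈ Ce (pf p D.z) ⊓ nr (im p (D.Q i))) :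
    c ∈ Ce D.z ⊓ nr (D.Q i) :=
  ⟨w.ce3 hK (zK h k) (z3 h) hc.1, w.nr3 (QK k hi) (h.sd i).cube hK hc.2⟩

theorem side (h : H3 D) (v : HV D) (k : KF D t r π R) (w : Cov (r 0) p) {i j : Fin 3}
    (hij : i = 1 ∧ j = 2 ∨ i = 2 ∧ j = 1) :
    Side (pf p D.z) (im p (D.Q i)) (im p (D.Q j)) (im p (Rj h k j))
      (fun γ => D.l i (w.sec γ ^ 4)) fun γ => D.m i (w.sec γ) := by
  obtain ⟨hi, hj, ne⟩ : i ≠ 0 ∧ j ≠ 0 ∧ i ≠ j := by rcases hij with ⟨rfl, rfl⟩ | ⟨rfl, rfl⟩ <;> decide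
  have s := h.sd i
  have hQ := QK k hi
  have hR : Rj h k j ≤ Ce (r 0) := fun c hc => k.Rr 0 hc.1
  have e4 : ∀ a ∈ D.Q i, w.sec (pf p a) ^ 4 = a := fun a ha => w.sec4 (hQ ha) (s.cube a ha)
  refine ⟨pf_mem hQ s.zmem, fun _ ha0 => ?_, fun _ ha0 _ hb0 => ?_, fun _ ha0 => ?_, fun x => ?_,
    fun _ ha0 _ hb0 => ?_, fun γ hc _ ha0 => ?_, fun γ hc δ he => ?_, fun _ hc0 => ?_,
    fun _ hc0 e => ?_, fun A hA => ?_, fun _ hc0 => ?_⟩
  · obtain ⟨a, ha, rfl⟩ := of_im ha0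
    rw [← pf_pow (hQ ha), s.cube a ha, pf_one]
  · obtain ⟨a, ha, rfl⟩ := of_im ha0
    obtain ⟨b, hb, rfl⟩ := of_im hb0
    rw [← pf_mul (hQ ha) (hQ hb), e4 a ha, e4 b hb, e4 _ (mul_mem ha hb), s.l_mul a ha b hb]
  · obtain ⟨a, ha, rfl⟩ := of_im ha0
    have hz := zpowers_le.2 s.zmem
    rw [e4 a ha, s.l_ker a ha, ← im_zpowers (zK h k)]
    exact ⟨pf_mem (hz.trans hQ),
      w.mem3 (hz.trans hQ) (fun x hx => s.cube x (hz hx)) (hQ ha) (s.cube a ha)⟩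
  · obtain ⟨a, ha, e⟩ := s.l_surj x
    exact ⟨_, pf_mem hQ ha, by rw [e4 a ha, e]⟩
  · obtain ⟨a, ha, rfl⟩ := of_im ha0
    obtain ⟨b, hb, rfl⟩ := of_im hb0
    rw [e4 a ha, e4 b hb, ← pf_mul (hQ ha) (hQ hb), s.comm a ha b hb, ← pf_mul (hQ hb) (hQ ha),
      pf_mul (pow_mem (zK h k) _) (hQ (mul_mem hb ha)), pf_pow (zK h k)]
  · obtain ⟨a, ha, rfl⟩ := of_im ha0
    obtain ⟨c, hK, rfl⟩ := w.ex γ
    have h1 := lift h k w hi hK hc
    rw [← pf_conj hK (hQ ha), e4 a ha, e4 _ (conj_mem_of_mem_normalizer h1.2 ha), m_sec h k w hi hK h1,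
      s.act c h1 a ha]
  · obtain ⟨c, hK, rfl⟩ := w.ex γ
    obtain ⟨e, hK', rfl⟩ := w.ex δ
    have h1 := lift h k w hi hK hc
    have h2 := lift h k w hi hK' he
    rw [← pf_mul hK hK', m_sec h k w hi hK h1, m_sec h k w hi hK' h2,
      m_sec h k w hi (mul_mem hK hK') (mul_mem h1 h2), s.m_mul c h1 e h2]
  · obtain ⟨c, hc, rfl⟩ := of_im hc0
    have h1 := ofB (k.RP c hc.1).1 i
    exact ⟨⟨pf_Ce (hR hc) (zK h k) h1.1, pf_nr (hR hc) hQ h1.2⟩,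
      pf_cn (hR hc) (QK k hj) (k.Rcn c hc.1 j hc.2)⟩
  · obtain ⟨c, hc, rfl⟩ := of_im hc0
    rw [m_sec h k w hi (hR hc) (ofB (k.RP c hc.1).1 i)] at e
    rcases hij with ⟨rfl, rfl⟩ | ⟨rfl, rfl⟩
    exacts [R_one h v k w hc.1 e hc.2, R_one h v k w hc.1 hc.2 e]
  · obtain ⟨c, hc, h1, h2⟩ := v.onto i j ne A 1 hA (one_pow _)
    obtain ⟨e, he, h3⟩ := k.Ronto c hc
    exact ⟨_, pf_mem hR ⟨he, (h3 j).trans h2⟩, by
      rw [m_sec h k w hi (k.Rr 0 he) (ofB (k.RP e he).1 i), h3, h1]⟩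
  · obtain ⟨c, hc, rfl⟩ := of_im hc0
    rw [← pf_pow (hR hc), k.R4 c hc.1, pf_one]

/-- the data in the quotient -/
noncomputable def dat (h : H3 D) (k : KF D t r π R) (w : Cov (r 0) p) : HD Γ :=
  ⟨pf p D.z, im p (D.Q 1), im p (D.Q 2), im p (Rj h k 2), im p (Rj h k 1),
    fun γ => D.l 1 (w.sec γ ^ 4), fun γ => D.l 2 (w.sec γ ^ 4), fun γ => D.m 1 (w.sec γ),
    fun γ => D.m 2 (w.sec γ)⟩

omit [Finite G] in
theorem z_ne (h : H3 D) : D.z ≠ 1 := fun e => by simpa [e] using h.ord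

omit [Finite G] in
theorem pz_ne (h : H3 D) (k : KF D t r π R) (w : Cov (r 0) p) : pf p D.z ≠ 1 := fun e =>
  z_ne h (w.eq3 (zK h k) (one_mem _) (z3 h) (one_pow _) (e.trans pf_one.symm))

theorem ha (h : H3 D) (v : HV D) (k : KF D t r π R) (w : Cov (r 0) p) : HA (dat h k w) := by
  have h1 := QK k (i := 1) (by decide)
  have h2 := QK k (i := 2) (by decide)
  have h12 := sup_le h1 h2
  have hd : ∀ c ∈ Ce (r 0), pf p (c * r 0) = pf p c := fun c hc => by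
    rw [pf_mul hc (mem_Ce.2 rfl), w.pf_d, mul_one]
  refine ⟨orderOf_eq_prime (show pf p D.z ^ 3 = 1 by rw [← pf_pow (zK h k), z3 h, pf_one]) (pz_ne h k w),
    side h v k w (.inl ⟨rfl, rfl⟩), side h v k w (.inr ⟨rfl, rfl⟩), fun _ ha0 => ?_, fun _ ha0 _ hb0 => ?_,
    fun γ hc e1 e2 => ?_, fun γ hc => ?_, fun γ hc => ?_⟩
  · obtain ⟨a, ha, rfl⟩ := of_im ha0
    exact pf_cn (h1 ha) h2 (h.QQ 1 2 (by decide) ha)
  · obtain ⟨a, ha, rfl⟩ := of_im ha0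
    obtain ⟨b, hb, rfl⟩ := of_im hb0
    have a1 := k.Rr 0 ha.1
    have b1 := k.Rr 0 hb.1
    have key : ∀ i, D.m i (b * a * (a * b)⁻¹) = D.m i b * D.m i a * (D.m i a * D.m i b)⁻¹ := fun i => by
      have a2 := (k.RP a ha.1).1
      have b2 := (k.RP b hb.1).1
      rw [mB h (mul_mem b2 a2) (inv_mem (mul_mem a2 b2)), m_inv (h.sd i) (ofB (mul_mem a2 b2) i),
        mB h a2 b2, mB h b2 a2]
    rw [← mul_inv_eq_one, ← pf_mul a1 b1, ← pf_mul b1 a1, ← pf_inv (mul_mem a1 b1),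
      ← pf_mul (mul_mem b1 a1) (inv_mem (mul_mem a1 b1))]
    exact R_one h v k w (mul_mem (mul_mem hb.1 ha.1) (inv_mem (mul_mem ha.1 hb.1)))
      (by rw [key, hb.2]; simp) (by rw [key, ha.2]; simp)
  · obtain ⟨c, hK, rfl⟩ := w.ex γ
    have c1 := lift h k w (i := 1) (by decide) hK hc.1
    have c2 := lift h k w (i := 2) (by decide) hK ⟨hc.1.1, hc.2⟩
    show _ ∈ im p _ ⊔ im p _
    rw [← im_sup h1 h2]
    rcases ker12 h v k hK c1.1 c1.2 c2.2 ((m_sec h k w (by decide) hK c1).symm.trans e1)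
      ((m_sec h k w (by decide) hK c2).symm.trans e2) with e | e
    exacts [pf_mem h12 e, hd c hK ▸ pf_mem h12 e]
  · obtain ⟨c, hK, rfl⟩ := w.ex γ
    have c0 : c ∈ cn (D.Q 1 ⊔ D.Q 2) := w.cn3 h12 (cube12 h) hK (by rw [im_sup h1 h2]; exact hc)
    have c1 := centralizer_anti le_sup_left c0
    have c2 := centralizer_anti le_sup_right c0
    have key : ∀ e ∈ D.Q 1 ⊔ D.Q 2, e ∈ cn (D.Q 1 ⊔ D.Q 2) → pf p e ∈ zpowers (pf p D.z) :=
      fun e e1 e2 => im_zpowers (p := p) (zK h k) ▸ pf_mem (zpowers_le.2 (zK h k)) (h.cen (by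
        rw [D3.QQ, sup_assoc, cn, centralizer_sup]; exact ⟨cn0 h e1, e2⟩))
    rcases ker12 h v k hK (mem_Ce.2 (c1 _ (h.sd 1).zmem).symm) (centralizer_le_normalizer _ c1)
      (centralizer_le_normalizer _ c2) (m_of_cn (h.sd 1) c1) (m_of_cn (h.sd 2) c2) with e | e
    · exact key c e c0
    · exact hd c hK ▸ key _ e (mul_mem c0 fun x hx => mem_Ce.1 (h12 hx))
  · obtain ⟨c, hK, rfl⟩ := w.ex γ
    have hz := zpowers_le.2 (h.sd 1).zmem
    have c0 : c ∈ Nz D.z := w.nr3 (hz.trans h1) (fun x hx => (h.sd 1).cube x (hz hx)) hK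
      (by rw [im_zpowers (zK h k)]; exact hc)
    obtain ⟨σ, hσ⟩ := h.perm c c0
    have s0 : σ 0 = 0 := by
      by_contra e
      have := h.QQ _ _ e
      rw [← hσ, k.sw c ⟨c0, hK⟩] at this
      exact not_comm (h.sd 0) (z_ne h) this
    show cj _ (im p _) = im p _ ∧ cj _ (im p _) = im p _ ∨ cj _ (im p _) = im p _ ∧ cj _ (im p _) = im p _
    rw [im_cj hK h1, im_cj hK h2, hσ, hσ]
    rcases (by decide : ∀ σ : Equiv.Perm (Fin 3), σ 0 = 0 →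
      σ 1 = 1 ∧ σ 2 = 2 ∨ σ 1 = 2 ∧ σ 2 = 1) σ s0 with ⟨e, e'⟩ | ⟨e, e'⟩ <;> rw [e, e']
    exacts [.inl ⟨rfl, rfl⟩, .inr ⟨rfl, rfl⟩]

omit [Finite G] in
theorem wcq (h : H3 D) (v : HV D) (k : KF D t r π R) (w : Cov (r 0) p) : WCQ (dat h k w) := by
  intro γ hγ
  obtain ⟨c, hK, rfl⟩ := w.ex γ
  have h1 := QK k (i := 1) (by decide)
  have h2 := QK k (i := 2) (by decide)
  have hy := mul_mem (mul_mem hK (zK h k)) (inv_mem hK)
  change pf p c * pf p D.z * _ ∈ im p _ ⊔ im p _ at hγ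
  show pf p c * pf p D.z * _ ∈ zpowers (pf p D.z)
  rw [← pf_conj hK (zK h k)] at hγ ⊢
  rw [← im_sup h1 h2] at hγ
  have h3 := w.mem3 (sup_le h1 h2) (cube12 h) hy (by rw [conj_pow, z3 h]; simp) hγ
  rw [← im_zpowers (zK h k)]
  refine pf_mem (zpowers_le.2 (zK h k)) ((v.wt _ ((show D.Q 1 ⊔ D.Q 2 ≤ D.QQ from
    sup_le (le_sup_right.trans le_sup_left) le_sup_right) h3) ⟨c, .inl rfl⟩).resolve_right fun ⟨q, hq, e⟩ => (hq 0).2 (q0 h k (hq 0).1 ?_))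
  rwa [e, mul_mem_cancel_right (h2 (hq 2).1), mul_mem_cancel_right (h1 (hq 1).1)] at hy

end Loc

theorem OO_le {G : Type*} [Group G] (d : G) : OO d ≤ Ce d := (closure_le _).2 fun _ h => h.1

theorem jobL : JobL.{u} := by
  intro hub G _ _ D t r π R h v k
  classical
  let N : Subgroup (Ce (r 0)) := zpowers ⟨r 0, mem_Ce.2 rfl⟩
  have hN : N.Normal := ⟨by
    rintro _ ⟨n, rfl⟩ g
    exact ⟨n, Subtype.ext (by simpa using
      (mul_inv_eq_iff_eq_mul.2 (Commute.zpow_right (mem_Ce.1 g.2) n)).symm)⟩⟩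
  have d1 : r 0 ≠ 1 := fun e => by
    have := k.rm 0
    rw [e, m_one (h.sd 0)] at this
    exact absurd this (by decide)
  have d2 : orderOf (⟨r 0, mem_Ce.2 rfl⟩ : Ce (r 0)) = 2 :=
    orderOf_eq_prime (Subtype.ext ((pow_two _).trans (k.rsq 0))) fun e => d1 (congrArg Subtype.val e)
  have w : Cov (r 0) (QuotientGroup.mk' N) := ⟨QuotientGroup.mk'_surjective N, fun g => by
    rw [QuotientGroup.mk'_apply, QuotientGroup.eq_one_iff, mem_zpowers_iff_mem_range_orderOf, d2,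
      show Finset.range 2 = {0, 1} from rfl]
    simp only [Finset.mem_image, Finset.mem_insert, Finset.mem_singleton, exists_eq_or_imp,
      exists_eq_left, pow_zero, pow_one, Subtype.ext_iff, coe_one, eq_comm], k.rsq 0⟩
  have hc : Nat.card (Ce (r 0)) = Nat.card (Ce (r 0) ⧸ N) * 2 := by
    rw [card_eq_card_quotient_mul_card_subgroup N, Nat.card_zpowers, d2]
  refine ⟨_, inferInstance, _, w.surj, w.ker, ?_⟩
  generalize QuotientGroup.mk' N = p at w ⊢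
  generalize_proofs _ _ hG at p w ⊢
  obtain ⟨g, hg, e⟩ := k.tZ
  have t3 : t ^ 3 = 1 := (congrArg (· ^ 3) e).symm.trans (by simp only [conj_pow, z3 h]; simp)
  have hz := zpowers_le.2 (h.sd 0).zmem
  obtain ⟨⟨F, i1, i2, hF, ⟨E⟩⟩, h0⟩ := hub _ (dat h k w) (ha h v k w) (wcq h v k w)
    ⟨pf p t, pf_Ce k.tK (zK h k) k.tB.1.1.1,
      ⟨pf p g, .inl ((pf_conj (OO_le _ hg) (zK h k)).symm.trans (congrArg _ e))⟩, fun h1 => k.tQ
      (mem_sup_left (mem_sup_left (hz (w.mem3 (zpowers_le.2 (zK h k))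
        (fun x hx => (h.sd 0).cube x (hz hx)) k.tK t3 (by rw [im_zpowers (zK h k)]; exact h1)))))⟩
  have hs : IsSimpleGroup (PSU 6 F 2) := H59.isSimpleGroup_PSU hF (by norm_num) (by norm_num)
  have hS := E.isSimpleGroup
  have hn := H14.fstar_normal (G := Ce (r 0) ⧸ N)
  have hO : (im p (OO (r 0))).Normal := normal_of_top_le_normalizer fun γ _ => by
    obtain ⟨c, hK, rfl⟩ := w.ex γ
    refine pf_nr hK (OO_le _) (mem_normalizer_of_cj_le (map_le_iff_le_comap.2 ((closure_le _).2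
      fun x hx => subset_closure ⟨mul_mem (mul_mem hK hx.1) (inv_mem hK), ?_⟩)))
    show (c * x * c⁻¹) ^ 3 = 1
    rw [conj_pow, hx.2]; simp
  have hz' : pf p D.z ∈ im p (OO (r 0)) := pf_mem (OO_le _) (subset_closure ⟨zK h k, z3 h⟩)
  generalize generalizedFittingSubgroup (Ce (r 0) ⧸ N) = U at E h0 hS hn
  have h3 : ¬ 3 ∣ U.index := fun h3 => by
    have h4 := k.syl.card_eq
    have h5 : 3 ^ 7 ∣ Nat.card (Ce (r 0)) := by
      rw [hc, ← U.card_mul_index, Nat.card_congr E.toEquiv, H59.U6.card_PSU6 hF, pow_succ]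
      exact (mul_dvd_mul (by norm_num) h3).mul_right 2
    have := Nat.pow_le_pow_right (n := 3) (by norm_num)
      ((Nat.prime_three.pow_dvd_iff_le_factorization Nat.card_pos.ne').1 h5)
    rw [← h4, k.sylc] at this
    norm_num at this
  obtain rfl : im p (OO (r 0)) = U := by
    refine le_antisymm (fun γ hγ => ?_) ?_
    · obtain ⟨x, hx, rfl⟩ := of_im hγ
      induction hx using closure_induction with
      | mem x hx =>
        have h4 : pf p x ^ 3 = 1 := by rw [← pf_pow hx.1, hx.2, pf_one]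
        rw [← QuotientGroup.eq_one_iff, ← orderOf_eq_one_iff]
        exact Nat.eq_one_of_dvd_coprimes ((Nat.Prime.coprime_iff_not_dvd Nat.prime_three).2 h3)
          (orderOf_dvd_of_pow_eq_one (by rw [← QuotientGroup.mk_pow, h4]; rfl))
          (orderOf_dvd_natCard _)
      | one => rw [pf_one]; exact one_mem _
      | mul a b ha hb h1 h2 =>
        rw [pf_mul (OO_le _ ha) (OO_le _ hb)]
        exact mul_mem (h1 (pf_mem (OO_le _) ha)) (h2 (pf_mem (OO_le _) hb))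
      | inv a ha h1 => rw [pf_inv (OO_le _ ha)]; exact inv_mem (h1 (pf_mem (OO_le _) ha))
    · rcases ((hO.subgroupOf U).eq_bot_or_eq_top) with e1 | e1
      · refine (pz_ne h k w (h0.le fun x hx => ?_)).elim
        exact (commute_of_normal_of_disjoint _ _ hO hn (subgroupOf_eq_bot.1 e1) _ _ hz' hx).symm.eq
      · exact subgroupOf_eq_top.1 e1
  exact ⟨⟨F, i1, i2, hF, ⟨E⟩⟩, h0⟩

end H4.F22
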