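/- Tower A8S: an isomorphism from `A₈` onto `SL₄(2)` takes the involutions without fixed points to
transvections. -/
import Cfsg.Agent.H63.A8Def
import Cfsg.Agent.S0256

set_option autoImplicit false

namespace H4.A8Iso

open H63.A8 H67.SA Matrix

theorem ring12 {R : Type} [Ring R] (h2 : (2 : R) = 0) {A B : R} (hA : A * A = 0) (hB : B * B = 0)
    (h : (A * B * A = 0 ∧ B * A * B = 0) ∨ (A * B * A = A ∧ B * A * B = B)) :
    ((1 + A) * (1 + B)) ^ 12 = 1 := by
  have d : ∀ r : R, r + r = 0 := fun r => by rw [← two_mul, h2, zero_mul]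
  have e : ((1 + A) * (1 + B)) ^ 2 = 1 + (A + B + A * B + (A + B + A * B)) + (A * A + A * A * B + B * B +
      A * (B * B)) + (A * B + B * A + A * B * A + B * A * B + A * B * A * B) := by noncomm_ring
  simp only [hA, hB, d, zero_mul, mul_zero, add_zero] at e
  rcases h with ⟨h1, h3⟩ | ⟨h1, h3⟩
  · simp only [h1, h3, zero_mul, add_zero] at e
    have e2 : (1 + (A * B + B * A)) ^ 2 = 1 + (A * B + B * A + (A * B + B * A)) +
        (A * B * A * B + A * (B * B) * A + B * (A * A) * B + B * A * B * A) := by noncomm_ring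
    simp only [hA, hB, h1, h3, d, zero_mul, mul_zero, add_zero] at e2
    rw [show 12 = 2 * (2 * 3) from rfl, pow_mul, e, pow_mul, e2, one_pow]
  · rw [h1, h3] at e
    have e1 : ((1 + A) * (1 + B)) ^ 2 = (1 + B) * (1 + A) := by
      rw [e]
      calc _ = (1 + B) * (1 + A) + (A * B + A * B) := by noncomm_ring
        _ = _ := by rw [d, add_zero]
    have eA : (1 + A) * (1 + A) = 1 := by
      calc _ = 1 + (A + A) + A * A := by noncomm_ring
        _ = _ := by rw [d, hA, add_zero, add_zero]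
    have eB : (1 + B) * (1 + B) = 1 := by
      calc _ = 1 + (B + B) + B * B := by noncomm_ring
        _ = _ := by rw [d, hB, add_zero, add_zero]
    have e3 : ((1 + A) * (1 + B)) ^ 3 = 1 := by
      rw [pow_succ, e1, mul_assoc, ← mul_assoc (1 + A), eA, one_mul, eB]
    rw [show 12 = 3 * 4 from rfl, pow_mul, e3, one_pow]

variable {F : Type} [Field F]

theorem z_val : (x 0 (la 3) (1 : F)).1 = 1 + single 0 3 1 := by
  rw [x, dif_pos (by decide)]
  rfl

theorem eme (M N : Matrix (Fin 4) (Fin 4) F) :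
    single (0 : Fin 4) (3 : Fin 4) (1 : F) * (M * single (0 : Fin 4) (3 : Fin 4) (1 : F) * N) *
      single (0 : Fin 4) (3 : Fin 4) (1 : F) = (M 3 0 * N 3 0) • single 0 3 1 := by
  rw [single_mul_mul_single, smul_single]
  simp [Matrix.mul_apply, Fin.sum_univ_four, single]

theorem pow12 [CharP F 2] (hp : Par8 3 F) (h : SLn 3 F) :
    (x 0 (la 3) (1 : F) * (h * x 0 (la 3) 1 * h⁻¹)) ^ 12 = 1 := by
  have i1 : h.1 * (h⁻¹).1 = 1 := congrArg Subtype.val (mul_inv_cancel h)
  have i2 : (h⁻¹).1 * h.1 = 1 := congrArg Subtype.val (inv_mul_cancel h)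
  refine Subtype.ext ((Matrix.SpecialLinearGroup.coe_pow _ _).trans ?_)
  change ((x 0 (la 3) (1 : F)).1 * (h.1 * (x 0 (la 3) (1 : F)).1 * (h⁻¹).1)) ^ 12 = 1
  rw [z_val]
  generalize h⁻¹.1 = N at i1 i2
  generalize h.1 = M at i1 i2
  have k1 := eme M N
  have k2 := eme N M
  have k0 : single (0 : Fin 4) (3 : Fin 4) (1 : F) * single (0 : Fin 4) (3 : Fin 4) (1 : F) = 0 :=
    single_mul_single_of_ne _ _ _ _ (by decide) _
  generalize single (0 : Fin 4) (3 : Fin 4) (1 : F) = E at k0 k1 k2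
  rw [mul_add M, mul_one, add_mul M, i1]
  have k3 : M * E * N * E * (M * E * N) = (M 3 0 * N 3 0) • (M * E * N) := by
    calc _ = M * (E * (N * E * M) * E) * N := by noncomm_ring
      _ = _ := by rw [k2, mul_comm (N 3 0), Matrix.mul_smul, Matrix.smul_mul]
  refine ring12 ?_ k0 ?_ ?_
  · rw [← one_add_one_eq_two, ← two_smul F, CharTwo.two_eq_zero, zero_smul]
  · calc _ = M * (E * (N * M) * E) * N := by noncomm_ring
      _ = _ := by rw [i2, mul_one, k0, mul_zero, zero_mul]
  · rcases hp.fld (M 3 0 * N 3 0) with h0 | h0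
    · rw [h0, zero_smul] at k1 k3
      exact Or.inl ⟨k1, k3⟩
    · rw [h0, one_smul] at k1 k3
      exact Or.inr ⟨k1, k3⟩

theorem cen (hp : Par8 3 F) : Subgroup.center (SLn 3 F) = ⊥ := by
  refine eq_bot_iff.2 fun g hg => ?_
  obtain ⟨r, h1, h2⟩ := Matrix.SpecialLinearGroup.mem_center_iff.1 hg
  rcases hp.fld r with rfl | rfl
  · simp at h1
  · exact Subtype.ext (by simpa using h2.symm)

theorem jobIso (P : KP) : J8Iso := by
  intro n F _ _ _ hp
  obtain rfl := hp.three
  have := Fintype.ofFinite F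
  obtain ⟨ψ⟩ := Cfsg.Agent.S0256.result (F := F) (by rw [← Nat.card_eq_fintype_card, hp.two])
  let φ : A8 ≃* SLn 3 F :=
    ψ.symm.trans ((QuotientGroup.quotientMulEquivOfEq (cen hp)).trans QuotientGroup.quotientBot)
  obtain ⟨b, hb⟩ := φ.surjective (x 0 (la 3) 1)
  have hbb : b * b = 1 := φ.injective (by
    rw [map_mul, map_one, hb]
    refine Subtype.ext ?_
    change (x 0 (la 3) (1 : F)).1 * (x 0 (la 3) (1 : F)).1 = 1
    rw [z_val, add_mul, mul_add, mul_add,
      single_mul_single_of_ne _ _ _ _ (by decide), one_mul, one_mul, mul_one, add_zero, add_assoc,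
      ← single_add, CharTwo.add_self_eq_zero, single_zero, add_zero])
  have h8 : Ty 8 b := by
    rcases P.cls b (congrArg Subtype.val hbb) with h | h | h | h | h
    · have h1 : b = 1 := Subtype.ext h
      rw [h1, map_one] at hb
      have := congrArg (fun g : SLn 3 F => g.1 0 3) hb
      simp [z_val] at this
    · exact absurd b.2 (P.od _ (Or.inl h))
    · obtain ⟨g, hg⟩ := P.cj 4 b (Equiv.swap 0 1 * Equiv.swap 2 3) (by decide) h (by unfold Ty; decide)
      obtain ⟨g', hg'⟩ := P.cj 4 b (Equiv.swap 1 2 * Equiv.swap 3 4) (by decide) h (by unfold Ty; decide)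
      have h1 : (b * (g⁻¹ * g' * b * (g⁻¹ * g')⁻¹)) ^ 12 = 1 := φ.injective (by
        rw [map_pow, map_one, map_mul, map_mul, map_mul, map_inv, hb]
        exact pow12 hp _)
      have h2 : (g * b * g⁻¹ * (g' * b * g'⁻¹)) ^ 12 = 1 := by
        rw [show g * b * g⁻¹ * (g' * b * g'⁻¹) = g * (b * (g⁻¹ * g' * b * (g⁻¹ * g')⁻¹)) * g⁻¹ by group,
          conj_pow, h1, mul_one, mul_inv_cancel]
      have h3 := congrArg Subtype.val h2
      simp only [Subgroup.coe_pow, Subgroup.coe_mul, Subgroup.coe_inv, hg, hg', Subgroup.coe_one] at h3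
      exact absurd h3 (by decide +kernel)
    · exact absurd b.2 (P.od _ (Or.inr h))
    · exact h
  refine ⟨φ, fun a ha => ?_⟩
  obtain ⟨g, hg⟩ := P.cj 8 b a (by decide) h8 ha
  refine ⟨φ g, 1, one_ne_zero, ?_⟩
  rw [← hb, ← map_inv, ← map_mul, ← map_mul]
  exact congrArg φ (Subtype.ext hg.symm)

end H4.A8Iso
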