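import Cfsg.Agent.H12.CLSpec2

/-! CL3 tower, chapter 3: hyperbolic frames. -/

set_option autoImplicit false

namespace H4.CLHB

open H12.CL Submodule

theorem z2 : ∀ c : ZMod 2, c = 0 ∨ c = 1 := by decide

theorem z2' : ∀ c : ZMod 2, ¬ c = 0 → 0 + c + 1 = 0 := by decide

variable {r : ℕ} [Fact r.Prime] {W : Type} [AddCommGroup W] [Module (ZMod r) W]
  {B : LinearMap.BilinForm (ZMod r) W} {Gd : W → Prop} {M₀ M N D : Submodule (ZMod r) W}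

theorem skew (sp : Sp B) (a b : W) : B a b = -B b a := by
  have := sp.alt (a + b)
  simp only [map_add, LinearMap.add_apply, sp.alt] at this
  linear_combination this

theorem good_add (ty : Ty B Gd) {a b : W} (ha : Gd a) (hb : Gd b) (h : B a b = 0) (c : ZMod r) :
    Gd (a + c • b) := by
  rcases ty with ty | ⟨rfl, Q, h1, h2⟩
  · exact ty _
  · rcases z2 c with rfl | rfl
    · rwa [zero_smul, add_zero]
    · rw [one_smul, h2, h1, (h2 a).1 ha, (h2 b).1 hb, h, add_zero, add_zero]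

theorem good_zero (ty : Ty B Gd) : Gd 0 := by
  rcases ty with ty | ⟨-, Q, h1, h2⟩
  · exact ty _
  · simpa [h2] using h1 0 0

variable (B Gd M₀ M N D) in
/-- The invariant of the induction. -/
structure I : Prop where
  gM : ∀ m ∈ M, Gd m
  gN : ∀ n ∈ N, Gd n
  iM : ∀ m ∈ M, ∀ m' ∈ M, B m m' = 0
  iN : ∀ n ∈ N, ∀ n' ∈ N, B n n' = 0
  oM : ∀ m ∈ M, ∀ d ∈ D, B m d = 0
  oN : ∀ n ∈ N, ∀ d ∈ D, B n d = 0
  dec : ∀ w, ∃ m ∈ M, ∃ n ∈ N, ∃ d ∈ D, w = m + n + d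
  j : ∀ w ∈ M₀, ∃ m ∈ M, ∃ d ∈ D, d ∈ M₀ ∧ w = m + d

theorem I.dual (sp : Sp B) (ty : Ty B Gd) (h : I B Gd M₀ M N D) {z : W} (hz : z ∈ D) (h0 : z ≠ 0)
    (hg : Gd z) : ∃ z' ∈ D, Gd z' ∧ B z z' = 1 := by
  obtain ⟨d, hd, h1⟩ : ∃ d ∈ D, B z d ≠ 0 := by
    by_contra! k
    refine h0 (sp.nd z fun w => ?_)
    obtain ⟨m, hm, n, hn, d, hd, rfl⟩ := h.dec w
    rw [map_add, map_add, k d hd, skew sp z m, skew sp z n, h.oM m hm z hz, h.oN n hn z hz]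
    simp
  have e : B z ((B z d)⁻¹ • d) = 1 := by rw [map_smul, smul_eq_mul, inv_mul_cancel₀ h1]
  have hy := D.smul_mem (B z d)⁻¹ hd
  generalize (B z d)⁻¹ • d = y at e hy
  by_cases hy' : Gd y
  · exact ⟨y, hy, hy', e⟩
  rcases ty with ty | ⟨rfl, Q, q1, q2⟩
  · exact absurd (ty y) hy'
  refine ⟨z + y, add_mem hz hy, ?_, by rw [map_add, sp.alt, e, zero_add]⟩
  rw [q2] at hy'
  rw [q2, q1, (q2 z).1 hg, e]
  exact z2' _ hy'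

theorem sup_ok (sp : Sp B) (ty : Ty B Gd) (g : ∀ m ∈ M, Gd m) (i : ∀ m ∈ M, ∀ m' ∈ M, B m m' = 0)
    (o : ∀ m ∈ M, ∀ d ∈ D, B m d = 0) {z : W} (hz : z ∈ D) (hg : Gd z) :
    (∀ m ∈ M ⊔ span (ZMod r) {z}, Gd m) ∧
      (∀ m ∈ M ⊔ span (ZMod r) {z}, ∀ m' ∈ M ⊔ span (ZMod r) {z}, B m m' = 0) ∧
      ∀ m ∈ M ⊔ span (ZMod r) {z}, ∀ d ∈ D, B z d = 0 → B m d = 0 := by
  simp only [mem_sup, mem_span_singleton]
  refine ⟨?_, ?_, ?_⟩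
  · rintro _ ⟨m, hm, _, ⟨c, rfl⟩, rfl⟩
    exact good_add ty (g m hm) hg (o m hm z hz) c
  · rintro _ ⟨m, hm, _, ⟨c, rfl⟩, rfl⟩ _ ⟨m', hm', _, ⟨c', rfl⟩, rfl⟩
    simp [i m hm m' hm', o m hm z hz, skew sp z m', o m' hm' z hz, sp.alt]
  · rintro _ ⟨m, hm, _, ⟨c, rfl⟩, rfl⟩ d hd h
    simp [o m hm d hd, h]

theorem I.step (sp : Sp B) (ty : Ty B Gd) (h : I B Gd M₀ M N D) {z : W} (hz : z ∈ D) (h0 : z ≠ 0)
    (hg : Gd z) (hj : ∀ d ∈ D, d ∈ M₀ → d = 0 ∨ z ∈ M₀ ∧ B z d = 0) :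
    ∃ M' N' D', D' < D ∧ I B Gd M₀ M' N' D' := by
  obtain ⟨y, hy, gy, e⟩ := h.dual sp ty hz h0 hg
  have e' : B y z = -1 := by rw [skew sp, e]
  obtain ⟨a1, a2, a3⟩ := sup_ok sp ty h.gM h.iM h.oM hz hg
  obtain ⟨b1, b2, b3⟩ := sup_ok sp ty h.gN h.iN h.oN hy gy
  have m1 : ∀ (M : Submodule (ZMod r) W) (z : W), ∀ m ∈ M, ∀ c : ZMod r,
      m + c • z ∈ M ⊔ span (ZMod r) {z} := fun M z m hm c =>
    add_mem_sup hm (smul_mem _ _ (mem_span_singleton_self z))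
  refine ⟨M ⊔ span (ZMod r) {z}, N ⊔ span (ZMod r) {y}, D ⊓ (LinearMap.ker (B z) ⊓ LinearMap.ker (B y)),
    lt_of_le_of_ne inf_le_left fun k => one_ne_zero (e.symm.trans (k.ge hy).2.1), a1, b1, a2, b2,
    fun m hm d hd => a3 m hm d hd.1 hd.2.1, fun m hm d hd => b3 m hm d hd.1 hd.2.2, fun w => ?_,
    fun w hw => ?_⟩
  · obtain ⟨m, hm, n, hn, d, hd, rfl⟩ := h.dec w
    refine ⟨_, m1 M z m hm (-B y d), _, m1 N y n hn (B z d), d + B y d • z - B z d • y,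
      ⟨sub_mem (add_mem hd (smul_mem _ _ hz)) (smul_mem _ _ hy), ?_, ?_⟩, by module⟩ <;>
      simp [sp.alt, e, e']
  · obtain ⟨m, hm, d, hd, hd', rfl⟩ := h.j w hw
    rcases hj d hd hd' with rfl | ⟨k1, k2⟩
    · exact ⟨m, mem_sup_left hm, 0, zero_mem _, zero_mem _, rfl⟩
    · refine ⟨_, m1 M z m hm (-B y d), d + B y d • z, ⟨add_mem hd (smul_mem _ _ hz), ?_, ?_⟩,
        add_mem hd' (smul_mem _ _ k1), by module⟩ <;> simp [sp.alt, e', k2]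

theorem jobHB2 : JobHB2 := by
  intro r _ W _ _ _ B Gd sp ty M₀ g0 i0
  suffices ∀ D M N, I B Gd M₀ M N D → ∃ M N D, Fr B Gd M N D ∧ M₀ ≤ M from
    this ⊤ ⊥ ⊥ ⟨by simpa using good_zero ty, by simpa using good_zero ty, by simp, by simp, by simp,
      by simp, by simp, by simp⟩
  intro D
  induction D using WellFoundedLT.induction with
  | ind D ih =>
  intro M N h
  by_cases h1 : ∃ z ∈ D, z ∈ M₀ ∧ z ≠ 0
  · obtain ⟨z, hz, h2, h0⟩ := h1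
    obtain ⟨M', N', D', lt, h'⟩ := h.step sp ty hz h0 (g0 z h2) fun d _ hd => .inr ⟨h2, i0 z h2 d hd⟩
    exact ih D' lt M' N' h'
  push Not at h1
  by_cases h2 : ∃ z ∈ D, Gd z ∧ z ≠ 0
  · obtain ⟨z, hz, h2, h0⟩ := h2
    obtain ⟨M', N', D', lt, h'⟩ := h.step sp ty hz h0 h2 fun d hd hd' => .inl (h1 d hd hd')
    exact ih D' lt M' N' h'
  push Not at h2
  refine ⟨M, N, D, ⟨h.gM, h.gN, h.iM, h.iN, h.oM, h.oN, h2, h.dec⟩, fun w hw => ?_⟩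
  obtain ⟨m, hm, d, hd, hd', rfl⟩ := h.j w hw
  rwa [h1 d hd hd', add_zero]

theorem jobHB : JobHB := fun r _ W _ _ _ B Gd sp ty x hx => by
  obtain ⟨a1, a2, -⟩ := sup_ok (M := ⊥) (D := ⊤) sp ty (by simpa using good_zero ty) (by simp)
    (by simp) trivial hx
  obtain ⟨M, N, D, h, le⟩ := jobHB2 r W B Gd sp ty _ a1 a2
  exact ⟨M, N, D, h, le (mem_sup_right (mem_span_singleton_self x))⟩

end H4.CLHB
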