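import Cfsg.Agent.H89.KBase
import Cfsg.Agent.H89.ONan

/-! Doubly transitive groups of degree `p ^ 2 + 1`: invariant partitions, Fisher's inequality,
abelian normal subgroups of the point stabiliser. -/

set_option autoImplicit false

namespace H4.Dp

open MulAction Subgroup H89.K
open scoped Pointwise

variable {G Ω : Type*} [Group G] [MulAction G Ω] {p : ℕ}

theorem card_setoid {X : Type*} [Finite X] (s : Setoid X) (m : ℕ)
    (h : ∀ x, {y | s x y}.ncard = m) : Nat.card X = Nat.card (Quotient s) * m := by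
  classical
  have := Fintype.ofFinite (Quotient s)
  rw [← Nat.card_congr (Equiv.sigmaFiberEquiv (Quotient.mk s)), Nat.card_sigma,
    Finset.sum_congr rfl (g := fun _ => m), Finset.sum_const, Finset.card_univ,
    Nat.card_eq_fintype_card, smul_eq_mul]
  intro q _
  induction q using Quotient.ind with
  | _ x =>
    rw [← h x, ← Nat.card_coe_set_eq]
    exact Nat.card_congr (Equiv.subtypeEquivRight fun y =>
      ⟨fun e => s.symm (Quotient.exact e), fun e => Quotient.sound (s.symm e)⟩)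

/-- an equivalence relation invariant under `A` -/
structure Rel (A : Subgroup G) (r : Ω → Ω → Prop) : Prop where
  eqv : Equivalence r
  inv : ∀ g ∈ A, ∀ y z, r y z → r (g • y) (g • z)

theorem smul_mem_orb {A : Subgroup G} {g : G} (hg : g ∈ A) {y z : Ω} (hz : z ∈ orbit A y) :
    g • z ∈ orbit A y := by
  obtain ⟨k, rfl⟩ := hz
  exact ⟨⟨g, hg⟩ * k, mul_smul _ _ _⟩

theorem mem_orb {A : Subgroup G} {y z : Ω} : z ∈ orbit A y ↔ ∃ g ∈ A, g • y = z :=
  ⟨fun ⟨g, h⟩ => ⟨g, g.2, h⟩, fun ⟨g, hg, h⟩ => ⟨⟨g, hg⟩, h⟩⟩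

namespace Rel

variable {A : Subgroup G} {r : Ω → Ω → Prop} (hr : Rel A r)
include hr

theorem ncard_eq {y y' : Ω} (hy : y' ∈ orbit A y) :
    {z | z ∈ orbit A y ∧ r y' z}.ncard = {z | z ∈ orbit A y ∧ r y z}.ncard := by
  obtain ⟨g, hg, rfl⟩ := mem_orb.1 hy
  rw [← Set.ncard_image_of_injective {z | z ∈ orbit A y ∧ r y z} (MulAction.injective g)]
  congr 1
  ext z
  constructor
  · rintro ⟨h1, h2⟩
    refine ⟨g⁻¹ • z, ⟨smul_mem_orb (A.inv_mem hg) h1, ?_⟩, smul_inv_smul _ _⟩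
    simpa using hr.inv _ (A.inv_mem hg) _ _ h2
  · rintro ⟨w, ⟨h1, h2⟩, rfl⟩
    exact ⟨smul_mem_orb hg h1, hr.inv _ hg _ _ h2⟩

/-- the induced setoid on an orbit -/
def st (y : Ω) : Setoid (orbit A y) := ⟨fun z w => r z w, hr.eqv.comap _⟩

theorem quot [Finite Ω] (y : Ω) :
    (orbit A y).ncard = Nat.card (Quotient (hr.st y)) * {z | z ∈ orbit A y ∧ r y z}.ncard := by
  rw [← Nat.card_coe_set_eq]
  refine card_setoid _ _ fun x => ?_
  rw [← hr.ncard_eq x.2, ← Set.ncard_image_of_injective _ Subtype.val_injective]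
  congr 1
  ext z
  exact ⟨by rintro ⟨w, h, rfl⟩; exact ⟨w.2, h⟩, fun h => ⟨⟨z, h.1⟩, h.2, rfl⟩⟩

theorem dvd [Finite Ω] (y : Ω) : {z | z ∈ orbit A y ∧ r y z}.ncard ∣ (orbit A y).ncard :=
  ⟨_, (hr.quot y).trans (mul_comm _ _)⟩

theorem hom (y : Ω) : ∃ φ : A →* Equiv.Perm (Quotient (hr.st y)),
    ∀ (g : A) (x : orbit A y), φ g (Quotient.mk _ x) = Quotient.mk _ (g • x) := by
  let f : A →* Function.End (Quotient (hr.st y)) :=
    { toFun := fun g => Quotient.map (fun x => g • x) fun x z h => hr.inv g g.2 _ _ h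
      map_one' := funext fun q => Quotient.inductionOn q fun x => by
        change Quotient.mk _ ((1 : A) • x) = _
        rw [one_smul]; rfl
      map_mul' := fun g k => funext fun q => Quotient.inductionOn q fun x => by
        change Quotient.mk _ ((g * k) • x) = Quotient.mk _ (g • k • x)
        rw [mul_smul] }
  exact ⟨f.toHomPerm, fun g x => rfl⟩

end Rel

theorem rel_orbit {A T : Subgroup G} (h : ∀ g ∈ A, ∀ t ∈ T, g * t * g⁻¹ ∈ T) :
    Rel A fun y z : Ω => z ∈ orbit T y := by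
  refine ⟨⟨mem_orbit_self, fun h => mem_orbit_symm.1 h, fun h1 h2 => ?_⟩, fun g hg y z hz => ?_⟩
  · obtain ⟨t, ht, rfl⟩ := mem_orb.1 h2
    exact smul_mem_orb ht h1
  · obtain ⟨t, ht, rfl⟩ := mem_orb.1 hz
    exact mem_orb.2 ⟨_, h g hg t ht, conj_smul_eq.2 rfl⟩

/-- normal in the stabiliser of `a` -/
structure NS (a : Ω) (N : Subgroup G) : Prop where
  fix : ∀ n ∈ N, n • a = a
  conj : ∀ g : G, g • a = a → ∀ n ∈ N, g * n * g⁻¹ ∈ N

/-- normal in the stabiliser of `a` with orbits of length `p` -/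
structure Sm (p : ℕ) (a : Ω) (N : Subgroup G) : Prop extends NS a N where
  orb : ∀ y, y ≠ a → (orbit N y).ncard = p

theorem smul_ne {a y : Ω} {g : G} (hg : g • a = a) (hy : y ≠ a) : g • y ≠ a :=
  fun e => hy (MulAction.injective g (e.trans hg.symm))

theorem inv_fix {a : Ω} {g : G} (hg : g • a = a) : g⁻¹ • a = a := inv_smul_eq_iff.2 hg.symm

theorem NS.rel {a : Ω} {N : Subgroup G} (h : NS a N) :
    Rel (stabilizer G a) fun y z : Ω => z ∈ orbit N y := rel_orbit h.conj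

theorem NS.ne {a y z : Ω} {N : Subgroup G} (h : NS a N) (hy : y ≠ a) (hz : z ∈ orbit N y) :
    z ≠ a := by
  obtain ⟨t, ht, rfl⟩ := mem_orb.1 hz
  exact smul_ne (h.fix t ht) hy

theorem NS.cls {a y : Ω} {N : Subgroup G} (h : NS a N) (hy : y ≠ a) :
    {z | z ≠ a ∧ z ∈ orbit N y} = orbit N y :=
  Set.ext fun _ => ⟨fun e => e.2, fun e => ⟨h.ne hy e, e⟩⟩

theorem NS.inf {a : Ω} {N M : Subgroup G} (h : NS a N) (h' : NS a M) : NS a (N ⊓ M) :=
  ⟨fun n hn => h.fix n hn.1, fun g hg n hn => ⟨h.conj g hg n hn.1, h'.conj g hg n hn.2⟩⟩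

theorem NS.cent {a : Ω} {N : Subgroup G} (h : NS a N) :
    NS a (stabilizer G a ⊓ centralizer (N : Set G)) := by
  refine ⟨fun n hn => hn.1, fun g hg n hn => ⟨?_, fun m hm => ?_⟩⟩
  · exact (stabilizer G a).mul_mem ((stabilizer G a).mul_mem hg hn.1) ((stabilizer G a).inv_mem hg)
  · have := hn.2 _ (h.conj g⁻¹ (inv_fix hg) m hm)
    calc m * (g * n * g⁻¹) = g * (g⁻¹ * m * g⁻¹⁻¹ * n) * g⁻¹ := by group
      _ = _ := by rw [this]; group

/-- the kernel on the classes -/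
def Rel.ker {a : Ω} {r : Ω → Ω → Prop} (hr : Rel (stabilizer G a) r) : Subgroup G where
  carrier := {g | g • a = a ∧ ∀ y, y ≠ a → r y (g • y)}
  one_mem' := ⟨one_smul _ _, fun y _ => by rw [one_smul]; exact hr.eqv.refl y⟩
  mul_mem' := fun {g k} hg hk => ⟨by rw [mul_smul, hk.1, hg.1], fun y hy => by
    rw [mul_smul]
    exact hr.eqv.trans (hk.2 y hy) (hg.2 _ (smul_ne hk.1 hy))⟩
  inv_mem' := fun {g} hg => ⟨inv_fix hg.1, fun y hy => by
    have := hg.2 _ (smul_ne (inv_fix hg.1) hy)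
    rw [smul_inv_smul] at this
    exact hr.eqv.symm this⟩

theorem Rel.mem_ker {a : Ω} {r : Ω → Ω → Prop} (hr : Rel (stabilizer G a) r) {g : G} :
    g ∈ hr.ker ↔ g • a = a ∧ ∀ y, y ≠ a → r y (g • y) := Iff.rfl

theorem Rel.ns_ker {a : Ω} {r : Ω → Ω → Prop} (hr : Rel (stabilizer G a) r) : NS a hr.ker := by
  refine ⟨fun n hn => hn.1, fun g hg n hn => ⟨?_, fun y hy => ?_⟩⟩
  · rw [mul_smul, mul_smul, inv_fix hg, hn.1, hg]
  · have := hr.inv g hg _ _ (hn.2 _ (smul_ne (inv_fix hg) hy))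
    rwa [smul_inv_smul, ← mul_smul, ← mul_smul] at this

/-- The setting. -/
structure Cx (G Ω : Type*) [Group G] [MulAction G Ω] (p : ℕ) : Prop extends T2 G Ω where
  prime : p.Prime
  card : Nat.card Ω = p ^ 2 + 1

namespace Cx

variable (h : Cx G Ω p)
include h

theorem fin : Finite Ω := Nat.finite_of_card_ne_zero (by rw [h.card]; omega)

theorem orbit_stab {a y : Ω} (hy : y ≠ a) : orbit (stabilizer G a) y = {z | z ≠ a} := by
  ext z
  constructor
  · rintro ⟨g, rfl⟩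
    exact smul_ne g.2 hy
  · intro hz
    obtain ⟨g, h1, h2⟩ := h.two hy.symm (Ne.symm hz)
    exact ⟨⟨g, h1⟩, h2⟩

theorem ncard_ne (a : Ω) : {z | z ≠ a}.ncard = p ^ 2 := by
  have := h.fin
  have e := Set.ncard_add_ncard_compl ({a} : Set Ω)
  rw [Set.ncard_singleton, h.card] at e
  have : ({a} : Set Ω)ᶜ = {z | z ≠ a} := rfl
  rw [this] at e
  omega

theorem eq_one {a : Ω} {g : G} (ha : g • a = a) (hg : ∀ y, y ≠ a → g • y = y) : g = 1 :=
  h.faith g fun y => by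
    by_cases hy : y = a
    · rw [hy, ha]
    · exact hg y hy

variable {a : Ω} {r : Ω → Ω → Prop}

theorem cls_dvd (hr : Rel (stabilizer G a) r) {y : Ω} (hy : y ≠ a) :
    {z | z ≠ a ∧ r y z}.ncard ∣ p ^ 2 := by
  have := h.fin
  have := hr.dvd y
  rwa [h.orbit_stab hy, h.ncard_ne] at this

theorem cls_eq (hr : Rel (stabilizer G a) r) {y y' : Ω} (hy : y ≠ a) (hy' : y' ≠ a) :
    {z | z ≠ a ∧ r y' z}.ncard = {z | z ≠ a ∧ r y z}.ncard := by
  have := hr.ncard_eq (y := y) (y' := y') (by rw [h.orbit_stab hy]; exact hy')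
  rwa [h.orbit_stab hy] at this

theorem cls_cases (hr : Rel (stabilizer G a) r) {y : Ω} (hy : y ≠ a) :
    (∀ z, z ≠ a → r y z → z = y) ∨ {z | z ≠ a ∧ r y z}.ncard = p ∨ ∀ z, z ≠ a → r y z := by
  have := h.fin
  obtain ⟨i, hi, e⟩ := (Nat.dvd_prime_pow h.prime).1 (h.cls_dvd hr hy)
  interval_cases i
  · obtain ⟨w, hw⟩ := Set.ncard_eq_one.1 e
    refine Or.inl fun z hz hyz => ?_
    have h1 : z ∈ ({w} : Set Ω) := hw ▸ ⟨hz, hyz⟩
    have h2 : y ∈ ({w} : Set Ω) := hw ▸ ⟨hy, hr.eqv.refl y⟩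
    exact h1.trans h2.symm
  · exact Or.inr (Or.inl (by simpa using e))
  · refine Or.inr (Or.inr fun z hz => ?_)
    have : {z | z ≠ a ∧ r y z} = {z | z ≠ a} :=
      Set.eq_of_subset_of_ncard_le (fun _ e => e.1) (by rw [e, h.ncard_ne])
    exact (this.ge hz).2

theorem le_cls (hr : Rel (stabilizer G a) r) {y z : Ω} (hy : y ≠ a) (hz : z ≠ a) (hzy : z ≠ y)
    (e : r y z) : p ≤ {z | z ≠ a ∧ r y z}.ncard := by
  rcases h.cls_cases hr hy with h1 | h1 | h1
  · exact absurd (h1 z hz e) hzy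
  · exact h1.ge
  · have : {z | z ≠ a ∧ r y z} = {z | z ≠ a} := Set.ext fun z => ⟨fun e => e.1, fun e => ⟨e, h1 z e⟩⟩
    rw [this, h.ncard_ne]
    exact Nat.le_self_pow two_ne_zero p

/-- a class that properly contains an orbit of length `p` is everything -/
theorem all_of_orb (hr : Rel (stabilizer G a) r) {N : Subgroup G} (hN : Sm p a N) {y z : Ω}
    (hy : y ≠ a) (h1 : ∀ w ∈ orbit N y, r y w) (hz : z ≠ a) (hz' : z ∉ orbit N y) (e : r y z) :
    ∀ w, w ≠ a → r y w := by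
  have := h.fin
  rcases h.cls_cases hr hy with h2 | h2 | h2
  · exact absurd (h2 z hz e ▸ mem_orbit_self _) hz'
  · have : orbit N y = {z | z ≠ a ∧ r y z} := Set.eq_of_subset_of_ncard_le
      (fun w hw => ⟨hN.ne hy hw, h1 w hw⟩) (by rw [h2, hN.orb y hy])
    exact absurd (this.ge ⟨hz, e⟩) hz'
  · exact h2

theorem sm_or_trans {N : Subgroup G} (hN : NS a N) (h1 : N ≠ ⊥) :
    Sm p a N ∨ ∀ y z, y ≠ a → z ≠ a → z ∈ orbit N y := by
  obtain ⟨n, hn, n1⟩ : ∃ n ∈ N, n ≠ 1 := by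
    by_contra! hc
    exact h1 (eq_bot_iff.2 hc)
  obtain ⟨y, hy⟩ := h.exists_move n1
  have hya : y ≠ a := by rintro rfl; exact hy (hN.fix n hn)
  rcases h.cls_cases hN.rel hya with h2 | h2 | h2
  · exact absurd (h2 _ (smul_ne (hN.fix n hn) hya) (mem_orb.2 ⟨n, hn, rfl⟩)) hy
  · refine Or.inl ⟨hN, fun z hz => ?_⟩
    rw [← hN.cls hz, h.cls_eq hN.rel hya hz, h2]
  · exact Or.inr fun z w hz hw => hN.rel.eqv.trans (hN.rel.eqv.symm (h2 z hz)) (h2 w hw)

theorem exists_out {N : Subgroup G} (hN : Sm p a N) {y : Ω} (hy : y ≠ a) :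
    ∃ z, z ≠ a ∧ z ∉ orbit N y := by
  have := h.fin
  by_contra! hc
  have := Set.ncard_le_ncard (show {z | z ≠ a} ⊆ orbit N y from hc)
  rw [h.ncard_ne, hN.orb y hy] at this
  have := h.prime.two_le
  nlinarith

theorem exists_in {N : Subgroup G} (hN : Sm p a N) {y : Ω} (hy : y ≠ a) :
    ∃ n ∈ N, n • y ≠ y := by
  by_contra! hc
  have : orbit N y = {y} := Set.eq_singleton_iff_unique_mem.2 ⟨mem_orbit_self _, fun z hz => by
    obtain ⟨n, hn, rfl⟩ := mem_orb.1 hz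
    exact hc n hn⟩
  have h1 := hN.orb y hy
  rw [this, Set.ncard_singleton] at h1
  exact h.prime.one_lt.ne h1

theorem sm_of_le {N M : Subgroup G} (hN : Sm p a N) (hM : NS a M) (h1 : M ≠ ⊥)
    (hle : ∀ m ∈ M, ∀ y, y ≠ a → m • y ∈ orbit N y) : Sm p a M := by
  refine (h.sm_or_trans hM h1).resolve_right fun ht => ?_
  obtain ⟨y, hy, -⟩ := h.exists_third a a
  obtain ⟨z, hz, hz'⟩ := h.exists_out hN hy
  obtain ⟨m, hm, rfl⟩ := mem_orb.1 (ht y z hy hz)
  exact hz' (hle m hm y hy)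

theorem ker_spec [Finite G] (hr : Rel (stabilizer G a) r)
    (hp : ∀ y, y ≠ a → {z | z ≠ a ∧ r y z}.ncard = p) :
    (∀ A : Subgroup G, A ≤ stabilizer G a → Nat.card A ∣ Nat.card ↥(A ⊓ hr.ker) * p.factorial) ∧
      (p ≠ 2 → ∃ g : G, g • a = a ∧ g * g ∉ hr.ker) := by
  classical
  have := h.fin
  obtain ⟨y, hy, -⟩ := h.exists_third a a
  obtain ⟨φ, hφ⟩ := hr.hom y
  have hq : Nat.card (Quotient (hr.st y)) = p := by
    have e := hr.quot y
    have e2 : {z | z ∈ orbit (stabilizer G a) y ∧ r y z} = {z | z ≠ a ∧ r y z} := by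
      rw [h.orbit_stab hy]; rfl
    have e3 : (orbit (stabilizer G a) y).ncard = p ^ 2 := by rw [h.orbit_stab hy, h.ncard_ne]
    rw [e2, e3, hp y hy, sq] at e
    exact (Nat.eq_of_mul_eq_mul_right h.prime.pos e).symm
  have hk : ∀ g : stabilizer G a, φ g = 1 ↔ (g : G) ∈ hr.ker := fun g => by
    constructor
    · refine fun e => ⟨g.2, fun z hz => ?_⟩
      have := hφ g ⟨z, by rw [h.orbit_stab hy]; exact hz⟩
      rw [e] at this
      exact Quotient.exact this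
    · refine fun e => Equiv.ext fun q => Quotient.inductionOn q fun x => ?_
      rw [hφ]
      refine (Quotient.sound (e.2 x ?_)).symm
      exact (h.orbit_stab hy).le x.2
  refine ⟨fun A hA => ?_, fun hp2 => ?_⟩
  · let ψ := φ.comp (inclusion hA)
    have e1 : ψ.ker = (A ⊓ hr.ker).subgroupOf A := by
      ext g
      rw [MonoidHom.mem_ker, mem_subgroupOf, mem_inf]
      exact (hk _).trans ⟨fun e => ⟨g.2, e⟩, fun e => e.2⟩
    rw [← ψ.ker.card_mul_index, index_ker, e1,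
      Nat.card_congr (subgroupOfEquivOfLe inf_le_left).toEquiv]
    refine Nat.mul_dvd_mul_left _ ?_
    have := card_subgroup_dvd_card ψ.range
    rwa [Nat.card_perm, hq] at this
  · have : IsPretransitive φ.range (Quotient (hr.st y)) := ⟨fun q q' => by
      induction q using Quotient.ind with
      | _ x =>
      induction q' using Quotient.ind with
      | _ x' =>
      obtain ⟨g, hg⟩ := exists_smul_eq (stabilizer G a) x x'
      exact ⟨⟨φ g, g, rfl⟩, by rw [← hg]; exact hφ g x⟩⟩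
    have e := index_stabilizer_of_transitive φ.range
      (Quotient.mk (hr.st y) ⟨y, mem_orbit_self y⟩)
    have := Fact.mk h.prime
    obtain ⟨⟨_, g, rfl⟩, hσ⟩ := exists_prime_orderOf_dvd_card' (G := φ.range) p
      (by rw [← hq, ← e]; exact index_dvd_card _)
    refine ⟨g, g.2, fun hg => hp2 ?_⟩
    have e2 := (hk (g * g)).2 hg
    rw [← orderOf_coe] at hσ
    have : p ∣ 2 := by
      rw [← hσ]
      exact orderOf_dvd_of_pow_eq_one (by rw [sq, ← map_mul]; exact e2)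
    exact (Nat.prime_dvd_prime_iff_eq h.prime Nat.prime_two).1 this

theorem fisher {a b : Ω} (hab : a ≠ b) {F : Set Ω} (ha : a ∈ F) (hb : b ∈ F)
    (h1 : ∀ g : G, g • a = a → g • b = b → ∀ x ∈ F, g • x ∈ F)
    (h2 : ∀ c ∈ F, c ≠ a → ∃ g : G, g • a = a ∧ g • b = c ∧ ∀ x ∈ F, g • x ∈ F)
    (h3 : ∃ s : G, s • a = b ∧ s • b = a ∧ ∀ x ∈ F, s • x ∈ F) (h4 : p + 1 ≤ F.ncard)
    {x₀ : Ω} (h5 : x₀ ∉ F) : False := by
  have := h.fin
  have hS : ∀ g : G, (∀ x ∈ F, g • x ∈ F) → g ∈ stabilizer G F := fun g hg =>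
    (mem_stabilizer_set_iff_smul_set_subset (Set.toFinite F)).2 (by
      rintro _ ⟨x, hx, rfl⟩; exact hg x hx)
  have hS' : ∀ g ∈ stabilizer G F, ∀ x ∈ F, g • x ∈ F := fun g hg x hx =>
    (mem_stabilizer_iff.1 hg).le (Set.smul_mem_smul_set hx)
  have t1 : ∀ x ∈ F, ∃ g ∈ stabilizer G F, g • a = x := fun x hx => by
    by_cases hxa : x = a
    · exact ⟨1, one_mem _, by rw [one_smul, hxa]⟩
    · obtain ⟨g, -, g2, g3⟩ := h2 x hx hxa
      obtain ⟨s, s1, -, s3⟩ := h3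
      exact ⟨g * s, mul_mem (hS g g3) (hS s s3), by rw [mul_smul, s1, g2]⟩
  have t2 : ∀ x ∈ F, ∀ y ∈ F, x ≠ y → ∃ g ∈ stabilizer G F, g • a = x ∧ g • b = y := by
    intro x hx y hy hxy
    obtain ⟨g, hg, rfl⟩ := t1 x hx
    obtain ⟨k, k1, k2, k3⟩ := h2 (g⁻¹ • y) (hS' _ (inv_mem hg) y hy)
      fun e => hxy (inv_smul_eq_iff.1 e).symm
    exact ⟨g * k, mul_mem hg (hS k k3), by rw [mul_smul, k1], by rw [mul_smul, k2, smul_inv_smul]⟩
  have key : ∀ (g : G), ∀ x ∈ F, ∀ y ∈ F, x ≠ y → g • x ∈ F → g • y ∈ F → g ∈ stabilizer G F := by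
    intro g x hx y hy hxy hx' hy'
    obtain ⟨u, hu, rfl, rfl⟩ := t2 x hx y hy hxy
    obtain ⟨v, hv, v1, v2⟩ := t2 _ hx' _ hy' fun e => hxy (MulAction.injective g e)
    have : v⁻¹ * g * u ∈ stabilizer G F := hS _ (h1 _
      (by rw [mul_smul, mul_smul, ← v1, inv_smul_smul])
      (by rw [mul_smul, mul_smul, ← v2, inv_smul_smul]))
    exact ((stabilizer G F).mul_mem_cancel_left (inv_mem hv)).1
      (((stabilizer G F).mul_mem_cancel_right hu).1 this)
  have hg : ∀ y : F, ∃ g : G, g • a = x₀ ∧ g • b = y := fun y =>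
    h.two hab fun e => h5 (e ▸ y.2)
  choose g g1 g2 using hg
  let f : F × ↥(F \ {a}) → {z | z ≠ x₀} := fun q => ⟨g q.1 • (q.2 : Ω), fun e =>
    q.2.2.2 (MulAction.injective (g q.1) (e.trans (g1 q.1).symm))⟩
  have hf : Function.Injective f := by
    rintro ⟨y, z⟩ ⟨y', z'⟩ e
    have e : g y • (z : Ω) = g y' • (z' : Ω) := congrArg Subtype.val e
    have hu : (g y')⁻¹ * g y ∈ stabilizer G F := key _ a ha z z.2.1 (Ne.symm z.2.2)
      (by rw [mul_smul, g1, ← g1 y', inv_smul_smul]; exact ha)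
      (by rw [mul_smul, e, inv_smul_smul]; exact z'.2.1)
    have hy : y = y' := by
      by_contra hne
      have h6 := hS' _ hu b hb
      rw [mul_smul, g2] at h6
      have h7 := key (g y')⁻¹ y y.2 y' y'.2 (fun e => hne (Subtype.ext e)) h6
        (by rw [← g2 y', inv_smul_smul]; exact hb)
      exact h5 (g1 y' ▸ hS' _ (inv_mem_iff.1 h7) a ha)
    subst hy
    rw [Subtype.ext (MulAction.injective _ e)]
  have h6 := Nat.card_le_card_of_injective f hf
  rw [Nat.card_prod, Nat.card_coe_set_eq, Nat.card_coe_set_eq, Nat.card_coe_set_eq, h.ncard_ne,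
    Set.ncard_diff_singleton_of_mem ha] at h6
  have h7 : (p + 1) * p ≤ F.ncard * (F.ncard - 1) := Nat.mul_le_mul h4 (by omega)
  have := h.prime.pos
  nlinarith

end Cx

end H4.Dp
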