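import Cfsg.Agent.H4.DpA
import Cfsg.Agent.S0713

/-! Degree `p ^ 2 + 1`: families of subgroups, the abelian case of O'Nan's argument, minimal normal
subgroups of the point stabiliser. -/

set_option autoImplicit false

namespace H4.Dp

open MulAction Subgroup H89.K H89.ONan

variable {G Ω : Type*} [Group G] [MulAction G Ω] {p : ℕ}

/-- an equivariant family of subgroups of the point stabilisers -/
structure Fam (N : Ω → Subgroup G) : Prop where
  conj : ∀ (g : G) {x n}, n ∈ N x → g * n * g⁻¹ ∈ N (g • x)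
  fix : ∀ {x n}, n ∈ N x → n • x = x

theorem exists_fam (h : T2 G Ω) {a : Ω} {M : Subgroup G} (hM : NS a M) :
    ∃ N : Ω → Subgroup G, Fam N ∧ N a = M := by
  let N : Ω → Subgroup G := fun x =>
    { carrier := {n | ∀ g : G, g • a = x → g⁻¹ * n * g ∈ M}
      one_mem' := fun g _ => by simpa using M.one_mem
      mul_mem' := fun {n m} hn hm g hg => by
        simpa [mul_assoc] using M.mul_mem (hn g hg) (hm g hg)
      inv_mem' := fun {n} hn g hg => by simpa [mul_assoc] using M.inv_mem (hn g hg) }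
  refine ⟨N, ⟨fun g x n hn k hk => ?_, fun {x n} hn => ?_⟩, ?_⟩
  · simpa [mul_assoc] using hn (g⁻¹ * k) (by rw [mul_smul, hk, inv_smul_smul])
  · obtain ⟨g, rfl⟩ := h.trans a x
    have := hM.fix _ (hn g rfl)
    rwa [mul_smul, mul_smul, inv_smul_eq_iff] at this
  · ext n
    exact ⟨fun hn => by simpa using hn 1 (one_smul _ _),
      fun hn g hg => by simpa using hM.conj g⁻¹ (inv_fix hg) n hn⟩

namespace Fam

variable {N : Ω → Subgroup G} (hN : Fam N)
include hN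

theorem back (g : G) {x : Ω} {n : G} (hn : n ∈ N (g • x)) : g⁻¹ * n * g ∈ N x := by
  simpa using hN.conj g⁻¹ hn

theorem conj_A (g : G) {x y : Ω} {w : G} (hw : w ∈ A N x y) :
    g * w * g⁻¹ ∈ A N (g • x) (g • y) := ⟨hN.conj g hw.1, conj_smul_eq.2 hw.2⟩

theorem A_le (g : G) {x y x' y' : Ω} (e : A N x y ≤ A N x' y') :
    A N (g • x) (g • y) ≤ A N (g • x') (g • y') := fun w hw => by
  have h1 := hN.conj_A g⁻¹ hw
  rw [inv_smul_smul, inv_smul_smul] at h1
  simpa [mul_assoc] using hN.conj_A g (e h1)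

theorem A_congr (g : G) {x y x' y' : Ω} (e : A N x y = A N x' y') :
    A N (g • x) (g • y) = A N (g • x') (g • y') := le_antisymm (hN.A_le g e.le) (hN.A_le g e.ge)

theorem smul_mem_L (g : G) {x y w : Ω} (hw : w ∈ L N x y) : g • w ∈ L N (g • x) (g • y) := by
  intro u hu
  have h1 := hN.conj_A g⁻¹ hu
  rw [inv_smul_smul, inv_smul_smul] at h1
  have := hw _ h1
  rwa [mul_smul, mul_smul, inv_inv, inv_smul_eq_iff] at this

theorem card_A (h : T2 G Ω) {x y x' y' : Ω} (hxy : x ≠ y) (hxy' : x' ≠ y') :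
    Nat.card (A N x y) = Nat.card (A N x' y') := by
  obtain ⟨g, rfl, rfl⟩ := h.two hxy hxy'
  rw [← card_map_of_injective (f := (MulAut.conj g).toMonoidHom) (MulAut.conj g).injective]
  congr 2
  ext w
  refine ⟨?_, fun hw => ⟨g⁻¹ * w * g⁻¹⁻¹, by simpa using hN.conj_A g⁻¹ hw, by simp [mul_assoc]⟩⟩
  rintro ⟨w, hw, rfl⟩
  exact hN.conj_A g hw

theorem ncard_L (g : G) (x y : Ω) : (L N (g • x) (g • y)).ncard = (L N x y).ncard := by
  rw [← Set.ncard_image_of_injective (L N x y) (MulAction.injective g)]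
  congr 1
  ext w
  refine ⟨fun hw => ⟨g⁻¹ • w, by simpa using hN.smul_mem_L g⁻¹ hw, smul_inv_smul _ _⟩, ?_⟩
  rintro ⟨w, hw, rfl⟩
  exact hN.smul_mem_L g hw

theorem A_eq [Finite G] (h : T2 G Ω) {x y w : Ω} (hxy : x ≠ y) (hw : w ∈ L N x y) (hwx : w ≠ x) :
    A N x w = A N x y :=
  (eq_of_le_of_card_ge (H := A N x y) (fun u hu => mem_A.2 ⟨hu.1, hw u hu⟩)
    (hN.card_A h hwx.symm hxy).le).symm

theorem fisher [Finite G] (h : Cx G Ω p) {a b c x : Ω} (hab : a ≠ b) (hs : L N a b = L N b a)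
    (hc : c ∈ L N a b) (hca : c ≠ a) (hcb : c ≠ b) (hx : x ∉ L N a b) : False := by
  have := h.fin
  have ha : a ∈ L N a b := fun u hu => hN.fix hu.1
  refine h.fisher hab ha (right_mem_L a b) (fun g g1 g2 y hy => ?_) (fun d hd hda => ?_) ?_ ?_ hx
  · have := hN.smul_mem_L g hy
    rwa [g1, g2] at this
  · obtain ⟨g, g1, g2⟩ := h.two hab hda.symm
    refine ⟨g, g1, g2, fun y hy => ?_⟩
    have := hN.smul_mem_L g hy
    rwa [g1, g2, L, hN.A_eq h.toT2 hab hd hda] at this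
  · obtain ⟨s, s1, s2⟩ := h.exists_swap hab
    refine ⟨s, s1, s2, fun y hy => ?_⟩
    have := hN.smul_mem_L s hy
    rwa [s1, s2, ← hs] at this
  · have hr : Rel (stabilizer G a) fun y z => A N a y = A N a z :=
      ⟨⟨fun _ => rfl, Eq.symm, Eq.trans⟩, fun g hg y z e => by
        have := hN.A_congr g e
        rwa [mem_stabilizer_iff.1 hg] at this⟩
    have h1 := h.le_cls hr hab.symm hca hcb (hN.A_eq h.toT2 hab hc hca).symm
    have h2 := Set.ncard_le_ncard (show {z | z ≠ a ∧ A N a b = A N a z} ⊆ L N a b \ {a} from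
      fun z hz => ⟨fun u hu => (hz.2.le hu).2, hz.1⟩)
    have h3 := Set.ncard_diff_singleton_add_one ha
    omega

end Fam

theorem Sm.pow_fix [Finite G] {a y : Ω} {Q : Subgroup G} (hQ : Sm p a Q)
    (hc : ∀ u ∈ Q, ∀ v ∈ Q, u * v = v * u) (hy : y ≠ a) {n : G} (hn : n ∈ Q) : n ^ p • y = y := by
  have : (stabilizer Q y).Normal := ⟨fun u hu v => by
    rwa [show v * u = u * v from Subtype.ext (hc _ v.2 _ u.2), mul_inv_cancel_right]⟩
  have e := (stabilizer Q y).pow_index_mem ⟨n, hn⟩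
  rwa [index_stabilizer, hQ.orb y hy] at e

theorem pow_smul_eq {g n : G} {y : Ω} (hc : g * n = n * g) (e : g • y = n • y) (k : ℕ) :
    g ^ k • y = n ^ k • y := by
  induction k with
  | zero => simp
  | succ k ih => rw [pow_succ', mul_smul, ih, ← mul_smul, (Commute.pow_right hc k).eq, mul_smul, e,
      ← mul_smul, ← pow_succ]

namespace Cx

variable [Finite G] (h : Cx G Ω p) {a : Ω} {Q : Subgroup G}
include h

theorem pow_eq_one (hQ : Sm p a Q) (hc : ∀ u ∈ Q, ∀ v ∈ Q, u * v = v * u) {g : G} (ha : g • a = a)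
    (h1 : ∀ u ∈ Q, g * u = u * g) (h2 : ∀ y, y ≠ a → g • y ∈ orbit Q y) : g ^ p = 1 := by
  refine h.eq_one ((stabilizer G a).pow_mem ha p) fun y hy => ?_
  obtain ⟨n, hn, e⟩ := mem_orb.1 (h2 y hy)
  rw [pow_smul_eq (h1 n hn) e.symm, hQ.pow_fix hc hy hn]

theorem semireg (hQ : Sm p a Q) (hc : ∀ u ∈ Q, ∀ v ∈ Q, u * v = v * u) {n : G} (hn : n ∈ Q)
    {y : Ω} (hy : y ≠ a) (e : n • y = y) : n = 1 := by
  by_contra n1
  obtain ⟨N, hN, rfl⟩ := exists_fam h.toT2 hQ.toNS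
  have hO : H89.ONan G p N :=
    { two := h.mult
      faithful := h.faithful
      conj := hN.conj
      fix := hN.fix
      comm := fun {x u v} hu hv => by
        obtain ⟨g, rfl⟩ := h.trans a x
        exact mul_right_cancel (b := g)
          (by simpa [mul_assoc] using hc _ (hN.back g hu) _ (hN.back g hv))
      prime := h.prime
      pgrp := fun x u => ⟨1, Subtype.ext (by
        obtain ⟨g, rfl⟩ := h.trans a x
        have h1 := hN.back g u.2
        have := h.pow_eq_one hQ hc (hN.fix h1) (hc _ h1) fun y _ => mem_orb.2 ⟨_, h1, rfl⟩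
        rw [show g⁻¹ * (u : G) * g = g⁻¹ * u * g⁻¹⁻¹ by rw [inv_inv], conj_pow,
          conj_eq_one_iff] at this
        simpa using this)⟩
      nsr := ⟨a, y, hy.symm, n, hn, n1, e⟩ }
  obtain ⟨m, hm, hm'⟩ := h.exists_in hQ hy
  obtain ⟨x, hx⟩ := hO.exists_notMem_L hy.symm
  exact hN.fisher h hy.symm (hO.L_comm hy.symm) (hO.N_smul_mem_L hm (right_mem_L a y))
    (smul_ne (hN.fix hm) hy) hm' hx

theorem card_sm (hQ : Sm p a Q) (hc : ∀ u ∈ Q, ∀ v ∈ Q, u * v = v * u) : Nat.card Q = p := by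
  obtain ⟨y, hy, -⟩ := h.exists_third a a
  have e := H89.ncard_orbit_mul_card Q y
  rw [hQ.orb y hy, show Q ⊓ stabilizer G y = ⊥ from
    eq_bot_iff.2 fun n hn => h.semireg hQ hc hn.1 hy hn.2, card_bot, mul_one] at e
  exact e.symm

end Cx

/-- conjugate subgroup -/
def cj (g : G) (T : Subgroup G) : Subgroup G := T.comap (MulAut.conj g⁻¹).toMonoidHom

theorem mem_cj {g x : G} {T : Subgroup G} : x ∈ cj g T ↔ g⁻¹ * x * g ∈ T := by
  simp [cj]

/-- non-trivial normal subgroup of `M` -/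
structure MN (M T : Subgroup G) : Prop where
  ne : T ≠ ⊥
  le : T ≤ M
  conj : ∀ m ∈ M, ∀ t ∈ T, m * t * m⁻¹ ∈ T

/-- `T` moves `y` -/
def Mv (T : Subgroup G) (y : Ω) : Prop := ∃ t ∈ T, t • y ≠ y

theorem mv_cj {g : G} {T : Subgroup G} {y : Ω} : Mv (cj g T) (g • y) ↔ Mv T y := by
  constructor
  · rintro ⟨t, ht, e⟩
    refine ⟨_, mem_cj.1 ht, fun e' => e ?_⟩
    rwa [mul_smul, mul_smul, inv_smul_eq_iff] at e'
  · rintro ⟨t, ht, e⟩
    exact ⟨g * t * g⁻¹, mem_cj.2 (by simpa [mul_assoc] using ht), fun e' => e (conj_smul_eq.1 e')⟩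

theorem cj_cj (g k : G) (T : Subgroup G) : cj g (cj k T) = cj (g * k) T := by
  ext x
  simp [mem_cj, mul_assoc]

theorem cj_one (T : Subgroup G) : cj 1 T = T := by
  ext x
  simp [mem_cj]

theorem exists_ne_one {T : Subgroup G} (h : T ≠ ⊥) : ∃ t ∈ T, t ≠ 1 := by
  by_contra! hc
  exact h (eq_bot_iff.2 hc)

theorem ne_bot_of {T : Subgroup G} {t : G} (ht : t ∈ T) (h : t ≠ 1) : T ≠ ⊥ :=
  fun e => h (mem_bot.1 (e ▸ ht))

section

variable {a y : Ω} {M T T' : Subgroup G}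

theorem MN.cj (hM : NS a M) (hT : MN M T) {g : G} (hg : g • a = a) : MN M (cj g T) := by
  refine ⟨?_, fun x hx => ?_, fun m hm t ht => mem_cj.2 ?_⟩
  · obtain ⟨t, ht, t1⟩ := exists_ne_one hT.ne
    exact ne_bot_of (t := g * t * g⁻¹) (mem_cj.2 (by simpa [mul_assoc] using ht)) (by simpa)
  · simpa [mul_assoc] using hM.conj g hg _ (hT.le (mem_cj.1 hx))
  · simpa [mul_assoc] using hT.conj _ (hM.conj g⁻¹ (inv_fix hg) m hm) _ (mem_cj.1 ht)

theorem min_cj (hM : NS a M) (hT : Minimal (MN M) T) {g : G} (hg : g • a = a) :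
    Minimal (MN M) (cj g T) := by
  refine ⟨hT.1.cj hM hg, fun U hU hle x hx => ?_⟩
  have h1 : T ≤ cj g⁻¹ U := hT.2 (hU.cj hM (inv_fix hg)) fun u hu => by
    simpa [mem_cj, mul_assoc] using hle (mem_cj.1 hu)
  simpa [mem_cj, mul_assoc] using h1 (mem_cj.1 hx)

theorem MN.mv_smul (hT : MN M T) {m : G} (hm : m ∈ M) (e : Mv T y) : Mv T (m • y) := by
  obtain ⟨t, ht, e⟩ := e
  exact ⟨_, hT.conj m hm t ht, fun e' => e (conj_smul_eq.1 e')⟩

theorem min_faith (hT : Minimal (MN M) T) (e : Mv T y) {t : G} (ht : t ∈ T)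
    (h1 : ∀ z ∈ orbit M y, t • z = z) : t = 1 := by
  by_contra t1
  obtain ⟨u, hu, e⟩ := e
  have hU : MN M (T ⊓ ⨅ z ∈ orbit M y, stabilizer G z) := by
    refine ⟨ne_bot_of (t := t) ⟨ht, by simpa [mem_iInf] using h1⟩ t1, inf_le_left.trans hT.1.le,
      fun m hm v hv => ⟨hT.1.conj m hm v hv.1, ?_⟩⟩
    have h2 : ∀ z ∈ orbit M y, v • z = z := by simpa [mem_iInf] using hv.2
    refine mem_iInf.2 fun z => mem_iInf.2 fun hz => ?_
    rw [mem_stabilizer_iff, mul_smul, mul_smul, h2 _ (smul_mem_orb (M.inv_mem hm) hz), smul_inv_smul]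
  have h3 : ∀ z ∈ orbit M y, u • z = z := by simpa [mem_iInf] using (hT.2 hU inf_le_left hu).2
  exact e (h3 y (mem_orbit_self y))

theorem min_comm (hT : Minimal (MN M) T) (hT' : Minimal (MN M) T') (hne : T ≠ T') {t t' : G}
    (ht : t ∈ T) (ht' : t' ∈ T') : t * t' = t' * t := by
  by_contra hc
  have hU : MN M (T ⊓ T') := by
    refine ⟨ne_bot_of (t := t * t' * t⁻¹ * t'⁻¹) ⟨?_, ?_⟩ ?_, inf_le_left.trans hT.1.le,
      fun m hm v hv => ⟨hT.1.conj m hm v hv.1, hT'.1.conj m hm v hv.2⟩⟩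
    · simpa [mul_assoc] using T.mul_mem ht (hT.1.conj _ (hT'.1.le ht') _ (T.inv_mem ht))
    · exact T'.mul_mem (hT'.1.conj _ (hT.1.le ht) _ ht') (T'.inv_mem ht')
    · rwa [Ne, mul_inv_eq_one, mul_inv_eq_iff_eq_mul]
  exact hne (le_antisymm ((hT.2 hU inf_le_left).trans inf_le_right)
    ((hT'.2 hU inf_le_right).trans inf_le_left))

theorem comm_of_min (hM : NS a M) (hmin : ∀ N, NS a N → N ≠ ⊥ → N ≤ M → M ≤ N)
    (hT : Minimal (MN M) T) (hc : ∀ u ∈ T, ∀ v ∈ T, u * v = v * u) :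
    ∀ u ∈ M, ∀ v ∈ M, u * v = v * u := by
  have h0 : T ≤ ⨆ g : stabilizer G a, cj (g : G) T :=
    le_iSup_of_le 1 (by rw [OneMemClass.coe_one, cj_one])
  have h1 : (⨆ g : stabilizer G a, cj (g : G) T) ≤ M := iSup_le fun g => (hT.1.cj hM g.2).le
  have h2 : M ≤ ⨆ g : stabilizer G a, cj (g : G) T := by
    refine hmin _ ⟨fun n hn => hM.fix n (h1 hn), fun k hk n hn => ?_⟩
      (fun e => hT.1.ne (eq_bot_iff.2 (e ▸ h0))) h1
    have : (⨆ g : stabilizer G a, cj (g : G) T) ≤ cj k⁻¹ (⨆ g : stabilizer G a, cj (g : G) T) :=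
      iSup_le fun g x hx => mem_cj.2 (mem_iSup_of_mem (⟨k, hk⟩ * g)
        (by simpa [mem_cj, mul_assoc] using hx))
    simpa using mem_cj.1 (this hn)
  have h3 : M ≤ centralizer (T : Set G) := h2.trans (iSup_le fun g x hx t ht => by
    by_cases e : T = cj (g : G) T
    · exact hc t ht x (e ▸ hx)
    · exact min_comm hT (min_cj hM hT g.2) e ht hx)
  have h4 := hmin _ (hM.inf hM.cent) (fun e => hT.1.ne (eq_bot_iff.2 (e ▸ fun t ht =>
    ⟨hT.1.le ht, hM.fix t (hT.1.le ht), fun m hm => (h3 hm t ht).symm⟩))) inf_le_left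
  exact fun u hu v hv => (h4 hv).2.2 u hu

end

namespace Cx

variable [Finite G] (h : Cx G Ω p) {a y : Ω} {M T T' : Subgroup G}
include h

omit [Finite G] in
theorem orbit_mn (hM : Sm p a M) (hT : MN M T) (hy : y ≠ a) (e : Mv T y) :
    orbit T y = orbit M y := by
  have := h.fin
  have hle : orbit T y ⊆ orbit M y := fun z hz => by
    obtain ⟨t, ht, rfl⟩ := mem_orb.1 hz
    exact mem_orb.2 ⟨t, hT.le ht, rfl⟩
  have h1 := (rel_orbit (Ω := Ω) hT.conj).dvd y
  rw [hM.orb y hy, show {z | z ∈ orbit M y ∧ z ∈ orbit T y} = orbit T y from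
    Set.ext fun z => ⟨fun e => e.2, fun e => ⟨hle e, e⟩⟩] at h1
  rcases (Nat.dvd_prime h.prime).1 h1 with h2 | h2
  · obtain ⟨w, hw⟩ := Set.ncard_eq_one.1 h2
    obtain ⟨t, ht, e⟩ := e
    have h3 : t • y ∈ ({w} : Set Ω) := hw ▸ mem_orb.2 ⟨t, ht, rfl⟩
    have h4 : y ∈ ({w} : Set Ω) := hw ▸ mem_orbit_self y
    exact absurd (h3.trans h4.symm) e
  · exact Set.eq_of_subset_of_ncard_le hle (by rw [h2, hM.orb y hy])

theorem min_ab (hM : Sm p a M) (hT : Minimal (MN M) T) (hT' : Minimal (MN M) T') (hne : T ≠ T')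
    (hy : y ≠ a) (e : Mv T y) (e' : Mv T' y) : ∀ u ∈ T, ∀ v ∈ T, u * v = v * u := by
  have h1 := H89.ncard_orbit_mul_card T y
  rw [h.orbit_mn hM hT.1 hy e, hM.orb y hy, show T ⊓ stabilizer G y = ⊥ from
    eq_bot_iff.2 fun t ht => min_faith hT e ht.1 fun z hz => by
      rw [← h.orbit_mn hM hT'.1 hy e'] at hz
      obtain ⟨u, hu, rfl⟩ := mem_orb.1 hz
      exact fix_of_comm (min_comm hT hT' hne ht.1 hu).symm ht.2, card_bot, mul_one] at h1
  have := Fact.mk h.prime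
  have := isCyclic_of_prime_card h1.symm
  exact fun u hu v hv =>
    congrArg Subtype.val ((IsCyclic.isMulCommutative (α := T)).is_comm.comm ⟨u, hu⟩ ⟨v, hv⟩)

theorem jordan (hM : Sm p a M) (hT : MN M T) (hy : y ≠ a) (e : Mv T y)
    (h1 : ∀ t ∈ T, ∀ z, z ∉ orbit M y → t • z = z) : False := by
  classical
  have := h.fin
  have := Fintype.ofFinite Ω
  have := Fact.mk h.prime
  have := h.faithful
  have hp2 := h.prime.two_le
  have hn : Fintype.card Ω = p ^ 2 + 1 := by rw [← h.card, Nat.card_eq_fintype_card]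
  have h2 := H89.ncard_orbit_mul_card T y
  rw [h.orbit_mn hM hT hy e, hM.orb y hy] at h2
  obtain ⟨t, ht⟩ := exists_prime_orderOf_dvd_card' (G := T) p ⟨_, h2.symm⟩
  have ho : orderOf (toPermHom G Ω t) = p := by
    rw [orderOf_injective _ (toPerm_injective (α := G) (β := Ω)), orderOf_coe, ht]
  have hs : (toPermHom G Ω t).support.card ≤ p := by
    rw [← hM.orb y hy, ← Set.ncard_coe_finset]
    refine Set.ncard_le_ncard fun z hz => ?_
    by_contra hz'
    exact Equiv.Perm.mem_support.1 hz (h1 t t.2 z hz')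
  have hc : (toPermHom G Ω t).IsCycle :=
    Equiv.Perm.isCycle_of_prime_order (ho ▸ h.prime) (by rw [ho]; omega)
  have h2t : IsMultiplyPretransitive (toPermHom G Ω).range Ω 2 :=
    is_two_pretransitive_iff.2 fun h1 h2 => by
      obtain ⟨g, g1, g2⟩ := h.two h1 h2
      exact ⟨⟨_, g, rfl⟩, g1, g2⟩
  have hA := Cfsg.Agent.S0713.result (toPermHom G Ω).range
    (isPreprimitive_of_is_two_pretransitive h2t) h.prime (by nlinarith) (by nlinarith) hc
    (hc.orderOf ▸ ho) ⟨t, rfl⟩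
  obtain ⟨m, hm, hm'⟩ := h.exists_in hM hy
  obtain ⟨w, hw, hw'⟩ := h.exists_out hM hy
  obtain ⟨v, hv⟩ : ∃ v, v ∉ ({a, y, m • y, w} : Finset Ω) := by
    by_contra! hc
    have := (Finset.card_le_card (show Finset.univ ⊆ _ from fun v _ => hc v)).trans
      Finset.card_le_four
    rw [Finset.card_univ] at this
    nlinarith
  simp only [Finset.mem_insert, Finset.mem_singleton, not_or] at hv
  obtain ⟨v1, v2, v3, v4⟩ := hv
  have z1 : m • y ≠ w := fun e => hw' (e ▸ mem_orb.2 ⟨m, hm, rfl⟩)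
  have z2 : y ≠ w := fun e => hw' (e ▸ mem_orbit_self _)
  have z3 := smul_ne (hM.fix m hm) hy
  obtain ⟨g, hg⟩ := hA (x := Equiv.swap (m • y) w * Equiv.swap w v) (by
    rw [Equiv.Perm.mem_alternatingGroup, map_mul, Equiv.Perm.sign_swap z1,
      Equiv.Perm.sign_swap (Ne.symm v4)]; simp)
  have g0 : ∀ x, g • x = Equiv.swap (m • y) w (Equiv.swap w v x) := fun x =>
    Equiv.congr_fun hg x
  have g1 : g • a = a := by
    rw [g0, Equiv.swap_apply_of_ne_of_ne hw.symm (Ne.symm v1),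
      Equiv.swap_apply_of_ne_of_ne z3.symm hw.symm]
  have g2 : g • y = y := by
    rw [g0, Equiv.swap_apply_of_ne_of_ne z2 (Ne.symm v2), Equiv.swap_apply_of_ne_of_ne hm'.symm z2]
  have g3 : g • m • y = w := by
    rw [g0, Equiv.swap_apply_of_ne_of_ne z1 (Ne.symm v3), Equiv.swap_apply_left]
  have := hM.rel.inv g g1 y _ (mem_orb.2 ⟨m, hm, rfl⟩)
  rw [g2, g3] at this
  exact hw' this

theorem min_self (hM : Sm p a M) (hmin : ∀ N, NS a N → N ≠ ⊥ → N ≤ M → M ≤ N)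
    (hc : ¬ ∀ u ∈ M, ∀ v ∈ M, u * v = v * u) : Minimal (MN M) M := by
  obtain ⟨b, hb, -⟩ := h.exists_third a a
  obtain ⟨m, hm, hm'⟩ := h.exists_in hM hb
  obtain ⟨T, hT⟩ := exists_minimal_of_wellFoundedLT (MN M)
    ⟨M, ne_bot_of hm (by rintro rfl; exact hm' (one_smul _ _)), le_rfl,
      fun m hm t ht => M.mul_mem (M.mul_mem hm ht) (M.inv_mem hm)⟩
  have key : ∀ g : G, g • a = a → ∀ y, y ≠ a → Mv T y → Mv (cj g T) y → T = cj g T :=
    fun g hg y hy e e' => by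
      by_contra hne
      exact hc (comm_of_min hM.toNS hmin hT (h.min_ab hM hT (min_cj hM.toNS hT hg) hne hy e e'))
  obtain ⟨t, ht, t1⟩ := exists_ne_one hT.1.ne
  obtain ⟨y, hty⟩ := h.exists_move t1
  have hy : y ≠ a := by rintro rfl; exact hty (hM.fix t (hT.1.le ht))
  have e : Mv T y := ⟨t, ht, hty⟩
  obtain ⟨t', ht', z, hz, hz'⟩ : ∃ t ∈ T, ∃ z, z ∉ orbit M y ∧ t • z ≠ z := by
    by_contra! hcon
    exact h.jordan hM hT.1 hy e hcon
  have hza : z ≠ a := by rintro rfl; exact hz' (hM.fix t' (hT.1.le ht'))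
  have e' : Mv T z := ⟨t', ht', hz'⟩
  have hr : Rel (stabilizer G a) fun y z : Ω =>
      ∀ g : G, g • a = a → (Mv (cj g T) y ↔ Mv (cj g T) z) := by
    refine ⟨⟨fun _ _ _ => Iff.rfl, fun e g hg => (e g hg).symm,
      fun e e' g hg => (e g hg).trans (e' g hg)⟩, fun k hk y z e g hg => ?_⟩
    have := e (k⁻¹ * g) (by rw [mul_smul, hg, inv_fix hk])
    rwa [← mv_cj (g := k), ← mv_cj (g := k) (y := z), cj_cj, mul_inv_cancel_left] at this
  have hall := h.all_of_orb hr hM hy (fun w hw g hg => by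
      obtain ⟨m, hm, rfl⟩ := mem_orb.1 hw
      exact ⟨(hT.1.cj hM.toNS hg).mv_smul hm, fun e => by
        simpa using (hT.1.cj hM.toNS hg).mv_smul (M.inv_mem hm) e⟩) hza hz
    fun g hg => ⟨fun e'' => key g hg y hy e e'' ▸ e', fun e'' => key g hg z hza e' e'' ▸ e⟩
  have h1 : M ≤ T := hmin T ⟨fun n hn => hM.fix n (hT.1.le hn), fun g hg n hn => by
    have h2 : Mv T (g • y) := by
      have := hall _ (smul_ne hg hy) 1 (one_smul _ _)
      rw [cj_one] at this
      exact this.1 e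
    rw [key g hg _ (smul_ne hg hy) h2 (mv_cj.2 e)]
    exact mem_cj.2 (by simpa [mul_assoc] using hn)⟩ hT.1.ne hT.1.le
  exact le_antisymm hT.1.le h1 ▸ hT

end Cx

end H4.Dp
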