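import Cfsg.Agent.H4.DpB
import Cfsg.Agent.H4.DpC
import Cfsg.Agent.S0675

/-! Degree `p ^ 2 + 1`: the point stabiliser has no simple normal subgroup with orbits of
length `p`. -/

set_option autoImplicit false

namespace H4.Dp

open MulAction Subgroup H89.K H89.ONan

variable {G Ω : Type*} [Group G] [MulAction G Ω] {p : ℕ}

/-- faithful and doubly transitive on each orbit -/
structure NB (p : ℕ) (a : Ω) (M : Subgroup G) : Prop extends Sm p a M where
  faith : ∀ y, y ≠ a → ∀ t ∈ M, (∀ z ∈ orbit M y, t • z = z) → t = 1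
  two : ∀ y, y ≠ a → ∀ x ∈ orbit M y, ∀ x' ∈ orbit M y, ∀ w ∈ orbit M y, ∀ w' ∈ orbit M y,
    x ≠ x' → w ≠ w' → ∃ m ∈ M, m • x = w ∧ m • x' = w'
  ne2 : p ≠ 2
  dvd : Nat.card M ∣ p.factorial

theorem simple_of_min {M : Subgroup G} (hm : Minimal (MN M) M) : IsSimpleGroup M := by
  have := (nontrivial_iff_ne_bot M).2 hm.1.ne
  refine ⟨fun H hH => or_iff_not_imp_left.2 fun h1 => eq_top_iff.2 fun x _ => ?_⟩
  have h2 : MN M (H.map M.subtype) := by
    refine ⟨fun e => h1 ((map_eq_bot_iff_of_injective H M.subtype_injective).1 e),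
      map_subtype_le H, ?_⟩
    rintro m hm _ ⟨t, ht, rfl⟩
    exact ⟨_, hH.conj_mem t ht ⟨m, hm⟩, rfl⟩
  obtain ⟨t, ht, e⟩ := hm.2 h2 h2.le x.2
  exact Subtype.ext e ▸ ht

theorem not_sq_dvd (hp : p.Prime) : ¬ p * p ∣ p.factorial := fun e => by
  rw [← Nat.mul_factorial_pred hp.ne_zero] at e
  have := hp.dvd_factorial.1 (Nat.dvd_of_mul_dvd_mul_left hp.pos e)
  have := hp.pos
  omega

/-- orbit length of a point stabiliser -/
noncomputable def kk (M : Subgroup G) (y z : Ω) : ℕ :=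
  (orbit (M ⊓ stabilizer G y : Subgroup G) z).ncard

theorem kk_smul {M : Subgroup G} {g : G} (hg : ∀ m ∈ M, g * m * g⁻¹ ∈ M)
    (hg' : ∀ m ∈ M, g⁻¹ * m * g⁻¹⁻¹ ∈ M) (y z : Ω) :
    orbit (M ⊓ stabilizer G (g • y) : Subgroup G) (g • z) =
      (g • ·) '' orbit (M ⊓ stabilizer G y : Subgroup G) z := by
  ext w
  constructor
  · intro hw
    obtain ⟨m, hm, rfl⟩ := mem_orb.1 hw
    refine ⟨(g⁻¹ * m * g⁻¹⁻¹) • z, mem_orb.2 ⟨_, ⟨hg' m hm.1, ?_⟩, rfl⟩, by simp [mul_smul]⟩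
    have := (conj_smul_eq (g := g⁻¹)).2 (mem_stabilizer_iff.1 hm.2)
    rwa [inv_smul_smul] at this
  · rintro ⟨w, hw, rfl⟩
    obtain ⟨m, hm, rfl⟩ := mem_orb.1 hw
    exact mem_orb.2 ⟨g * m * g⁻¹, ⟨hg m hm.1, conj_smul_eq.2 hm.2⟩, conj_smul_eq.2 rfl⟩

theorem row_card (M : Subgroup G) (y z : Ω) (x : orbit M y) :
    {x' : orbit M z | ∃ m ∈ M, m • y = x ∧ m • z = x'}.ncard = kk M y z := by
  obtain ⟨_, ⟨g, hg⟩, rfl⟩ := x
  rw [kk, ← Set.ncard_image_of_injective _ Subtype.val_injective,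
    ← Set.ncard_image_of_injective (orbit _ z) (MulAction.injective g),
    ← kk_smul (fun m hm => M.mul_mem (M.mul_mem hg hm) (M.inv_mem hg))
      fun m hm => M.mul_mem (M.mul_mem (M.inv_mem hg) hm) (M.inv_mem (M.inv_mem hg))]
  congr 1
  ext w
  constructor
  · rintro ⟨w, ⟨m, hm, h1, h2⟩, rfl⟩
    refine mem_orb.2 ⟨m * g⁻¹, ⟨M.mul_mem hm (M.inv_mem hg), ?_⟩, ?_⟩
    · change (m * g⁻¹) • g • y = g • y
      rw [mul_smul, inv_smul_smul]; exact h1
    · rw [mul_smul, inv_smul_smul, h2]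
  · intro hw
    obtain ⟨m, hm, rfl⟩ := mem_orb.1 hw
    refine ⟨⟨_, mem_orb.2 ⟨m * g, M.mul_mem hm.1 hg, mul_smul _ _ _⟩⟩,
      ⟨m * g, M.mul_mem hm.1 hg, ?_, mul_smul _ _ _⟩, rfl⟩
    rw [mul_smul]; exact hm.2

theorem row_inv (M : Subgroup G) (y z : Ω) (u : M) (x : orbit M y) (x' : orbit M z) :
    (∃ m ∈ M, m • y = (u • x : orbit M y) ∧ m • z = (u • x' : orbit M z)) ↔
      ∃ m ∈ M, m • y = x ∧ m • z = x' := by
  change (∃ m ∈ M, m • y = (u : G) • (x : Ω) ∧ m • z = (u : G) • (x' : Ω)) ↔ _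
  constructor
  · rintro ⟨m, hm, h1, h2⟩
    exact ⟨(u : G)⁻¹ * m, M.mul_mem (M.inv_mem u.2) hm, by rw [mul_smul, h1, inv_smul_smul],
      by rw [mul_smul, h2, inv_smul_smul]⟩
  · rintro ⟨m, hm, h1, h2⟩
    exact ⟨u * m, M.mul_mem u.2 hm, by rw [mul_smul, h1], by rw [mul_smul, h2]⟩

namespace Cx

variable [Finite G] (h : Cx G Ω p) {a : Ω} {M : Subgroup G}
include h

theorem nb_of_min (hM : Sm p a M) (hm : Minimal (MN M) M)
    (hc : ¬ ∀ u ∈ M, ∀ v ∈ M, u * v = v * u) : NB p a M := by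
  classical
  have := h.fin
  have := Fact.mk h.prime
  have hf : ∀ y, y ≠ a → ∀ t ∈ M, (∀ z ∈ orbit M y, t • z = z) → t = 1 := fun y hy t ht h1 =>
    min_faith hm (h.exists_in hM hy) ht h1
  have hi : ∀ y, y ≠ a → Function.Injective (toPermHom M (orbit M y)) := fun y hy =>
    (injective_iff_map_eq_one _).2 fun t ht => Subtype.ext (hf y hy t t.2 fun z hz =>
      congrArg Subtype.val (Equiv.congr_fun ht ⟨z, hz⟩))
  have hd : Nat.card M ∣ p.factorial := by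
    obtain ⟨y, hy, -⟩ := h.exists_third a a
    have := card_dvd_of_injective _ (hi y hy)
    rwa [Nat.card_perm, Nat.card_coe_set_eq, hM.orb y hy] at this
  have hc' : ¬ ∀ u v : M, u * v = v * u := fun e => hc fun u hu v hv =>
    congrArg Subtype.val (e ⟨u, hu⟩ ⟨v, hv⟩)
  refine ⟨hM, hf, fun y hy x hx x' hx' w hw w' hw' e e' => ?_, ?_, hd⟩
  · have := Fintype.ofFinite (orbit M y)
    have : IsPretransitive (toPermHom M (orbit M y)).range (orbit M y) := ⟨fun u v => by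
      obtain ⟨m, hm⟩ := exists_smul_eq M u v
      exact ⟨⟨_, m, rfl⟩, hm⟩⟩
    rcases Cfsg.Agent.S0675.result (α := orbit M y)
      (by rw [← Nat.card_eq_fintype_card, Nat.card_coe_set_eq, hM.orb y hy]; exact h.prime)
      (toPermHom M (orbit M y)).range with h1 | h1
    · have := simple_of_min hm
      have h2 : Group.IsSolvable M := Group.isSolvable_of_isSolvable_injective
        (f := (toPermHom M (orbit M y)).rangeRestrict)
        (MonoidHom.rangeRestrict_injective_iff.2 (hi y hy))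
      exact absurd (IsSimpleGroup.comm_iff_isSolvable.2 h2) hc'
    · obtain ⟨⟨_, m, rfl⟩, g1, g2⟩ := is_two_pretransitive_iff.1 h1
        (show (⟨x, hx⟩ : orbit M y) ≠ ⟨x', hx'⟩ from fun e'' => e (congrArg Subtype.val e''))
        (show (⟨w, hw⟩ : orbit M y) ≠ ⟨w', hw'⟩ from fun e'' => e' (congrArg Subtype.val e''))
      exact ⟨m, m.2, congrArg Subtype.val g1, congrArg Subtype.val g2⟩
  · rintro rfl
    have := isCyclic_of_card_dvd_prime (p := 2) hd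
    exact hc' (IsCyclic.isMulCommutative (α := M)).is_comm.comm

theorem kk_lt (hM : NB p a M) {y z : Ω} (hy : y ≠ a) (hz : z ≠ a) :
    0 < kk M y z ∧ kk M y z < p := by
  have := h.fin
  refine ⟨(Set.ncard_pos (Set.toFinite _)).2 ⟨z, mem_orbit_self z⟩, lt_of_le_of_ne ?_ fun e => ?_⟩
  · rw [← hM.orb z hz]
    refine Set.ncard_le_ncard fun w hw => ?_
    obtain ⟨m, hm, rfl⟩ := mem_orb.1 hw
    exact mem_orb.2 ⟨m, hm.1, rfl⟩
  · have e1 := H89.ncard_orbit_mul_card (M ⊓ stabilizer G y) z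
    have e2 := H89.ncard_orbit_mul_card M y
    rw [show (orbit (M ⊓ stabilizer G y : Subgroup G) z).ncard = p from e] at e1
    rw [hM.orb y hy, ← e1, ← mul_assoc] at e2
    exact not_sq_dvd h.prime ((Dvd.intro _ e2).trans hM.dvd)

theorem fix_of_kk (hM : NB p a M) {y z : Ω} (hz : z ≠ a) (e : kk M y z = 1 ∨ kk M y z + 1 = p) :
    ∃ c ∈ orbit M z, ∀ w ∈ M, w • y = y → w • c = c := by
  have := h.fin
  have hle : orbit (M ⊓ stabilizer G y : Subgroup G) z ⊆ orbit M z := fun w hw => by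
    obtain ⟨m, hm, rfl⟩ := mem_orb.1 hw
    exact mem_orb.2 ⟨m, hm.1, rfl⟩
  rcases e with e | e
  · obtain ⟨c, hc⟩ := Set.ncard_eq_one.1 e
    refine ⟨z, mem_orbit_self z, fun w hw hy => ?_⟩
    have h1 : w • z ∈ ({c} : Set Ω) := hc ▸ mem_orb.2 ⟨w, ⟨hw, hy⟩, rfl⟩
    have h2 : z ∈ ({c} : Set Ω) := hc ▸ mem_orbit_self z
    exact h1.trans h2.symm
  · have h1 := Set.ncard_diff_add_ncard_of_subset hle
    rw [hM.orb z hz, ← e] at h1
    obtain ⟨c, hc⟩ := Set.ncard_eq_one.1 (show (orbit M z \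
      orbit (M ⊓ stabilizer G y : Subgroup G) z).ncard = 1 by unfold kk at h1; omega)
    have h2 := hc.ge (Set.mem_singleton c)
    refine ⟨c, h2.1, fun w hw hy => hc.le ⟨smul_mem_orb hw h2.1, fun h3 => h2.2 ?_⟩⟩
    simpa using smul_mem_orb ((M ⊓ stabilizer G y).inv_mem ⟨hw, hy⟩) h3

theorem two_orbit (hM : NB p a M) {y : Ω} (hy : y ≠ a) [Fintype (orbit M y)] :
    Two M (orbit M y) p := by
  refine ⟨by rw [← Nat.card_eq_fintype_card, Nat.card_coe_set_eq, hM.orb y hy], h.prime.two_le,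
    fun x x' w w' e e' => ?_⟩
  obtain ⟨m, hm, h1, h2⟩ := hM.two y hy x x.2 x' x'.2 w w.2 w' w'.2
    (fun e'' => e (Subtype.ext e'')) fun e'' => e' (Subtype.ext e'')
  exact ⟨⟨m, hm⟩, Subtype.ext h1, Subtype.ext h2⟩

theorem fix_sq (hM : NB p a M) {g : G} (hg : g • a = a) {y : Ω} (hy : y ≠ a) :
    ∃ c ∈ orbit M (g • g • y), ∀ w ∈ M, w • y = y → w • c = c := by
  have := h.fin
  have h1 := smul_ne hg hy
  have h2 := smul_ne hg h1
  have := Fintype.ofFinite (orbit M y)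
  have := Fintype.ofFinite (orbit M (g • y))
  have := Fintype.ofFinite (orbit M (g • g • y))
  have e : kk M (g • y) (g • g • y) = kk M y (g • y) := by
    rw [kk, kk_smul (hM.conj g hg) (hM.conj _ (inv_fix hg)),
      Set.ncard_image_of_injective _ (MulAction.injective g), kk]
  exact h.fix_of_kk hM h2 (design h.prime (h.two_orbit hM hy) (h.two_orbit hM h1)
    (h.two_orbit hM h2) (row_inv M _ _) (row_inv M _ _) (row_inv M _ _) (row_card M _ _)
    (fun x => (row_card M _ _ x).trans e) (row_card M _ _) (h.kk_lt hM hy h1).1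
    (h.kk_lt hM hy h1).2 (h.kk_lt hM hy h2).1 (h.kk_lt hM hy h2).2)

theorem all_fix {N : Ω → Subgroup G} (hN : Fam N) (hM : NB p a (N a)) {y z : Ω} (hy : y ≠ a)
    (hz : z ≠ a) : ∃ c ∈ orbit (N a) z, A N a y = A N a c := by
  have hs : ∀ {m : G}, m • a = a → ∀ {u v : Ω}, A N a u = A N a v → A N a (m • u) = A N a (m • v) :=
    fun {m} hm {u v} e => by
      have := hN.A_congr m e
      rwa [hm] at this
  have hr : Rel (stabilizer G a) fun y z => ∃ c ∈ orbit (N a) z, A N a y = A N a c := by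
    refine ⟨⟨fun y => ⟨y, mem_orbit_self y, rfl⟩, ?_, ?_⟩, ?_⟩
    · rintro y z ⟨c, hc, e⟩
      obtain ⟨m, hm, rfl⟩ := mem_orb.1 hc
      have := hs (inv_fix (hN.fix hm)) e
      rw [inv_smul_smul] at this
      exact ⟨_, mem_orb.2 ⟨_, (N a).inv_mem hm, rfl⟩, this.symm⟩
    · rintro y z w ⟨c, hc, e⟩ ⟨d, hd, e'⟩
      obtain ⟨m, hm, rfl⟩ := mem_orb.1 hc
      exact ⟨_, smul_mem_orb hm hd, e.trans (hs (hN.fix hm) e')⟩
    · rintro g hg y z ⟨c, hc, e⟩
      exact ⟨_, hM.rel.inv g hg _ _ hc, hs hg e⟩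
  obtain ⟨g, hg, hg'⟩ := (h.ker_spec hM.rel fun y hy => by rw [hM.cls hy, hM.orb y hy]).2 hM.ne2
  obtain ⟨b, hb, hb'⟩ : ∃ b, b ≠ a ∧ (g * g) • b ∉ orbit (N a) b := by
    by_contra! hc
    exact hg' ⟨by rw [mul_smul, hg, hg], hc⟩
  rw [mul_smul] at hb'
  have h2 := smul_ne hg (smul_ne hg hb)
  obtain ⟨c, hc, hc'⟩ := h.fix_sq hM hg hb
  have hall := h.all_of_orb hr hM.toSm hb (fun w hw => ⟨b, mem_orbit_symm.1 hw, rfl⟩) h2 hb'
    ⟨c, hc, (hN.A_eq h.toT2 hb.symm (fun w hw => hc' w hw.1 hw.2) (hM.ne h2 hc)).symm⟩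
  exact hr.eqv.trans (hr.eqv.symm (hall y hy)) (hall z hz)

theorem not_nb (hM : NB p a M) : False := by
  have := h.fin
  obtain ⟨N, hN, rfl⟩ := exists_fam h.toT2 hM.toNS
  obtain ⟨b, hb, -⟩ := h.exists_third a a
  obtain ⟨m, hm, hm'⟩ := h.exists_in hM.toSm hb
  have hmb : m • b ∈ orbit (N a) b := mem_orb.2 ⟨m, hm, rfl⟩
  by_cases hs : L N b a ⊆ L N a b
  · obtain ⟨s, s1, s2⟩ := h.exists_swap hb.symm
    have e := hN.ncard_L s a b
    rw [s1, s2] at e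
    obtain ⟨z, hz, hz'⟩ := h.exists_out hM.toSm hb
    obtain ⟨c, hc, e'⟩ := h.all_fix hN hM hb hz
    obtain ⟨x, hx, hx'⟩ : ∃ x ∈ orbit (N a) b, x ∉ ({b, m • b} : Set Ω) := by
      by_contra! hc
      have h1 := (Set.ncard_le_ncard (show orbit (N a) b ⊆ _ from hc)).trans
        (Set.ncard_insert_le _ _)
      rw [hM.orb b hb, Set.ncard_singleton] at h1
      have := h.prime.two_le
      have := hM.ne2
      omega
    rw [Set.mem_insert_iff, Set.mem_singleton_iff, not_or] at hx'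
    obtain ⟨w, hw, w1, w2⟩ := hM.two b hb b (mem_orbit_self b) x hx b (mem_orbit_self b) _ hmb
      (Ne.symm hx'.1) hm'.symm
    exact hN.fisher h hb.symm (Set.eq_of_subset_of_ncard_le hs e.ge).symm (c := c) (x := x)
      (fun u hu => (e'.le hu).2) (hM.ne hz hc) (fun e'' => hz' (mem_orbit_symm.1 (e'' ▸ hc)))
      fun hx'' => hx'.2 ((hx'' w ⟨hw, w1⟩).symm.trans w2)
  obtain ⟨c, hc, hc'⟩ := Set.not_subset.1 hs
  have hca : c ≠ a := by rintro rfl; exact hc' fun u hu => hN.fix hu.1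
  obtain ⟨d, hd, e⟩ := h.all_fix hN hM hb hca
  have hcd : c ≠ d := by rintro rfl; exact hc' fun u hu => (e.le hu).2
  have ht : ∀ z ∈ orbit (N a) c, z ≠ d → ∃ w ∈ A N a b, w • c = z := fun z hz hzd => by
    obtain ⟨w, hw, w1, w2⟩ := hM.two c hca d hd c (mem_orbit_self c) d hd z hz hcd.symm hzd.symm
    exact ⟨w, e.ge ⟨hw, w1⟩, w2⟩
  have n1 : ∀ w ∈ A N a b, ∀ u ∈ A N b a, w * u * w⁻¹ ∈ A N b a := fun w hw u hu => by
    have := hN.conj_A w hu
    rwa [(mem_A.1 hw).2, hN.fix hw.1] at this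
  have n2 : ∀ u ∈ A N b a, ∀ w ∈ A N a b, u * w * u⁻¹ ∈ A N a b := fun u hu w hw => by
    have := hN.conj_A u hw
    rwa [(mem_A.1 hu).2, hN.fix hu.1] at this
  have i1 : ∀ u ∈ A N a b, u ∈ A N b a → u = 1 := fun u hu hu' => by
    refine hM.faith c hca u hu.1 fun z hz => ?_
    by_cases hzd : z = d
    · rw [hzd]; exact (e.le hu).2
    · obtain ⟨w, hw, rfl⟩ := ht z hz hzd
      have := hc _ (n1 _ ((A N a b).inv_mem hw) u hu')
      rwa [mul_smul, mul_smul, inv_inv, inv_smul_eq_iff] at this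
  have i2 : ∀ w ∈ A N a b, ∀ u ∈ A N b a, w * u = u * w := fun w hw u hu => by
    have := i1 (w * u * w⁻¹ * u⁻¹)
      (by simpa [mul_assoc] using (A N a b).mul_mem hw (n2 u hu _ ((A N a b).inv_mem hw)))
      ((A N b a).mul_mem (n1 w hw u hu) ((A N b a).inv_mem hu))
    rwa [mul_inv_eq_one, mul_inv_eq_iff_eq_mul] at this
  have i3 : ∀ u ∈ A N b a, ∀ z ∈ orbit (N a) c, u • z = z := fun u hu => by
    have j : ∀ z ∈ orbit (N a) c, z ≠ d → u • z = z := fun z hz hzd => by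
      obtain ⟨w, hw, rfl⟩ := ht z hz hzd
      exact fix_of_comm (i2 w hw u hu) (hc u hu)
    intro z hz
    by_contra hne
    have h1 : z = d := by by_contra h1; exact hne (j z hz h1)
    have h2 := hM.rel.inv u hu.2 _ _ hz
    rw [hc u hu] at h2
    exact hne (MulAction.injective u (j _ h2 (h1 ▸ hne)))
  have i4 : ∀ u ∈ A N b a, ∀ n ∈ N a, n * u = u * n := fun u hu n hn => by
    have := hM.faith c hca (n⁻¹ * (u * n * u⁻¹))
      ((N a).mul_mem ((N a).inv_mem hn) (hM.conj u hu.2 n hn)) fun z hz => by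
        rw [mul_smul, mul_smul, mul_smul, i3 _ ((A N b a).inv_mem hu) z hz,
          i3 u hu _ (smul_mem_orb hn hz), inv_smul_smul]
    rwa [inv_mul_eq_one, eq_mul_inv_iff_mul_eq] at this
  have i5 : ∀ u ∈ A N b a, ∀ n ∈ N a, u • n • b = n • b := fun u hu n hn =>
    fix_of_comm (i4 u hu n hn) (hN.fix hu.1)
  have e1 : A N b (m • b) = A N b a := hN.A_eq h.toT2 hb (fun u hu => i5 u hu m hm) hm'
  have e2 : A N b a ≤ A N (m • b) b := fun u hu => by
    have := hN.conj m hu.1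
    rw [i4 u hu m hm, mul_inv_cancel_right] at this
    exact ⟨this, hN.fix hu.1⟩
  obtain ⟨g, g1, g2⟩ := h.two hm'.symm hb.symm
  have e3 := hN.A_le g (e1.le.trans e2)
  rw [g1, g2] at e3
  exact hc' fun u hu => hc u (e3 hu)

/-- every normal subgroup with short orbits contains an abelian one -/
theorem exists_ab (hM : Sm p a M) :
    ∃ Q ≤ M, Sm p a Q ∧ ∀ u ∈ Q, ∀ v ∈ Q, u * v = v * u := by
  obtain ⟨b, hb, -⟩ := h.exists_third a a
  obtain ⟨m, hm, hm'⟩ := h.exists_in hM hb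
  obtain ⟨Q, hQ⟩ := exists_minimal_of_wellFoundedLT (fun Q => NS a Q ∧ Q ≠ ⊥ ∧ Q ≤ M)
    ⟨M, hM.toNS, ne_bot_of hm (by rintro rfl; exact hm' (one_smul _ _)), le_rfl⟩
  have h1 := h.sm_of_le hM hQ.1.1 hQ.1.2.1 fun m hm y _ => mem_orb.2 ⟨m, hQ.1.2.2 hm, rfl⟩
  refine ⟨Q, hQ.1.2.2, h1, ?_⟩
  by_contra hc
  exact h.not_nb (h.nb_of_min h1
    (h.min_self h1 (fun N h2 h3 h4 => hQ.2 ⟨h2, h3, h4.trans hQ.1.2.2⟩ h4) hc) hc)

end Cx

end H4.Dp
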