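import Cfsg.Agent.H96.U2ISpec

/-! S3275, chapter U2I, job TL: conjugates of `Q ⊓ R` are equal or meet inside `N`. -/

set_option autoImplicit false

namespace H4.DpuTL

open Subgroup Cfsg H98 H48.DP H57.DPC H48.DP2 H96.U2I
open scoped commutatorElement

universe u

variable {G : Type u} [Group G]

theorem part1 (tl : TLa.{u}) [Finite G] {M Q T R N : Subgroup G} {y : G} (c : Cx M Q T R y)
    (b : B0 Q T R y) (hMN : M ≤ No N) (hD : D0 Q R y ≤ N) (hN : N ≤ Q ⊓ R)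
    (hsq : ∀ g ∈ Q, g * g ∈ N) (hc : ∀ a ∈ Q, ∀ b ∈ Q, ⁅a, b⁆ ∈ N) :
    ∀ m ∈ M, m ∈ No (Q ⊓ R) ∨ Q ⊓ R ⊓ cj m (Q ⊓ R) ≤ N := by
  obtain ⟨W, iW, ⟨s⟩⟩ := exists_sec (hN.trans inf_le_left) (commutator_le.2 hc)
  haveI : Finite W := Finite.of_surjective s.ψ fun w => let ⟨x, _, e⟩ := s.surj w; ⟨x, e⟩
  obtain ⟨q, hq, hqR⟩ := c.nQ
  have hM : M ≤ nn Q N := le_inf c.MQ hMN
  have hT : T ≤ nn Q N := c.TM.trans hM
  have two : ∀ w : W, w + w = 0 := fun w => by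
    obtain ⟨x, hx, rfl⟩ := s.surj w
    rw [← s.mul x hx x hx]; exact (s.ker _ (mul_mem hx hx)).2 (hsq x hx)
  have him : ∀ x ∈ Q, s.ψ x ∈ s.im (Q ⊓ R) → x ∈ R := by
    rintro x hx ⟨z, hz, hz', e⟩
    have h := (hN ((s.eq_iff hz hx).1 e)).2
    have h2 : z * (z⁻¹ * x) ∈ R := mul_mem hz'.2 h
    simpa using h2
  have key := tl W (s.bar M) (s.bar T) (s.im (Q ⊓ R)) (s.ψ q) two
    (s.isSyl_bar (c.syl.of_le c.TM le_top) hM) (fun h => hqR (him q hq h))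
    (fun p => by
      obtain ⟨x, hx, rfl⟩ := s.surj p
      by_cases h : x ∈ R
      · exact Or.inl (s.ψ_mem_im hx ⟨hx, h⟩)
      · refine Or.inr ?_
        rw [← s.mul x hx q hq]
        exact s.ψ_mem_im (mul_mem hx hq) ⟨mul_mem hx hq, c.mul x (c.QT hx) q (c.QT hq) h hqR⟩)
    (fun t ht p hp => by
      obtain ⟨g, hg, rfl⟩ := s.exists_α ht
      obtain ⟨x, hx, hx', rfl⟩ := hp
      have h1 : ∀ a ∈ R, s.α a • s.ψ x = s.ψ x := fun a ha =>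
        (s.smul_eq_iff (hT (c.RT ha)) hx).2 (hD (b.com a ha x hx'.2))
      by_cases h : g ∈ R
      · exact h1 g h
      · have h2 : g * q ∈ R := c.mul g hg q (c.QT hq) h hqR
        have h3 : s.α q⁻¹ • s.ψ x = s.ψ x :=
          (s.smul_eq_iff (hT (c.QT (inv_mem hq))) hx).2 (hc _ (inv_mem hq) x hx)
        have e : g = g * q * q⁻¹ := by group
        rw [e, s.α_mul (hT (c.RT h2)) (hT (c.QT (inv_mem hq))), mul_smul, h3, h1 _ h2])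
    (fun p hp => by
      obtain ⟨a, ha, ha', rfl⟩ := hp
      have ht : y * a * y⁻¹ ∈ R := conj_mem_of_mem_normalizer c.yR ha'.2
      have htn := hT (c.RT ht)
      refine ⟨s.α (y * a * y⁻¹), s.α_mem hT (c.RT ht), ?_⟩
      have h1 : ⁅y * a * y⁻¹, q⁆ ∈ Q := Sec.cmem htn hq
      have h2 : ⁅q, y * a * y⁻¹⁆ ∈ Q := by rw [← commutatorElement_inv]; exact inv_mem h1
      have h3 : s.ψ ⁅q, y * a * y⁻¹⁆ = s.ψ a := (s.eq_iff' h2 ha).2 (hD (b.sur a ha' q hq hqR))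
      have h4 : s.ψ ⁅y * a * y⁻¹, q⁆ = s.ψ a := by
        rw [← commutatorElement_inv, s.inv h2, h3, neg_eq_iff_add_eq_zero]; exact two _
      have e : y * a * y⁻¹ * q * (y * a * y⁻¹)⁻¹ = ⁅y * a * y⁻¹, q⁆ * q := by
        rw [commutatorElement_def]; group
      rw [s.α_ψ htn hq, e, s.mul _ h1 _ hq, h4, add_comm])
  intro m hm
  rcases key (s.α m⁻¹) (s.α_mem hM (inv_mem hm)) with h | h
  · left
    rw [← inv_mem_iff]
    refine mem_normalizer_of_cj_le fun x hx => ?_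
    rw [mem_cj, inv_inv] at hx
    have h1 := h _ (s.ψ_mem_im hx.1 hx)
    have hxQ : m⁻¹ * (m * x * m⁻¹) * m⁻¹⁻¹ ∈ Q :=
      conj_mem_of_mem_normalizer (c.MQ (inv_mem hm)) hx.1
    rw [s.α_ψ (hM (inv_mem hm)) hx.1] at h1
    have h2 := him _ hxQ h1
    have e : m⁻¹ * (m * x * m⁻¹) * m⁻¹⁻¹ = x := by group
    rw [e] at hxQ h2
    exact ⟨hxQ, h2⟩
  · right
    intro x hx
    have hx2 : m⁻¹ * x * m ∈ Q ⊓ R := mem_cj.1 hx.2
    refine (s.ker x hx.1.1).1 (h _ (s.ψ_mem_im hx.1.1 hx.1) ?_)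
    rw [s.α_ψ (hM (inv_mem hm)) hx.1.1, inv_inv]
    exact s.ψ_mem_im hx2.1 hx2

theorem part2 [Finite G] {M Q T R N : Subgroup G} {y : G} (c : Cx M Q T R y)
    (hMN : M ≤ No N) (hN : N ≤ Q ⊓ R)
    (h : ∀ m ∈ M, m ∈ No (Q ⊓ R) ∨ Q ⊓ R ⊓ cj m (Q ⊓ R) ≤ N) : ¬ No3 M Q R := by
  intro h3
  obtain ⟨B, hB, hE, hcard⟩ := c.e27
  haveI : Fact (Nat.Prime 3) := ⟨Nat.prime_three⟩
  have ord : ∀ g ∈ B, g ≠ 1 → orderOf g = 3 := fun g hg h1 => orderOf_eq_prime (hE.2 g hg) h1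
  letI : Fintype B := Fintype.ofFinite B
  obtain ⟨f⟩ : Nonempty (Fin 4 ↪ B) := Function.Embedding.nonempty_of_card_le (by
    rw [Fintype.card_fin, ← Nat.card_eq_fintype_card]; omega)
  have hne : ∀ i j : Fin 4, i ≠ j → (f i : G)⁻¹ * f j ≠ 1 := fun i j hij e =>
    hij (f.injective (Subtype.ext (inv_mul_eq_one.1 e)))
  have hmem : ∀ i j : Fin 4, (f i : G)⁻¹ * f j ∈ B := fun i j => mul_mem (inv_mem (f i).2) (f j).2
  have hno : ∀ i j : Fin 4, i ≠ j → (f i : G)⁻¹ * f j ∉ No (Q ⊓ R) := fun i j hij =>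
    h3 _ (hB (hmem i j)) (ord _ (hmem i j) (hne i j hij))
  have hfQ : ∀ (i : Fin 4), ∀ x ∈ Q, (f i : G)⁻¹ * x * f i ∈ Q := fun i x hx =>
    conj_mem_of_mem_normalizer' (c.MQ (hB (f i).2)) hx
  have two : ∀ i j : Fin 4, i ≠ j → ∀ x ∈ Q, (f i : G)⁻¹ * x * f i ∈ R →
      (f j : G)⁻¹ * x * f j ∈ R → x ∈ N := fun i j hij x hx h1 h2 => by
    have h4 := (h _ (hB (hmem i j))).resolve_left (hno i j hij)
    have h5 : (f i : G)⁻¹ * x * f i ∈ N := h4 ⟨⟨hfQ i x hx, h1⟩, mem_cj.2 (by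
      have e : ((f i : G)⁻¹ * f j)⁻¹ * ((f i : G)⁻¹ * x * f i) * ((f i : G)⁻¹ * f j) =
          (f j : G)⁻¹ * x * f j := by group
      rw [e]; exact ⟨hfQ j x hx, h2⟩)⟩
    have h6 := conj_mem_of_mem_normalizer (hMN (hB (f i).2)) h5
    have e : (f i : G) * ((f i : G)⁻¹ * x * f i) * (f i : G)⁻¹ = x := by group
    rwa [e] at h6
  by_cases hR : Q ⊓ R ≤ N
  · have e : Q ⊓ R = N := le_antisymm hR hN
    exact hno 0 1 (by decide) (by rw [e]; exact hMN (hB (hmem 0 1)))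
  obtain ⟨a, ha, haN⟩ := SetLike.not_le_iff_exists.1 hR
  have hx : ∀ i : Fin 4, ∃ x ∈ Q, (f i : G)⁻¹ * x * f i ∈ R ∧
      ∀ j : Fin 4, i ≠ j → (f j : G)⁻¹ * x * f j ∉ R := fun i => by
    have e : (f i : G)⁻¹ * ((f i : G) * a * (f i : G)⁻¹) * f i = a := by group
    have h1 : (f i : G) * a * (f i : G)⁻¹ ∈ Q :=
      conj_mem_of_mem_normalizer (c.MQ (hB (f i).2)) ha.1
    refine ⟨_, h1, by rw [e]; exact ha.2, fun j hij h2 => haN ?_⟩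
    have h4 := two i j hij _ h1 (by rw [e]; exact ha.2) h2
    have h5 := conj_mem_of_mem_normalizer' (hMN (hB (f i).2)) h4
    rwa [e] at h5
  obtain ⟨x, hxQ, hx0, hx'⟩ := hx 0
  obtain ⟨z, hzQ, -, hz'⟩ := hx 1
  have hm : ∀ j : Fin 4, 0 ≠ j → 1 ≠ j → (f j : G)⁻¹ * (x * z) * f j ∈ R := fun j h0 h1 => by
    have e : (f j : G)⁻¹ * (x * z) * f j = (f j : G)⁻¹ * x * f j * ((f j : G)⁻¹ * z * f j) := by
      group
    rw [e]
    exact c.mul _ (c.QT (hfQ j x hxQ)) _ (c.QT (hfQ j z hzQ)) (hx' j h0) (hz' j h1)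
  have h4 : x * z ∈ N := two 2 3 (by decide) _ (mul_mem hxQ hzQ) (hm 2 (by decide) (by decide))
    (hm 3 (by decide) (by decide))
  have h5 := (hN (conj_mem_of_mem_normalizer' (hMN (hB (f 0).2)) h4)).2
  refine hz' 0 (by decide) ?_
  have e : (f 0 : G)⁻¹ * z * f 0 = ((f 0 : G)⁻¹ * x * f 0)⁻¹ * ((f 0 : G)⁻¹ * (x * z) * f 0) := by
    group
  rw [e]
  exact mul_mem (inv_mem hx0) h5

theorem jobTL : JobTL.{u} := fun tl _ _ _ _ _ _ _ _ _ c b hMN hD hN hsq hc =>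
  ⟨part1 tl c b hMN hD hN hsq hc, part2 c hMN hN (part1 tl c b hMN hD hN hsq hc)⟩

end H4.DpuTL
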