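import Cfsg.Agent.H4.E6TR

/-! `JobK` of `H46.E6BSpec` (blueprint `E6B.md`): the outer involution. -/

set_option autoImplicit false
set_option linter.unusedSectionVars false
set_option maxRecDepth 100000

open Cfsg Subgroup H98 H42.L3 H7.PS H39.F22 H39.E6 H46.E6B
open H78.F22 hiding jty jtf jnQ jfr QO QiO zO tO memS sylz sylc SO SJ zreal
open H39.E6B (jty JJB AJ J_JJ cJ4)
open H56.L3 (Ce Nz)
open H28.PS (SL3 Zt)
open scoped Matrix

namespace H4.E6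

universe u

variable {G : Type u} [Group G] [Finite G] {E : Dat G} {D : D3 G} {a b g w y : G} {T : Subgroup G}
  {i : Fin 3}

theorem mconj (h : H3 D) (hg : g ∈ Ce D.z) (ha : a ∈ D.B) (e : D.m i a = 1) :
    D.m (sg D g i) (g * a * g⁻¹) = 1 := by
  refine (co h _).m_eq_one_of (BN (conj_B h hg ha) _) fun b hb => ?_
  have hq : g⁻¹ * b * g ∈ D.Q i := mem_cj.1 ((sg_spec h (CeN hg) i).ge hb)
  obtain ⟨n, hn⟩ := (co h i).conj_of_m (BN ha i) hq (by simp [e])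
  have : g * a * g⁻¹ * b * (g * a * g⁻¹)⁻¹ = zp D.z n * b := by
    calc _ = g * (a * (g⁻¹ * b * g) * a⁻¹) * g⁻¹ := by group
      _ = _ := by rw [hn, ← mul_assoc, zp_comm hg]; group
  rw [this, (co h _).l_mul _ ((co h _).zp_mem n) _ hb, (co h _).l_zp, zero_add]

/-- the centralizer of `C_Q(w)` in a `3`-subgroup of `C(w, z)` -/
theorem cen_w (h : H3 D) (hw : w ∈ Ce D.z) (w2 : w * w = 1) (s : sg D w = Equiv.swap 1 2)
    (w0 : w ∈ cn (D.Q 0)) (ha : a ∈ D.B) (aw : a ∈ Ce w)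
    (e : a ∈ cn (D.QQ ⊓ Ce w)) : a ∈ zpowers D.z := by
  have h0 : a ∈ cn (D.Q 0) := fun q hq => e q ⟨Qle 0 hq, mem_Ce.2 (w0 q hq)⟩
  have h1 : ∀ i, i ≠ 0 → ∀ u ∈ D.Q i, w * u * w⁻¹ ∈ cn (D.Q i) ∧ u ∈ cn (D.Q (sg D w i)) ∧
      a * (u * (w * u * w⁻¹)) * a⁻¹ = u * (w * u * w⁻¹) := fun i n u hu => by
    have n' : sg D w i ≠ i := s ▸ (by decide : ∀ i : Fin 3, i ≠ 0 → Equiv.swap 1 2 i ≠ i) i n
    have h1 : w * u * w⁻¹ ∈ D.Q (sg D w i) := sg_spec h (CeN hw) i ▸ conj_mem_cj hu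
    refine ⟨h.QQ _ _ n' h1, h.QQ _ _ n'.symm hu, mul_inv_eq_iff_eq_mul.2 (e _ ⟨mul_mem (Qle i hu)
      (Qle _ h1), Ce_symm (mem_Ce'.2 ?_)⟩).symm⟩
    rw [← conj_mul, show w * (w * u * w⁻¹) * w⁻¹ = w * w * u * (w * w)⁻¹ by group, w2,
      ← QQc h n' h1 hu]
    group
  have h2 : ∀ i, D.m i a = 1 := fun i => by
    by_cases n : i = 0
    · exact n ▸ (co h 0).m_cn h0
    refine (co h i).m_eq_one_of (BN ha i) fun u hu => ?_
    obtain ⟨k1, -, k2⟩ := h1 i n u hu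
    have k3 := (co h i).conj_mem (BN ha i) hu
    rw [← L_eq h k3 (x := u * (w * u * w⁻¹)) (by
      rw [← k2]; simpa [mul_assoc] using conj_cn' (BN ha i).2 k1), L_eq h hu (by simpa using k1)]
  refine cnQ h fun i => ?_
  by_cases n : i = 0
  · exact n ▸ h0
  intro u hu
  obtain ⟨-, -, k2⟩ := h1 i n u hu
  obtain ⟨l, hl⟩ := (co h i).conj_of_m (BN ha i) hu (by simp [h2])
  have k3 : a * (w * u * w⁻¹) * a⁻¹ = zp D.z l * (w * u * w⁻¹) := by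
    rw [← zp_conj hw, conj_mul, ← hl, ← mul_assoc, ← mul_assoc, mem_Ce.1 aw, mul_assoc _ w⁻¹,
      ← mul_inv_rev, mem_Ce.1 aw]
    group
  rw [← conj_mul, hl, k3, mul_assoc, ← mul_assoc u, zp_comm ((co h i).le_Ce hu), mul_assoc,
    ← mul_assoc (zp _ _), mul_eq_right, ← zp_add h.ord] at k2
  rw [(by decide : ∀ l : ZMod 3, l + l = 0 → l = 0) l (zp_eq_one h.ord k2), zp_zero, one_mul] at hl
  exact (mul_inv_eq_iff_eq_mul.1 hl).symm

variable (e : E1 E) (bg : BG E)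
include e bg

theorem back (ha : a ∈ Jb E) (k : g * a * g⁻¹ ∈ E.J) : a ∈ E.J := by
  obtain ⟨n, hn, k'⟩ := bg.ctl a ha g (J_JJ e.hj k)
  rw [← k'] at k
  simpa [mul_assoc] using conj_mem_of_mem_normalizer' (e.hj.nJ hn) k

/-- the elements of order three of `C(w)` are conjugate into `J` -/
theorem ord_w (hw : w ∈ Ce E.z) (w2 : w * w = 1) (s : sg E.D w = Equiv.swap 1 2)
    (w0 : w ∈ cn (E.Q 0)) (hy : y ∈ Ce w) (y3 : y ^ 3 = 1) : ∃ g : G, g * y * g⁻¹ ∈ E.J := by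
  have h := e.h3
  obtain ⟨T, hT, QT⟩ := exists_isSyl_le (p := 3) (Q := E.D.QQ ⊓ Ce w) (H := Ce E.z ⊓ Ce w)
    (isPGroup_iff_forall.2 fun x hx => ⟨1, cubeQ h hx.1⟩)
    (inf_le_inf_right _ fun _ k => Bz (QB h k))
  have hB : ∀ a ∈ Ce E.z ⊓ Ce w, ∀ k : ℕ, a ^ 3 ^ k = 1 → a ∈ E.D.B := fun a ha k a3 => by
    refine B_of h ha.1 ?_
    have e1 : sg E.D a ^ 3 ^ k = 1 := by rw [← sg_pow h (CeN ha.1), a3, sg_B h (one_mem _)]
    have e2 := (by decide : ∀ σ : Equiv.Perm (Fin 3), σ * Equiv.swap 1 2 = Equiv.swap 1 2 * σ →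
      σ ^ 2 = 1) _ (s ▸ sg_comm h ha.1 hw ha.2)
    have := pow_gcd_eq_one.2 ⟨e1, e2⟩
    rwa [Nat.Coprime.pow_left k (by decide), pow_one] at this
  have zT : E.z ∈ T := QT ⟨zQ h (mem_zpowers _), Ce_symm hw⟩
  have nT : nr T ≤ Nz E.z := fun g hg => by
    have k := hT.le (conj_mem_of_mem_normalizer hg zT)
    exact mem_Nz.2 (cen_w h hw w2 s w0 (hB _ k 1 (by
      rw [pow_one, conj_pow, z_cube h.ord]; simp)) k.2 (centralizer_anti QT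
        (conj_cn' hg fun y k => mem_Ce.1 (hT.le k).1)))
  have sT : IsSyl 3 T (Ce w) := isSyl_of_isSyl_normalizer
    ⟨le_inf (hT.le.trans inf_le_right) le_normalizer, hT.isPGroup, fun U hU k1 k2 =>
      hT.eq_of_le hU k1 fun x hx => let ⟨_, e⟩ := isPGroup_iff_forall.1 hU x hx
        ⟨H33.E6.Ce_of_three h.ord (nT (k2 hx).2) e, (k2 hx).1⟩⟩
  obtain ⟨g, -, k⟩ := sT.exists_cj_le (isPGroup_zpowers (k := 1) y3) (zpowers_le.2 hy)
  have k1 := hT.le (k (conj_mem_cj (mem_zpowers y)))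
  have k2 : (g * y * g⁻¹) ^ 3 = 1 := by rw [conj_pow, y3]; simp
  have k3 := hB _ k1 1 k2
  have k4 := bt_cnj h hw k3 1
  rw [mem_Ce'.1 (Ce_symm k1.2), s] at k4
  obtain ⟨l, hl⟩ := bg.ord _ k3 k2 ((by decide : ∀ u : V3, u 0 + u 1 + u 2 = 0 → u 2 = u 1 →
    ∀ i, u i = u 0) _ (e.hv.sum _ k3) k4)
  exact ⟨l * g, by simpa [mul_assoc] using hl⟩

theorem key (yf : YF1 E) (big : Big E) (hw : ∀ y ∈ Ce w, y ^ 3 = 1 → ∃ g : G, g * y * g⁻¹ ∈ E.J) :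
    Key E.Y (X2 E) w := fun T TY ab T3 cT d hd n g k => by
  have h := e.h3
  have H := e.hj
  obtain ⟨S, hS, -, -, wc⟩ := bg.syl
  have c3 := (h.sd 0).cube _ (H.cQ 0)
  have oc : orderOf (E.c 0) = 3 := orderOf_eq_prime c3 fun k => H.cz 0 (k ▸ one_mem _)
  have cn0 : zpowers (E.c 0) ≤ cn T := zpowers_le.2 fun a ha => mem_Ce.1 (TY ha).1
  have cT0 : E.c 0 ∉ T := fun k => H.cz 0 (by
    have := (H.rcr 0).symm.trans (mem_Ce'.1 (Ce_symm (TY k).2))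
    rw [pow_three, inv_eq_iff_mul_eq_one.1 this, mul_one] at c3
    exact c3 ▸ one_mem _)
  have h1 := H12.card_sup_mul_card_inf (cn0.trans (centralizer_le_normalizer _))
  rw [show zpowers (E.c 0) ⊓ T = ⊥ from eq_bot_iff.2 fun _ k => zpow_inf oc cT0 k.1 k.2, card_bot,
    Nat.card_zpowers, oc, cT] at h1
  have dec := fun x => (mem_sup_left_norm (x := x) (cn0.trans (centralizer_le_normalizer _))).1
  have U3 : ∀ a ∈ zpowers (E.c 0) ⊔ T, a ^ 3 = 1 := fun a ha => by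
    obtain ⟨b, hb, t, ht, rfl⟩ := dec a ha
    rw [(show Commute b t from (cn0 hb t ht).symm).mul_pow, T3 t ht, cube_of_mem oc hb, one_mul]
  have Uab : zpowers (E.c 0) ⊔ T ≤ cn (zpowers (E.c 0) ⊔ T) := by
    have : ∀ X : Subgroup G, zpowers (E.c 0) ≤ cn X → T ≤ cn X → X ≤ cn (zpowers (E.c 0) ⊔ T) :=
      fun X k1 k2 => le_centralizer_iff.1 (sup_le k1 k2)
    exact sup_le (this _ (le_centralizer _) (le_centralizer_iff.1 cn0)) (this _ cn0 ab)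
  obtain ⟨s, -, hs⟩ := hS.exists_cj_le (isPGroup_iff_forall.2 fun a ha => ⟨1, U3 a ha⟩) le_top
  have h2 := wc _ hs ((cj_mono s Uab).trans (cj_centralizer s _).le) (by
    rintro _ ⟨b, hb, rfl⟩
    rw [← map_pow, U3 b hb, map_one]) ((card_cj s _).trans (by omega))
  have h3 : ∀ a ∈ zpowers (E.c 0) ⊔ T, ∀ g : G, g * a * g⁻¹ ∈ E.J → a ∈ cj s⁻¹ E.J := fun a ha g k =>
    mem_cj.2 (by simpa using back e bg (g := g * s⁻¹) (h2.le (conj_mem_cj ha)) (by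
      simpa [mul_assoc] using k))
  have h4 : X2 E ⊓ T ≤ cj s⁻¹ E.J ⊓ T := fun a ha =>
    let ⟨l, _, k⟩ := yf.x3 a ha.1 (T3 a ha.2); ⟨h3 a (mem_sup_right ha.2) l k.1, ha.2⟩
  have h5 : d ∈ cj s⁻¹ E.J ⊓ T := by
    obtain ⟨l, hl⟩ := hw _ k (by rw [conj_pow, T3 d hd]; simp)
    exact ⟨h3 d (mem_sup_right hd) (l * g) (by simpa [mul_assoc] using hl), hd⟩
  have h6 : (X2 E).relIndex T ∣ 3 := by
    have nX : ∀ X : Subgroup G, E.Y ≤ nr X → E.Y ≤ nr ⁅X, X⁆ := fun X e g hg =>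
      cj_eq_self_iff.1 (by rw [H98.cj_commutator, cj_eq_self (e hg)])
    have : ((X2 E).subgroupOf E.Y).Normal :=
      normal_subgroupOf_of_le_normalizer (nX _ (nX _ le_normalizer))
    have k1 := (relIndex_dvd_index_of_normal ((X2 E).subgroupOf E.Y) (T.subgroupOf E.Y)).trans yf.idx
    rw [relIndex_subgroupOf TY] at k1
    exact Nat.dvd_gcd k1 (cT ▸ relIndex_dvd_card (X2 E) T)
  rw [← inf_relIndex_right, ← relIndex_mul_relIndex _ _ _ h4 inf_le_right] at h6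
  have h7 : T ≤ cj s⁻¹ E.J ⊓ T := relIndex_eq_one.1 (by
    rcases (Nat.dvd_prime Nat.prime_three).1 ((dvd_mul_right _ _).trans h6) with k1 | k1
    · exact absurd (relIndex_eq_one.1 k1 h5).1 n
    · rw [k1] at h6
      exact Nat.dvd_one.1 ((Nat.mul_dvd_mul_iff_left (by decide)).1 h6))
  obtain ⟨x, hx, nx⟩ := big
  have h8 : zpowers (E.c 0) ⊔ T ≤ cj s⁻¹ E.J := sup_le (zpowers_le.2 (h3 _
    (mem_sup_left (mem_zpowers _)) 1 (by simpa using cJ4 h H 0))) (h7.trans inf_le_left)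
  exact nx (by simpa [mul_assoc] using mem_cj.1 (h8 (mem_cj.1 (h2.ge hx))))

omit e bg in
theorem jobK : H46.E6B.JobK.{u} := fun G _ _ E e _ rf yf big bg ⟨g, hg, g0, g1⟩ => by
  have h := e.h3
  have H := e.hj
  constructor
  · obtain ⟨x, hx, nx⟩ := big
    have rn : E.r 0 ∈ nr (Jb E) := nrJ ((mem_Ce'.1 (Bz (H.rB 0))).symm ▸ z_cnJ) fun i => by
      by_cases k : i = 0
      · rw [k, H.rcr]; exact inv_mem (c_cnJ 0)
      · rw [← H.rc 0 i k _ (H.cQ i), mul_inv_cancel_right]; exact c_cnJ i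
    have h1 := conj_mem_of_mem_normalizer rn hx
    have h2 := mul_mem h1 hx
    refine ⟨_, ⟨(mem_JJ.1 h2).2 0, Ce_symm (mem_Ce'.2 ?_)⟩, fun k => nx ?_, H.J3 _ h2⟩
    · rw [← conj_mul, H.Jab hx _ h1, show E.r 0 * (E.r 0 * x * (E.r 0)⁻¹) * (E.r 0)⁻¹ =
        E.r 0 * E.r 0 * x * (E.r 0 * E.r 0)⁻¹ by group, H.rsq]
      group
    · obtain ⟨l, -, hl⟩ := yf.x3 _ k (H.J3 _ h2)
      have h3 := mul_mem (inv_mem (AJ h H (mul_mem h1 (inv_mem hx))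
        (Qle 0 ((jty h H 0).comQ h (JJB h H hx))))) (back e bg h2 hl.1)
      exact sq_mem (H.J3 x hx) (by simpa [mul_assoc] using h3)
  have s0 : sg E.D g = Equiv.swap 1 2 := (by decide : ∀ σ : Equiv.Perm (Fin 3), σ 0 = 0 → σ 1 = 2 →
    σ = Equiv.swap 1 2) _ (sg_of h (CeN hg) g0) (sg_of h (CeN hg) g1)
  obtain ⟨u, hu, k⟩ := corr h (jty h H) hg
  have uz := mul_mem (Bz (QB h hu)) hg
  obtain ⟨p, hp, k3⟩ := rf.cz _ ⟨CeN uz, mem_Ce'.2 (by rw [k, s0]; rfl)⟩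
  have a1 := mul_mem (inv_mem (Bz (rf.RB 0 hp))) uz
  have a2 : sg E.D (p⁻¹ * (u * g)) = Equiv.swap 1 2 := by
    rw [sg_mul h (CeN (inv_mem (Bz (rf.RB 0 hp)))) (CeN uz), sg_mul h (CeN (Bz (QB h hu))) (CeN hg),
      sg_B h (inv_mem (rf.RB 0 hp)), sg_B h (QB h hu), one_mul, one_mul, s0]
  generalize p⁻¹ * (u * g) = a at k3 a1 a2
  have n0 : ∀ a ∈ Ce E.D.z, sg E.D a = Equiv.swap 1 2 → a ∈ Ce E.D.z ⊓ nr (E.D.Q 0) := fun a k k' =>
    ⟨k, cj_eq_self_iff.1 (by rw [sg_spec h (CeN k), k']; rfl)⟩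
  have a3 : E.D.m 0 (a ^ 3) = 1 := by
    rw [(co h 0).m_pow (n0 a a1 a2)]
    exact (H84.PS.sl_stab _ _ (H84.PS.lne (co h 0) (H.cQ 0) (H.cz 0))
      (H84.PS.fix_of_comm (co h 0) (n0 a a1 a2) (H.cQ 0) (mem_Ce.1 k3.1).symm)).1
  have a4 : a * a ∈ E.D.B := B_of h (mul_mem a1 a1) (by rw [sg_mul h (CeN a1) (CeN a1), a2]; decide)
  have a5 : E.D.m 1 (a ^ 3 * a ^ 3) ^ 4 = 1 := by
    rw [← (Commute.refl a).mul_pow, m_pow h a4]
    exact (by decide +kernel : ∀ A : SL3, (A ^ 3) ^ 4 = 1) _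
  have b1 := pow_mem a1 3
  have b2 : sg E.D (a ^ 3) = Equiv.swap 1 2 := by rw [sg_pow h (CeN a1), a2]; decide
  have b3 := pow_mem k3 3
  have b4 : a ^ 3 * a ^ 3 ∈ E.D.B := (Commute.refl a).mul_pow 3 ▸ pow_mem a4 3
  generalize a ^ 3 = b at a3 a5 b1 b2 b3 b4
  obtain ⟨q, hq, e1⟩ := rf.Ronto 1 _ (show (E.D.m 1 (b * b))⁻¹ ^ 4 = 1 by rw [inv_pow, a5, inv_one])
  have qB := rf.RB 1 hq
  have qc := ((rf.memR 1 q).1 hq).2.1
  have c1 := mul_mem (Bz qB) b1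
  have c2 : sg E.D (q * b) = Equiv.swap 1 2 := by
    rw [sg_mul h (CeN (Bz qB)) (CeN b1), sg_B h qB, one_mul, b2]
  have c3 : q * b ∈ E.Y := mul_mem ⟨mem_Ce.2 (qc 0 (by decide) _ (H.cQ 0)).symm, rf.Rr 1 0 hq⟩ b3
  have c4 : E.D.m 0 (q * b) = 1 := by
    rw [(co h 0).m_mul _ (BN qB 0) _ (n0 b b1 b2), a3, (co h 0).m_cn (qc 0 (by decide)), one_mul]
  have c5 : q * b * (q * b) ∈ E.D.B :=
    B_of h (mul_mem c1 c1) (by rw [sg_mul h (CeN c1) (CeN c1), c2]; decide)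
  have c6 : E.D.m 1 (q * b * (q * b)) = 1 := by
    have := sg_cn h (CeN b1) (qc 2 (by decide))
    rw [b2] at this
    rw [show q * b * (q * b) = q * (b * q * b⁻¹ * (b * b)) by group,
      m_mul h qB (mul_mem (conj_B h b1 qB) b4), m_mul h (conj_B h b1 qB) b4, e1,
      (co h 1).m_cn this, one_mul, inv_mul_cancel]
  generalize q * b = v at c1 c2 c3 c4 c5 c6
  have d1 := cubeQ h (h.ker _ c5 fun i => by
    rcases f3 i with rfl | rfl | rfl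
    · rw [(co h 0).m_mul _ (n0 v c1 c2) _ (n0 v c1 c2), c4, one_mul]
    · exact c6
    · have := mconj h c1 c5 c6
      rwa [c2, mul_assoc, mul_inv_cancel_right] at this)
  rw [(Commute.refl v).mul_pow] at d1
  have d2 := pow_mem c1 3
  have d3 : sg E.D (v ^ 3) = Equiv.swap 1 2 := by rw [sg_pow h (CeN c1), c2]; decide
  refine ⟨v ^ 3, ⟨pow_mem c3 3, d2⟩, d1, (sg_spec h (CeN d2) 0).trans (by rw [d3]; rfl),
    (sg_spec h (CeN d2) 1).trans (by rw [d3]; rfl), key e bg yf big fun y => ord_w e bg d2 d1 d3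
      ((co h 0).cn_of_four (n0 _ d2 d3) (by rw [(co h 0).m_pow (n0 v c1 c2), c4, one_pow])
        (by rw [pow_succ, pow_succ, pow_two, d1, one_mul, d1]))⟩

end H4.E6
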