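import Cfsg.Agent.H46.E6BWrap
import Cfsg.Agent.H39.E6BN2
import Cfsg.Agent.H12.ExtTransfer

/-! `JobTR` of `H46.E6BSpec` (blueprint `E6B.md`): the `3`-transfer. -/

set_option autoImplicit false
set_option linter.unusedSectionVars false
set_option maxRecDepth 100000

open Cfsg Subgroup H98 H42.L3 H7.PS H39.F22 H39.E6 H47.E6 H46.E6B
open H78.F22 hiding jty jtf jnQ jfr QO QiO zO tO memS sylz sylc SO SJ zreal
open H39.E6B (jty JJB nrJ4 bt_t tJ zJ4 φ_z)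
open H56.L3 (Ce Nz)
open H28.PS (SL3 Zt)

namespace H4.E6

universe u

theorem prod_eq_one_of_inv {R X A : Type*} [Group R] [Finite R] [MulAction R X] [Fintype X]
    [CommGroup A] {p : ℕ} [Fact p.Prime] (hR : IsPGroup p R) (F : X → A)
    (inv : ∀ (r : R) x, F (r • x) = F x) (hp : ∀ x, F x ^ p = 1)
    (h1 : ∀ x ∈ MulAction.fixedPoints R X, F x = 1) : ∏ x, F x = 1 := by
  classical
  rw [← Finset.prod_fiberwise Finset.univ (Quotient.mk (MulAction.orbitRel R X))]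
  refine Finset.prod_eq_one fun ω _ => ?_
  obtain ⟨x, rfl⟩ := Quotient.exists_rep ω
  have e : (Finset.univ.filter fun y => Quotient.mk (MulAction.orbitRel R X) y =
      Quotient.mk (MulAction.orbitRel R X) x) = (MulAction.orbit R x).toFinset := by
    ext y
    simp only [Finset.mem_filter, Finset.mem_univ, true_and, Set.mem_toFinset, Quotient.eq]
    rfl
  rw [e, Finset.prod_congr rfl (g := fun _ => F x) fun y hy => by
    obtain ⟨r, rfl⟩ := Set.mem_toFinset.1 hy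
    exact inv r x, Finset.prod_const, Set.toFinset_card, ← Nat.card_eq_fintype_card]
  obtain ⟨_ | k, hk⟩ := hR.card_orbit x
  · rw [h1 x (MulAction.mem_fixedPoints_iff_card_orbit_eq_one.2
      (by rw [← Nat.card_eq_fintype_card, hk, pow_zero])), one_pow]
  · rw [hk, pow_succ', pow_mul, hp, one_pow]

/-- the transfer of an element `y` of order `p` that is centralized by a `p`-subgroup `R` -/
theorem transfer_ext {G A : Type*} [Group G] [Finite G] [CommGroup A] {p : ℕ} [Fact p.Prime]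
    {S R : Subgroup G} (φ : S →* A) {y : G} (hy : y ^ p = 1) (hyR : y ∈ R) (hR : IsPGroup p R)
    (hc : ∀ r ∈ R, r * y = y * r) (t : A) (ht : t ^ p = 1)
    (h : ∀ a, (∀ r ∈ R, a⁻¹ * r * a ∈ S) → ∀ e : a⁻¹ * y * a ∈ S, φ ⟨_, e⟩ = t) :
    MonoidHom.transfer φ y = t ^ S.index := by
  classical
  have := Fintype.ofFinite (G ⧸ S)
  have := Fintype.ofFinite (Quotient (MulAction.orbitRel (zpowers y) (G ⧸ S)))
  let F : G ⧸ S → A := fun q => if e : q.out⁻¹ * y * q.out ∈ S then φ ⟨_, e⟩ else 1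
  have hF : ∀ (a : G) (e : a⁻¹ * y * a ∈ S), F a = φ ⟨_, e⟩ := fun a e => by
    have hb : (QuotientGroup.mk (a : G ⧸ S).out : G ⧸ S) = a := QuotientGroup.out_eq' _
    have e' : (a : G ⧸ S).out⁻¹ * y * (a : G ⧸ S).out ∈ S :=
      (H17.smul_quotient_eq_iff _ _).1 (by rw [hb]; exact (H17.smul_quotient_eq_iff _ _).2 e)
    rw [QuotientGroup.eq] at hb
    have : (⟨_, e⟩ : S) = ⟨_, hb⟩⁻¹ * ⟨_, e'⟩ * ⟨_, hb⟩ := Subtype.ext (by simp [mul_assoc])
    rw [this, map_mul, map_mul, map_inv, inv_mul_cancel_comm]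
    exact dif_pos e'
  have hF' : ∀ q : G ⧸ S, y • q ≠ q → F q = 1 := fun q n => dif_neg fun e => n (by
    have := (H17.smul_quotient_eq_iff _ _).2 e
    rwa [QuotientGroup.out_eq'] at this)
  have h1 : MonoidHom.transfer φ y = ∏ q, F q := by
    rw [MonoidHom.transfer_eq_prod_quotient_orbitRel_zpowers_quot]
    refine Fintype.prod_of_injective Quotient.out Quotient.out_injective _ F (fun q hq => hF' q
      fun e => hq ⟨Quotient.mk _ q, ?_⟩) fun O => ?_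
    · obtain ⟨⟨_, n, rfl⟩, hn⟩ := Quotient.mk_out (s := MulAction.orbitRel (zpowers y) (G ⧸ S)) q
      rw [← hn]
      exact (MulAction.stabilizer G q).zpow_mem e n
    generalize O.out = q
    by_cases hq : y • q = q
    · have e := Function.minimalPeriod_eq_one_iff_isFixedPt.2 (show Function.IsFixedPt (y • ·) q from hq)
      have e' : q.out⁻¹ * y * q.out ∈ S :=
        (H17.smul_quotient_eq_iff _ _).1 (by rwa [QuotientGroup.out_eq'])
      rw [show F q = φ ⟨_, e'⟩ from dif_pos e']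
      exact congrArg φ (Subtype.ext (by simp [e]))
    · have e : Function.minimalPeriod (y • ·) q = p := Function.minimalPeriod_eq_prime
        (show (y • ·)^[p] q = q by rw [smul_iterate, hy]; exact one_smul _ _) hq
      rw [hF' q hq, ← map_one φ]
      exact congrArg φ (Subtype.ext (by simp [e, hy]))
  have h2 := prod_eq_one_of_inv (X := G ⧸ S) hR (fun q => F q * t⁻¹) (fun ⟨r, hr⟩ q => by
    obtain ⟨a, rfl⟩ := QuotientGroup.mk_surjective q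
    have e : (r * a)⁻¹ * y * (r * a) = a⁻¹ * y * a := by
      calc (r * a)⁻¹ * y * (r * a) = a⁻¹ * r⁻¹ * (y * r) * a := by group
        _ = _ := by rw [← hc r hr]; group
    congr 1
    change F (r * a : G) = _
    by_cases k : a⁻¹ * y * a ∈ S
    · rw [hF a k, hF _ (e ▸ k)]
      exact congrArg φ (Subtype.ext e)
    · rw [hF' _ (mt (H17.smul_quotient_eq_iff _ _).1 k),
        hF' _ (mt (H17.smul_quotient_eq_iff _ _).1 (e ▸ k))]) (fun q => by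
    obtain ⟨a, rfl⟩ := QuotientGroup.mk_surjective q
    rw [mul_pow, inv_pow, ht, inv_one, mul_one]
    by_cases k : a⁻¹ * y * a ∈ S
    · rw [hF a k, ← map_pow, ← map_one φ]
      exact congrArg φ (Subtype.ext (by
        simpa [hy] using conj_pow (i := p) (a := a⁻¹) (b := y)))
    · rw [hF' _ (mt (H17.smul_quotient_eq_iff _ _).1 k), one_pow]) fun q hq => by
    obtain ⟨a, rfl⟩ := QuotientGroup.mk_surjective q
    have k : ∀ r ∈ R, a⁻¹ * r * a ∈ S := fun r hr => (H17.smul_quotient_eq_iff _ _).1 (hq ⟨r, hr⟩)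
    rw [hF a (k y hyR), h a k, mul_inv_cancel]
  rw [Finset.prod_mul_distrib, Finset.prod_const, inv_pow, mul_inv_eq_one, Finset.card_univ,
    ← Nat.card_eq_fintype_card] at h2
  exact h1.trans h2

/-- the extremal transfer lemma -/
theorem not_mem_res {G : Type*} [Group G] [Finite G] {p : ℕ} [hp : Fact p.Prime] {S D R : Subgroup G}
    (hS : IsSyl p S ⊤) (hD : ⁅S, S⁆ ≤ D) {y : G} (hy : y ^ p = 1) (hyS : y ∈ S) (hyD : y ∉ D)
    (hyR : y ∈ R) (hR : IsPGroup p R) (hc : ∀ r ∈ R, r * y = y * r)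
    (h : ∀ a, cj a R ≤ S → a * y * a⁻¹ * y⁻¹ ∈ D) : y ∉ res p (⊤ : Subgroup G) := fun hr => by
  have hle : _root_.commutator S ≤ D.subgroupOf S := by
    rw [_root_.commutator, commutator_le]
    exact fun a _ b _ => hD (commutator_mem_commutator a.2 b.2)
  have := Normal.of_commutator_le _ hle
  have := Normal.quotient_commutative_iff_commutator_le.2 hle
  let _ : CommGroup (S ⧸ D.subgroupOf S) := { mul_comm := this.is_comm.comm }
  let φ : S →* S ⧸ D.subgroupOf S := QuotientGroup.mk' _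
  have ht : φ ⟨y, hyS⟩ ^ p = 1 := by rw [← map_pow, ← map_one φ]; exact congrArg φ (Subtype.ext hy)
  have h1 := transfer_ext φ hy hyR hR hc _ ht fun a k e => mul_inv_eq_one.1 (by
    rw [← map_inv, ← map_mul]
    exact (QuotientGroup.eq_one_iff _).2 (by
      simpa [mem_subgroupOf] using h a⁻¹ (by rintro _ ⟨r, hr, rfl⟩; simpa using k r hr)))
  rw [MonoidHom.mem_ker.1 (H12.res_top_le_ker_transfer hS.isPGroup φ hr)] at h1
  have h2 := pow_gcd_eq_one.2 ⟨ht, h1.symm⟩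
  rw [(Nat.Prime.coprime_iff_not_dvd hp.out).2 (relIndex_top_right S ▸ hS.not_dvd_relIndex),
    pow_one] at h2
  exact hyD ((QuotientGroup.eq_one_iff (⟨y, hyS⟩ : S)).1 h2)

variable {G : Type*} [Group G] [Finite G] {E : Dat G} {a b g y : G} {T : Subgroup G}

/-- the elements of the base group with diagonal image -/
def Dg {D : D3 G} (h : H3 D) : Subgroup G where
  carrier := {g | g ∈ D.B ∧ bt D g 1 = bt D g 0}
  one_mem' := ⟨one_mem _, by rw [bt_Q h (one_mem _)]; rfl⟩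
  mul_mem' ha hb := ⟨mul_mem ha.1 hb.1, by rw [bt_mul h ha.1 hb.1, Pi.add_apply, ha.2, hb.2]; rfl⟩
  inv_mem' ha := ⟨inv_mem ha.1, by rw [bt_inv h ha.1, Pi.neg_apply, ha.2]; rfl⟩

theorem nine_T {D : D3 G} (h : H3 D) (hT : T ≤ Ce D.z) (hp : IsPGroup 3 T)
    (h0 : ∀ g ∈ T, g ∈ D.B → ∀ i, bt D g i = bt D g 0) : D.QQ.relIndex T ∣ 9 := by
  have T3 := isPGroup_iff_forall.1 hp
  have h1 := idx_le (X := D.B) (MonoidHom.mk' (fun t : T => sg D t) fun a b =>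
    sg_mul h (CeN (hT a.2)) (CeN (hT b.2))) (fun t => ⟨B_of h (hT t.2), sg_B h⟩) (· ^ 3 = 1) fun t => by
      obtain ⟨k, e⟩ := T3 _ t.2
      have e1 : sg D t ^ 3 ^ k = 1 := by rw [← sg_pow h (CeN (hT t.2)), e, sg_B h (one_mem _)]
      refine (by decide : ∀ σ : Equiv.Perm (Fin 3), σ ^ 3 = 1 ∨ σ ^ 2 = 1) _ |>.elim id fun e2 => ?_
      have := pow_gcd_eq_one.2 ⟨e1, e2⟩
      rw [Nat.Coprime.pow_left k (by decide), pow_one] at this
      exact (congrArg (· ^ 3) this).trans (one_pow 3)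
  have h2 := idx_le (X := D.QQ) (Γ := Multiplicative V3) (MonoidHom.mk'
    (fun t : ↥(D.B ⊓ T) => .ofAdd (bt D t)) fun a b =>
      congrArg Multiplicative.ofAdd (bt_mul h a.2.1 b.2.1)) (fun t => ⟨fun e => h.ker _ t.2.1 fun i =>
      let ⟨_, k⟩ := T3 _ t.2.2
      (sl_q8 _ (((bt_P h t.2.1).2 e).2 i)).1 (H84.PS.m3 (co h i) (BN t.2.1 i) k), bt_Q h⟩)
    (fun x => ∀ i, x.toAdd i = x.toAdd 0) fun t => h0 _ t.2.2 t.2.1
  rw [show Nat.card {x : Equiv.Perm (Fin 3) // x ^ 3 = 1} = 3 by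
    rw [Nat.card_eq_fintype_card]; decide, ← inf_relIndex_right] at h1
  rw [show Nat.card {u : Multiplicative V3 // ∀ i, u.toAdd i = u.toAdd 0} = 3 by
    rw [Nat.card_eq_fintype_card]; decide +kernel, ← inf_relIndex_right, inf_left_comm, ← inf_assoc,
    inf_comm D.B, inf_eq_left.2 (QB h)] at h2
  have h3 := Nat.mul_le_mul h2 h1
  rw [relIndex_mul_relIndex _ (D.B ⊓ T) T (inf_le_inf_right _ (QB h)) inf_le_right,
    inf_relIndex_right] at h3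
  obtain ⟨k, hk⟩ := IsPGroup.iff_card.1 hp
  obtain ⟨j, -, e1⟩ := (Nat.dvd_prime_pow Nat.prime_three).1 (hk ▸ relIndex_dvd_card D.QQ T)
  rw [e1] at h3 ⊢
  exact pow_dvd_pow 3 ((Nat.pow_le_pow_iff_right (by decide)).1 (show 3 ^ j ≤ 3 ^ 2 from h3))

variable (e : E1 E)
include e

theorem diag (hg : g ∈ Dg e.h3) (i : Fin 3) : bt E.D g i = bt E.D g 0 :=
  (by decide : ∀ u : V3, u 0 + u 1 + u 2 = 0 → u 1 = u 0 → ∀ i, u i = u 0) _ (e.hv.sum g hg.1) hg.2 i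

theorem J_iff : g ∈ E.J ↔ g ∈ Jb E ∧ g ∈ Dg e.h3 := (e.hj.Jd g).trans
  (and_congr_right fun k => ⟨fun l => ⟨JJB e.h3 e.hj k, l 1⟩, diag e⟩)

theorem sg_π (i : Fin 3) : sg E.D E.π i = i + 1 :=
  sg_eq e.h3 (CeN e.hj.πz) (e.hj.cQ i) (e.hj.cz i) (e.πc i ▸ e.hj.cQ _)

/-- `O³(G)` contains `P` -/
theorem P_res (p : G) (hp : E.D.P p) : p ∈ res 3 (⊤ : Subgroup G) := by
  have h := e.h3
  have nN : (res 3 (⊤ : Subgroup G)).Normal := res_top (p := 3) (G := G) ▸ inferInstance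
  have c4 : ∀ a : G, a ^ 4 = 1 → a ∈ res 3 (⊤ : Subgroup G) := fun a k => mem_res_of_coprime
    (mem_top a) (Nat.Coprime.coprime_dvd_left (orderOf_dvd_of_pow_eq_one k) (by decide))
  have iv : ∀ i a, a ^ 3 = 1 → E.r i * a * (E.r i)⁻¹ = a⁻¹ → a ∈ res 3 (⊤ : Subgroup G) :=
    fun i a a3 k => by
      have h1 := c4 (E.r i) (by rw [pow_succ, pow_succ, pow_two, e.hj.rsq, one_mul, e.hj.rsq])
      refine inv_mem_iff.1 (sq_mem (by rw [inv_pow, a3, inv_one]) ?_)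
      nth_rw 1 [← k]
      simpa only [mul_assoc] using mul_mem h1 (nN.conj_mem _ (inv_mem h1) a)
  have h1 := iv 0 _ ((h.sd 0).cube _ (e.hj.cQ 0)) (e.hj.rcr 0)
  have hz : zpowers E.D.z ≤ res 3 ⊤ := zpowers_le.2 (by
    have h2 := nN.conj_mem _ h1 (E.x 0)
    rw [e.hj.xc, mul_mem_cancel_left h1] at h2
    simpa [ZMod.val_one] using h2)
  have hQ : E.D.QQ ≤ res 3 ⊤ := QQ_le.2 fun i a ha => by
    obtain ⟨k, e1⟩ := (jty h e.hj i).adj h ha
    exact (mul_mem_cancel_right (hz (zp_mem k))).1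
      (iv i _ ((h.sd i).cube _ (mul_mem ha ((co h i).zp_mem k))) e1)
  have h2 := h.ker _ (pow_mem hp.1 4) fun i => by rw [m_pow h hp.1, hp.2]
  have h3 := mul_mem (hQ h2) (inv_mem (c4 (p ^ 3) (by rw [← pow_mul, mul_comm, pow_mul, cubeQ h h2])))
  rwa [pow_succ', mul_inv_cancel_right] at h3

section

variable (ns : ¬ Swap E.D)
include ns

theorem sg_even (hg : g ∈ Ce E.z) : sg E.D g ^ 3 = 1 := by_contra fun n => by
  have h := e.h3
  obtain ⟨k, k0, k1⟩ := (by decide +kernel : ∀ σ ρ : Equiv.Perm (Fin 3), (∀ i, ρ i = i + 1) →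
    σ ^ 3 ≠ 1 → ∃ k : Fin 3, (σ * ρ ^ k.val) 0 = 0 ∧ (σ * ρ ^ k.val) 1 = 2) _ _ (sg_π e) n
  have h1 := mul_mem hg (pow_mem e.hj.πz k)
  rw [← sg_pow h (CeN e.hj.πz), ← sg_mul h (CeN hg) (CeN (pow_mem e.hj.πz _))] at k0 k1
  exact ns ⟨_, h1, (sg_spec h (CeN h1) 0).trans (by rw [k0]), (sg_spec h (CeN h1) 1).trans (by rw [k1])⟩

theorem dl_cnj (hg : g ∈ Ce E.z) (hb : b ∈ E.D.B) :
    bt E.D (g * b * g⁻¹) 1 - bt E.D (g * b * g⁻¹) 0 = bt E.D b 1 - bt E.D b 0 :=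
  (by decide +kernel : ∀ σ : Equiv.Perm (Fin 3), σ ^ 3 = 1 → ∀ u v : V3, (∀ i, v (σ i) = u i) →
    u 0 + u 1 + u 2 = 0 → v 1 - v 0 = u 1 - u 0) _ (sg_even e ns hg) _ _ (bt_cnj e.h3 hg hb)
    (e.hv.sum b hb)

theorem com_Dg : ⁅Ce E.z, Ce E.z⁆ ≤ Dg e.h3 := commutator_le.2 fun a ha b hb => by
  have h := e.h3
  have k : ∀ g ∈ Ce E.z, ∃ b ∈ E.D.B, ∃ n : ℕ, g = b * E.π ^ n := fun g hg => by
    obtain ⟨n, k⟩ := (by decide +kernel : ∀ σ ρ : Equiv.Perm (Fin 3), (∀ i, ρ i = i + 1) →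
      σ ^ 3 = 1 → ∃ k : Fin 3, σ * (ρ ^ k.val)⁻¹ = 1) _ _ (sg_π e) (sg_even e ns hg)
    have h1 := pow_mem e.hj.πz n
    rw [← sg_pow h (CeN e.hj.πz), ← sg_inv h (CeN h1), ← sg_mul h (CeN hg) (CeN (inv_mem h1))] at k
    exact ⟨_, B_of h (mul_mem hg (inv_mem h1)) k, n, by group⟩
  obtain ⟨a, aB, n, rfl⟩ := k a ha
  obtain ⟨b, bB, m, rfl⟩ := k b hb
  have h1 := pow_mem e.hj.πz n
  have h2 := pow_mem e.hj.πz m
  have h3 := conj_B h h1 bB
  have h4 := conj_B h h2 aB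
  rw [commutatorElement_def, show a * E.π ^ n * (b * E.π ^ m) * (a * E.π ^ n)⁻¹ * (b * E.π ^ m)⁻¹ =
    a * (E.π ^ n * b * (E.π ^ n)⁻¹) * (E.π ^ m * a * (E.π ^ m)⁻¹)⁻¹ * b⁻¹ by group]
  refine ⟨mul_mem (mul_mem (mul_mem aB h3) (inv_mem h4)) (inv_mem bB), ?_⟩
  rw [bt_mul h (mul_mem (mul_mem aB h3) (inv_mem h4)) (inv_mem bB), bt_mul h (mul_mem aB h3)
    (inv_mem h4), bt_mul h aB h3, bt_inv h h4, bt_inv h bB]
  simp only [Pi.add_apply, Pi.neg_apply]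
  linear_combination dl_cnj e ns h1 bB - dl_cnj e ns h2 aB

/-- the normalizer of `JJ` acts trivially on `JJ / J` -/
theorem triv (nj : NJ1 E) (bg : BG E) (ha : a ∈ nr (Jb E)) :
    ∀ y ∈ Jb E, a * y * a⁻¹ * y⁻¹ ∈ E.J := by
  have h := e.h3
  have H := e.hj
  let N0 : Subgroup G :=
    { carrier := {a | a ∈ nr (Jb E) ∧ ∀ y ∈ Jb E, a * y * a⁻¹ * y⁻¹ ∈ E.J}
      one_mem' := ⟨one_mem _, fun y _ => by simp⟩
      mul_mem' := fun {a b} ha hb => ⟨mul_mem ha.1 hb.1, fun y hy => by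
        simpa [mul_assoc] using mul_mem (ha.2 _ (conj_mem_of_mem_normalizer hb.1 hy)) (hb.2 y hy)⟩
      inv_mem' := fun {a} ha => ⟨inv_mem ha.1, fun y hy => by
        simpa [mul_assoc] using inv_mem (ha.2 _ (conj_mem_of_mem_normalizer' ha.1 hy))⟩ }
  have h1 : ∀ g ∈ nr (Jb E), g ∈ Ce E.z → g ∈ N0 := fun g hg hz => ⟨hg, fun y hy => by
    have h1 := JJB h H hy
    have h2 := conj_B h hz h1
    refine (J_iff e).2 ⟨mul_mem (conj_mem_of_mem_normalizer hg hy) (inv_mem hy),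
      mul_mem h2 (inv_mem h1), ?_⟩
    rw [bt_mul h h2 (inv_mem h1), bt_inv h h1]
    simp only [Pi.add_apply, Pi.neg_apply]
    linear_combination dl_cnj e ns hz h1⟩
  have h2 : ∀ n ∈ nr (Jb E), ∀ g ∈ N0, n * g * n⁻¹ ∈ N0 := fun n hn g hg =>
    ⟨mul_mem (mul_mem hn hg.1) (inv_mem hn), fun y hy => by
      simpa [mul_assoc] using conj_mem_of_mem_normalizer (H.nJ hn)
        (hg.2 _ (conj_mem_of_mem_normalizer' hn hy))⟩
  have zJ := ((J_iff e).1 (zJ4 h H)).1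
  have h3 : ∀ v, v ≠ 0 → q5 v = 0 → ∀ g ∈ nr (Jb E), g ∈ Ce (E.φ v) → g ∈ N0 := fun v v0 hv g hg k => by
    have vJ := ((J_iff e).1 ((nj.memJ _).2 ⟨v, rfl⟩)).1
    obtain ⟨n, hn, k'⟩ : ∃ n ∈ nr (Jb E), g ∈ Ce (n * E.z * n⁻¹) := by
      obtain ⟨s, k1 | k1⟩ := (nj.zset v).2 ⟨v0, hv⟩
      · obtain ⟨n, hn, k2⟩ := bg.ctl _ zJ s (k1 ▸ vJ)
        exact ⟨n, hn, (k2.trans k1).symm ▸ k⟩
      · obtain ⟨n, hn, k2⟩ := bg.ctl _ zJ s (k1 ▸ inv_mem vJ)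
        exact ⟨n, hn, (k2.trans k1).symm ▸ Ce_symm (inv_mem (Ce_symm k))⟩
    simpa [mul_assoc] using h2 n hn _ (h1 _ (mul_mem (mul_mem (inv_mem hn) hg) hn) (by
      simpa [mul_assoc] using conj_mem_Ce k' n⁻¹))
  have h4 : ∀ v w, (∃ n ∈ N0, n * E.z * n⁻¹ = E.φ v) → q5 v = 0 → q5 w = 0 → b5 v w = -1 →
      ∃ n ∈ N0, n * E.z * n⁻¹ = E.φ w := fun v w ⟨n, hn, k⟩ hv hw k' => by
    obtain ⟨k1, k2⟩ := (by decide +kernel : ∀ v w : V5, q5 v = 0 → q5 w = 0 → b5 v w = -1 →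
      q5 (v - w) = 1 ∧ rf (v - w) v = w) v w hv hw k'
    obtain ⟨s, s0, s1, s2⟩ := (by decide +kernel : ∀ u : V5, q5 u = 1 →
      ∃ s, s ≠ 0 ∧ q5 s = 0 ∧ rf u s = s) _ k1
    obtain ⟨g, hg, act⟩ := nj.refl _ k1
    exact ⟨g * n, mul_mem (h3 s s0 s1 g ((nrJ4 h H).le hg) (mem_Ce'.2 (by rw [act, s2]))) hn, by
      rw [← k2, ← act, ← k]; group⟩
  have h5 : ∀ w, w ≠ 0 → q5 w = 0 → w ≠ -vz → ∃ n ∈ N0, n * E.z * n⁻¹ = E.φ w := fun w w0 hw n => by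
    obtain ⟨v, k1, k2, k3⟩ := (by decide +kernel : ∀ w : V5, w ≠ 0 → q5 w = 0 → w ≠ -vz →
      ∃ v, q5 v = 0 ∧ b5 vz v = -1 ∧ b5 v w = -1) w w0 hw n
    exact h4 v w (h4 vz v ⟨1, one_mem _, by simp [φ_z]⟩ rfl k1 k2) k1 hw k3
  obtain ⟨w, hw⟩ := (nj.memJ _).1 (conj_mem_of_mem_normalizer (H.nJ ha) (zJ4 h H))
  obtain ⟨w0, w1⟩ := (nj.zset w).1 (hw ▸ Zt_conj a)
  obtain ⟨n, hn, k⟩ : ∃ n ∈ N0, n * E.z * n⁻¹ = E.φ w := by
    by_cases k : w = -vz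
    · exact h4 vt w (h5 vt (by decide) rfl (by decide)) rfl w1 (by rw [k]; rfl)
    · exact h5 w w0 w1 k
  have := mul_mem hn (h1 _ (mul_mem (inv_mem hn.1) ha) (mem_Ce'.2 (by
    calc _ = n⁻¹ * (a * E.D.z * a⁻¹) * n := by group
      _ = _ := by rw [← hw, ← k]; group)))
  rw [mul_inv_cancel_left] at this
  exact this.2

end

omit e in
theorem jobTR : JobTR.{u} := fun G _ _ E e nj ⟨y, hy, n⟩ bg ns => by
  have h := e.h3
  have H := e.hj
  obtain ⟨S, hS, Sz, JS, wc⟩ := bg.syl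
  have nN : (res 3 (⊤ : Subgroup G)).Normal := res_top (p := 3) (G := G) ▸ inferInstance
  have h1 := not_mem_res hS ((commutator_mono Sz Sz).trans (com_Dg e ns)) (H.J3 y hy) (JS hy)
    (fun k => n ((J_iff e).2 ⟨hy, k⟩)) hy (isPGroup_iff_forall.2 fun a ha => ⟨1, H.J3 a ha⟩)
    (fun r hr => H.Jab hy r hr) fun a ha => ((J_iff e).1 (triv e ns nj bg (cj_eq_self_iff.1
      (wc _ ha ((cj_mono a H.Jab).trans (cj_centralizer a _).le) (by
        rintro _ ⟨b, hb, rfl⟩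
        rw [← map_pow, H.J3 b hb, map_one]) ((card_cj a _).trans bg.card))) y hy)).2
  have tN : E.t ∈ res 3 (⊤ : Subgroup G) :=
    H.hz ▸ nN.conj_mem _ (P_res e _ (Q_P h (zQ h (mem_zpowers _)))) _
  have h2 : Dg h ≤ res 3 ⊤ := fun g hg => by
    obtain ⟨k, e1⟩ := (by decide : ∀ a b : ZMod 3, b ≠ 0 → ∃ k : ZMod 3, a + k * b = 0)
      (bt E.D g 0) _ (bt_t h H 0).2
    refine (mul_mem_cancel_right (zp_mem' tN k)).1 (P_res e _ ((bt_P h (mul_mem hg.1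
      (zp_mem' H.tB k))).2 (funext fun i => ?_)))
    rw [bt_mul h hg.1 (zp_mem' H.tB k), bt_zp h H.tB, Pi.add_apply, Pi.smul_apply, diag e hg,
      (bt_t h H i).1]
    exact e1
  refine ⟨_, ⟨nN, P_res e, ?_⟩, fun T hT hp => nine_T h (hT.trans inf_le_left) hp fun g hg gB =>
    diag e ⟨gB, by_contra fun k => h1 ?_⟩⟩
  · obtain ⟨s, hs, g, hg, k⟩ := hS.exists_mul_res (mem_top E.h⁻¹)
    have : g⁻¹ * E.D.z * g⁻¹⁻¹ = E.t := by
      rw [← H.hz, ← inv_inv E.h, k]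
      nth_rw 1 [← show s⁻¹ * E.D.z * s⁻¹⁻¹ = E.D.z from mem_Ce'.1 (inv_mem (Sz hs))]
      group
    exact ⟨_, inv_mem hg, this ▸ Bz H.tB, this ▸ fun k => H.tm 0 (by rw [mQ h (zQ h k), one_pow])⟩
  · have yB := JJB h H hy
    obtain ⟨l, e1⟩ := (by decide : ∀ a b c d : ZMod 3, d ≠ c → ∃ l : ZMod 3, b + l * d = a + l * c)
      (bt E.D y 0) (bt E.D y 1) _ _ k
    refine (mul_mem_cancel_right (zp_mem' (hT hg).2 l)).1 (h2 ⟨mul_mem yB (zp_mem' gB l), ?_⟩)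
    rw [bt_mul h yB (zp_mem' gB l), bt_zp h gB]
    exact e1

end H4.E6
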