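/- Tower EA: elementary abelian defect groups of order 16 with inertial index 9 have height zero. -/
import Cfsg.Agent.H68.EaSpec

set_option autoImplicit false

open scoped MonoidAlgebra ComplexConjugate

namespace H4.EaB9

open Cfsg H28 H34 H35 H36 H39 Subgroup H24.Ols H24.KB H68.EA

universe u

theorem jobB9 : JobB9.{u} := by
  intro j G _ _ M _ B D e h hD h2 h9
  classical
  have := Fact.mk h.hM.1
  have := charP_F h.hM
  have := Fintype.ofFinite D
  have hco : ∀ a b : D, a * b = b * a :=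
    Commute.of_orderOf_dvd_two fun g => orderOf_dvd_of_pow_eq_one (h2 g)
  have hab : D ≤ Cen D := fun x hx y hy => congrArg Subtype.val (hco ⟨y, hy⟩ ⟨x, hx⟩)
  obtain ⟨V, u, hV, h3, h4, h5⟩ := H52.KBI9.jobI9 D _ hD h2 h9
  have a1 := (hV true).2.1
  have a2 := (hV false).2.1
  have a3 : u true ∉ V false := fun h => (hV true).2.2.1 (h3.le ⟨a1, h⟩)
  have a4 : u false ∉ V true := fun h => (hV false).2.2.1 (h3.le ⟨h, a2⟩)
  have a5 : u true * u false ∉ V true := fun h => a4 ((mul_mem_cancel_left a1).1 h)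
  have a6 : u true * u false ∉ V false := fun h => a3 ((mul_mem_cancel_right a2).1 h)
  generalize u true * u false = w at *
  have hN : ∀ i ∈ ({1, u true, u false, w} : Finset D), ∀ j ∈ ({1, u true, u false, w} : Finset D),
      (∀ b, i ∈ V b ↔ j ∈ V b) → i = j := by
    simp [a1, a2, a3, a4, a5, a6]
  have hR : NCj {1, u true, u false, w} h.s := fun i hi j hj hij => hN i hi j hj fun b => by
    obtain ⟨α, h6, rfl⟩ := (cj_iff_AI h hab).1 hij
    exact ((hV b).2.2.2.1 α h6 i).symm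
  have hc : ∀ t : SS 2 M B, ∃ i ∈ ({1, u true, u false, w} : Finset D), t.Cj (h.s i) := fun t => by
    obtain ⟨v, hv⟩ := h.exists_cj t
    suffices ∃ i ∈ ({1, u true, u false, w} : Finset D), ∃ α ∈ AI ⊤ D e, α i = v from
      this.imp fun i hi => ⟨hi.1, hv.trans ((cj_iff_AI h hab).2 hi.2).symm⟩
    by_cases v1 : v = 1
    · exact ⟨1, by simp, 1, one_mem _, v1.symm⟩
    by_cases v2 : v ∈ V true
    · exact ⟨_, by simp, (hV true).2.2.2.2.1 v v2 v1⟩
    by_cases v3 : v ∈ V false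
    · exact ⟨_, by simp, (hV false).2.2.2.2.1 v v3 v1⟩
    · exact ⟨_, by simp, h4 v v2 v3⟩
  have n1 : ∀ b, u b ≠ w := Bool.rec (fun h => a6 (h ▸ a2)) fun h => a5 (h ▸ a1)
  have n2 : u true ≠ u false := fun h => a4 (h ▸ a1)
  have n3 : 1 ∉ ({u true, u false, w} : Finset D) := by
    simpa [eq_comm (a := (1 : D)), (hV true).2.2.1, (hV false).2.2.1] using
      fun h : w = 1 => a5 (h ▸ one_mem _)
  have hS : ∀ {A : Type} [AddCommMonoid A] (f : D → A),
      ∑ i ∈ {u true, u false, w}, f i = f (u true) + (f (u false) + f w) := fun f => by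
    rw [Finset.sum_insert (by simp [n1, n2]), Finset.sum_pair (n1 _)]
  have l1 := fun b => rank_s h hab (u b) (hV b).2.2.2.2.2 le_rfl
  have l2 := rank_s h hab w (card_eq_one.2 (eq_bot_iff.2 fun α hα => h5 α hα.1 hα.2)) (by norm_num)
  have hk := hR.card_eq h.hM h.hB hc
  rw [Finset.sum_insert n3, hS, l1, l1, l2, h.rank_one, ← card_bF] at hk
  obtain ⟨d, -, d1, d2, d3, d4⟩ := exists_col' h hab l2 fun t ht =>
    ⟨1, one_mem _, by rw [pow_eq_pow_mod t (h2 w), show t % 2 = 1 by omega, pow_one]; rfl⟩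
  rw [hD] at d1 d3
  have hQ : ∀ b, ∀ χ ∈ bF B, ∀ ψ ∈ bF B,
      ∃ n : ℤ, (n : ℂ) = 4 * ((h.s (u b)).con χ ψ + (h.s w).con χ ψ) := fun b χ hχ ψ hψ => by
    have : (V (!b)).Normal := ⟨fun n hn g => by rwa [hco g, mul_inv_cancel_right]⟩
    have h6 := (V (!b)).card_mul_index
    obtain ⟨n, hn⟩ := star_int h hab hR hc
      (isCharacter_index_indicator (V (!b))).isGeneralizedCharacter
      (fun α hα x => by simp only [(hV (!b)).2.2.2.1 α hα]) hχ hψ
    have h7 := hR.sum_con_eq h.hM h.hB hc (mem_bF.1 hχ) (mem_bF.1 hψ)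
    rw [(hV _).1, hD] at h6
    rw [Finset.sum_insert n3, hS] at hn h7
    rw [show (V (!b)).index = 4 by omega] at hn
    refine ⟨4 * (if χ = ψ then 1 else 0) - n, ?_⟩
    push_cast
    rw [← h7, ← hn]
    cases b <;> simp [a1, a2, a3, a4, a5, a6] <;> ring
  choose! Q hQ using hQ
  have c1 : ∀ x (χ ψ : IrrCharacter G), ∑ k ∈ bF B, (h.s x).con χ k * (h.s x).con k ψ =
      (h.s x).con χ ψ := fun x χ ψ => SS.sum_mul_self h.hM _ (SS.inV_f h.hM _ _) _
  have c2 : ∀ x ∈ ({1, u true, u false, w} : Finset D), ∀ y ∈ ({1, u true, u false, w} : Finset D),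
      x ≠ y → ∀ χ ψ : IrrCharacter G, ∑ k ∈ bF B, (h.s x).con χ k * (h.s y).con k ψ = 0 :=
    fun x hx y hy hxy χ ψ => SS.sum_mul_eq_zero h.hM (mt (hR y hy x hx) hxy.symm) _ _
  have m1 : ∀ b, u b ∈ ({1, u true, u false, w} : Finset D) := fun b => by cases b <;> simp
  have c3 : ∀ b c, ∀ i ∈ bF B, ∀ j ∈ bF B, ((∑ k ∈ bF B, Q b i k * Q c k j : ℤ) : ℂ) =
      16 * (∑ k ∈ bF B, (h.s (u b)).con i k * (h.s (u c)).con k j + (h.s w).con i j) :=
    fun b c i hi j hj => by
      rw [← c1 w, ← add_zero (∑ k ∈ bF B, (h.s w).con _ _ * _), ← add_zero (0 : ℂ)]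
      nth_rw 1 [← c2 _ (m1 b) w (by simp) (n1 b) i j, ← c2 w (by simp) _ (m1 c) (n1 c).symm i j]
      simp only [← Finset.sum_add_distrib, Finset.mul_sum, Int.cast_sum, Int.cast_mul]
      exact Finset.sum_congr rfl fun k hk => by rw [hQ b i hi k hk, hQ c k hk j hj]; ring
  have l0 := blockRank_pos h.hM.1 (block_nonempty h.hB)
  have hq : (2 : ℂ) ^ blockDefect 2 B = 16 := by exact_mod_cast h.card_eq.symm.trans hD
  have ev : ∀ i ∈ bF B, Even (d i) → d i ^ 2 = 4 ∧ ∀ b, Q b i i = 2 := fun i hi hd => by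
    have h0 := (d4 i hi).1 (even_iff_two_dvd.1 hd)
    have hA : ∀ v : D, ∃ n : ℤ, 0 < n ∧ ((4 * n : ℤ) : ℂ) = 16 * (h.s v).con i i := fun v => by
      obtain ⟨A, k1, k2, -⟩ := h.exists_maj (v := v) (mem_center_iff.2 fun y => hco y v) (h2 v)
      obtain ⟨n, hn⟩ : (4 : ℤ) ∣ A i i :=
        (pow_dvd_pow 2 (show 2 ≤ blockHeight 2 B i.1 + 1 by omega)).trans ((k2.dvd_iff i hi i hi).2 h0)
      have := k2.pos i hi
      exact ⟨n, by omega, by rw [← hn, k1, hq]⟩
    choose n n0 hn using hA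
    have h7 := hR.sum_con_eq h.hM h.hB hc (mem_bF.1 hi) (mem_bF.1 hi)
    rw [Finset.sum_insert n3, hS, if_pos rfl] at h7
    have h8 : n 1 + (n (u true) + (n (u false) + n w)) = 4 := Int.cast_injective (α := ℂ) (by
      have e1 := hn 1
      have e2 := hn (u true)
      have e3 := hn (u false)
      have e4 := hn w
      push_cast at e1 e2 e3 e4 ⊢
      linear_combination (e1 + e2 + e3 + e4) / 4 + 4 * h7)
    have e1 := n0 1
    have e2 := n0 (u true)
    have e3 := n0 (u false)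
    have e4 := n0 w
    have e5 := hn w
    rw [show n w = 1 by omega] at e5
    refine ⟨Int.cast_injective (α := ℂ) ?_, fun b => Int.cast_injective (α := ℂ) ?_⟩
    · have e6 := d1 i i
      push_cast at e5 e6 ⊢
      linear_combination -e5 - e6
    · have e6 := hn (u b)
      rw [show n (u b) = 1 by cases b <;> omega] at e6
      rw [hQ b i hi i hi]
      push_cast at e5 e6 ⊢
      linear_combination -(e5 + e6) / 4
  have key := j _ (bF B) Q d (fun b i hi j hj => Int.cast_injective (α := ℂ) (by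
      rw [← map_intCast (starRingEnd ℂ), hQ b i hi j hj, hQ b j hj i hi, map_mul, map_add,
        SS.conj_con, SS.conj_con, map_ofNat]))
    (fun b i hi j hj => Int.cast_injective (α := ℂ) (by
      rw [c3 b b i hi j hj, c1, Int.cast_mul, hQ b i hi j hj]; push_cast; ring))
    (fun i hi j hj => Int.cast_injective (α := ℂ) (by
      rw [c3 _ _ i hi j hj, c2 _ (m1 _) _ (m1 _) n2, Int.cast_mul, ← d1, zero_add]; rfl))
    (fun b i hi => mul_right_cancel₀ (d2 i hi) (Int.cast_injective (α := ℂ) (by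
      push_cast
      rw [mul_assoc, ← d1, ← c1 w, ← zero_add (∑ k ∈ bF B, (h.s w).con _ _ * _),
        ← c2 _ (m1 b) w (by simp) (n1 b) i i]
      simp only [← Finset.sum_add_distrib, Finset.mul_sum, Finset.sum_mul]
      exact Finset.sum_congr rfl fun k hk => by rw [hQ b i hi k hk, mul_assoc, ← d1]; ring)))
    (fun b => Int.cast_injective (α := ℂ) (by
      rw [Int.cast_sum, Finset.sum_congr rfl fun k hk => hQ b k hk k hk, ← Finset.mul_sum,
        Finset.sum_add_distrib, SS.sum_con_self h.hM, SS.sum_con_self h.hM, l1, l2]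
      norm_num))
    (fun b i hi => by
      have h6 := QB_self_re_pos (b := (h.s (u b)).b) Nat.prime_two (f_ne_zero h hab (u b) hi)
      rw [← con_eq h hab, hD, show ((16 : ℕ) : ℂ) * _ = ((4 * Q b i i - d i ^ 2 : ℤ) : ℂ) by
        push_cast; rw [hQ b i hi i hi, sq, ← d1]; push_cast; ring, Complex.intCast_re] at h6
      exact sub_pos.1 (by exact_mod_cast h6)) d2 d3 (by omega) ev
  intro χ hχ
  by_contra h0
  exact Int.not_even_iff_odd.2 (key χ (mem_bF.2 hχ))
    (even_iff_two_dvd.2 ((d4 χ (mem_bF.2 hχ)).2 h0))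

end H4.EaB9
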