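import Cfsg.Agent.H82.FSSpec
import Cfsg.Agent.H98.Sylow

/-! Tower FS: the job `JobInd`. -/

set_option autoImplicit false

namespace H4.FSInd

open Cfsg Subgroup H82.FS
open scoped commutatorElement

universe u

variable {G : Type u} [Group G] [Finite G] {p r : ℕ} {A L : Subgroup G}

/-- A point is conjugate to `A` inside its line. -/
theorem exists_ln (h : Lin p r A) (g : G) : ∃ k ∈ ln A g, cj g A = cj k A := by
  have := Fact.mk h.hp
  have := Fact.mk h.hr
  have hA : IsPGroup p A := IsPGroup.of_card (n := 1) (by rw [pow_one, h.card])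
  have n1 : A ≤ normalizer (kl A g : Set G) :=
    H98.le_normalizer_commutator (H98.le_normalizer_of_le le_sup_left) (H98.le_normalizer_of_le le_sup_left)
  have S : H98.IsSyl p A (kl A g ⊔ A) := ⟨le_sup_right, hA, fun Q hQ h1 h2 => le_antisymm (fun x hx => by
    obtain ⟨k, hk, a, ha, rfl⟩ := (H98.mem_sup_right_norm n1).1 (h2 hx)
    rwa [disjoint_def.1 (IsPGroup.disjoint_of_ne r p h.pr _ _ (h.line g) hQ) hk
      ((mul_mem_cancel_right (h1 ha)).1 hx), one_mul]) h1⟩
  obtain ⟨k, hk, e⟩ := S.exists_le_cj (hA.map _) (h.sub g)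
  exact ⟨k, sup_le (H98.commutator_le_of_le le_rfl le_rfl) le_sup_left hk,
    eq_of_le_of_card_ge e (by rw [H98.card_cj, H98.card_cj])⟩

section
variable (hL : A ≤ L)
include hL
omit [Finite G]

theorem map_cj' (g : L) : (cj g (A.subgroupOf L)).map L.subtype = cj (g : G) A := by
  rw [H98.map_cj, map_subgroupOf_eq_of_le hL]; rfl

theorem map_ln (g : L) : (ln (A.subgroupOf L) g).map L.subtype = ln A g := by
  rw [ln, Subgroup.map_sup, map_cj' hL, map_subgroupOf_eq_of_le hL]; rfl

theorem map_kl (g : L) : (kl (A.subgroupOf L) g).map L.subtype = kl A g := by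
  rw [kl, map_commutator, map_ln hL]; rfl

theorem cj_ne {g : L} (h : cj g (A.subgroupOf L) ≠ A.subgroupOf L) : cj (g : G) A ≠ A := fun e =>
  h (map_injective L.subtype_injective (by rw [map_cj' hL, e, map_subgroupOf_eq_of_le hL]))

end

theorem jobInd : JobInd.{u} := fun hM => by
  suffices h : ∀ (n : ℕ) (G : Type u) [Group G] [Finite G], Nat.card G = n → ∀ (p r : ℕ) (A : Subgroup G),
      Uni p r A → An A → (r ≠ 2 ∨ Iso A) → ∃ R, Sp r A R ∧ R ⊔ A = ⊤ from fun G _ _ => h _ G rfl
  intro n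
  induction n using Nat.strong_induction_on with | _ n ih => ?_
  intro G _ _ hn p r A hU hA hI
  refine hM G p r A hU hA hI fun H hH hAH => ?_
  have hp := Fact.mk hU.lin.hp
  set L : Subgroup G := ⨆ (g : G) (_ : cj g A ≤ H), cj g A with hLdef
  have LH : L ≤ H := iSup₂_le fun _ h => h
  have pL : ∀ g, cj g A ≤ H → cj g A ≤ L := fun g h => le_iSup₂_of_le g h le_rfl
  have AL : A ≤ L := (H98.cj_one A).ge.trans (pL 1 ((H98.cj_one A).le.trans hAH))
  have pt : ∀ g, cj g A ≤ H → ∃ k ∈ L, cj g A = cj k A := fun g h =>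
    (exists_ln hU.lin g).imp fun k hk => ⟨sup_le AL (pL g h) hk.1, hk.2⟩
  have i := L.subtype_injective
  have mA := map_subgroupOf_eq_of_le AL
  have lin : Lin p r (A.subgroupOf L) := by
    refine ⟨hU.lin.hp, hU.lin.p2, hU.lin.hr, hU.lin.pr, ?_, eq_top_iff.2 fun x _ => ?_, fun g => ?_,
      fun g => ?_⟩
    · rw [← hU.lin.card, ← card_map_of_injective i, mA]
    · refine (mem_map_iff_mem i).1 ((iSup₂_le fun g h => ?_ : L ≤ _) x.2)
      obtain ⟨k, hk, e⟩ := pt g h
      rw [e, ← map_cj' AL ⟨k, hk⟩]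
      exact map_mono ((H98.cj_mono _ le_normalClosure).trans (H98.cj_eq_self_of_normal _ _).le)
    · exact H98.isPGroup_of_map_injective i (map_kl AL g ▸ hU.lin.line g)
    · rw [← map_le_map_iff_of_injective i, Subgroup.map_sup, map_cj' AL, map_kl AL, mA]
      exact hU.lin.sub g
  obtain ⟨R, hR, eR⟩ := ih _ (by
      rw [← hn, ← card_top (G := G)]
      exact (card_le_of_le LH).trans_lt (lt_of_le_of_ne (card_le_of_le le_top) fun e =>
        hH (eq_of_le_of_card_ge le_top e.ge))) L rfl p r (A.subgroupOf L)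
    ⟨lin, fun g h k1 k2 => by
      rw [← card_map_of_injective i, ← card_map_of_injective (K := ln _ h) i, map_ln AL, map_ln AL]
      exact hU.eq g h (cj_ne AL k1) (cj_ne AL k2)⟩
    (fun g k c => hA g (cj_ne AL k) (map_kl AL g ▸ map_isMulCommutative _ _))
    (hI.imp id fun k x hx => by
      rw [← subgroupOf_normalizer_eq AL] at hx
      exact fun y hy => Subtype.ext (k hx y hy))
  have n1 : A ≤ normalizer (R.map L.subtype : Set G) := mA ▸ H98.map_le_normalizer_map _ hR.2.1
  have e1 : R.map L.subtype ⊔ A = L := by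
    rw [← mA, ← Subgroup.map_sup, eR, ← MonoidHom.range_eq_map, range_subtype]
  have e2 : ⁅R.map L.subtype, A⁆ = R.map L.subtype := by
    nth_rewrite 1 [← mA]; rw [← map_commutator, hR.2.2]
  have e3 : R.map L.subtype = ⁅L, L⁆ := by
    refine le_antisymm (e2.ge.trans (commutator_mono (map_subtype_le _) AL)) ?_
    have : IsCyclic A := isCyclic_of_prime_card hU.lin.card
    have n0 := H98.le_normalizer_of_le (le_refl (R.map L.subtype))
    have k1 : ⁅A, A⁆ ≤ R.map L.subtype := commutator_le.2 fun a ha b hb => by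
      rw [commutatorElement_eq_one_iff_mul_comm.2 (congrArg Subtype.val
        (mul_comm' (⟨a, ha⟩ : A) ⟨b, hb⟩))]
      exact one_mem _
    have k2 : ⁅R.map L.subtype, L⁆ ≤ R.map L.subtype :=
      H98.commutator_le_left' (e1.ge.trans (sup_le n0 n1))
    have k3 : ⁅A, R.map L.subtype ⊔ A⁆ ≤ R.map L.subtype :=
      H98.commutator_sup_right_le n0 n1 (H98.commutator_le_right' n1) k1
    rw [e1] at k3
    have := H98.commutator_sup_left_le n0 n1 k2 k3
    rwa [e1] at this
  have n2 : H ≤ normalizer (L : Set G) := fun x hx => H98.mem_normalizer_of_cj_le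
    (H98.cj_le_iff.2 (iSup₂_le fun g h => H98.cj_le_iff.1 (by
      rw [H98.cj_cj]
      exact pL _ ((H98.cj_cj x g A).ge.trans (H98.cj_le_of_le_of_mem h hx)))))
  refine ⟨R.map L.subtype, ⟨hR.1.map _, n1, e2⟩, (map_subtype_le _).trans LH,
    e3 ▸ H98.le_normalizer_commutator n2 n2, fun g h => ?_⟩
  obtain ⟨k, hk, e⟩ := pt g h
  obtain ⟨y, hy, a, ha, rfl⟩ := (H98.mem_sup_right_norm n1).1 (e1.ge hk)
  exact ⟨y, hy, e.trans ((H98.cj_cj y a A).symm.trans
    (congrArg (H98.cj y) (H98.cj_eq_self_of_mem ha)))⟩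

end H4.FSInd
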