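/- Wielandt's three subgroups theorem, and Hall's converse theorem modulo Burnside's theorem. -/
import Cfsg.Agent.H4.Product

set_option autoImplicit false
open Cfsg Pointwise

namespace H4

universe u

/-- If `G = H K`, `M` is normalised by `H` and a conjugate of `M` lies in `K`, then the normal
closure of `M` lies in `K`. -/
theorem normalClosure_le_of_factor {G : Type u} [Group G] {H K M : Subgroup G}
    (hHK : ∀ g : G, ∃ x ∈ H, ∃ y ∈ K, g = x * y) (hM : H ≤ Subgroup.normalizer (M : Set G))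
    {g : G} (hg : M ≤ MulAut.conj g • K) : Subgroup.normalClosure (M : Set G) ≤ K := by
  have h1 : M ≤ K := by
    obtain ⟨x, hx, y, hy, rfl⟩ := hHK g
    rw [← conj_smul_conj_smul, Subgroup.conj_smul_eq_self_of_mem hy,
      Subgroup.subset_pointwise_smul_iff, ← map_inv,
      conj_smul_eq_iff_mem_normalizer.mpr (hM (H.inv_mem hx))] at hg
    exact hg
  rw [Subgroup.normalClosure, Subgroup.closure_le]
  intro a ha
  obtain ⟨m, hm, hc⟩ := Group.mem_conjugatesOfSet_iff.mp ha
  obtain ⟨c, rfl⟩ := isConj_iff.mp hc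
  obtain ⟨y, hy, x, hx, rfl⟩ := mul_swap_of_forall_mul hHK c
  have h2 : x * m * x⁻¹ ∈ M := (Subgroup.mem_normalizer_iff.mp (hM hx) m).mp hm
  have h3 := K.mul_mem (K.mul_mem hy (h1 h2)) (K.inv_mem hy)
  simpa only [mul_inv_rev, mul_assoc, SetLike.mem_coe] using h3

theorem three_subgroups_aux (n : ℕ) : ∀ (G : Type u) [Group G] [Finite G], Nat.card G = n →
    ∀ (H₁ H₂ H₃ : Subgroup G), Group.IsSolvable H₁ → Group.IsSolvable H₂ → Group.IsSolvable H₃ →
    (∀ g : G, ∃ x ∈ H₁, ∃ y ∈ H₂, g = x * y) → (∀ g : G, ∃ x ∈ H₁, ∃ y ∈ H₃, g = x * y) →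
    H₂.index.Coprime H₃.index → Group.IsSolvable G := by
  induction n using Nat.strong_induction_on with
  | _ n ih =>
  intro G _ _ hG H₁ H₂ H₃ h₁ h₂ h₃ h12 h13 hcop
  by_cases htriv : H₁ = ⊥
  · have : Function.Surjective H₂.subtype := by
      intro g
      obtain ⟨x, hx, y, hy, rfl⟩ := h12 g
      rw [htriv, Subgroup.mem_bot] at hx
      exact ⟨⟨y, hy⟩, by simp [hx]⟩
    exact Group.isSolvable_of_surjective this
  have htop : (⊤ : Subgroup H₁) ≠ ⊥ := by
    have := (Subgroup.nontrivial_iff_ne_bot H₁).mpr htriv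
    exact top_ne_bot
  obtain ⟨M, p, hM, hne, -, hp, -, hexp, -⟩ := exists_minimal_normal_elemab (⊤ : Subgroup H₁) htop
  have := Fact.mk hp
  set M' := M.map H₁.subtype with hM'
  have hM'p : IsPGroup p M' := (isPGroup_of_exponent hexp).map _
  have hnorm : H₁ ≤ Subgroup.normalizer (M' : Set G) := by
    intro x hx
    rw [← conj_smul_eq_iff_mem_normalizer, hM']
    have := map_conj_smul H₁.subtype ⟨x, hx⟩ M
    rw [hM.conj_smul_eq_self] at this
    exact this.symm
  have key : ∀ K : Subgroup G, Group.IsSolvable K → (∀ g : G, ∃ x ∈ H₁, ∃ y ∈ K, g = x * y) →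
      ¬ p ∣ K.index → Group.IsSolvable (Subgroup.normalClosure (M' : Set G)) := by
    intro K hK hHK hp'
    obtain ⟨P⟩ : Nonempty (Sylow p K) := inferInstance
    have hP : ¬ p ∣ ((P : Subgroup K).map K.subtype).index := by
      rw [Subgroup.index_map_subtype, Nat.Prime.dvd_mul hp, not_or]
      exact ⟨P.not_dvd_index, hp'⟩
    obtain ⟨Q, hQ⟩ := hM'p.exists_le_sylow
    obtain ⟨g, hg⟩ := MulAction.exists_smul_eq G ((P.isPGroup'.map K.subtype).toSylow hP) Q
    have h1 : M' ≤ MulAut.conj g • K := by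
      refine hQ.trans ?_
      rw [← hg, Sylow.coe_subgroup_smul, Subgroup.pointwise_smul_le_pointwise_smul_iff]
      exact Subgroup.map_subtype_le _
    exact Group.isSolvable_of_isSolvable_injective
      (Subgroup.inclusion_injective (normalClosure_le_of_factor hHK hnorm h1))
  set N := Subgroup.normalClosure (M' : Set G)
  have hNs : Group.IsSolvable N := by
    by_cases hp2 : p ∣ H₂.index
    · exact key H₃ h₃ h13 fun h => hp.one_lt.ne' (Nat.eq_one_of_dvd_coprimes hcop hp2 h)
    · exact key H₂ h₂ h12 hp2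
  have hNne : N ≠ ⊥ := by
    intro h
    apply hne
    have h1 : M' ≤ N := Subgroup.subset_normalClosure
    rw [h, le_bot_iff, hM', Subgroup.map_eq_bot_iff_of_injective _ H₁.subtype_injective] at h1
    exact h1
  have hs : ∀ K : Subgroup G, Group.IsSolvable K → Group.IsSolvable (K.map (QuotientGroup.mk' N)) :=
    fun K _ => Group.isSolvable_of_surjective ((QuotientGroup.mk' N).subgroupMap_surjective K)
  have hf : ∀ K : Subgroup G, (∀ g : G, ∃ x ∈ H₁, ∃ y ∈ K, g = x * y) →
      ∀ g : G ⧸ N, ∃ x ∈ H₁.map (QuotientGroup.mk' N), ∃ y ∈ K.map (QuotientGroup.mk' N),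
        g = x * y := by
    intro K hK g
    obtain ⟨g, rfl⟩ := QuotientGroup.mk'_surjective N g
    obtain ⟨x, hx, y, hy, rfl⟩ := hK g
    exact ⟨_, Subgroup.mem_map_of_mem _ hx, _, Subgroup.mem_map_of_mem _ hy, map_mul _ _ _⟩
  have hq : Group.IsSolvable (G ⧸ N) :=
    ih _ (hG ▸ card_quotient_lt N hNne) (G ⧸ N) rfl _ _ _ (hs _ h₁) (hs _ h₂) (hs _ h₃)
      (hf _ h12) (hf _ h13)
      ((hcop.coprime_dvd_left (H₂.index_map_dvd (QuotientGroup.mk'_surjective N))).coprime_dvd_right
        (H₃.index_map_dvd (QuotientGroup.mk'_surjective N)))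
  exact (Group.isSolvable_iff_subgroup_quotient N).mpr ⟨hNs, hq⟩

/-- Wielandt's three subgroups theorem. -/
theorem solvable_of_three_subgroups {G : Type u} [Group G] [Finite G] (H₁ H₂ H₃ : Subgroup G)
    (h₁ : Group.IsSolvable H₁) (h₂ : Group.IsSolvable H₂) (h₃ : Group.IsSolvable H₃)
    (h12 : ∀ g : G, ∃ x ∈ H₁, ∃ y ∈ H₂, g = x * y) (h13 : ∀ g : G, ∃ x ∈ H₁, ∃ y ∈ H₃, g = x * y)
    (hcop : H₂.index.Coprime H₃.index) : Group.IsSolvable G :=
  three_subgroups_aux _ G rfl H₁ H₂ H₃ h₁ h₂ h₃ h12 h13 hcop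

/-- Three solvable subgroups of pairwise coprime indices force solvability. -/
theorem solvable_of_three_coprime {G : Type u} [Group G] [Finite G] (H₁ H₂ H₃ : Subgroup G)
    (h₁ : Group.IsSolvable H₁) (h₂ : Group.IsSolvable H₂) (h₃ : Group.IsSolvable H₃)
    (h12 : H₁.index.Coprime H₂.index) (h13 : H₁.index.Coprime H₃.index)
    (h23 : H₂.index.Coprime H₃.index) : Group.IsSolvable G :=
  solvable_of_three_subgroups H₁ H₂ H₃ h₁ h₂ h₃ (exists_mul_of_coprime_index h12)
    (exists_mul_of_coprime_index h13) h23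

/-- Hall's converse theorem, given Burnside's theorem as a hypothesis. -/
theorem solvable_of_complements_aux
    (burnside : ∀ (G : Type u) [Group G] [Finite G] (p q a b : ℕ), p.Prime → q.Prime →
      Nat.card G = p ^ a * q ^ b → Group.IsSolvable G) (n : ℕ) :
    ∀ (G : Type u) [Group G] [Finite G], Nat.card G = n →
      (∀ p : ℕ, p.Prime → ∃ H : Subgroup G, IsPiHall {q | q ≠ p} H) → Group.IsSolvable G := by
  induction n using Nat.strong_induction_on with
  | _ n ih =>
  intro G _ _ hG h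
  choose! K hK using h
  have hidx : ∀ p q : ℕ, p.Prime → q.Prime → p ≠ q → (K p).index.Coprime (K q).index := by
    intro p q hp hq hpq
    apply Nat.coprime_of_dvd
    intro r hr h1 h2
    by_cases hrp : r = p
    · exact (hK q hq).2 r hr (hrp ▸ hpq) h2
    · exact (hK p hp).2 r hr hrp h1
  have hsol : ∀ p : ℕ, p.Prime → p ∣ Nat.card G → Group.IsSolvable (K p) := by
    intro p hp hd
    have hne : K p ≠ ⊤ := by
      intro ht
      apply (hK p hp).1 p hp _ rfl
      rwa [ht, Subgroup.card_top]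
    refine ih _ (hG ▸ card_lt_of_ne_top _ hne) (K p) rfl fun q hq => ?_
    by_cases hqp : q = p
    · refine ⟨⊤, fun r hr hrd => ?_, fun r hr _ hrd => ?_⟩
      · rw [Subgroup.card_top] at hrd
        exact hqp ▸ (hK p hp).1 r hr hrd
      · rw [Subgroup.index_top] at hrd
        exact hr.ne_one (Nat.eq_one_of_dvd_one hrd)
    · refine ⟨(K q).subgroupOf (K p), isPiSubgroup_subgroupOf (hK q hq).1 _, ?_⟩
      have := relIndex_eq_index_of_coprime (hidx q p hq hp hqp)
      rw [Subgroup.relIndex] at this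
      rw [this]
      exact (hK q hq).2
  by_cases h3 : 2 < (Nat.card G).primeFactors.card
  · obtain ⟨p, hp, q, hq, r, hr, hpq, hpr, hqr⟩ := Finset.two_lt_card.mp h3
    have hp1 := Nat.prime_of_mem_primeFactors hp
    have hq1 := Nat.prime_of_mem_primeFactors hq
    have hr1 := Nat.prime_of_mem_primeFactors hr
    exact solvable_of_three_coprime (K p) (K q) (K r)
      (hsol p hp1 (Nat.dvd_of_mem_primeFactors hp)) (hsol q hq1 (Nat.dvd_of_mem_primeFactors hq))
      (hsol r hr1 (Nat.dvd_of_mem_primeFactors hr)) (hidx p q hp1 hq1 hpq) (hidx p r hp1 hr1 hpr)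
      (hidx q r hq1 hr1 hqr)
  · have hfac := Nat.prod_factorization_pow_eq_self (Nat.card_pos (α := G)).ne'
    rw [Finsupp.prod, Nat.support_factorization] at hfac
    have h4 : (Nat.card G).primeFactors.card = 0 ∨ (Nat.card G).primeFactors.card = 1 ∨
        (Nat.card G).primeFactors.card = 2 := by omega
    rcases h4 with h4 | h4 | h4
    · rw [Finset.card_eq_zero] at h4
      rw [h4, Finset.prod_empty] at hfac
      exact burnside G 2 2 0 0 Nat.prime_two Nat.prime_two (by simp [← hfac])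
    · obtain ⟨p, hp⟩ := Finset.card_eq_one.mp h4
      have hp1 : p.Prime := Nat.prime_of_mem_primeFactors (hp ▸ Finset.mem_singleton_self p)
      rw [hp, Finset.prod_singleton] at hfac
      exact burnside G p p _ 0 hp1 hp1 (hfac.symm.trans (mul_one _).symm)
    · obtain ⟨p, q, hpq, hp⟩ := Finset.card_eq_two.mp h4
      have hp1 : p.Prime := Nat.prime_of_mem_primeFactors (n := Nat.card G) (by simp [hp])
      have hq1 : q.Prime := Nat.prime_of_mem_primeFactors (n := Nat.card G) (by simp [hp])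
      rw [hp, Finset.prod_pair hpq] at hfac
      exact burnside G p q _ _ hp1 hq1 hfac.symm

end H4
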