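/- Factorised groups: conjugates of the factors, Sylow products, factorised normalizers and
Kegel's lemma. -/
import Cfsg.Agent.H4.WielandtHall
import Cfsg.Agent.H4.ThreeSub

set_option autoImplicit false
open Cfsg Pointwise

namespace H4

universe u

variable {G : Type u} [Group G]

/-- `G = H K`. -/
def Fact2 (H K : Subgroup G) : Prop := ∀ g : G, ∃ h ∈ H, ∃ k ∈ K, g = h * k

theorem Fact2.symm {H K : Subgroup G} (h : Fact2 H K) : Fact2 K H := mul_swap_of_forall_mul h

theorem fact2_iff_set {H K : Subgroup G} : Fact2 H K ↔ (H : Set G) * (K : Set G) = Set.univ := by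
  rw [Set.eq_univ_iff_forall]
  exact forall_congr' fun g => ⟨fun ⟨a, ha, b, hb, he⟩ => ⟨a, ha, b, hb, he.symm⟩,
    fun ⟨a, ha, b, hb, he⟩ => ⟨a, ha, b, hb, he.symm⟩⟩

theorem Fact2.mono {H K H' K' : Subgroup G} (h : Fact2 H K) (h1 : H ≤ H') (h2 : K ≤ K') :
    Fact2 H' K' := fun g =>
  let ⟨a, ha, b, hb, he⟩ := h g
  ⟨a, h1 ha, b, h2 hb, he⟩

theorem Fact2.eq_top {H K L : Subgroup G} (h : Fact2 H K) (h1 : H ≤ L) (h2 : K ≤ L) : L = ⊤ := by
  rw [eq_top_iff]
  intro g _
  obtain ⟨a, ha, b, hb, rfl⟩ := h g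
  exact L.mul_mem (h1 ha) (h2 hb)

theorem Fact2.map {G' : Type*} [Group G'] {H K : Subgroup G} (h : Fact2 H K) (f : G →* G')
    (hf : Function.Surjective f) : Fact2 (H.map f) (K.map f) := by
  intro g
  obtain ⟨g, rfl⟩ := hf g
  obtain ⟨x, hx, y, hy, rfl⟩ := h g
  exact ⟨_, Subgroup.mem_map_of_mem _ hx, _, Subgroup.mem_map_of_mem _ hy, map_mul _ _ _⟩

theorem Fact2.smul {H K : Subgroup G} (h : Fact2 H K) (a : MulAut G) : Fact2 (a • H) (a • K) :=
  h.map _ (MulAction.surjective a)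

/-- Two conjugations of the factors can be realised by one element. -/
theorem Fact2.exists_conj {H K : Subgroup G} (hHK : Fact2 H K) (x y : G) :
    ∃ g : G, (∃ h ∈ H, g = x * h) ∧ ∃ k ∈ K, g = y * k := by
  obtain ⟨h, hh, k, hk, he⟩ := hHK (x⁻¹ * y)
  refine ⟨x * h, ⟨h, hh, rfl⟩, k⁻¹, K.inv_mem hk, ?_⟩
  rw [inv_mul_eq_iff_eq_mul] at he
  rw [he]; group

theorem Fact2.conj {H K : Subgroup G} (hHK : Fact2 H K) (x y : G) :
    Fact2 (MulAut.conj x • H) (MulAut.conj y • K) := by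
  obtain ⟨g, ⟨h, hh, h1⟩, k, hk, h2⟩ := hHK.exists_conj x y
  have := hHK.smul (MulAut.conj g)
  nth_rewrite 1 [h1] at this
  rwa [h2, ← conj_smul_conj_smul, ← conj_smul_conj_smul, Subgroup.conj_smul_eq_self_of_mem hh,
    Subgroup.conj_smul_eq_self_of_mem hk] at this

theorem Fact2.conj_left {H K : Subgroup G} (hHK : Fact2 H K) (x : G) :
    Fact2 (MulAut.conj x • H) K := by simpa only [conj_one_smul] using hHK.conj x 1

theorem Fact2.conj_right {H K : Subgroup G} (hHK : Fact2 H K) (y : G) :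
    Fact2 H (MulAut.conj y • K) := by simpa only [conj_one_smul] using hHK.conj 1 y

/-- Dedekind: a subgroup containing one factor is factorised. -/
theorem Fact2.subgroupOf_left {H K L : Subgroup G} (h : Fact2 H K) (hle : H ≤ L) :
    Fact2 (H.subgroupOf L) (K.subgroupOf L) := by
  intro g
  obtain ⟨a, ha, b, hb, he⟩ := h g
  have hbL : b ∈ L := by
    have := L.mul_mem (L.inv_mem (hle ha)) g.2
    rwa [he, inv_mul_cancel_left] at this
  exact ⟨⟨a, hle ha⟩, ha, ⟨b, hbL⟩, hb, Subtype.ext he⟩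

theorem Fact2.subgroupOf_right {H K L : Subgroup G} (h : Fact2 H K) (hle : K ≤ L) :
    Fact2 (H.subgroupOf L) (K.subgroupOf L) := (h.symm.subgroupOf_left hle).symm

theorem fact2_subgroupOf {H K L : Subgroup G}
    (h : ∀ g ∈ L, ∃ a ∈ L ⊓ H, ∃ b ∈ L ⊓ K, g = a * b) :
    Fact2 (H.subgroupOf L) (K.subgroupOf L) := by
  intro g
  obtain ⟨a, ha, b, hb, he⟩ := h g g.2
  exact ⟨⟨a, ha.1⟩, ha.2, ⟨b, hb.1⟩, hb.2, Subtype.ext he⟩

theorem Fact2.card_mul {H K : Subgroup G} (h : Fact2 H K) :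
    Nat.card G * Nat.card (H ⊓ K : Subgroup G) = Nat.card H * Nat.card K := by
  rw [← card_set_mul_mul_card_inf H K, fact2_iff_set.mp h, Nat.card_coe_set_eq, Set.ncard_univ]

/-- A subgroup permuting with `A` and with `B` permutes with their join. -/
theorem set_mul_comm_sup {A B C : Subgroup G} (hA : (A : Set G) * C = (C : Set G) * A)
    (hB : (B : Set G) * C = (C : Set G) * B) :
    ((A ⊔ B : Subgroup G) : Set G) * C = (C : Set G) * (A ⊔ B : Subgroup G) := by
  have key : ∀ x ∈ A ⊔ B, ∀ c ∈ C, x * c ∈ (C : Set G) * (A ⊔ B : Subgroup G) := by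
    intro x hx
    rw [sup_eq_iSup] at hx
    induction hx using Subgroup.iSup_induction' with
    | hp i x hx =>
      intro c hc
      cases i
      · obtain ⟨c', hc', b, hb, he⟩ : x * c ∈ (C : Set G) * B := hB ▸ Set.mul_mem_mul hx hc
        exact ⟨c', hc', b, Subgroup.mem_sup_right hb, he⟩
      · obtain ⟨c', hc', b, hb, he⟩ : x * c ∈ (C : Set G) * A := hA ▸ Set.mul_mem_mul hx hc
        exact ⟨c', hc', b, Subgroup.mem_sup_left hb, he⟩
    | h1 => exact fun c hc => ⟨c, hc, 1, Subgroup.one_mem _, by simp⟩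
    | hmul x y hx hy ihx ihy =>
      intro c hc
      obtain ⟨c', hc', j, hj, he⟩ := ihy c hc
      obtain ⟨c'', hc'', j', hj', he'⟩ := ihx c' hc'
      refine ⟨c'', hc'', j' * j, Subgroup.mul_mem _ hj' hj, ?_⟩
      have he1 : c' * j = y * c := he
      have he2 : c'' * j' = x * c' := he'
      change c'' * (j' * j) = _
      rw [← mul_assoc, he2, mul_assoc, he1, mul_assoc]
  have h1 : ((A ⊔ B : Subgroup G) : Set G) * C ⊆ (C : Set G) * (A ⊔ B : Subgroup G) := by
    rintro _ ⟨x, hx, c, hc, rfl⟩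
    exact key x hx c hc
  apply h1.antisymm
  have h2 := Set.inv_subset_inv.mpr h1
  rwa [mul_inv_rev, mul_inv_rev, inv_coe_set, inv_coe_set] at h2

theorem set_mul_comm_smul {A B : Subgroup G} (h : (A : Set G) * B = (B : Set G) * A)
    (a : MulAut G) : ((a • A : Subgroup G) : Set G) * (a • B : Subgroup G) =
      ((a • B : Subgroup G) : Set G) * (a • A : Subgroup G) := by
  rw [Subgroup.coe_pointwise_smul, Subgroup.coe_pointwise_smul, ← smul_mul', ← smul_mul', h]

theorem fact2_of_set_mul_comm {A B : Subgroup G} (h : (A : Set G) * B = (B : Set G) * A)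
    (htop : A ⊔ B = ⊤) : Fact2 A B := by
  rw [fact2_iff_set, ← coe_sup_of_set_mul_comm h, htop, Subgroup.coe_top]

variable [Finite G]

theorem mem_normalizer_of_conj_smul_le {H : Subgroup G} {g : G} (h : MulAut.conj g • H ≤ H) :
    g ∈ Subgroup.normalizer (H : Set G) :=
  conj_smul_eq_iff_mem_normalizer.mp (Subgroup.eq_of_le_of_card_ge h (card_smul _ H).ge)

theorem mem_normalizer_of_le_conj_smul {H : Subgroup G} {g : G} (h : H ≤ MulAut.conj g • H) :
    g ∈ Subgroup.normalizer (H : Set G) :=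
  conj_smul_eq_iff_mem_normalizer.mp (Subgroup.eq_of_le_of_card_ge h (card_smul _ H).le).symm

/-- The normalizer of the join of normal subgroups of the factors is factorised. -/
theorem Fact2.normalizer_sup {H K A B : Subgroup G} (hHK : Fact2 H K)
    (hA : H ≤ Subgroup.normalizer (A : Set G)) (hB : K ≤ Subgroup.normalizer (B : Set G)) :
    ∀ g ∈ Subgroup.normalizer ((A ⊔ B : Subgroup G) : Set G),
      ∃ h ∈ Subgroup.normalizer ((A ⊔ B : Subgroup G) : Set G) ⊓ H,
      ∃ k ∈ Subgroup.normalizer ((A ⊔ B : Subgroup G) : Set G) ⊓ K, g = h * k := by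
  intro g hg
  obtain ⟨h, hh, k, hk, rfl⟩ := hHK g
  have h1 : k ∈ Subgroup.normalizer ((A ⊔ B : Subgroup G) : Set G) := by
    apply mem_normalizer_of_le_conj_smul
    refine sup_le ?_ ?_
    · rw [← conj_smul_eq_iff_mem_normalizer, ← conj_smul_conj_smul, smul_eq_iff_eq_inv_smul,
        ← map_inv] at hg
      rw [hg, Subgroup.smul_sup, conj_smul_eq_iff_mem_normalizer.mpr (hA (H.inv_mem hh))]
      exact le_sup_left
    · rw [Subgroup.smul_sup, conj_smul_eq_iff_mem_normalizer.mpr (hB hk)]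
      exact le_sup_right
  refine ⟨h, ⟨?_, hh⟩, k, ⟨h1, hk⟩, rfl⟩
  have := Subgroup.mul_mem _ hg (Subgroup.inv_mem _ h1)
  rwa [mul_inv_cancel_right] at this

/-- In `G = H K` some Sylow `p`-subgroup is the product of Sylow `p`-subgroups of the factors. -/
theorem Fact2.exists_sylow_mul {H K : Subgroup G} (hHK : Fact2 H K) {p : ℕ} (hp : p.Prime) :
    ∃ P Q R : Subgroup G, IsPiHallOf {p} P H ∧ IsPiHallOf {p} Q K ∧ IsPiHall {p} R ∧
      (R : Set G) = (P : Set G) * Q := by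
  obtain ⟨P, hP⟩ := exists_sylowOf hp H
  obtain ⟨Q, hQ⟩ := exists_sylowOf hp K
  obtain ⟨R, hR⟩ := exists_sylowOf hp (⊤ : Subgroup G)
  rw [isPiHallOf_top] at hR
  obtain ⟨x, hx⟩ := le_conj_sylow_top hp hR hP.2.1
  obtain ⟨y, hy⟩ := le_conj_sylow_top hp hR hQ.2.1
  obtain ⟨g, ⟨h, hh, h1⟩, k, hk, h2⟩ := hHK.exists_conj x⁻¹ y⁻¹
  have hP' := isPiHallOf_conj_smul hP (MulAut.conj h⁻¹)
  have hQ' := isPiHallOf_conj_smul hQ (MulAut.conj k⁻¹)
  rw [Subgroup.conj_smul_eq_self_of_mem (H.inv_mem hh)] at hP'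
  rw [Subgroup.conj_smul_eq_self_of_mem (K.inv_mem hk)] at hQ'
  have hR' := isPiHall_smul hR (MulAut.conj g⁻¹)
  have hPR : MulAut.conj h⁻¹ • P ≤ MulAut.conj g⁻¹ • R := by
    rw [h1, mul_inv_rev, inv_inv, ← conj_smul_conj_smul]
    exact Subgroup.pointwise_smul_le_pointwise_smul_iff.mpr hx
  have hQR : MulAut.conj k⁻¹ • Q ≤ MulAut.conj g⁻¹ • R := by
    rw [h2, mul_inv_rev, inv_inv, ← conj_smul_conj_smul]
    exact Subgroup.pointwise_smul_le_pointwise_smul_iff.mpr hy
  refine ⟨_, _, _, hP', hQ', hR', ?_⟩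
  generalize MulAut.conj h⁻¹ • P = P at *
  generalize MulAut.conj k⁻¹ • Q = Q at *
  generalize MulAut.conj g⁻¹ • R = R at *
  symm
  apply Set.eq_of_subset_of_ncard_le (Subgroup.mul_subset hPR hQR)
  rw [← Nat.card_coe_set_eq, ← Nat.card_coe_set_eq]
  apply Nat.le_of_mul_le_mul_right _ (Nat.card_pos (α := (P ⊓ Q : Subgroup G)))
  rw [card_set_mul_mul_card_inf]
  apply Nat.le_of_dvd (Nat.mul_pos Nat.card_pos Nat.card_pos)
  have h3 : Nat.card R * Nat.card (P ⊓ Q : Subgroup G) ∣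
      Nat.card P * Nat.card Q * (P.relIndex H * Q.relIndex K) := by
    have : Nat.card P * Nat.card Q * (P.relIndex H * Q.relIndex K) = Nat.card H * Nat.card K := by
      rw [← card_mul_relIndex hP'.1, ← card_mul_relIndex hQ'.1]; ring
    rw [this, ← hHK.card_mul]
    exact Nat.mul_dvd_mul (Subgroup.card_subgroup_dvd_card R)
      (Subgroup.card_dvd_of_le (inf_le_inf hP'.1 hQ'.1))
  refine Nat.Coprime.dvd_of_dvd_mul_right (coprime_of_pi (π := {p}) (fun r hr hd => ?_)
    fun r hr hrp hd => ?_) h3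
  · rcases (Nat.Prime.dvd_mul hr).mp hd with h4 | h4
    · exact hR'.1 r hr h4
    · exact hP'.2.1 r hr (h4.trans (Subgroup.card_dvd_of_le inf_le_left))
  · rcases (Nat.Prime.dvd_mul hr).mp hd with h4 | h4
    · exact hP'.2.2 r hr hrp h4
    · exact hQ'.2.2 r hr hrp h4

/-- Kegel's lemma. -/
theorem kegel_normal {A B : Subgroup G}
    (h : ∀ x : G, (A : Set G) * (MulAut.conj x • B : Subgroup G) =
      ((MulAut.conj x • B : Subgroup G) : Set G) * A) (hne : A ⊔ B ≠ ⊤) :
    ∃ N : Subgroup G, N.Normal ∧ N ≠ ⊤ ∧ (A ≤ N ∨ B ≤ N) := by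
  obtain ⟨A', ⟨h1, h2, h3⟩, hmax⟩ := exists_maximal_of_wellFoundedGT
    (fun A' : Subgroup G => A ≤ A' ∧ (∀ x : G, (A' : Set G) * (MulAut.conj x • B : Subgroup G) =
      ((MulAut.conj x • B : Subgroup G) : Set G) * A') ∧ A' ⊔ B ≠ ⊤) ⟨A, le_rfl, h, hne⟩
  have h4 : ∀ x : G, MulAut.conj x • B ≤ Subgroup.normalizer (A' : Set G) := by
    intro x b hb
    apply mem_normalizer_of_conj_smul_le
    have h5 : ∀ y : G, ((A' ⊔ MulAut.conj b • A' : Subgroup G) : Set G) *
        (MulAut.conj y • B : Subgroup G) = ((MulAut.conj y • B : Subgroup G) : Set G) *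
        (A' ⊔ MulAut.conj b • A' : Subgroup G) := fun y => by
      refine set_mul_comm_sup (h2 y) ?_
      have := set_mul_comm_smul (h2 (b⁻¹ * y)) (MulAut.conj b)
      rwa [conj_smul_conj_smul, mul_inv_cancel_left] at this
    refine le_sup_right.trans (hmax ⟨h1.trans le_sup_left, h5, fun htop => h3 ?_⟩ le_sup_left)
    have h6 := (fact2_of_set_mul_comm (by simpa only [conj_one_smul] using h5 1) htop).conj_right x
    have h7 : A' ⊔ MulAut.conj x • B = ⊤ := by
      refine h6.eq_top (sup_le le_sup_left ?_) le_sup_right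
      rw [← Subgroup.conj_smul_eq_self_of_mem (Subgroup.mem_sup_right (S := A') hb)]
      exact Subgroup.pointwise_smul_le_pointwise_smul_iff.mpr le_sup_left
    have h8 := (fact2_of_set_mul_comm (h2 x) h7).conj_right x⁻¹
    rw [conj_smul_conj_smul, inv_mul_cancel, conj_one_smul] at h8
    exact h8.eq_top le_sup_left le_sup_right
  by_cases htop : Subgroup.normalClosure (B : Set G) = ⊤
  · refine ⟨A', ?_, fun h => h3 (by rw [h, top_sup_eq]), Or.inl h1⟩
    rw [← Subgroup.normalizer_eq_top_iff, eq_top_iff, ← htop, Subgroup.normalClosure,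
      Subgroup.closure_le]
    intro a ha
    obtain ⟨m, hm, hc⟩ := Group.mem_conjugatesOfSet_iff.mp ha
    obtain ⟨c, rfl⟩ := isConj_iff.mp hc
    exact h4 c (mem_conj_smul.mpr (by simpa [mul_assoc] using hm))
  · exact ⟨_, inferInstance, htop, Or.inr Subgroup.subset_normalClosure⟩

end H4
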