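import Cfsg.Agent.H4.Ico2
import Cfsg.Agent.H49.Chain
import Cfsg.Agent.H71.Env

/-! Lists: small golden integers, the icosian units, representatives of the 315 lines. -/

set_option autoImplicit false
set_option maxRecDepth 100000
set_option Elab.async false

namespace H4.Ico

/-- twice a vector -/
structure V where
  x : Q
  y : Q
  z : Q

def L23 : List (ℕ × Zt) := [(0, ⟨(.ofNat 0), (.ofNat 0)⟩), (2, ⟨(.negSucc 0), (.ofNat 0)⟩), (2, ⟨(.ofNat 1), (.ofNat 0)⟩), (3, ⟨(.ofNat 0), (.negSucc 0)⟩), (3, ⟨(.ofNat 1), (.negSucc 0)⟩), (3, ⟨(.negSucc 0), (.ofNat 1)⟩), (3, ⟨(.ofNat 0), (.ofNat 1)⟩), (7, ⟨(.negSucc 0), (.negSucc 0)⟩), (7, ⟨(.ofNat 2), (.negSucc 0)⟩), (7, ⟨(.negSucc 1), (.ofNat 1)⟩), (7, ⟨(.ofNat 1), (.ofNat 1)⟩), (8, ⟨(.negSucc 1), (.ofNat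 0)⟩), (8, ⟨(.ofNat 2), (.ofNat 0)⟩), (10, ⟨(.ofNat 1), (.negSucc 1)⟩), (10, ⟨(.negSucc 0), (.ofNat 2)⟩), (12, ⟨(.ofNat 0), (.negSucc 1)⟩), (12, ⟨(.ofNat 2), (.negSucc 1)⟩), (12, ⟨(.negSucc 1), (.ofNat 2)⟩), (12, ⟨(.ofNat 0), (.ofNat 2)⟩), (15, ⟨(.negSucc 1), (.negSucc 0)⟩), (15, ⟨(.ofNat 3), (.negSucc 0)⟩), (15, ⟨(.negSucc 2), (.ofNat 1)⟩), (15, ⟨(.ofNat 2), (.ofNat 1)⟩)]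
def UU : List Q := [mq (.negSucc 1) (.ofNat 0) (.ofNat 0) (.ofNat 0) (.ofNat 0) (.ofNat 0) (.ofNat 0) (.ofNat 0),
  mq (.negSucc 0) (.ofNat 0) (.negSucc 0) (.ofNat 0) (.negSucc 0) (.ofNat 0) (.negSucc 0) (.ofNat 0),
  mq (.negSucc 0) (.ofNat 0) (.negSucc 0) (.ofNat 0) (.negSucc 0) (.ofNat 0) (.ofNat 1) (.ofNat 0),
  mq (.negSucc 0) (.ofNat 0) (.negSucc 0) (.ofNat 0) (.ofNat 1) (.ofNat 0) (.negSucc 0) (.ofNat 0),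
  mq (.negSucc 0) (.ofNat 0) (.negSucc 0) (.ofNat 0) (.ofNat 1) (.ofNat 0) (.ofNat 1) (.ofNat 0),
  mq (.negSucc 0) (.ofNat 0) (.negSucc 0) (.ofNat 1) (.ofNat 0) (.ofNat 0) (.ofNat 0) (.negSucc 0),
  mq (.negSucc 0) (.ofNat 0) (.negSucc 0) (.ofNat 1) (.ofNat 0) (.ofNat 0) (.ofNat 0) (.ofNat 1),
  mq (.negSucc 0) (.ofNat 0) (.ofNat 0) (.negSucc 0) (.negSucc 0) (.ofNat 1) (.ofNat 0) (.ofNat 0),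
  mq (.negSucc 0) (.ofNat 0) (.ofNat 0) (.negSucc 0) (.ofNat 1) (.negSucc 0) (.ofNat 0) (.ofNat 0),
  mq (.negSucc 0) (.ofNat 0) (.ofNat 0) (.ofNat 0) (.ofNat 0) (.negSucc 0) (.negSucc 0) (.ofNat 1),
  mq (.negSucc 0) (.ofNat 0) (.ofNat 0) (.ofNat 0) (.ofNat 0) (.negSucc 0) (.ofNat 1) (.negSucc 0),
  mq (.negSucc 0) (.ofNat 0) (.ofNat 0) (.ofNat 0) (.ofNat 0) (.ofNat 1) (.negSucc 0) (.ofNat 1),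
  mq (.negSucc 0) (.ofNat 0) (.ofNat 0) (.ofNat 0) (.ofNat 0) (.ofNat 1) (.ofNat 1) (.negSucc 0),
  mq (.negSucc 0) (.ofNat 0) (.ofNat 0) (.ofNat 1) (.negSucc 0) (.ofNat 1) (.ofNat 0) (.ofNat 0),
  mq (.negSucc 0) (.ofNat 0) (.ofNat 0) (.ofNat 1) (.ofNat 1) (.negSucc 0) (.ofNat 0) (.ofNat 0),
  mq (.negSucc 0) (.ofNat 0) (.ofNat 1) (.negSucc 0) (.ofNat 0) (.ofNat 0) (.ofNat 0) (.negSucc 0),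
  mq (.negSucc 0) (.ofNat 0) (.ofNat 1) (.negSucc 0) (.ofNat 0) (.ofNat 0) (.ofNat 0) (.ofNat 1),
  mq (.negSucc 0) (.ofNat 0) (.ofNat 1) (.ofNat 0) (.negSucc 0) (.ofNat 0) (.negSucc 0) (.ofNat 0),
  mq (.negSucc 0) (.ofNat 0) (.ofNat 1) (.ofNat 0) (.negSucc 0) (.ofNat 0) (.ofNat 1) (.ofNat 0),
  mq (.negSucc 0) (.ofNat 0) (.ofNat 1) (.ofNat 0) (.ofNat 1) (.ofNat 0) (.negSucc 0) (.ofNat 0),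
  mq (.negSucc 0) (.ofNat 0) (.ofNat 1) (.ofNat 0) (.ofNat 1) (.ofNat 0) (.ofNat 1) (.ofNat 0),
  mq (.negSucc 0) (.ofNat 1) (.negSucc 0) (.ofNat 0) (.ofNat 0) (.negSucc 0) (.ofNat 0) (.ofNat 0),
  mq (.negSucc 0) (.ofNat 1) (.negSucc 0) (.ofNat 0) (.ofNat 0) (.ofNat 1) (.ofNat 0) (.ofNat 0),
  mq (.negSucc 0) (.ofNat 1) (.ofNat 0) (.negSucc 0) (.ofNat 0) (.ofNat 0) (.negSucc 0) (.ofNat 0),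
  mq (.negSucc 0) (.ofNat 1) (.ofNat 0) (.negSucc 0) (.ofNat 0) (.ofNat 0) (.ofNat 1) (.ofNat 0),
  mq (.negSucc 0) (.ofNat 1) (.ofNat 0) (.ofNat 0) (.negSucc 0) (.ofNat 0) (.ofNat 0) (.negSucc 0),
  mq (.negSucc 0) (.ofNat 1) (.ofNat 0) (.ofNat 0) (.negSucc 0) (.ofNat 0) (.ofNat 0) (.ofNat 1),
  mq (.negSucc 0) (.ofNat 1) (.ofNat 0) (.ofNat 0) (.ofNat 1) (.ofNat 0) (.ofNat 0) (.negSucc 0),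
  mq (.negSucc 0) (.ofNat 1) (.ofNat 0) (.ofNat 0) (.ofNat 1) (.ofNat 0) (.ofNat 0) (.ofNat 1),
  mq (.negSucc 0) (.ofNat 1) (.ofNat 0) (.ofNat 1) (.ofNat 0) (.ofNat 0) (.negSucc 0) (.ofNat 0),
  mq (.negSucc 0) (.ofNat 1) (.ofNat 0) (.ofNat 1) (.ofNat 0) (.ofNat 0) (.ofNat 1) (.ofNat 0),
  mq (.negSucc 0) (.ofNat 1) (.ofNat 1) (.ofNat 0) (.ofNat 0) (.negSucc 0) (.ofNat 0) (.ofNat 0),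
  mq (.negSucc 0) (.ofNat 1) (.ofNat 1) (.ofNat 0) (.ofNat 0) (.ofNat 1) (.ofNat 0) (.ofNat 0),
  mq (.ofNat 0) (.negSucc 0) (.negSucc 0) (.ofNat 0) (.ofNat 0) (.ofNat 0) (.negSucc 0) (.ofNat 1),
  mq (.ofNat 0) (.negSucc 0) (.negSucc 0) (.ofNat 0) (.ofNat 0) (.ofNat 0) (.ofNat 1) (.negSucc 0),
  mq (.ofNat 0) (.negSucc 0) (.negSucc 0) (.ofNat 1) (.negSucc 0) (.ofNat 0) (.ofNat 0) (.ofNat 0),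
  mq (.ofNat 0) (.negSucc 0) (.negSucc 0) (.ofNat 1) (.ofNat 1) (.ofNat 0) (.ofNat 0) (.ofNat 0),
  mq (.ofNat 0) (.negSucc 0) (.ofNat 0) (.ofNat 0) (.negSucc 0) (.ofNat 1) (.negSucc 0) (.ofNat 0),
  mq (.ofNat 0) (.negSucc 0) (.ofNat 0) (.ofNat 0) (.negSucc 0) (.ofNat 1) (.ofNat 1) (.ofNat 0),
  mq (.ofNat 0) (.negSucc 0) (.ofNat 0) (.ofNat 0) (.ofNat 1) (.negSucc 0) (.negSucc 0) (.ofNat 0),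
  mq (.ofNat 0) (.negSucc 0) (.ofNat 0) (.ofNat 0) (.ofNat 1) (.negSucc 0) (.ofNat 1) (.ofNat 0),
  mq (.ofNat 0) (.negSucc 0) (.ofNat 1) (.negSucc 0) (.negSucc 0) (.ofNat 0) (.ofNat 0) (.ofNat 0),
  mq (.ofNat 0) (.negSucc 0) (.ofNat 1) (.negSucc 0) (.ofNat 1) (.ofNat 0) (.ofNat 0) (.ofNat 0),
  mq (.ofNat 0) (.negSucc 0) (.ofNat 1) (.ofNat 0) (.ofNat 0) (.ofNat 0) (.negSucc 0) (.ofNat 1),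
  mq (.ofNat 0) (.negSucc 0) (.ofNat 1) (.ofNat 0) (.ofNat 0) (.ofNat 0) (.ofNat 1) (.negSucc 0),
  mq (.ofNat 0) (.ofNat 0) (.negSucc 1) (.ofNat 0) (.ofNat 0) (.ofNat 0) (.ofNat 0) (.ofNat 0),
  mq (.ofNat 0) (.ofNat 0) (.negSucc 0) (.ofNat 0) (.negSucc 0) (.ofNat 1) (.ofNat 0) (.negSucc 0),
  mq (.ofNat 0) (.ofNat 0) (.negSucc 0) (.ofNat 0) (.negSucc 0) (.ofNat 1) (.ofNat 0) (.ofNat 1),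
  mq (.ofNat 0) (.ofNat 0) (.negSucc 0) (.ofNat 0) (.ofNat 1) (.negSucc 0) (.ofNat 0) (.negSucc 0),
  mq (.ofNat 0) (.ofNat 0) (.negSucc 0) (.ofNat 0) (.ofNat 1) (.negSucc 0) (.ofNat 0) (.ofNat 1),
  mq (.ofNat 0) (.ofNat 0) (.negSucc 0) (.ofNat 1) (.ofNat 0) (.negSucc 0) (.negSucc 0) (.ofNat 0),
  mq (.ofNat 0) (.ofNat 0) (.negSucc 0) (.ofNat 1) (.ofNat 0) (.negSucc 0) (.ofNat 1) (.ofNat 0),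
  mq (.ofNat 0) (.ofNat 0) (.negSucc 0) (.ofNat 1) (.ofNat 0) (.ofNat 1) (.negSucc 0) (.ofNat 0),
  mq (.ofNat 0) (.ofNat 0) (.negSucc 0) (.ofNat 1) (.ofNat 0) (.ofNat 1) (.ofNat 1) (.ofNat 0),
  mq (.ofNat 0) (.ofNat 0) (.ofNat 0) (.negSucc 0) (.negSucc 0) (.ofNat 0) (.negSucc 0) (.ofNat 1),
  mq (.ofNat 0) (.ofNat 0) (.ofNat 0) (.negSucc 0) (.negSucc 0) (.ofNat 0) (.ofNat 1) (.negSucc 0),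
  mq (.ofNat 0) (.ofNat 0) (.ofNat 0) (.negSucc 0) (.ofNat 1) (.ofNat 0) (.negSucc 0) (.ofNat 1),
  mq (.ofNat 0) (.ofNat 0) (.ofNat 0) (.negSucc 0) (.ofNat 1) (.ofNat 0) (.ofNat 1) (.negSucc 0),
  mq (.ofNat 0) (.ofNat 0) (.ofNat 0) (.ofNat 0) (.negSucc 1) (.ofNat 0) (.ofNat 0) (.ofNat 0),
  mq (.ofNat 0) (.ofNat 0) (.ofNat 0) (.ofNat 0) (.ofNat 0) (.ofNat 0) (.negSucc 1) (.ofNat 0),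
  mq (.ofNat 0) (.ofNat 0) (.ofNat 0) (.ofNat 0) (.ofNat 0) (.ofNat 0) (.ofNat 2) (.ofNat 0),
  mq (.ofNat 0) (.ofNat 0) (.ofNat 0) (.ofNat 0) (.ofNat 2) (.ofNat 0) (.ofNat 0) (.ofNat 0),
  mq (.ofNat 0) (.ofNat 0) (.ofNat 0) (.ofNat 1) (.negSucc 0) (.ofNat 0) (.negSucc 0) (.ofNat 1),
  mq (.ofNat 0) (.ofNat 0) (.ofNat 0) (.ofNat 1) (.negSucc 0) (.ofNat 0) (.ofNat 1) (.negSucc 0),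
  mq (.ofNat 0) (.ofNat 0) (.ofNat 0) (.ofNat 1) (.ofNat 1) (.ofNat 0) (.negSucc 0) (.ofNat 1),
  mq (.ofNat 0) (.ofNat 0) (.ofNat 0) (.ofNat 1) (.ofNat 1) (.ofNat 0) (.ofNat 1) (.negSucc 0),
  mq (.ofNat 0) (.ofNat 0) (.ofNat 1) (.negSucc 0) (.ofNat 0) (.negSucc 0) (.negSucc 0) (.ofNat 0),
  mq (.ofNat 0) (.ofNat 0) (.ofNat 1) (.negSucc 0) (.ofNat 0) (.negSucc 0) (.ofNat 1) (.ofNat 0),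
  mq (.ofNat 0) (.ofNat 0) (.ofNat 1) (.negSucc 0) (.ofNat 0) (.ofNat 1) (.negSucc 0) (.ofNat 0),
  mq (.ofNat 0) (.ofNat 0) (.ofNat 1) (.negSucc 0) (.ofNat 0) (.ofNat 1) (.ofNat 1) (.ofNat 0),
  mq (.ofNat 0) (.ofNat 0) (.ofNat 1) (.ofNat 0) (.negSucc 0) (.ofNat 1) (.ofNat 0) (.negSucc 0),
  mq (.ofNat 0) (.ofNat 0) (.ofNat 1) (.ofNat 0) (.negSucc 0) (.ofNat 1) (.ofNat 0) (.ofNat 1),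
  mq (.ofNat 0) (.ofNat 0) (.ofNat 1) (.ofNat 0) (.ofNat 1) (.negSucc 0) (.ofNat 0) (.negSucc 0),
  mq (.ofNat 0) (.ofNat 0) (.ofNat 1) (.ofNat 0) (.ofNat 1) (.negSucc 0) (.ofNat 0) (.ofNat 1),
  mq (.ofNat 0) (.ofNat 0) (.ofNat 2) (.ofNat 0) (.ofNat 0) (.ofNat 0) (.ofNat 0) (.ofNat 0),
  mq (.ofNat 0) (.ofNat 1) (.negSucc 0) (.ofNat 0) (.ofNat 0) (.ofNat 0) (.negSucc 0) (.ofNat 1),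
  mq (.ofNat 0) (.ofNat 1) (.negSucc 0) (.ofNat 0) (.ofNat 0) (.ofNat 0) (.ofNat 1) (.negSucc 0),
  mq (.ofNat 0) (.ofNat 1) (.negSucc 0) (.ofNat 1) (.negSucc 0) (.ofNat 0) (.ofNat 0) (.ofNat 0),
  mq (.ofNat 0) (.ofNat 1) (.negSucc 0) (.ofNat 1) (.ofNat 1) (.ofNat 0) (.ofNat 0) (.ofNat 0),
  mq (.ofNat 0) (.ofNat 1) (.ofNat 0) (.ofNat 0) (.negSucc 0) (.ofNat 1) (.negSucc 0) (.ofNat 0),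
  mq (.ofNat 0) (.ofNat 1) (.ofNat 0) (.ofNat 0) (.negSucc 0) (.ofNat 1) (.ofNat 1) (.ofNat 0),
  mq (.ofNat 0) (.ofNat 1) (.ofNat 0) (.ofNat 0) (.ofNat 1) (.negSucc 0) (.negSucc 0) (.ofNat 0),
  mq (.ofNat 0) (.ofNat 1) (.ofNat 0) (.ofNat 0) (.ofNat 1) (.negSucc 0) (.ofNat 1) (.ofNat 0),
  mq (.ofNat 0) (.ofNat 1) (.ofNat 1) (.negSucc 0) (.negSucc 0) (.ofNat 0) (.ofNat 0) (.ofNat 0),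
  mq (.ofNat 0) (.ofNat 1) (.ofNat 1) (.negSucc 0) (.ofNat 1) (.ofNat 0) (.ofNat 0) (.ofNat 0),
  mq (.ofNat 0) (.ofNat 1) (.ofNat 1) (.ofNat 0) (.ofNat 0) (.ofNat 0) (.negSucc 0) (.ofNat 1),
  mq (.ofNat 0) (.ofNat 1) (.ofNat 1) (.ofNat 0) (.ofNat 0) (.ofNat 0) (.ofNat 1) (.negSucc 0),
  mq (.ofNat 1) (.negSucc 0) (.negSucc 0) (.ofNat 0) (.ofNat 0) (.negSucc 0) (.ofNat 0) (.ofNat 0),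
  mq (.ofNat 1) (.negSucc 0) (.negSucc 0) (.ofNat 0) (.ofNat 0) (.ofNat 1) (.ofNat 0) (.ofNat 0),
  mq (.ofNat 1) (.negSucc 0) (.ofNat 0) (.negSucc 0) (.ofNat 0) (.ofNat 0) (.negSucc 0) (.ofNat 0),
  mq (.ofNat 1) (.negSucc 0) (.ofNat 0) (.negSucc 0) (.ofNat 0) (.ofNat 0) (.ofNat 1) (.ofNat 0),
  mq (.ofNat 1) (.negSucc 0) (.ofNat 0) (.ofNat 0) (.negSucc 0) (.ofNat 0) (.ofNat 0) (.negSucc 0),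
  mq (.ofNat 1) (.negSucc 0) (.ofNat 0) (.ofNat 0) (.negSucc 0) (.ofNat 0) (.ofNat 0) (.ofNat 1),
  mq (.ofNat 1) (.negSucc 0) (.ofNat 0) (.ofNat 0) (.ofNat 1) (.ofNat 0) (.ofNat 0) (.negSucc 0),
  mq (.ofNat 1) (.negSucc 0) (.ofNat 0) (.ofNat 0) (.ofNat 1) (.ofNat 0) (.ofNat 0) (.ofNat 1),
  mq (.ofNat 1) (.negSucc 0) (.ofNat 0) (.ofNat 1) (.ofNat 0) (.ofNat 0) (.negSucc 0) (.ofNat 0),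
  mq (.ofNat 1) (.negSucc 0) (.ofNat 0) (.ofNat 1) (.ofNat 0) (.ofNat 0) (.ofNat 1) (.ofNat 0),
  mq (.ofNat 1) (.negSucc 0) (.ofNat 1) (.ofNat 0) (.ofNat 0) (.negSucc 0) (.ofNat 0) (.ofNat 0),
  mq (.ofNat 1) (.negSucc 0) (.ofNat 1) (.ofNat 0) (.ofNat 0) (.ofNat 1) (.ofNat 0) (.ofNat 0),
  mq (.ofNat 1) (.ofNat 0) (.negSucc 0) (.ofNat 0) (.negSucc 0) (.ofNat 0) (.negSucc 0) (.ofNat 0),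
  mq (.ofNat 1) (.ofNat 0) (.negSucc 0) (.ofNat 0) (.negSucc 0) (.ofNat 0) (.ofNat 1) (.ofNat 0),
  mq (.ofNat 1) (.ofNat 0) (.negSucc 0) (.ofNat 0) (.ofNat 1) (.ofNat 0) (.negSucc 0) (.ofNat 0),
  mq (.ofNat 1) (.ofNat 0) (.negSucc 0) (.ofNat 0) (.ofNat 1) (.ofNat 0) (.ofNat 1) (.ofNat 0),
  mq (.ofNat 1) (.ofNat 0) (.negSucc 0) (.ofNat 1) (.ofNat 0) (.ofNat 0) (.ofNat 0) (.negSucc 0),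
  mq (.ofNat 1) (.ofNat 0) (.negSucc 0) (.ofNat 1) (.ofNat 0) (.ofNat 0) (.ofNat 0) (.ofNat 1),
  mq (.ofNat 1) (.ofNat 0) (.ofNat 0) (.negSucc 0) (.negSucc 0) (.ofNat 1) (.ofNat 0) (.ofNat 0),
  mq (.ofNat 1) (.ofNat 0) (.ofNat 0) (.negSucc 0) (.ofNat 1) (.negSucc 0) (.ofNat 0) (.ofNat 0),
  mq (.ofNat 1) (.ofNat 0) (.ofNat 0) (.ofNat 0) (.ofNat 0) (.negSucc 0) (.negSucc 0) (.ofNat 1),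
  mq (.ofNat 1) (.ofNat 0) (.ofNat 0) (.ofNat 0) (.ofNat 0) (.negSucc 0) (.ofNat 1) (.negSucc 0),
  mq (.ofNat 1) (.ofNat 0) (.ofNat 0) (.ofNat 0) (.ofNat 0) (.ofNat 1) (.negSucc 0) (.ofNat 1),
  mq (.ofNat 1) (.ofNat 0) (.ofNat 0) (.ofNat 0) (.ofNat 0) (.ofNat 1) (.ofNat 1) (.negSucc 0),
  mq (.ofNat 1) (.ofNat 0) (.ofNat 0) (.ofNat 1) (.negSucc 0) (.ofNat 1) (.ofNat 0) (.ofNat 0),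
  mq (.ofNat 1) (.ofNat 0) (.ofNat 0) (.ofNat 1) (.ofNat 1) (.negSucc 0) (.ofNat 0) (.ofNat 0),
  mq (.ofNat 1) (.ofNat 0) (.ofNat 1) (.negSucc 0) (.ofNat 0) (.ofNat 0) (.ofNat 0) (.negSucc 0),
  mq (.ofNat 1) (.ofNat 0) (.ofNat 1) (.negSucc 0) (.ofNat 0) (.ofNat 0) (.ofNat 0) (.ofNat 1),
  mq (.ofNat 1) (.ofNat 0) (.ofNat 1) (.ofNat 0) (.negSucc 0) (.ofNat 0) (.negSucc 0) (.ofNat 0),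
  mq (.ofNat 1) (.ofNat 0) (.ofNat 1) (.ofNat 0) (.negSucc 0) (.ofNat 0) (.ofNat 1) (.ofNat 0),
  mq (.ofNat 1) (.ofNat 0) (.ofNat 1) (.ofNat 0) (.ofNat 1) (.ofNat 0) (.negSucc 0) (.ofNat 0),
  mq (.ofNat 1) (.ofNat 0) (.ofNat 1) (.ofNat 0) (.ofNat 1) (.ofNat 0) (.ofNat 1) (.ofNat 0),
  mq (.ofNat 2) (.ofNat 0) (.ofNat 0) (.ofNat 0) (.ofNat 0) (.ofNat 0) (.ofNat 0) (.ofNat 0)]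
def E1 : List Q := [mq (.ofNat 1) (.negSucc 1) (.negSucc 0) (.ofNat 0) (.negSucc 0) (.ofNat 0) (.negSucc 0) (.ofNat 0),
  mq (.ofNat 1) (.negSucc 1) (.negSucc 0) (.ofNat 0) (.ofNat 1) (.ofNat 0) (.ofNat 1) (.ofNat 0),
  mq (.ofNat 1) (.negSucc 1) (.ofNat 1) (.ofNat 0) (.negSucc 0) (.ofNat 0) (.ofNat 1) (.ofNat 0),
  mq (.ofNat 1) (.negSucc 1) (.ofNat 1) (.ofNat 0) (.ofNat 1) (.ofNat 0) (.negSucc 0) (.ofNat 0),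
  mq (.ofNat 0) (.negSucc 0) (.ofNat 0) (.negSucc 0) (.ofNat 0) (.negSucc 0) (.ofNat 0) (.ofNat 1),
  mq (.ofNat 0) (.negSucc 0) (.ofNat 0) (.negSucc 0) (.ofNat 0) (.ofNat 1) (.ofNat 0) (.negSucc 0),
  mq (.ofNat 0) (.negSucc 0) (.ofNat 0) (.ofNat 1) (.ofNat 0) (.negSucc 0) (.ofNat 0) (.negSucc 0),
  mq (.ofNat 0) (.negSucc 0) (.ofNat 0) (.ofNat 1) (.ofNat 0) (.ofNat 1) (.ofNat 0) (.ofNat 1),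
  mq (.ofNat 1) (.negSucc 0) (.ofNat 1) (.negSucc 0) (.ofNat 1) (.negSucc 0) (.ofNat 1) (.negSucc 0),
  mq (.ofNat 1) (.negSucc 0) (.ofNat 1) (.negSucc 0) (.negSucc 0) (.ofNat 1) (.negSucc 0) (.ofNat 1),
  mq (.ofNat 1) (.negSucc 0) (.negSucc 0) (.ofNat 1) (.ofNat 1) (.negSucc 0) (.negSucc 0) (.ofNat 1),
  mq (.ofNat 1) (.negSucc 0) (.negSucc 0) (.ofNat 1) (.negSucc 0) (.ofNat 1) (.ofNat 1) (.negSucc 0),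
  mq (.negSucc 1) (.ofNat 0) (.ofNat 0) (.ofNat 0) (.ofNat 0) (.ofNat 0) (.ofNat 0) (.ofNat 0),
  mq (.negSucc 0) (.ofNat 0) (.ofNat 1) (.negSucc 1) (.negSucc 0) (.ofNat 0) (.negSucc 0) (.ofNat 0),
  mq (.negSucc 0) (.ofNat 0) (.ofNat 1) (.negSucc 1) (.ofNat 1) (.ofNat 0) (.ofNat 1) (.ofNat 0),
  mq (.negSucc 0) (.ofNat 0) (.negSucc 0) (.ofNat 0) (.ofNat 1) (.negSucc 1) (.negSucc 0) (.ofNat 0),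
  mq (.negSucc 0) (.ofNat 0) (.negSucc 0) (.ofNat 0) (.negSucc 0) (.ofNat 0) (.ofNat 1) (.negSucc 1),
  mq (.negSucc 0) (.ofNat 0) (.negSucc 0) (.ofNat 0) (.ofNat 1) (.ofNat 0) (.negSucc 0) (.ofNat 2),
  mq (.negSucc 0) (.ofNat 0) (.negSucc 0) (.ofNat 0) (.negSucc 0) (.ofNat 2) (.ofNat 1) (.ofNat 0),
  mq (.negSucc 0) (.ofNat 0) (.ofNat 1) (.ofNat 0) (.ofNat 1) (.negSucc 1) (.ofNat 1) (.ofNat 0),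
  mq (.negSucc 0) (.ofNat 0) (.ofNat 1) (.ofNat 0) (.negSucc 0) (.ofNat 0) (.negSucc 0) (.ofNat 2),
  mq (.negSucc 0) (.ofNat 0) (.ofNat 1) (.ofNat 0) (.ofNat 1) (.ofNat 0) (.ofNat 1) (.negSucc 1),
  mq (.negSucc 0) (.ofNat 0) (.ofNat 1) (.ofNat 0) (.negSucc 0) (.ofNat 2) (.negSucc 0) (.ofNat 0),
  mq (.negSucc 0) (.ofNat 0) (.negSucc 0) (.ofNat 2) (.negSucc 0) (.ofNat 0) (.ofNat 1) (.ofNat 0),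
  mq (.negSucc 0) (.ofNat 0) (.negSucc 0) (.ofNat 2) (.ofNat 1) (.ofNat 0) (.negSucc 0) (.ofNat 0),
  mq (.ofNat 0) (.ofNat 0) (.negSucc 1) (.ofNat 0) (.ofNat 0) (.ofNat 0) (.ofNat 0) (.ofNat 0),
  mq (.ofNat 0) (.ofNat 0) (.ofNat 0) (.ofNat 0) (.negSucc 1) (.ofNat 0) (.ofNat 0) (.ofNat 0),
  mq (.ofNat 0) (.ofNat 0) (.ofNat 0) (.ofNat 0) (.ofNat 0) (.ofNat 0) (.negSucc 1) (.ofNat 0),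
  mq (.ofNat 0) (.ofNat 0) (.ofNat 0) (.ofNat 0) (.ofNat 0) (.ofNat 0) (.ofNat 2) (.ofNat 0),
  mq (.ofNat 0) (.ofNat 0) (.ofNat 0) (.ofNat 0) (.ofNat 2) (.ofNat 0) (.ofNat 0) (.ofNat 0),
  mq (.ofNat 0) (.ofNat 0) (.ofNat 2) (.ofNat 0) (.ofNat 0) (.ofNat 0) (.ofNat 0) (.ofNat 0),
  mq (.ofNat 1) (.ofNat 0) (.ofNat 1) (.negSucc 1) (.negSucc 0) (.ofNat 0) (.ofNat 1) (.ofNat 0),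
  mq (.ofNat 1) (.ofNat 0) (.ofNat 1) (.negSucc 1) (.ofNat 1) (.ofNat 0) (.negSucc 0) (.ofNat 0),
  mq (.ofNat 1) (.ofNat 0) (.negSucc 0) (.ofNat 0) (.ofNat 1) (.negSucc 1) (.ofNat 1) (.ofNat 0),
  mq (.ofNat 1) (.ofNat 0) (.negSucc 0) (.ofNat 0) (.negSucc 0) (.ofNat 0) (.negSucc 0) (.ofNat 2),
  mq (.ofNat 1) (.ofNat 0) (.negSucc 0) (.ofNat 0) (.ofNat 1) (.ofNat 0) (.ofNat 1) (.negSucc 1),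
  mq (.ofNat 1) (.ofNat 0) (.negSucc 0) (.ofNat 0) (.negSucc 0) (.ofNat 2) (.negSucc 0) (.ofNat 0),
  mq (.ofNat 1) (.ofNat 0) (.ofNat 1) (.ofNat 0) (.ofNat 1) (.negSucc 1) (.negSucc 0) (.ofNat 0),
  mq (.ofNat 1) (.ofNat 0) (.ofNat 1) (.ofNat 0) (.negSucc 0) (.ofNat 0) (.ofNat 1) (.negSucc 1),
  mq (.ofNat 1) (.ofNat 0) (.ofNat 1) (.ofNat 0) (.ofNat 1) (.ofNat 0) (.negSucc 0) (.ofNat 2),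
  mq (.ofNat 1) (.ofNat 0) (.ofNat 1) (.ofNat 0) (.negSucc 0) (.ofNat 2) (.ofNat 1) (.ofNat 0),
  mq (.ofNat 1) (.ofNat 0) (.negSucc 0) (.ofNat 2) (.negSucc 0) (.ofNat 0) (.negSucc 0) (.ofNat 0),
  mq (.ofNat 1) (.ofNat 0) (.negSucc 0) (.ofNat 2) (.ofNat 1) (.ofNat 0) (.ofNat 1) (.ofNat 0),
  mq (.ofNat 2) (.ofNat 0) (.ofNat 0) (.ofNat 0) (.ofNat 0) (.ofNat 0) (.ofNat 0) (.ofNat 0),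
  mq (.negSucc 0) (.ofNat 1) (.ofNat 1) (.negSucc 0) (.ofNat 1) (.negSucc 0) (.negSucc 0) (.ofNat 1),
  mq (.negSucc 0) (.ofNat 1) (.ofNat 1) (.negSucc 0) (.negSucc 0) (.ofNat 1) (.ofNat 1) (.negSucc 0),
  mq (.negSucc 0) (.ofNat 1) (.negSucc 0) (.ofNat 1) (.ofNat 1) (.negSucc 0) (.ofNat 1) (.negSucc 0),
  mq (.negSucc 0) (.ofNat 1) (.negSucc 0) (.ofNat 1) (.negSucc 0) (.ofNat 1) (.negSucc 0) (.ofNat 1),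
  mq (.ofNat 0) (.ofNat 1) (.ofNat 0) (.negSucc 0) (.ofNat 0) (.negSucc 0) (.ofNat 0) (.negSucc 0),
  mq (.ofNat 0) (.ofNat 1) (.ofNat 0) (.negSucc 0) (.ofNat 0) (.ofNat 1) (.ofNat 0) (.ofNat 1),
  mq (.ofNat 0) (.ofNat 1) (.ofNat 0) (.ofNat 1) (.ofNat 0) (.negSucc 0) (.ofNat 0) (.ofNat 1),
  mq (.ofNat 0) (.ofNat 1) (.ofNat 0) (.ofNat 1) (.ofNat 0) (.ofNat 1) (.ofNat 0) (.negSucc 0),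
  mq (.negSucc 0) (.ofNat 2) (.negSucc 0) (.ofNat 0) (.negSucc 0) (.ofNat 0) (.ofNat 1) (.ofNat 0),
  mq (.negSucc 0) (.ofNat 2) (.negSucc 0) (.ofNat 0) (.ofNat 1) (.ofNat 0) (.negSucc 0) (.ofNat 0),
  mq (.negSucc 0) (.ofNat 2) (.ofNat 1) (.ofNat 0) (.negSucc 0) (.ofNat 0) (.negSucc 0) (.ofNat 0),
  mq (.negSucc 0) (.ofNat 2) (.ofNat 1) (.ofNat 0) (.ofNat 1) (.ofNat 0) (.ofNat 1) (.ofNat 0)]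
def LR0 : List V := [⟨mq (.ofNat 1) (.negSucc 1) (.ofNat 1) (.ofNat 0) (.ofNat 1) (.ofNat 0) (.ofNat 1) (.ofNat 0), mq (.negSucc 0) (.ofNat 2) (.negSucc 0) (.ofNat 0) (.negSucc 0) (.ofNat 0) (.negSucc 0) (.ofNat 0), mq (.ofNat 0) (.ofNat 0) (.ofNat 0) (.ofNat 0) (.ofNat 0) (.ofNat 0) (.ofNat 0) (.ofNat 0)⟩,
  ⟨mq (.ofNat 2) (.ofNat 0) (.ofNat 0) (.ofNat 0) (.ofNat 0) (.ofNat 0) (.ofNat 0) (.ofNat 0), mq (.negSucc 1) (.ofNat 0) (.ofNat 0) (.ofNat 0) (.ofNat 0) (.ofNat 0) (.ofNat 0) (.ofNat 0), mq (.negSucc 0) (.ofNat 0) (.negSucc 0) (.ofNat 0) (.ofNat 1) (.ofNat 0) (.negSucc 0) (.ofNat 2)⟩,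
  ⟨mq (.ofNat 2) (.ofNat 0) (.ofNat 0) (.ofNat 0) (.ofNat 0) (.ofNat 0) (.ofNat 0) (.ofNat 0), mq (.negSucc 1) (.ofNat 0) (.ofNat 0) (.ofNat 0) (.ofNat 0) (.ofNat 0) (.ofNat 0) (.ofNat 0), mq (.negSucc 0) (.ofNat 0) (.negSucc 0) (.ofNat 2) (.negSucc 0) (.ofNat 0) (.ofNat 1) (.ofNat 0)⟩,
  ⟨mq (.ofNat 2) (.ofNat 0) (.ofNat 0) (.ofNat 0) (.ofNat 0) (.ofNat 0) (.ofNat 0) (.ofNat 0), mq (.negSucc 1) (.ofNat 0) (.ofNat 0) (.ofNat 0) (.ofNat 0) (.ofNat 0) (.ofNat 0) (.ofNat 0), mq (.negSucc 0) (.ofNat 0) (.ofNat 1) (.ofNat 0) (.negSucc 0) (.ofNat 2) (.negSucc 0) (.ofNat 0)⟩,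
  ⟨mq (.ofNat 2) (.ofNat 0) (.ofNat 0) (.ofNat 0) (.ofNat 0) (.ofNat 0) (.ofNat 0) (.ofNat 0), mq (.negSucc 1) (.ofNat 0) (.ofNat 0) (.ofNat 0) (.ofNat 0) (.ofNat 0) (.ofNat 0) (.ofNat 0), mq (.negSucc 0) (.ofNat 2) (.ofNat 1) (.ofNat 0) (.ofNat 1) (.ofNat 0) (.ofNat 1) (.ofNat 0)⟩,
  ⟨mq (.ofNat 2) (.ofNat 0) (.ofNat 0) (.ofNat 0) (.ofNat 0) (.ofNat 0) (.ofNat 0) (.ofNat 0), mq (.negSucc 1) (.ofNat 0) (.ofNat 0) (.ofNat 0) (.ofNat 0) (.ofNat 0) (.ofNat 0) (.ofNat 0), mq (.ofNat 1) (.negSucc 1) (.negSucc 0) (.ofNat 0) (.negSucc 0) (.ofNat 0) (.negSucc 0) (.ofNat 0)⟩,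
  ⟨mq (.ofNat 2) (.ofNat 0) (.ofNat 0) (.ofNat 0) (.ofNat 0) (.ofNat 0) (.ofNat 0) (.ofNat 0), mq (.negSucc 1) (.ofNat 0) (.ofNat 0) (.ofNat 0) (.ofNat 0) (.ofNat 0) (.ofNat 0) (.ofNat 0), mq (.ofNat 1) (.ofNat 0) (.negSucc 0) (.ofNat 0) (.ofNat 1) (.negSucc 1) (.ofNat 1) (.ofNat 0)⟩,
  ⟨mq (.ofNat 2) (.ofNat 0) (.ofNat 0) (.ofNat 0) (.ofNat 0) (.ofNat 0) (.ofNat 0) (.ofNat 0), mq (.negSucc 1) (.ofNat 0) (.ofNat 0) (.ofNat 0) (.ofNat 0) (.ofNat 0) (.ofNat 0) (.ofNat 0), mq (.ofNat 1) (.ofNat 0) (.ofNat 1) (.negSucc 1) (.ofNat 1) (.ofNat 0) (.negSucc 0) (.ofNat 0)⟩,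
  ⟨mq (.ofNat 2) (.ofNat 0) (.ofNat 0) (.ofNat 0) (.ofNat 0) (.ofNat 0) (.ofNat 0) (.ofNat 0), mq (.negSucc 1) (.ofNat 0) (.ofNat 0) (.ofNat 0) (.ofNat 0) (.ofNat 0) (.ofNat 0) (.ofNat 0), mq (.ofNat 1) (.ofNat 0) (.ofNat 1) (.ofNat 0) (.negSucc 0) (.ofNat 0) (.ofNat 1) (.negSucc 1)⟩,
  ⟨mq (.negSucc 0) (.ofNat 1) (.negSucc 0) (.ofNat 1) (.negSucc 0) (.ofNat 1) (.negSucc 0) (.ofNat 1), mq (.ofNat 0) (.ofNat 1) (.ofNat 0) (.negSucc 0) (.ofNat 0) (.negSucc 0) (.ofNat 0) (.negSucc 0), mq (.ofNat 2) (.ofNat 0) (.ofNat 0) (.ofNat 0) (.ofNat 0) (.ofNat 0) (.ofNat 0) (.ofNat 0)⟩,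
  ⟨mq (.ofNat 1) (.negSucc 0) (.ofNat 1) (.negSucc 0) (.ofNat 1) (.negSucc 0) (.ofNat 1) (.negSucc 0), mq (.ofNat 0) (.negSucc 0) (.ofNat 0) (.ofNat 1) (.ofNat 0) (.ofNat 1) (.ofNat 0) (.ofNat 1), mq (.ofNat 2) (.ofNat 0) (.ofNat 0) (.ofNat 0) (.ofNat 0) (.ofNat 0) (.ofNat 0) (.ofNat 0)⟩,
  ⟨mq (.negSucc 0) (.ofNat 0) (.ofNat 1) (.ofNat 0) (.ofNat 1) (.ofNat 0) (.ofNat 1) (.negSucc 1), mq (.ofNat 2) (.ofNat 0) (.ofNat 0) (.ofNat 0) (.ofNat 0) (.ofNat 0) (.ofNat 0) (.ofNat 0), mq (.ofNat 0) (.ofNat 0) (.ofNat 0) (.ofNat 0) (.negSucc 1) (.ofNat 0) (.ofNat 0) (.ofNat 0)⟩,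
  ⟨mq (.negSucc 0) (.ofNat 0) (.ofNat 1) (.ofNat 0) (.ofNat 1) (.ofNat 0) (.ofNat 1) (.negSucc 1), mq (.ofNat 2) (.ofNat 0) (.ofNat 0) (.ofNat 0) (.ofNat 0) (.ofNat 0) (.ofNat 0) (.ofNat 0), mq (.ofNat 0) (.ofNat 0) (.ofNat 0) (.ofNat 0) (.ofNat 2) (.ofNat 0) (.ofNat 0) (.ofNat 0)⟩,
  ⟨mq (.ofNat 2) (.ofNat 0) (.ofNat 0) (.ofNat 0) (.ofNat 0) (.ofNat 0) (.ofNat 0) (.ofNat 0), mq (.negSucc 0) (.ofNat 0) (.negSucc 0) (.ofNat 0) (.negSucc 0) (.ofNat 0) (.ofNat 1) (.negSucc 1), mq (.ofNat 0) (.ofNat 0) (.negSucc 1) (.ofNat 0) (.ofNat 0) (.ofNat 0) (.ofNat 0) (.ofNat 0)⟩,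
  ⟨mq (.ofNat 2) (.ofNat 0) (.ofNat 0) (.ofNat 0) (.ofNat 0) (.ofNat 0) (.ofNat 0) (.ofNat 0), mq (.negSucc 0) (.ofNat 0) (.negSucc 0) (.ofNat 0) (.negSucc 0) (.ofNat 0) (.ofNat 1) (.negSucc 1), mq (.ofNat 0) (.ofNat 0) (.ofNat 2) (.ofNat 0) (.ofNat 0) (.ofNat 0) (.ofNat 0) (.ofNat 0)⟩,
  ⟨mq (.ofNat 0) (.negSucc 0) (.ofNat 0) (.ofNat 1) (.ofNat 0) (.negSucc 0) (.ofNat 0) (.negSucc 0), mq (.negSucc 0) (.ofNat 1) (.ofNat 1) (.negSucc 0) (.negSucc 0) (.ofNat 1) (.ofNat 1) (.negSucc 0), mq (.ofNat 2) (.ofNat 0) (.ofNat 0) (.ofNat 0) (.ofNat 0) (.ofNat 0) (.ofNat 0) (.ofNat 0)⟩,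
  ⟨mq (.ofNat 0) (.ofNat 1) (.ofNat 0) (.negSucc 0) (.ofNat 0) (.ofNat 1) (.ofNat 0) (.ofNat 1), mq (.ofNat 1) (.negSucc 0) (.negSucc 0) (.ofNat 1) (.ofNat 1) (.negSucc 0) (.negSucc 0) (.ofNat 1), mq (.ofNat 2) (.ofNat 0) (.ofNat 0) (.ofNat 0) (.ofNat 0) (.ofNat 0) (.ofNat 0) (.ofNat 0)⟩,
  ⟨mq (.negSucc 0) (.ofNat 0) (.ofNat 1) (.ofNat 0) (.ofNat 1) (.negSucc 1) (.ofNat 1) (.ofNat 0), mq (.ofNat 2) (.ofNat 0) (.ofNat 0) (.ofNat 0) (.ofNat 0) (.ofNat 0) (.ofNat 0) (.ofNat 0), mq (.ofNat 0) (.ofNat 0) (.negSucc 1) (.ofNat 0) (.ofNat 0) (.ofNat 0) (.ofNat 0) (.ofNat 0)⟩,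
  ⟨mq (.negSucc 0) (.ofNat 0) (.ofNat 1) (.ofNat 0) (.ofNat 1) (.negSucc 1) (.ofNat 1) (.ofNat 0), mq (.ofNat 2) (.ofNat 0) (.ofNat 0) (.ofNat 0) (.ofNat 0) (.ofNat 0) (.ofNat 0) (.ofNat 0), mq (.ofNat 0) (.ofNat 0) (.ofNat 2) (.ofNat 0) (.ofNat 0) (.ofNat 0) (.ofNat 0) (.ofNat 0)⟩,
  ⟨mq (.ofNat 2) (.ofNat 0) (.ofNat 0) (.ofNat 0) (.ofNat 0) (.ofNat 0) (.ofNat 0) (.ofNat 0), mq (.negSucc 0) (.ofNat 0) (.negSucc 0) (.ofNat 0) (.negSucc 0) (.ofNat 2) (.ofNat 1) (.ofNat 0), mq (.ofNat 0) (.ofNat 0) (.ofNat 0) (.ofNat 0) (.negSucc 1) (.ofNat 0) (.ofNat 0) (.ofNat 0)⟩,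
  ⟨mq (.ofNat 2) (.ofNat 0) (.ofNat 0) (.ofNat 0) (.ofNat 0) (.ofNat 0) (.ofNat 0) (.ofNat 0), mq (.negSucc 0) (.ofNat 0) (.negSucc 0) (.ofNat 0) (.negSucc 0) (.ofNat 2) (.ofNat 1) (.ofNat 0), mq (.ofNat 0) (.ofNat 0) (.ofNat 0) (.ofNat 0) (.ofNat 2) (.ofNat 0) (.ofNat 0) (.ofNat 0)⟩,
  ⟨mq (.ofNat 2) (.ofNat 0) (.ofNat 0) (.ofNat 0) (.ofNat 0) (.ofNat 0) (.ofNat 0) (.ofNat 0), mq (.negSucc 0) (.ofNat 0) (.negSucc 0) (.ofNat 0) (.ofNat 1) (.negSucc 1) (.negSucc 0) (.ofNat 0), mq (.ofNat 0) (.ofNat 0) (.ofNat 0) (.ofNat 0) (.ofNat 0) (.ofNat 0) (.negSucc 1) (.ofNat 0)⟩,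
  ⟨mq (.ofNat 2) (.ofNat 0) (.ofNat 0) (.ofNat 0) (.ofNat 0) (.ofNat 0) (.ofNat 0) (.ofNat 0), mq (.negSucc 0) (.ofNat 0) (.negSucc 0) (.ofNat 0) (.ofNat 1) (.negSucc 1) (.negSucc 0) (.ofNat 0), mq (.ofNat 0) (.ofNat 0) (.ofNat 0) (.ofNat 0) (.ofNat 0) (.ofNat 0) (.ofNat 2) (.ofNat 0)⟩,
  ⟨mq (.negSucc 0) (.ofNat 0) (.ofNat 1) (.ofNat 0) (.negSucc 0) (.ofNat 2) (.negSucc 0) (.ofNat 0), mq (.ofNat 2) (.ofNat 0) (.ofNat 0) (.ofNat 0) (.ofNat 0) (.ofNat 0) (.ofNat 0) (.ofNat 0), mq (.ofNat 2) (.ofNat 0) (.ofNat 0) (.ofNat 0) (.ofNat 0) (.ofNat 0) (.ofNat 0) (.ofNat 0)⟩,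
  ⟨mq (.negSucc 0) (.ofNat 0) (.ofNat 1) (.ofNat 0) (.negSucc 0) (.ofNat 2) (.negSucc 0) (.ofNat 0), mq (.ofNat 2) (.ofNat 0) (.ofNat 0) (.ofNat 0) (.ofNat 0) (.ofNat 0) (.ofNat 0) (.ofNat 0), mq (.negSucc 1) (.ofNat 0) (.ofNat 0) (.ofNat 0) (.ofNat 0) (.ofNat 0) (.ofNat 0) (.ofNat 0)⟩,
  ⟨mq (.ofNat 0) (.negSucc 0) (.ofNat 0) (.negSucc 0) (.ofNat 0) (.negSucc 0) (.ofNat 0) (.ofNat 1), mq (.negSucc 0) (.ofNat 1) (.negSucc 0) (.ofNat 1) (.ofNat 1) (.negSucc 0) (.ofNat 1) (.negSucc 0), mq (.ofNat 2) (.ofNat 0) (.ofNat 0) (.ofNat 0) (.ofNat 0) (.ofNat 0) (.ofNat 0) (.ofNat 0)⟩,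
  ⟨mq (.ofNat 0) (.ofNat 1) (.ofNat 0) (.ofNat 1) (.ofNat 0) (.ofNat 1) (.ofNat 0) (.negSucc 0), mq (.ofNat 1) (.negSucc 0) (.ofNat 1) (.negSucc 0) (.negSucc 0) (.ofNat 1) (.negSucc 0) (.ofNat 1), mq (.ofNat 2) (.ofNat 0) (.ofNat 0) (.ofNat 0) (.ofNat 0) (.ofNat 0) (.ofNat 0) (.ofNat 0)⟩,
  ⟨mq (.ofNat 2) (.ofNat 0) (.ofNat 0) (.ofNat 0) (.ofNat 0) (.ofNat 0) (.ofNat 0) (.ofNat 0), mq (.negSucc 0) (.ofNat 0) (.negSucc 0) (.ofNat 0) (.ofNat 1) (.ofNat 0) (.negSucc 0) (.ofNat 2), mq (.negSucc 1) (.ofNat 0) (.ofNat 0) (.ofNat 0) (.ofNat 0) (.ofNat 0) (.ofNat 0) (.ofNat 0)⟩,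
  ⟨mq (.ofNat 2) (.ofNat 0) (.ofNat 0) (.ofNat 0) (.ofNat 0) (.ofNat 0) (.ofNat 0) (.ofNat 0), mq (.negSucc 0) (.ofNat 0) (.negSucc 0) (.ofNat 0) (.ofNat 1) (.ofNat 0) (.negSucc 0) (.ofNat 2), mq (.ofNat 2) (.ofNat 0) (.ofNat 0) (.ofNat 0) (.ofNat 0) (.ofNat 0) (.ofNat 0) (.ofNat 0)⟩,
  ⟨mq (.negSucc 0) (.ofNat 0) (.ofNat 1) (.ofNat 0) (.negSucc 0) (.ofNat 0) (.negSucc 0) (.ofNat 2), mq (.ofNat 2) (.ofNat 0) (.ofNat 0) (.ofNat 0) (.ofNat 0) (.ofNat 0) (.ofNat 0) (.ofNat 0), mq (.ofNat 0) (.ofNat 0) (.ofNat 0) (.ofNat 0) (.ofNat 0) (.ofNat 0) (.ofNat 2) (.ofNat 0)⟩,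
  ⟨mq (.negSucc 0) (.ofNat 0) (.ofNat 1) (.ofNat 0) (.negSucc 0) (.ofNat 0) (.negSucc 0) (.ofNat 2), mq (.ofNat 2) (.ofNat 0) (.ofNat 0) (.ofNat 0) (.ofNat 0) (.ofNat 0) (.ofNat 0) (.ofNat 0), mq (.ofNat 0) (.ofNat 0) (.ofNat 0) (.ofNat 0) (.ofNat 0) (.ofNat 0) (.negSucc 1) (.ofNat 0)⟩,
  ⟨mq (.negSucc 0) (.ofNat 1) (.ofNat 1) (.negSucc 0) (.ofNat 1) (.negSucc 0) (.negSucc 0) (.ofNat 1), mq (.ofNat 0) (.negSucc 0) (.ofNat 0) (.negSucc 0) (.ofNat 0) (.ofNat 1) (.ofNat 0) (.negSucc 0), mq (.ofNat 2) (.ofNat 0) (.ofNat 0) (.ofNat 0) (.ofNat 0) (.ofNat 0) (.ofNat 0) (.ofNat 0)⟩,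
  ⟨mq (.ofNat 1) (.negSucc 0) (.negSucc 0) (.ofNat 1) (.negSucc 0) (.ofNat 1) (.ofNat 1) (.negSucc 0), mq (.ofNat 0) (.ofNat 1) (.ofNat 0) (.ofNat 1) (.ofNat 0) (.negSucc 0) (.ofNat 0) (.ofNat 1), mq (.ofNat 2) (.ofNat 0) (.ofNat 0) (.ofNat 0) (.ofNat 0) (.ofNat 0) (.ofNat 0) (.ofNat 0)⟩,
  ⟨mq (.negSucc 0) (.ofNat 0) (.ofNat 1) (.negSucc 1) (.ofNat 1) (.ofNat 0) (.ofNat 1) (.ofNat 0), mq (.ofNat 2) (.ofNat 0) (.ofNat 0) (.ofNat 0) (.ofNat 0) (.ofNat 0) (.ofNat 0) (.ofNat 0), mq (.ofNat 0) (.ofNat 0) (.ofNat 0) (.ofNat 0) (.ofNat 0) (.ofNat 0) (.negSucc 1) (.ofNat 0)⟩,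
  ⟨mq (.negSucc 0) (.ofNat 0) (.ofNat 1) (.negSucc 1) (.ofNat 1) (.ofNat 0) (.ofNat 1) (.ofNat 0), mq (.ofNat 2) (.ofNat 0) (.ofNat 0) (.ofNat 0) (.ofNat 0) (.ofNat 0) (.ofNat 0) (.ofNat 0), mq (.ofNat 0) (.ofNat 0) (.ofNat 0) (.ofNat 0) (.ofNat 0) (.ofNat 0) (.ofNat 2) (.ofNat 0)⟩,
  ⟨mq (.ofNat 2) (.ofNat 0) (.ofNat 0) (.ofNat 0) (.ofNat 0) (.ofNat 0) (.ofNat 0) (.ofNat 0), mq (.negSucc 0) (.ofNat 0) (.negSucc 0) (.ofNat 2) (.negSucc 0) (.ofNat 0) (.ofNat 1) (.ofNat 0), mq (.negSucc 1) (.ofNat 0) (.ofNat 0) (.ofNat 0) (.ofNat 0) (.ofNat 0) (.ofNat 0) (.ofNat 0)⟩,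
  ⟨mq (.ofNat 2) (.ofNat 0) (.ofNat 0) (.ofNat 0) (.ofNat 0) (.ofNat 0) (.ofNat 0) (.ofNat 0), mq (.negSucc 0) (.ofNat 0) (.negSucc 0) (.ofNat 2) (.negSucc 0) (.ofNat 0) (.ofNat 1) (.ofNat 0), mq (.ofNat 2) (.ofNat 0) (.ofNat 0) (.ofNat 0) (.ofNat 0) (.ofNat 0) (.ofNat 0) (.ofNat 0)⟩,
  ⟨mq (.ofNat 2) (.ofNat 0) (.ofNat 0) (.ofNat 0) (.ofNat 0) (.ofNat 0) (.ofNat 0) (.ofNat 0), mq (.negSucc 0) (.ofNat 0) (.negSucc 0) (.ofNat 2) (.ofNat 1) (.ofNat 0) (.negSucc 0) (.ofNat 0), mq (.ofNat 0) (.ofNat 0) (.negSucc 1) (.ofNat 0) (.ofNat 0) (.ofNat 0) (.ofNat 0) (.ofNat 0)⟩,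
  ⟨mq (.ofNat 2) (.ofNat 0) (.ofNat 0) (.ofNat 0) (.ofNat 0) (.ofNat 0) (.ofNat 0) (.ofNat 0), mq (.negSucc 0) (.ofNat 0) (.negSucc 0) (.ofNat 2) (.ofNat 1) (.ofNat 0) (.negSucc 0) (.ofNat 0), mq (.ofNat 0) (.ofNat 0) (.ofNat 2) (.ofNat 0) (.ofNat 0) (.ofNat 0) (.ofNat 0) (.ofNat 0)⟩,
  ⟨mq (.negSucc 0) (.ofNat 0) (.ofNat 1) (.negSucc 1) (.negSucc 0) (.ofNat 0) (.negSucc 0) (.ofNat 0), mq (.ofNat 2) (.ofNat 0) (.ofNat 0) (.ofNat 0) (.ofNat 0) (.ofNat 0) (.ofNat 0) (.ofNat 0), mq (.ofNat 0) (.ofNat 0) (.ofNat 0) (.ofNat 0) (.ofNat 2) (.ofNat 0) (.ofNat 0) (.ofNat 0)⟩,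
  ⟨mq (.negSucc 0) (.ofNat 0) (.ofNat 1) (.negSucc 1) (.negSucc 0) (.ofNat 0) (.negSucc 0) (.ofNat 0), mq (.ofNat 2) (.ofNat 0) (.ofNat 0) (.ofNat 0) (.ofNat 0) (.ofNat 0) (.ofNat 0) (.ofNat 0), mq (.ofNat 0) (.ofNat 0) (.ofNat 0) (.ofNat 0) (.negSucc 1) (.ofNat 0) (.ofNat 0) (.ofNat 0)⟩,
  ⟨mq (.ofNat 2) (.ofNat 0) (.ofNat 0) (.ofNat 0) (.ofNat 0) (.ofNat 0) (.ofNat 0) (.ofNat 0), mq (.negSucc 0) (.ofNat 0) (.ofNat 1) (.negSucc 1) (.negSucc 0) (.ofNat 0) (.negSucc 0) (.ofNat 0), mq (.ofNat 0) (.ofNat 0) (.ofNat 0) (.ofNat 0) (.negSucc 1) (.ofNat 0) (.ofNat 0) (.ofNat 0)⟩,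
  ⟨mq (.ofNat 2) (.ofNat 0) (.ofNat 0) (.ofNat 0) (.ofNat 0) (.ofNat 0) (.ofNat 0) (.ofNat 0), mq (.negSucc 0) (.ofNat 0) (.ofNat 1) (.negSucc 1) (.negSucc 0) (.ofNat 0) (.negSucc 0) (.ofNat 0), mq (.ofNat 0) (.ofNat 0) (.ofNat 0) (.ofNat 0) (.ofNat 2) (.ofNat 0) (.ofNat 0) (.ofNat 0)⟩,
  ⟨mq (.negSucc 0) (.ofNat 0) (.negSucc 0) (.ofNat 2) (.ofNat 1) (.ofNat 0) (.negSucc 0) (.ofNat 0), mq (.ofNat 2) (.ofNat 0) (.ofNat 0) (.ofNat 0) (.ofNat 0) (.ofNat 0) (.ofNat 0) (.ofNat 0), mq (.ofNat 0) (.ofNat 0) (.ofNat 2) (.ofNat 0) (.ofNat 0) (.ofNat 0) (.ofNat 0) (.ofNat 0)⟩,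
  ⟨mq (.negSucc 0) (.ofNat 0) (.negSucc 0) (.ofNat 2) (.ofNat 1) (.ofNat 0) (.negSucc 0) (.ofNat 0), mq (.ofNat 2) (.ofNat 0) (.ofNat 0) (.ofNat 0) (.ofNat 0) (.ofNat 0) (.ofNat 0) (.ofNat 0), mq (.ofNat 0) (.ofNat 0) (.negSucc 1) (.ofNat 0) (.ofNat 0) (.ofNat 0) (.ofNat 0) (.ofNat 0)⟩,
  ⟨mq (.negSucc 0) (.ofNat 0) (.negSucc 0) (.ofNat 2) (.negSucc 0) (.ofNat 0) (.ofNat 1) (.ofNat 0), mq (.ofNat 2) (.ofNat 0) (.ofNat 0) (.ofNat 0) (.ofNat 0) (.ofNat 0) (.ofNat 0) (.ofNat 0), mq (.ofNat 2) (.ofNat 0) (.ofNat 0) (.ofNat 0) (.ofNat 0) (.ofNat 0) (.ofNat 0) (.ofNat 0)⟩,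
  ⟨mq (.negSucc 0) (.ofNat 0) (.negSucc 0) (.ofNat 2) (.negSucc 0) (.ofNat 0) (.ofNat 1) (.ofNat 0), mq (.ofNat 2) (.ofNat 0) (.ofNat 0) (.ofNat 0) (.ofNat 0) (.ofNat 0) (.ofNat 0) (.ofNat 0), mq (.negSucc 1) (.ofNat 0) (.ofNat 0) (.ofNat 0) (.ofNat 0) (.ofNat 0) (.ofNat 0) (.ofNat 0)⟩,
  ⟨mq (.ofNat 2) (.ofNat 0) (.ofNat 0) (.ofNat 0) (.ofNat 0) (.ofNat 0) (.ofNat 0) (.ofNat 0), mq (.negSucc 0) (.ofNat 0) (.ofNat 1) (.negSucc 1) (.ofNat 1) (.ofNat 0) (.ofNat 1) (.ofNat 0), mq (.ofNat 0) (.ofNat 0) (.ofNat 0) (.ofNat 0) (.ofNat 0) (.ofNat 0) (.negSucc 1) (.ofNat 0)⟩,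
  ⟨mq (.ofNat 2) (.ofNat 0) (.ofNat 0) (.ofNat 0) (.ofNat 0) (.ofNat 0) (.ofNat 0) (.ofNat 0), mq (.negSucc 0) (.ofNat 0) (.ofNat 1) (.negSucc 1) (.ofNat 1) (.ofNat 0) (.ofNat 1) (.ofNat 0), mq (.ofNat 0) (.ofNat 0) (.ofNat 0) (.ofNat 0) (.ofNat 0) (.ofNat 0) (.ofNat 2) (.ofNat 0)⟩,
  ⟨mq (.ofNat 0) (.negSucc 0) (.ofNat 0) (.negSucc 0) (.ofNat 0) (.ofNat 1) (.ofNat 0) (.negSucc 0), mq (.negSucc 0) (.ofNat 1) (.ofNat 1) (.negSucc 0) (.ofNat 1) (.negSucc 0) (.negSucc 0) (.ofNat 1), mq (.ofNat 2) (.ofNat 0) (.ofNat 0) (.ofNat 0) (.ofNat 0) (.ofNat 0) (.ofNat 0) (.ofNat 0)⟩,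
  ⟨mq (.ofNat 0) (.ofNat 1) (.ofNat 0) (.ofNat 1) (.ofNat 0) (.negSucc 0) (.ofNat 0) (.ofNat 1), mq (.ofNat 1) (.negSucc 0) (.negSucc 0) (.ofNat 1) (.negSucc 0) (.ofNat 1) (.ofNat 1) (.negSucc 0), mq (.ofNat 2) (.ofNat 0) (.ofNat 0) (.ofNat 0) (.ofNat 0) (.ofNat 0) (.ofNat 0) (.ofNat 0)⟩,
  ⟨mq (.ofNat 2) (.ofNat 0) (.ofNat 0) (.ofNat 0) (.ofNat 0) (.ofNat 0) (.ofNat 0) (.ofNat 0), mq (.negSucc 0) (.ofNat 0) (.ofNat 1) (.ofNat 0) (.negSucc 0) (.ofNat 0) (.negSucc 0) (.ofNat 2), mq (.ofNat 0) (.ofNat 0) (.ofNat 0) (.ofNat 0) (.ofNat 0) (.ofNat 0) (.negSucc 1) (.ofNat 0)⟩,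
  ⟨mq (.ofNat 2) (.ofNat 0) (.ofNat 0) (.ofNat 0) (.ofNat 0) (.ofNat 0) (.ofNat 0) (.ofNat 0), mq (.negSucc 0) (.ofNat 0) (.ofNat 1) (.ofNat 0) (.negSucc 0) (.ofNat 0) (.negSucc 0) (.ofNat 2), mq (.ofNat 0) (.ofNat 0) (.ofNat 0) (.ofNat 0) (.ofNat 0) (.ofNat 0) (.ofNat 2) (.ofNat 0)⟩,
  ⟨mq (.negSucc 0) (.ofNat 0) (.negSucc 0) (.ofNat 0) (.ofNat 1) (.ofNat 0) (.negSucc 0) (.ofNat 2), mq (.ofNat 2) (.ofNat 0) (.ofNat 0) (.ofNat 0) (.ofNat 0) (.ofNat 0) (.ofNat 0) (.ofNat 0), mq (.ofNat 2) (.ofNat 0) (.ofNat 0) (.ofNat 0) (.ofNat 0) (.ofNat 0) (.ofNat 0) (.ofNat 0)⟩,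
  ⟨mq (.negSucc 0) (.ofNat 0) (.negSucc 0) (.ofNat 0) (.ofNat 1) (.ofNat 0) (.negSucc 0) (.ofNat 2), mq (.ofNat 2) (.ofNat 0) (.ofNat 0) (.ofNat 0) (.ofNat 0) (.ofNat 0) (.ofNat 0) (.ofNat 0), mq (.negSucc 1) (.ofNat 0) (.ofNat 0) (.ofNat 0) (.ofNat 0) (.ofNat 0) (.ofNat 0) (.ofNat 0)⟩,
  ⟨mq (.negSucc 0) (.ofNat 1) (.negSucc 0) (.ofNat 1) (.ofNat 1) (.negSucc 0) (.ofNat 1) (.negSucc 0), mq (.ofNat 0) (.negSucc 0) (.ofNat 0) (.negSucc 0) (.ofNat 0) (.negSucc 0) (.ofNat 0) (.ofNat 1), mq (.ofNat 2) (.ofNat 0) (.ofNat 0) (.ofNat 0) (.ofNat 0) (.ofNat 0) (.ofNat 0) (.ofNat 0)⟩,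
  ⟨mq (.ofNat 1) (.negSucc 0) (.ofNat 1) (.negSucc 0) (.negSucc 0) (.ofNat 1) (.negSucc 0) (.ofNat 1), mq (.ofNat 0) (.ofNat 1) (.ofNat 0) (.ofNat 1) (.ofNat 0) (.ofNat 1) (.ofNat 0) (.negSucc 0), mq (.ofNat 2) (.ofNat 0) (.ofNat 0) (.ofNat 0) (.ofNat 0) (.ofNat 0) (.ofNat 0) (.ofNat 0)⟩,
  ⟨mq (.ofNat 2) (.ofNat 0) (.ofNat 0) (.ofNat 0) (.ofNat 0) (.ofNat 0) (.ofNat 0) (.ofNat 0), mq (.negSucc 0) (.ofNat 0) (.ofNat 1) (.ofNat 0) (.negSucc 0) (.ofNat 2) (.negSucc 0) (.ofNat 0), mq (.negSucc 1) (.ofNat 0) (.ofNat 0) (.ofNat 0) (.ofNat 0) (.ofNat 0) (.ofNat 0) (.ofNat 0)⟩,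
  ⟨mq (.ofNat 2) (.ofNat 0) (.ofNat 0) (.ofNat 0) (.ofNat 0) (.ofNat 0) (.ofNat 0) (.ofNat 0), mq (.negSucc 0) (.ofNat 0) (.ofNat 1) (.ofNat 0) (.negSucc 0) (.ofNat 2) (.negSucc 0) (.ofNat 0), mq (.ofNat 2) (.ofNat 0) (.ofNat 0) (.ofNat 0) (.ofNat 0) (.ofNat 0) (.ofNat 0) (.ofNat 0)⟩,
  ⟨mq (.negSucc 0) (.ofNat 0) (.negSucc 0) (.ofNat 0) (.ofNat 1) (.negSucc 1) (.negSucc 0) (.ofNat 0), mq (.ofNat 2) (.ofNat 0) (.ofNat 0) (.ofNat 0) (.ofNat 0) (.ofNat 0) (.ofNat 0) (.ofNat 0), mq (.ofNat 0) (.ofNat 0) (.ofNat 0) (.ofNat 0) (.ofNat 0) (.ofNat 0) (.ofNat 2) (.ofNat 0)⟩,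
  ⟨mq (.negSucc 0) (.ofNat 0) (.negSucc 0) (.ofNat 0) (.ofNat 1) (.negSucc 1) (.negSucc 0) (.ofNat 0), mq (.ofNat 2) (.ofNat 0) (.ofNat 0) (.ofNat 0) (.ofNat 0) (.ofNat 0) (.ofNat 0) (.ofNat 0), mq (.ofNat 0) (.ofNat 0) (.ofNat 0) (.ofNat 0) (.ofNat 0) (.ofNat 0) (.negSucc 1) (.ofNat 0)⟩,
  ⟨mq (.negSucc 0) (.ofNat 0) (.negSucc 0) (.ofNat 0) (.negSucc 0) (.ofNat 2) (.ofNat 1) (.ofNat 0), mq (.ofNat 2) (.ofNat 0) (.ofNat 0) (.ofNat 0) (.ofNat 0) (.ofNat 0) (.ofNat 0) (.ofNat 0), mq (.ofNat 0) (.ofNat 0) (.ofNat 0) (.ofNat 0) (.ofNat 2) (.ofNat 0) (.ofNat 0) (.ofNat 0)⟩,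
  ⟨mq (.negSucc 0) (.ofNat 0) (.negSucc 0) (.ofNat 0) (.negSucc 0) (.ofNat 2) (.ofNat 1) (.ofNat 0), mq (.ofNat 2) (.ofNat 0) (.ofNat 0) (.ofNat 0) (.ofNat 0) (.ofNat 0) (.ofNat 0) (.ofNat 0), mq (.ofNat 0) (.ofNat 0) (.ofNat 0) (.ofNat 0) (.negSucc 1) (.ofNat 0) (.ofNat 0) (.ofNat 0)⟩]
def LR1 : List V := [⟨mq (.ofNat 2) (.ofNat 0) (.ofNat 0) (.ofNat 0) (.ofNat 0) (.ofNat 0) (.ofNat 0) (.ofNat 0), mq (.negSucc 0) (.ofNat 0) (.ofNat 1) (.ofNat 0) (.ofNat 1) (.negSucc 1) (.ofNat 1) (.ofNat 0), mq (.ofNat 0) (.ofNat 0) (.negSucc 1) (.ofNat 0) (.ofNat 0) (.ofNat 0) (.ofNat 0) (.ofNat 0)⟩,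
  ⟨mq (.ofNat 2) (.ofNat 0) (.ofNat 0) (.ofNat 0) (.ofNat 0) (.ofNat 0) (.ofNat 0) (.ofNat 0), mq (.negSucc 0) (.ofNat 0) (.ofNat 1) (.ofNat 0) (.ofNat 1) (.negSucc 1) (.ofNat 1) (.ofNat 0), mq (.ofNat 0) (.ofNat 0) (.ofNat 2) (.ofNat 0) (.ofNat 0) (.ofNat 0) (.ofNat 0) (.ofNat 0)⟩,
  ⟨mq (.negSucc 0) (.ofNat 1) (.ofNat 1) (.negSucc 0) (.negSucc 0) (.ofNat 1) (.ofNat 1) (.negSucc 0), mq (.ofNat 0) (.negSucc 0) (.ofNat 0) (.ofNat 1) (.ofNat 0) (.negSucc 0) (.ofNat 0) (.negSucc 0), mq (.ofNat 2) (.ofNat 0) (.ofNat 0) (.ofNat 0) (.ofNat 0) (.ofNat 0) (.ofNat 0) (.ofNat 0)⟩,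
  ⟨mq (.ofNat 1) (.negSucc 0) (.negSucc 0) (.ofNat 1) (.ofNat 1) (.negSucc 0) (.negSucc 0) (.ofNat 1), mq (.ofNat 0) (.ofNat 1) (.ofNat 0) (.negSucc 0) (.ofNat 0) (.ofNat 1) (.ofNat 0) (.ofNat 1), mq (.ofNat 2) (.ofNat 0) (.ofNat 0) (.ofNat 0) (.ofNat 0) (.ofNat 0) (.ofNat 0) (.ofNat 0)⟩,
  ⟨mq (.negSucc 0) (.ofNat 0) (.negSucc 0) (.ofNat 0) (.negSucc 0) (.ofNat 0) (.ofNat 1) (.negSucc 1), mq (.ofNat 2) (.ofNat 0) (.ofNat 0) (.ofNat 0) (.ofNat 0) (.ofNat 0) (.ofNat 0) (.ofNat 0), mq (.ofNat 0) (.ofNat 0) (.ofNat 2) (.ofNat 0) (.ofNat 0) (.ofNat 0) (.ofNat 0) (.ofNat 0)⟩,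
  ⟨mq (.negSucc 0) (.ofNat 0) (.negSucc 0) (.ofNat 0) (.negSucc 0) (.ofNat 0) (.ofNat 1) (.negSucc 1), mq (.ofNat 2) (.ofNat 0) (.ofNat 0) (.ofNat 0) (.ofNat 0) (.ofNat 0) (.ofNat 0) (.ofNat 0), mq (.ofNat 0) (.ofNat 0) (.negSucc 1) (.ofNat 0) (.ofNat 0) (.ofNat 0) (.ofNat 0) (.ofNat 0)⟩,
  ⟨mq (.ofNat 2) (.ofNat 0) (.ofNat 0) (.ofNat 0) (.ofNat 0) (.ofNat 0) (.ofNat 0) (.ofNat 0), mq (.negSucc 0) (.ofNat 0) (.ofNat 1) (.ofNat 0) (.ofNat 1) (.ofNat 0) (.ofNat 1) (.negSucc 1), mq (.ofNat 0) (.ofNat 0) (.ofNat 0) (.ofNat 0) (.negSucc 1) (.ofNat 0) (.ofNat 0) (.ofNat 0)⟩,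
  ⟨mq (.ofNat 2) (.ofNat 0) (.ofNat 0) (.ofNat 0) (.ofNat 0) (.ofNat 0) (.ofNat 0) (.ofNat 0), mq (.negSucc 0) (.ofNat 0) (.ofNat 1) (.ofNat 0) (.ofNat 1) (.ofNat 0) (.ofNat 1) (.negSucc 1), mq (.ofNat 0) (.ofNat 0) (.ofNat 0) (.ofNat 0) (.ofNat 2) (.ofNat 0) (.ofNat 0) (.ofNat 0)⟩,
  ⟨mq (.ofNat 0) (.negSucc 0) (.ofNat 0) (.ofNat 1) (.ofNat 0) (.ofNat 1) (.ofNat 0) (.ofNat 1), mq (.ofNat 1) (.negSucc 0) (.ofNat 1) (.negSucc 0) (.ofNat 1) (.negSucc 0) (.ofNat 1) (.negSucc 0), mq (.ofNat 2) (.ofNat 0) (.ofNat 0) (.ofNat 0) (.ofNat 0) (.ofNat 0) (.ofNat 0) (.ofNat 0)⟩,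
  ⟨mq (.ofNat 0) (.ofNat 1) (.ofNat 0) (.negSucc 0) (.ofNat 0) (.negSucc 0) (.ofNat 0) (.negSucc 0), mq (.negSucc 0) (.ofNat 1) (.negSucc 0) (.ofNat 1) (.negSucc 0) (.ofNat 1) (.negSucc 0) (.ofNat 1), mq (.ofNat 2) (.ofNat 0) (.ofNat 0) (.ofNat 0) (.ofNat 0) (.ofNat 0) (.ofNat 0) (.ofNat 0)⟩,
  ⟨mq (.ofNat 2) (.ofNat 0) (.ofNat 0) (.ofNat 0) (.ofNat 0) (.ofNat 0) (.ofNat 0) (.ofNat 0), mq (.negSucc 0) (.ofNat 1) (.negSucc 0) (.ofNat 1) (.negSucc 0) (.ofNat 1) (.negSucc 0) (.ofNat 1), mq (.ofNat 0) (.negSucc 0) (.ofNat 0) (.ofNat 1) (.ofNat 0) (.ofNat 1) (.ofNat 0) (.ofNat 1)⟩,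
  ⟨mq (.ofNat 2) (.ofNat 0) (.ofNat 0) (.ofNat 0) (.ofNat 0) (.ofNat 0) (.ofNat 0) (.ofNat 0), mq (.negSucc 0) (.ofNat 1) (.negSucc 0) (.ofNat 1) (.negSucc 0) (.ofNat 1) (.negSucc 0) (.ofNat 1), mq (.ofNat 0) (.ofNat 1) (.ofNat 0) (.negSucc 0) (.ofNat 0) (.negSucc 0) (.ofNat 0) (.negSucc 0)⟩,
  ⟨mq (.negSucc 0) (.ofNat 1) (.ofNat 1) (.negSucc 0) (.ofNat 1) (.negSucc 0) (.negSucc 0) (.ofNat 1), mq (.ofNat 2) (.ofNat 0) (.ofNat 0) (.ofNat 0) (.ofNat 0) (.ofNat 0) (.ofNat 0) (.ofNat 0), mq (.ofNat 0) (.negSucc 0) (.ofNat 0) (.negSucc 0) (.ofNat 0) (.ofNat 1) (.ofNat 0) (.negSucc 0)⟩,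
  ⟨mq (.negSucc 0) (.ofNat 1) (.ofNat 1) (.negSucc 0) (.ofNat 1) (.negSucc 0) (.negSucc 0) (.ofNat 1), mq (.ofNat 2) (.ofNat 0) (.ofNat 0) (.ofNat 0) (.ofNat 0) (.ofNat 0) (.ofNat 0) (.ofNat 0), mq (.ofNat 0) (.ofNat 1) (.ofNat 0) (.ofNat 1) (.ofNat 0) (.negSucc 0) (.ofNat 0) (.ofNat 1)⟩,
  ⟨mq (.negSucc 0) (.ofNat 1) (.ofNat 1) (.negSucc 0) (.negSucc 0) (.ofNat 1) (.ofNat 1) (.negSucc 0), mq (.ofNat 2) (.ofNat 0) (.ofNat 0) (.ofNat 0) (.ofNat 0) (.ofNat 0) (.ofNat 0) (.ofNat 0), mq (.ofNat 0) (.negSucc 0) (.ofNat 0) (.ofNat 1) (.ofNat 0) (.negSucc 0) (.ofNat 0) (.negSucc 0)⟩,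
  ⟨mq (.negSucc 0) (.ofNat 1) (.ofNat 1) (.negSucc 0) (.negSucc 0) (.ofNat 1) (.ofNat 1) (.negSucc 0), mq (.ofNat 2) (.ofNat 0) (.ofNat 0) (.ofNat 0) (.ofNat 0) (.ofNat 0) (.ofNat 0) (.ofNat 0), mq (.ofNat 0) (.ofNat 1) (.ofNat 0) (.negSucc 0) (.ofNat 0) (.ofNat 1) (.ofNat 0) (.ofNat 1)⟩,
  ⟨mq (.ofNat 2) (.ofNat 0) (.ofNat 0) (.ofNat 0) (.ofNat 0) (.ofNat 0) (.ofNat 0) (.ofNat 0), mq (.negSucc 0) (.ofNat 1) (.negSucc 0) (.ofNat 1) (.ofNat 1) (.negSucc 0) (.ofNat 1) (.negSucc 0), mq (.ofNat 0) (.negSucc 0) (.ofNat 0) (.negSucc 0) (.ofNat 0) (.negSucc 0) (.ofNat 0) (.ofNat 1)⟩,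
  ⟨mq (.ofNat 2) (.ofNat 0) (.ofNat 0) (.ofNat 0) (.ofNat 0) (.ofNat 0) (.ofNat 0) (.ofNat 0), mq (.negSucc 0) (.ofNat 1) (.negSucc 0) (.ofNat 1) (.ofNat 1) (.negSucc 0) (.ofNat 1) (.negSucc 0), mq (.ofNat 0) (.ofNat 1) (.ofNat 0) (.ofNat 1) (.ofNat 0) (.ofNat 1) (.ofNat 0) (.negSucc 0)⟩,
  ⟨mq (.negSucc 0) (.ofNat 1) (.negSucc 0) (.ofNat 1) (.ofNat 1) (.negSucc 0) (.ofNat 1) (.negSucc 0), mq (.ofNat 2) (.ofNat 0) (.ofNat 0) (.ofNat 0) (.ofNat 0) (.ofNat 0) (.ofNat 0) (.ofNat 0), mq (.ofNat 0) (.negSucc 0) (.ofNat 0) (.negSucc 0) (.ofNat 0) (.negSucc 0) (.ofNat 0) (.ofNat 1)⟩,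
  ⟨mq (.negSucc 0) (.ofNat 1) (.negSucc 0) (.ofNat 1) (.ofNat 1) (.negSucc 0) (.ofNat 1) (.negSucc 0), mq (.ofNat 2) (.ofNat 0) (.ofNat 0) (.ofNat 0) (.ofNat 0) (.ofNat 0) (.ofNat 0) (.ofNat 0), mq (.ofNat 0) (.ofNat 1) (.ofNat 0) (.ofNat 1) (.ofNat 0) (.ofNat 1) (.ofNat 0) (.negSucc 0)⟩,
  ⟨mq (.ofNat 2) (.ofNat 0) (.ofNat 0) (.ofNat 0) (.ofNat 0) (.ofNat 0) (.ofNat 0) (.ofNat 0), mq (.negSucc 0) (.ofNat 1) (.ofNat 1) (.negSucc 0) (.negSucc 0) (.ofNat 1) (.ofNat 1) (.negSucc 0), mq (.ofNat 0) (.negSucc 0) (.ofNat 0) (.ofNat 1) (.ofNat 0) (.negSucc 0) (.ofNat 0) (.negSucc 0)⟩,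
  ⟨mq (.ofNat 2) (.ofNat 0) (.ofNat 0) (.ofNat 0) (.ofNat 0) (.ofNat 0) (.ofNat 0) (.ofNat 0), mq (.negSucc 0) (.ofNat 1) (.ofNat 1) (.negSucc 0) (.negSucc 0) (.ofNat 1) (.ofNat 1) (.negSucc 0), mq (.ofNat 0) (.ofNat 1) (.ofNat 0) (.negSucc 0) (.ofNat 0) (.ofNat 1) (.ofNat 0) (.ofNat 1)⟩,
  ⟨mq (.ofNat 2) (.ofNat 0) (.ofNat 0) (.ofNat 0) (.ofNat 0) (.ofNat 0) (.ofNat 0) (.ofNat 0), mq (.negSucc 0) (.ofNat 1) (.ofNat 1) (.negSucc 0) (.ofNat 1) (.negSucc 0) (.negSucc 0) (.ofNat 1), mq (.ofNat 0) (.negSucc 0) (.ofNat 0) (.negSucc 0) (.ofNat 0) (.ofNat 1) (.ofNat 0) (.negSucc 0)⟩,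
  ⟨mq (.ofNat 2) (.ofNat 0) (.ofNat 0) (.ofNat 0) (.ofNat 0) (.ofNat 0) (.ofNat 0) (.ofNat 0), mq (.negSucc 0) (.ofNat 1) (.ofNat 1) (.negSucc 0) (.ofNat 1) (.negSucc 0) (.negSucc 0) (.ofNat 1), mq (.ofNat 0) (.ofNat 1) (.ofNat 0) (.ofNat 1) (.ofNat 0) (.negSucc 0) (.ofNat 0) (.ofNat 1)⟩,
  ⟨mq (.negSucc 0) (.ofNat 1) (.negSucc 0) (.ofNat 1) (.negSucc 0) (.ofNat 1) (.negSucc 0) (.ofNat 1), mq (.ofNat 2) (.ofNat 0) (.ofNat 0) (.ofNat 0) (.ofNat 0) (.ofNat 0) (.ofNat 0) (.ofNat 0), mq (.ofNat 0) (.ofNat 1) (.ofNat 0) (.negSucc 0) (.ofNat 0) (.negSucc 0) (.ofNat 0) (.negSucc 0)⟩,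
  ⟨mq (.negSucc 0) (.ofNat 1) (.negSucc 0) (.ofNat 1) (.negSucc 0) (.ofNat 1) (.negSucc 0) (.ofNat 1), mq (.ofNat 2) (.ofNat 0) (.ofNat 0) (.ofNat 0) (.ofNat 0) (.ofNat 0) (.ofNat 0) (.ofNat 0), mq (.ofNat 0) (.negSucc 0) (.ofNat 0) (.ofNat 1) (.ofNat 0) (.ofNat 1) (.ofNat 0) (.ofNat 1)⟩,
  ⟨mq (.negSucc 0) (.ofNat 2) (.ofNat 1) (.ofNat 0) (.ofNat 1) (.ofNat 0) (.ofNat 1) (.ofNat 0), mq (.ofNat 2) (.ofNat 0) (.ofNat 0) (.ofNat 0) (.ofNat 0) (.ofNat 0) (.ofNat 0) (.ofNat 0), mq (.ofNat 2) (.ofNat 0) (.ofNat 0) (.ofNat 0) (.ofNat 0) (.ofNat 0) (.ofNat 0) (.ofNat 0)⟩,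
  ⟨mq (.negSucc 0) (.ofNat 2) (.ofNat 1) (.ofNat 0) (.ofNat 1) (.ofNat 0) (.ofNat 1) (.ofNat 0), mq (.ofNat 2) (.ofNat 0) (.ofNat 0) (.ofNat 0) (.ofNat 0) (.ofNat 0) (.ofNat 0) (.ofNat 0), mq (.negSucc 1) (.ofNat 0) (.ofNat 0) (.ofNat 0) (.ofNat 0) (.ofNat 0) (.ofNat 0) (.ofNat 0)⟩,
  ⟨mq (.ofNat 2) (.ofNat 0) (.ofNat 0) (.ofNat 0) (.ofNat 0) (.ofNat 0) (.ofNat 0) (.ofNat 0), mq (.negSucc 0) (.ofNat 2) (.negSucc 0) (.ofNat 0) (.negSucc 0) (.ofNat 0) (.ofNat 1) (.ofNat 0), mq (.ofNat 0) (.ofNat 0) (.ofNat 0) (.ofNat 0) (.ofNat 0) (.ofNat 0) (.negSucc 1) (.ofNat 0)⟩,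
  ⟨mq (.ofNat 2) (.ofNat 0) (.ofNat 0) (.ofNat 0) (.ofNat 0) (.ofNat 0) (.ofNat 0) (.ofNat 0), mq (.negSucc 0) (.ofNat 2) (.negSucc 0) (.ofNat 0) (.negSucc 0) (.ofNat 0) (.ofNat 1) (.ofNat 0), mq (.ofNat 0) (.ofNat 0) (.ofNat 0) (.ofNat 0) (.ofNat 0) (.ofNat 0) (.ofNat 2) (.ofNat 0)⟩,
  ⟨mq (.ofNat 2) (.ofNat 0) (.ofNat 0) (.ofNat 0) (.ofNat 0) (.ofNat 0) (.ofNat 0) (.ofNat 0), mq (.negSucc 0) (.ofNat 2) (.negSucc 0) (.ofNat 0) (.ofNat 1) (.ofNat 0) (.negSucc 0) (.ofNat 0), mq (.ofNat 0) (.ofNat 0) (.ofNat 0) (.ofNat 0) (.negSucc 1) (.ofNat 0) (.ofNat 0) (.ofNat 0)⟩,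
  ⟨mq (.ofNat 2) (.ofNat 0) (.ofNat 0) (.ofNat 0) (.ofNat 0) (.ofNat 0) (.ofNat 0) (.ofNat 0), mq (.negSucc 0) (.ofNat 2) (.negSucc 0) (.ofNat 0) (.ofNat 1) (.ofNat 0) (.negSucc 0) (.ofNat 0), mq (.ofNat 0) (.ofNat 0) (.ofNat 0) (.ofNat 0) (.ofNat 2) (.ofNat 0) (.ofNat 0) (.ofNat 0)⟩,
  ⟨mq (.negSucc 0) (.ofNat 2) (.ofNat 1) (.ofNat 0) (.negSucc 0) (.ofNat 0) (.negSucc 0) (.ofNat 0), mq (.ofNat 2) (.ofNat 0) (.ofNat 0) (.ofNat 0) (.ofNat 0) (.ofNat 0) (.ofNat 0) (.ofNat 0), mq (.ofNat 0) (.ofNat 0) (.negSucc 1) (.ofNat 0) (.ofNat 0) (.ofNat 0) (.ofNat 0) (.ofNat 0)⟩,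
  ⟨mq (.negSucc 0) (.ofNat 2) (.ofNat 1) (.ofNat 0) (.negSucc 0) (.ofNat 0) (.negSucc 0) (.ofNat 0), mq (.ofNat 2) (.ofNat 0) (.ofNat 0) (.ofNat 0) (.ofNat 0) (.ofNat 0) (.ofNat 0) (.ofNat 0), mq (.ofNat 0) (.ofNat 0) (.ofNat 2) (.ofNat 0) (.ofNat 0) (.ofNat 0) (.ofNat 0) (.ofNat 0)⟩,
  ⟨mq (.ofNat 2) (.ofNat 0) (.ofNat 0) (.ofNat 0) (.ofNat 0) (.ofNat 0) (.ofNat 0) (.ofNat 0), mq (.negSucc 0) (.ofNat 2) (.ofNat 1) (.ofNat 0) (.negSucc 0) (.ofNat 0) (.negSucc 0) (.ofNat 0), mq (.ofNat 0) (.ofNat 0) (.negSucc 1) (.ofNat 0) (.ofNat 0) (.ofNat 0) (.ofNat 0) (.ofNat 0)⟩,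
  ⟨mq (.ofNat 2) (.ofNat 0) (.ofNat 0) (.ofNat 0) (.ofNat 0) (.ofNat 0) (.ofNat 0) (.ofNat 0), mq (.negSucc 0) (.ofNat 2) (.ofNat 1) (.ofNat 0) (.negSucc 0) (.ofNat 0) (.negSucc 0) (.ofNat 0), mq (.ofNat 0) (.ofNat 0) (.ofNat 2) (.ofNat 0) (.ofNat 0) (.ofNat 0) (.ofNat 0) (.ofNat 0)⟩,
  ⟨mq (.negSucc 0) (.ofNat 2) (.negSucc 0) (.ofNat 0) (.ofNat 1) (.ofNat 0) (.negSucc 0) (.ofNat 0), mq (.ofNat 2) (.ofNat 0) (.ofNat 0) (.ofNat 0) (.ofNat 0) (.ofNat 0) (.ofNat 0) (.ofNat 0), mq (.ofNat 0) (.ofNat 0) (.ofNat 0) (.ofNat 0) (.negSucc 1) (.ofNat 0) (.ofNat 0) (.ofNat 0)⟩,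
  ⟨mq (.negSucc 0) (.ofNat 2) (.negSucc 0) (.ofNat 0) (.ofNat 1) (.ofNat 0) (.negSucc 0) (.ofNat 0), mq (.ofNat 2) (.ofNat 0) (.ofNat 0) (.ofNat 0) (.ofNat 0) (.ofNat 0) (.ofNat 0) (.ofNat 0), mq (.ofNat 0) (.ofNat 0) (.ofNat 0) (.ofNat 0) (.ofNat 2) (.ofNat 0) (.ofNat 0) (.ofNat 0)⟩,
  ⟨mq (.negSucc 0) (.ofNat 2) (.negSucc 0) (.ofNat 0) (.negSucc 0) (.ofNat 0) (.ofNat 1) (.ofNat 0), mq (.ofNat 2) (.ofNat 0) (.ofNat 0) (.ofNat 0) (.ofNat 0) (.ofNat 0) (.ofNat 0) (.ofNat 0), mq (.ofNat 0) (.ofNat 0) (.ofNat 0) (.ofNat 0) (.ofNat 0) (.ofNat 0) (.negSucc 1) (.ofNat 0)⟩,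
  ⟨mq (.negSucc 0) (.ofNat 2) (.negSucc 0) (.ofNat 0) (.negSucc 0) (.ofNat 0) (.ofNat 1) (.ofNat 0), mq (.ofNat 2) (.ofNat 0) (.ofNat 0) (.ofNat 0) (.ofNat 0) (.ofNat 0) (.ofNat 0) (.ofNat 0), mq (.ofNat 0) (.ofNat 0) (.ofNat 0) (.ofNat 0) (.ofNat 0) (.ofNat 0) (.ofNat 2) (.ofNat 0)⟩,
  ⟨mq (.ofNat 2) (.ofNat 0) (.ofNat 0) (.ofNat 0) (.ofNat 0) (.ofNat 0) (.ofNat 0) (.ofNat 0), mq (.negSucc 0) (.ofNat 2) (.ofNat 1) (.ofNat 0) (.ofNat 1) (.ofNat 0) (.ofNat 1) (.ofNat 0), mq (.negSucc 1) (.ofNat 0) (.ofNat 0) (.ofNat 0) (.ofNat 0) (.ofNat 0) (.ofNat 0) (.ofNat 0)⟩,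
  ⟨mq (.ofNat 2) (.ofNat 0) (.ofNat 0) (.ofNat 0) (.ofNat 0) (.ofNat 0) (.ofNat 0) (.ofNat 0), mq (.negSucc 0) (.ofNat 2) (.ofNat 1) (.ofNat 0) (.ofNat 1) (.ofNat 0) (.ofNat 1) (.ofNat 0), mq (.ofNat 2) (.ofNat 0) (.ofNat 0) (.ofNat 0) (.ofNat 0) (.ofNat 0) (.ofNat 0) (.ofNat 0)⟩,
  ⟨mq (.ofNat 0) (.negSucc 0) (.ofNat 0) (.ofNat 1) (.ofNat 0) (.ofNat 1) (.ofNat 0) (.ofNat 1), mq (.ofNat 2) (.ofNat 0) (.ofNat 0) (.ofNat 0) (.ofNat 0) (.ofNat 0) (.ofNat 0) (.ofNat 0), mq (.ofNat 1) (.negSucc 0) (.ofNat 1) (.negSucc 0) (.ofNat 1) (.negSucc 0) (.ofNat 1) (.negSucc 0)⟩,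
  ⟨mq (.ofNat 0) (.negSucc 0) (.ofNat 0) (.ofNat 1) (.ofNat 0) (.ofNat 1) (.ofNat 0) (.ofNat 1), mq (.ofNat 2) (.ofNat 0) (.ofNat 0) (.ofNat 0) (.ofNat 0) (.ofNat 0) (.ofNat 0) (.ofNat 0), mq (.negSucc 0) (.ofNat 1) (.negSucc 0) (.ofNat 1) (.negSucc 0) (.ofNat 1) (.negSucc 0) (.ofNat 1)⟩,
  ⟨mq (.ofNat 2) (.ofNat 0) (.ofNat 0) (.ofNat 0) (.ofNat 0) (.ofNat 0) (.ofNat 0) (.ofNat 0), mq (.ofNat 0) (.negSucc 0) (.ofNat 0) (.negSucc 0) (.ofNat 0) (.negSucc 0) (.ofNat 0) (.ofNat 1), mq (.negSucc 0) (.ofNat 1) (.negSucc 0) (.ofNat 1) (.ofNat 1) (.negSucc 0) (.ofNat 1) (.negSucc 0)⟩,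
  ⟨mq (.ofNat 2) (.ofNat 0) (.ofNat 0) (.ofNat 0) (.ofNat 0) (.ofNat 0) (.ofNat 0) (.ofNat 0), mq (.ofNat 0) (.negSucc 0) (.ofNat 0) (.negSucc 0) (.ofNat 0) (.negSucc 0) (.ofNat 0) (.ofNat 1), mq (.ofNat 1) (.negSucc 0) (.ofNat 1) (.negSucc 0) (.negSucc 0) (.ofNat 1) (.negSucc 0) (.ofNat 1)⟩,
  ⟨mq (.ofNat 2) (.ofNat 0) (.ofNat 0) (.ofNat 0) (.ofNat 0) (.ofNat 0) (.ofNat 0) (.ofNat 0), mq (.ofNat 0) (.negSucc 0) (.ofNat 0) (.negSucc 0) (.ofNat 0) (.ofNat 1) (.ofNat 0) (.negSucc 0), mq (.negSucc 0) (.ofNat 1) (.ofNat 1) (.negSucc 0) (.ofNat 1) (.negSucc 0) (.negSucc 0) (.ofNat 1)⟩,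
  ⟨mq (.ofNat 2) (.ofNat 0) (.ofNat 0) (.ofNat 0) (.ofNat 0) (.ofNat 0) (.ofNat 0) (.ofNat 0), mq (.ofNat 0) (.negSucc 0) (.ofNat 0) (.negSucc 0) (.ofNat 0) (.ofNat 1) (.ofNat 0) (.negSucc 0), mq (.ofNat 1) (.negSucc 0) (.negSucc 0) (.ofNat 1) (.negSucc 0) (.ofNat 1) (.ofNat 1) (.negSucc 0)⟩,
  ⟨mq (.ofNat 0) (.negSucc 0) (.ofNat 0) (.ofNat 1) (.ofNat 0) (.negSucc 0) (.ofNat 0) (.negSucc 0), mq (.ofNat 2) (.ofNat 0) (.ofNat 0) (.ofNat 0) (.ofNat 0) (.ofNat 0) (.ofNat 0) (.ofNat 0), mq (.negSucc 0) (.ofNat 1) (.ofNat 1) (.negSucc 0) (.negSucc 0) (.ofNat 1) (.ofNat 1) (.negSucc 0)⟩,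
  ⟨mq (.ofNat 0) (.negSucc 0) (.ofNat 0) (.ofNat 1) (.ofNat 0) (.negSucc 0) (.ofNat 0) (.negSucc 0), mq (.ofNat 2) (.ofNat 0) (.ofNat 0) (.ofNat 0) (.ofNat 0) (.ofNat 0) (.ofNat 0) (.ofNat 0), mq (.ofNat 1) (.negSucc 0) (.negSucc 0) (.ofNat 1) (.ofNat 1) (.negSucc 0) (.negSucc 0) (.ofNat 1)⟩,
  ⟨mq (.ofNat 2) (.ofNat 0) (.ofNat 0) (.ofNat 0) (.ofNat 0) (.ofNat 0) (.ofNat 0) (.ofNat 0), mq (.ofNat 0) (.negSucc 0) (.ofNat 0) (.ofNat 1) (.ofNat 0) (.negSucc 0) (.ofNat 0) (.negSucc 0), mq (.negSucc 0) (.ofNat 1) (.ofNat 1) (.negSucc 0) (.negSucc 0) (.ofNat 1) (.ofNat 1) (.negSucc 0)⟩,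
  ⟨mq (.ofNat 2) (.ofNat 0) (.ofNat 0) (.ofNat 0) (.ofNat 0) (.ofNat 0) (.ofNat 0) (.ofNat 0), mq (.ofNat 0) (.negSucc 0) (.ofNat 0) (.ofNat 1) (.ofNat 0) (.negSucc 0) (.ofNat 0) (.negSucc 0), mq (.ofNat 1) (.negSucc 0) (.negSucc 0) (.ofNat 1) (.ofNat 1) (.negSucc 0) (.negSucc 0) (.ofNat 1)⟩,
  ⟨mq (.ofNat 0) (.negSucc 0) (.ofNat 0) (.negSucc 0) (.ofNat 0) (.ofNat 1) (.ofNat 0) (.negSucc 0), mq (.ofNat 2) (.ofNat 0) (.ofNat 0) (.ofNat 0) (.ofNat 0) (.ofNat 0) (.ofNat 0) (.ofNat 0), mq (.negSucc 0) (.ofNat 1) (.ofNat 1) (.negSucc 0) (.ofNat 1) (.negSucc 0) (.negSucc 0) (.ofNat 1)⟩,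
  ⟨mq (.ofNat 0) (.negSucc 0) (.ofNat 0) (.negSucc 0) (.ofNat 0) (.ofNat 1) (.ofNat 0) (.negSucc 0), mq (.ofNat 2) (.ofNat 0) (.ofNat 0) (.ofNat 0) (.ofNat 0) (.ofNat 0) (.ofNat 0) (.ofNat 0), mq (.ofNat 1) (.negSucc 0) (.negSucc 0) (.ofNat 1) (.negSucc 0) (.ofNat 1) (.ofNat 1) (.negSucc 0)⟩,
  ⟨mq (.ofNat 0) (.negSucc 0) (.ofNat 0) (.negSucc 0) (.ofNat 0) (.negSucc 0) (.ofNat 0) (.ofNat 1), mq (.ofNat 2) (.ofNat 0) (.ofNat 0) (.ofNat 0) (.ofNat 0) (.ofNat 0) (.ofNat 0) (.ofNat 0), mq (.negSucc 0) (.ofNat 1) (.negSucc 0) (.ofNat 1) (.ofNat 1) (.negSucc 0) (.ofNat 1) (.negSucc 0)⟩,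
  ⟨mq (.ofNat 0) (.negSucc 0) (.ofNat 0) (.negSucc 0) (.ofNat 0) (.negSucc 0) (.ofNat 0) (.ofNat 1), mq (.ofNat 2) (.ofNat 0) (.ofNat 0) (.ofNat 0) (.ofNat 0) (.ofNat 0) (.ofNat 0) (.ofNat 0), mq (.ofNat 1) (.negSucc 0) (.ofNat 1) (.negSucc 0) (.negSucc 0) (.ofNat 1) (.negSucc 0) (.ofNat 1)⟩,
  ⟨mq (.ofNat 2) (.ofNat 0) (.ofNat 0) (.ofNat 0) (.ofNat 0) (.ofNat 0) (.ofNat 0) (.ofNat 0), mq (.ofNat 0) (.negSucc 0) (.ofNat 0) (.ofNat 1) (.ofNat 0) (.ofNat 1) (.ofNat 0) (.ofNat 1), mq (.negSucc 0) (.ofNat 1) (.negSucc 0) (.ofNat 1) (.negSucc 0) (.ofNat 1) (.negSucc 0) (.ofNat 1)⟩,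
  ⟨mq (.ofNat 2) (.ofNat 0) (.ofNat 0) (.ofNat 0) (.ofNat 0) (.ofNat 0) (.ofNat 0) (.ofNat 0), mq (.ofNat 0) (.negSucc 0) (.ofNat 0) (.ofNat 1) (.ofNat 0) (.ofNat 1) (.ofNat 0) (.ofNat 1), mq (.ofNat 1) (.negSucc 0) (.ofNat 1) (.negSucc 0) (.ofNat 1) (.negSucc 0) (.ofNat 1) (.negSucc 0)⟩,
  ⟨mq (.ofNat 1) (.negSucc 1) (.ofNat 1) (.ofNat 0) (.ofNat 1) (.ofNat 0) (.ofNat 1) (.ofNat 0), mq (.ofNat 1) (.ofNat 0) (.negSucc 0) (.ofNat 2) (.negSucc 0) (.ofNat 0) (.ofNat 1) (.ofNat 0), mq (.ofNat 0) (.ofNat 0) (.ofNat 0) (.ofNat 0) (.ofNat 0) (.ofNat 0) (.ofNat 0) (.ofNat 0)⟩,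
  ⟨mq (.ofNat 2) (.ofNat 0) (.ofNat 0) (.ofNat 0) (.ofNat 0) (.ofNat 0) (.ofNat 0) (.ofNat 0), mq (.ofNat 0) (.ofNat 0) (.negSucc 1) (.ofNat 0) (.ofNat 0) (.ofNat 0) (.ofNat 0) (.ofNat 0), mq (.negSucc 0) (.ofNat 0) (.negSucc 0) (.ofNat 0) (.negSucc 0) (.ofNat 0) (.ofNat 1) (.negSucc 1)⟩,
  ⟨mq (.ofNat 2) (.ofNat 0) (.ofNat 0) (.ofNat 0) (.ofNat 0) (.ofNat 0) (.ofNat 0) (.ofNat 0), mq (.ofNat 0) (.ofNat 0) (.negSucc 1) (.ofNat 0) (.ofNat 0) (.ofNat 0) (.ofNat 0) (.ofNat 0), mq (.negSucc 0) (.ofNat 0) (.negSucc 0) (.ofNat 2) (.ofNat 1) (.ofNat 0) (.negSucc 0) (.ofNat 0)⟩,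
  ⟨mq (.ofNat 2) (.ofNat 0) (.ofNat 0) (.ofNat 0) (.ofNat 0) (.ofNat 0) (.ofNat 0) (.ofNat 0), mq (.ofNat 0) (.ofNat 0) (.negSucc 1) (.ofNat 0) (.ofNat 0) (.ofNat 0) (.ofNat 0) (.ofNat 0), mq (.negSucc 0) (.ofNat 0) (.ofNat 1) (.ofNat 0) (.ofNat 1) (.negSucc 1) (.ofNat 1) (.ofNat 0)⟩,
  ⟨mq (.ofNat 2) (.ofNat 0) (.ofNat 0) (.ofNat 0) (.ofNat 0) (.ofNat 0) (.ofNat 0) (.ofNat 0), mq (.ofNat 0) (.ofNat 0) (.negSucc 1) (.ofNat 0) (.ofNat 0) (.ofNat 0) (.ofNat 0) (.ofNat 0), mq (.negSucc 0) (.ofNat 2) (.ofNat 1) (.ofNat 0) (.negSucc 0) (.ofNat 0) (.negSucc 0) (.ofNat 0)⟩]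
def LR2 : List V := [⟨mq (.ofNat 2) (.ofNat 0) (.ofNat 0) (.ofNat 0) (.ofNat 0) (.ofNat 0) (.ofNat 0) (.ofNat 0), mq (.ofNat 0) (.ofNat 0) (.negSucc 1) (.ofNat 0) (.ofNat 0) (.ofNat 0) (.ofNat 0) (.ofNat 0), mq (.ofNat 1) (.negSucc 1) (.negSucc 0) (.ofNat 0) (.ofNat 1) (.ofNat 0) (.ofNat 1) (.ofNat 0)⟩,
  ⟨mq (.ofNat 2) (.ofNat 0) (.ofNat 0) (.ofNat 0) (.ofNat 0) (.ofNat 0) (.ofNat 0) (.ofNat 0), mq (.ofNat 0) (.ofNat 0) (.negSucc 1) (.ofNat 0) (.ofNat 0) (.ofNat 0) (.ofNat 0) (.ofNat 0), mq (.ofNat 1) (.ofNat 0) (.negSucc 0) (.ofNat 0) (.negSucc 0) (.ofNat 2) (.negSucc 0) (.ofNat 0)⟩,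
  ⟨mq (.ofNat 2) (.ofNat 0) (.ofNat 0) (.ofNat 0) (.ofNat 0) (.ofNat 0) (.ofNat 0) (.ofNat 0), mq (.ofNat 0) (.ofNat 0) (.negSucc 1) (.ofNat 0) (.ofNat 0) (.ofNat 0) (.ofNat 0) (.ofNat 0), mq (.ofNat 1) (.ofNat 0) (.ofNat 1) (.negSucc 1) (.negSucc 0) (.ofNat 0) (.ofNat 1) (.ofNat 0)⟩,
  ⟨mq (.ofNat 2) (.ofNat 0) (.ofNat 0) (.ofNat 0) (.ofNat 0) (.ofNat 0) (.ofNat 0) (.ofNat 0), mq (.ofNat 0) (.ofNat 0) (.negSucc 1) (.ofNat 0) (.ofNat 0) (.ofNat 0) (.ofNat 0) (.ofNat 0), mq (.ofNat 1) (.ofNat 0) (.ofNat 1) (.ofNat 0) (.ofNat 1) (.ofNat 0) (.negSucc 0) (.ofNat 2)⟩,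
  ⟨mq (.ofNat 1) (.negSucc 1) (.ofNat 1) (.ofNat 0) (.ofNat 1) (.ofNat 0) (.ofNat 1) (.ofNat 0), mq (.ofNat 1) (.ofNat 0) (.ofNat 1) (.ofNat 0) (.negSucc 0) (.ofNat 2) (.negSucc 0) (.ofNat 0), mq (.ofNat 0) (.ofNat 0) (.ofNat 0) (.ofNat 0) (.ofNat 0) (.ofNat 0) (.ofNat 0) (.ofNat 0)⟩,
  ⟨mq (.ofNat 2) (.ofNat 0) (.ofNat 0) (.ofNat 0) (.ofNat 0) (.ofNat 0) (.ofNat 0) (.ofNat 0), mq (.ofNat 0) (.ofNat 0) (.ofNat 0) (.ofNat 0) (.negSucc 1) (.ofNat 0) (.ofNat 0) (.ofNat 0), mq (.negSucc 0) (.ofNat 0) (.negSucc 0) (.ofNat 0) (.negSucc 0) (.ofNat 2) (.ofNat 1) (.ofNat 0)⟩,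
  ⟨mq (.ofNat 2) (.ofNat 0) (.ofNat 0) (.ofNat 0) (.ofNat 0) (.ofNat 0) (.ofNat 0) (.ofNat 0), mq (.ofNat 0) (.ofNat 0) (.ofNat 0) (.ofNat 0) (.negSucc 1) (.ofNat 0) (.ofNat 0) (.ofNat 0), mq (.negSucc 0) (.ofNat 0) (.ofNat 1) (.negSucc 1) (.negSucc 0) (.ofNat 0) (.negSucc 0) (.ofNat 0)⟩,
  ⟨mq (.ofNat 2) (.ofNat 0) (.ofNat 0) (.ofNat 0) (.ofNat 0) (.ofNat 0) (.ofNat 0) (.ofNat 0), mq (.ofNat 0) (.ofNat 0) (.ofNat 0) (.ofNat 0) (.negSucc 1) (.ofNat 0) (.ofNat 0) (.ofNat 0), mq (.negSucc 0) (.ofNat 0) (.ofNat 1) (.ofNat 0) (.ofNat 1) (.ofNat 0) (.ofNat 1) (.negSucc 1)⟩,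
  ⟨mq (.ofNat 2) (.ofNat 0) (.ofNat 0) (.ofNat 0) (.ofNat 0) (.ofNat 0) (.ofNat 0) (.ofNat 0), mq (.ofNat 0) (.ofNat 0) (.ofNat 0) (.ofNat 0) (.negSucc 1) (.ofNat 0) (.ofNat 0) (.ofNat 0), mq (.negSucc 0) (.ofNat 2) (.negSucc 0) (.ofNat 0) (.ofNat 1) (.ofNat 0) (.negSucc 0) (.ofNat 0)⟩,
  ⟨mq (.ofNat 2) (.ofNat 0) (.ofNat 0) (.ofNat 0) (.ofNat 0) (.ofNat 0) (.ofNat 0) (.ofNat 0), mq (.ofNat 0) (.ofNat 0) (.ofNat 0) (.ofNat 0) (.negSucc 1) (.ofNat 0) (.ofNat 0) (.ofNat 0), mq (.ofNat 1) (.negSucc 1) (.ofNat 1) (.ofNat 0) (.negSucc 0) (.ofNat 0) (.ofNat 1) (.ofNat 0)⟩,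
  ⟨mq (.ofNat 2) (.ofNat 0) (.ofNat 0) (.ofNat 0) (.ofNat 0) (.ofNat 0) (.ofNat 0) (.ofNat 0), mq (.ofNat 0) (.ofNat 0) (.ofNat 0) (.ofNat 0) (.negSucc 1) (.ofNat 0) (.ofNat 0) (.ofNat 0), mq (.ofNat 1) (.ofNat 0) (.negSucc 0) (.ofNat 0) (.negSucc 0) (.ofNat 0) (.negSucc 0) (.ofNat 2)⟩,
  ⟨mq (.ofNat 2) (.ofNat 0) (.ofNat 0) (.ofNat 0) (.ofNat 0) (.ofNat 0) (.ofNat 0) (.ofNat 0), mq (.ofNat 0) (.ofNat 0) (.ofNat 0) (.ofNat 0) (.negSucc 1) (.ofNat 0) (.ofNat 0) (.ofNat 0), mq (.ofNat 1) (.ofNat 0) (.negSucc 0) (.ofNat 2) (.ofNat 1) (.ofNat 0) (.ofNat 1) (.ofNat 0)⟩,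
  ⟨mq (.ofNat 2) (.ofNat 0) (.ofNat 0) (.ofNat 0) (.ofNat 0) (.ofNat 0) (.ofNat 0) (.ofNat 0), mq (.ofNat 0) (.ofNat 0) (.ofNat 0) (.ofNat 0) (.negSucc 1) (.ofNat 0) (.ofNat 0) (.ofNat 0), mq (.ofNat 1) (.ofNat 0) (.ofNat 1) (.ofNat 0) (.ofNat 1) (.negSucc 1) (.negSucc 0) (.ofNat 0)⟩,
  ⟨mq (.ofNat 1) (.negSucc 1) (.ofNat 1) (.ofNat 0) (.ofNat 1) (.ofNat 0) (.ofNat 1) (.ofNat 0), mq (.ofNat 1) (.ofNat 0) (.negSucc 0) (.ofNat 0) (.ofNat 1) (.ofNat 0) (.negSucc 0) (.ofNat 2), mq (.ofNat 0) (.ofNat 0) (.ofNat 0) (.ofNat 0) (.ofNat 0) (.ofNat 0) (.ofNat 0) (.ofNat 0)⟩,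
  ⟨mq (.ofNat 2) (.ofNat 0) (.ofNat 0) (.ofNat 0) (.ofNat 0) (.ofNat 0) (.ofNat 0) (.ofNat 0), mq (.ofNat 0) (.ofNat 0) (.ofNat 0) (.ofNat 0) (.ofNat 0) (.ofNat 0) (.negSucc 1) (.ofNat 0), mq (.negSucc 0) (.ofNat 0) (.negSucc 0) (.ofNat 0) (.ofNat 1) (.negSucc 1) (.negSucc 0) (.ofNat 0)⟩,
  ⟨mq (.ofNat 2) (.ofNat 0) (.ofNat 0) (.ofNat 0) (.ofNat 0) (.ofNat 0) (.ofNat 0) (.ofNat 0), mq (.ofNat 0) (.ofNat 0) (.ofNat 0) (.ofNat 0) (.ofNat 0) (.ofNat 0) (.negSucc 1) (.ofNat 0), mq (.negSucc 0) (.ofNat 0) (.ofNat 1) (.negSucc 1) (.ofNat 1) (.ofNat 0) (.ofNat 1) (.ofNat 0)⟩,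
  ⟨mq (.ofNat 2) (.ofNat 0) (.ofNat 0) (.ofNat 0) (.ofNat 0) (.ofNat 0) (.ofNat 0) (.ofNat 0), mq (.ofNat 0) (.ofNat 0) (.ofNat 0) (.ofNat 0) (.ofNat 0) (.ofNat 0) (.negSucc 1) (.ofNat 0), mq (.negSucc 0) (.ofNat 0) (.ofNat 1) (.ofNat 0) (.negSucc 0) (.ofNat 0) (.negSucc 0) (.ofNat 2)⟩,
  ⟨mq (.ofNat 2) (.ofNat 0) (.ofNat 0) (.ofNat 0) (.ofNat 0) (.ofNat 0) (.ofNat 0) (.ofNat 0), mq (.ofNat 0) (.ofNat 0) (.ofNat 0) (.ofNat 0) (.ofNat 0) (.ofNat 0) (.negSucc 1) (.ofNat 0), mq (.negSucc 0) (.ofNat 2) (.negSucc 0) (.ofNat 0) (.negSucc 0) (.ofNat 0) (.ofNat 1) (.ofNat 0)⟩,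
  ⟨mq (.ofNat 2) (.ofNat 0) (.ofNat 0) (.ofNat 0) (.ofNat 0) (.ofNat 0) (.ofNat 0) (.ofNat 0), mq (.ofNat 0) (.ofNat 0) (.ofNat 0) (.ofNat 0) (.ofNat 0) (.ofNat 0) (.negSucc 1) (.ofNat 0), mq (.ofNat 1) (.negSucc 1) (.ofNat 1) (.ofNat 0) (.ofNat 1) (.ofNat 0) (.negSucc 0) (.ofNat 0)⟩,
  ⟨mq (.ofNat 2) (.ofNat 0) (.ofNat 0) (.ofNat 0) (.ofNat 0) (.ofNat 0) (.ofNat 0) (.ofNat 0), mq (.ofNat 0) (.ofNat 0) (.ofNat 0) (.ofNat 0) (.ofNat 0) (.ofNat 0) (.negSucc 1) (.ofNat 0), mq (.ofNat 1) (.ofNat 0) (.negSucc 0) (.ofNat 0) (.ofNat 1) (.ofNat 0) (.ofNat 1) (.negSucc 1)⟩,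
  ⟨mq (.ofNat 2) (.ofNat 0) (.ofNat 0) (.ofNat 0) (.ofNat 0) (.ofNat 0) (.ofNat 0) (.ofNat 0), mq (.ofNat 0) (.ofNat 0) (.ofNat 0) (.ofNat 0) (.ofNat 0) (.ofNat 0) (.negSucc 1) (.ofNat 0), mq (.ofNat 1) (.ofNat 0) (.negSucc 0) (.ofNat 2) (.negSucc 0) (.ofNat 0) (.negSucc 0) (.ofNat 0)⟩,
  ⟨mq (.ofNat 2) (.ofNat 0) (.ofNat 0) (.ofNat 0) (.ofNat 0) (.ofNat 0) (.ofNat 0) (.ofNat 0), mq (.ofNat 0) (.ofNat 0) (.ofNat 0) (.ofNat 0) (.ofNat 0) (.ofNat 0) (.negSucc 1) (.ofNat 0), mq (.ofNat 1) (.ofNat 0) (.ofNat 1) (.ofNat 0) (.negSucc 0) (.ofNat 2) (.ofNat 1) (.ofNat 0)⟩,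
  ⟨mq (.ofNat 1) (.negSucc 1) (.ofNat 1) (.ofNat 0) (.ofNat 1) (.ofNat 0) (.ofNat 1) (.ofNat 0), mq (.ofNat 0) (.ofNat 0) (.ofNat 0) (.ofNat 0) (.ofNat 0) (.ofNat 0) (.ofNat 0) (.ofNat 0), mq (.negSucc 0) (.ofNat 2) (.negSucc 0) (.ofNat 0) (.negSucc 0) (.ofNat 0) (.negSucc 0) (.ofNat 0)⟩,
  ⟨mq (.ofNat 1) (.negSucc 1) (.ofNat 1) (.ofNat 0) (.ofNat 1) (.ofNat 0) (.ofNat 1) (.ofNat 0), mq (.ofNat 0) (.ofNat 0) (.ofNat 0) (.ofNat 0) (.ofNat 0) (.ofNat 0) (.ofNat 0) (.ofNat 0), mq (.ofNat 1) (.ofNat 0) (.negSucc 0) (.ofNat 2) (.negSucc 0) (.ofNat 0) (.ofNat 1) (.ofNat 0)⟩,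
  ⟨mq (.ofNat 1) (.negSucc 1) (.ofNat 1) (.ofNat 0) (.ofNat 1) (.ofNat 0) (.ofNat 1) (.ofNat 0), mq (.ofNat 0) (.ofNat 0) (.ofNat 0) (.ofNat 0) (.ofNat 0) (.ofNat 0) (.ofNat 0) (.ofNat 0), mq (.ofNat 1) (.ofNat 0) (.ofNat 1) (.ofNat 0) (.negSucc 0) (.ofNat 2) (.negSucc 0) (.ofNat 0)⟩,
  ⟨mq (.ofNat 1) (.negSucc 1) (.ofNat 1) (.ofNat 0) (.ofNat 1) (.ofNat 0) (.ofNat 1) (.ofNat 0), mq (.ofNat 0) (.ofNat 0) (.ofNat 0) (.ofNat 0) (.ofNat 0) (.ofNat 0) (.ofNat 0) (.ofNat 0), mq (.ofNat 1) (.ofNat 0) (.negSucc 0) (.ofNat 0) (.ofNat 1) (.ofNat 0) (.negSucc 0) (.ofNat 2)⟩,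
  ⟨mq (.ofNat 0) (.ofNat 0) (.ofNat 0) (.ofNat 0) (.ofNat 0) (.ofNat 0) (.ofNat 0) (.ofNat 0), mq (.ofNat 1) (.negSucc 1) (.ofNat 1) (.ofNat 0) (.ofNat 1) (.ofNat 0) (.ofNat 1) (.ofNat 0), mq (.negSucc 0) (.ofNat 2) (.negSucc 0) (.ofNat 0) (.negSucc 0) (.ofNat 0) (.negSucc 0) (.ofNat 0)⟩,
  ⟨mq (.ofNat 0) (.ofNat 0) (.ofNat 0) (.ofNat 0) (.ofNat 0) (.ofNat 0) (.ofNat 0) (.ofNat 0), mq (.ofNat 1) (.negSucc 1) (.ofNat 1) (.ofNat 0) (.ofNat 1) (.ofNat 0) (.ofNat 1) (.ofNat 0), mq (.ofNat 1) (.ofNat 0) (.negSucc 0) (.ofNat 2) (.negSucc 0) (.ofNat 0) (.ofNat 1) (.ofNat 0)⟩,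
  ⟨mq (.ofNat 0) (.ofNat 0) (.ofNat 0) (.ofNat 0) (.ofNat 0) (.ofNat 0) (.ofNat 0) (.ofNat 0), mq (.ofNat 1) (.negSucc 1) (.ofNat 1) (.ofNat 0) (.ofNat 1) (.ofNat 0) (.ofNat 1) (.ofNat 0), mq (.ofNat 1) (.ofNat 0) (.ofNat 1) (.ofNat 0) (.negSucc 0) (.ofNat 2) (.negSucc 0) (.ofNat 0)⟩,
  ⟨mq (.ofNat 0) (.ofNat 0) (.ofNat 0) (.ofNat 0) (.ofNat 0) (.ofNat 0) (.ofNat 0) (.ofNat 0), mq (.ofNat 1) (.negSucc 1) (.ofNat 1) (.ofNat 0) (.ofNat 1) (.ofNat 0) (.ofNat 1) (.ofNat 0), mq (.ofNat 1) (.ofNat 0) (.negSucc 0) (.ofNat 0) (.ofNat 1) (.ofNat 0) (.negSucc 0) (.ofNat 2)⟩,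
  ⟨mq (.ofNat 0) (.ofNat 0) (.ofNat 0) (.ofNat 0) (.ofNat 0) (.ofNat 0) (.ofNat 0) (.ofNat 0), mq (.ofNat 0) (.ofNat 0) (.ofNat 0) (.ofNat 0) (.ofNat 0) (.ofNat 0) (.ofNat 0) (.ofNat 0), mq (.ofNat 4) (.ofNat 0) (.ofNat 0) (.ofNat 0) (.ofNat 0) (.ofNat 0) (.ofNat 0) (.ofNat 0)⟩,
  ⟨mq (.ofNat 0) (.ofNat 0) (.ofNat 0) (.ofNat 0) (.ofNat 0) (.ofNat 0) (.ofNat 0) (.ofNat 0), mq (.ofNat 4) (.ofNat 0) (.ofNat 0) (.ofNat 0) (.ofNat 0) (.ofNat 0) (.ofNat 0) (.ofNat 0), mq (.ofNat 0) (.ofNat 0) (.ofNat 0) (.ofNat 0) (.ofNat 0) (.ofNat 0) (.ofNat 0) (.ofNat 0)⟩,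
  ⟨mq (.ofNat 4) (.ofNat 0) (.ofNat 0) (.ofNat 0) (.ofNat 0) (.ofNat 0) (.ofNat 0) (.ofNat 0), mq (.ofNat 0) (.ofNat 0) (.ofNat 0) (.ofNat 0) (.ofNat 0) (.ofNat 0) (.ofNat 0) (.ofNat 0), mq (.ofNat 0) (.ofNat 0) (.ofNat 0) (.ofNat 0) (.ofNat 0) (.ofNat 0) (.ofNat 0) (.ofNat 0)⟩,
  ⟨mq (.ofNat 0) (.ofNat 0) (.ofNat 0) (.ofNat 0) (.ofNat 0) (.ofNat 0) (.ofNat 0) (.ofNat 0), mq (.ofNat 1) (.negSucc 1) (.ofNat 1) (.ofNat 0) (.ofNat 1) (.ofNat 0) (.ofNat 1) (.ofNat 0), mq (.negSucc 0) (.ofNat 0) (.ofNat 1) (.ofNat 0) (.negSucc 0) (.ofNat 0) (.ofNat 1) (.negSucc 1)⟩,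
  ⟨mq (.ofNat 0) (.ofNat 0) (.ofNat 0) (.ofNat 0) (.ofNat 0) (.ofNat 0) (.ofNat 0) (.ofNat 0), mq (.ofNat 1) (.negSucc 1) (.ofNat 1) (.ofNat 0) (.ofNat 1) (.ofNat 0) (.ofNat 1) (.ofNat 0), mq (.negSucc 0) (.ofNat 0) (.negSucc 0) (.ofNat 0) (.ofNat 1) (.negSucc 1) (.ofNat 1) (.ofNat 0)⟩,
  ⟨mq (.ofNat 0) (.ofNat 0) (.ofNat 0) (.ofNat 0) (.ofNat 0) (.ofNat 0) (.ofNat 0) (.ofNat 0), mq (.ofNat 1) (.negSucc 1) (.ofNat 1) (.ofNat 0) (.ofNat 1) (.ofNat 0) (.ofNat 1) (.ofNat 0), mq (.negSucc 0) (.ofNat 0) (.ofNat 1) (.negSucc 1) (.ofNat 1) (.ofNat 0) (.negSucc 0) (.ofNat 0)⟩,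
  ⟨mq (.ofNat 0) (.ofNat 0) (.ofNat 0) (.ofNat 0) (.ofNat 0) (.ofNat 0) (.ofNat 0) (.ofNat 0), mq (.ofNat 1) (.negSucc 1) (.ofNat 1) (.ofNat 0) (.ofNat 1) (.ofNat 0) (.ofNat 1) (.ofNat 0), mq (.ofNat 1) (.negSucc 1) (.ofNat 1) (.ofNat 0) (.ofNat 1) (.ofNat 0) (.ofNat 1) (.ofNat 0)⟩,
  ⟨mq (.ofNat 1) (.negSucc 1) (.ofNat 1) (.ofNat 0) (.ofNat 1) (.ofNat 0) (.ofNat 1) (.ofNat 0), mq (.ofNat 0) (.ofNat 0) (.ofNat 0) (.ofNat 0) (.ofNat 0) (.ofNat 0) (.ofNat 0) (.ofNat 0), mq (.negSucc 0) (.ofNat 0) (.ofNat 1) (.ofNat 0) (.negSucc 0) (.ofNat 0) (.ofNat 1) (.negSucc 1)⟩,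
  ⟨mq (.ofNat 1) (.negSucc 1) (.ofNat 1) (.ofNat 0) (.ofNat 1) (.ofNat 0) (.ofNat 1) (.ofNat 0), mq (.ofNat 0) (.ofNat 0) (.ofNat 0) (.ofNat 0) (.ofNat 0) (.ofNat 0) (.ofNat 0) (.ofNat 0), mq (.negSucc 0) (.ofNat 0) (.negSucc 0) (.ofNat 0) (.ofNat 1) (.negSucc 1) (.ofNat 1) (.ofNat 0)⟩,
  ⟨mq (.ofNat 1) (.negSucc 1) (.ofNat 1) (.ofNat 0) (.ofNat 1) (.ofNat 0) (.ofNat 1) (.ofNat 0), mq (.ofNat 0) (.ofNat 0) (.ofNat 0) (.ofNat 0) (.ofNat 0) (.ofNat 0) (.ofNat 0) (.ofNat 0), mq (.negSucc 0) (.ofNat 0) (.ofNat 1) (.negSucc 1) (.ofNat 1) (.ofNat 0) (.negSucc 0) (.ofNat 0)⟩,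
  ⟨mq (.ofNat 1) (.negSucc 1) (.ofNat 1) (.ofNat 0) (.ofNat 1) (.ofNat 0) (.ofNat 1) (.ofNat 0), mq (.ofNat 0) (.ofNat 0) (.ofNat 0) (.ofNat 0) (.ofNat 0) (.ofNat 0) (.ofNat 0) (.ofNat 0), mq (.ofNat 1) (.negSucc 1) (.ofNat 1) (.ofNat 0) (.ofNat 1) (.ofNat 0) (.ofNat 1) (.ofNat 0)⟩,
  ⟨mq (.ofNat 2) (.ofNat 0) (.ofNat 0) (.ofNat 0) (.ofNat 0) (.ofNat 0) (.ofNat 0) (.ofNat 0), mq (.ofNat 0) (.ofNat 0) (.ofNat 0) (.ofNat 0) (.ofNat 0) (.ofNat 0) (.ofNat 2) (.ofNat 0), mq (.negSucc 0) (.ofNat 0) (.negSucc 0) (.ofNat 0) (.ofNat 1) (.negSucc 1) (.negSucc 0) (.ofNat 0)⟩,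
  ⟨mq (.ofNat 2) (.ofNat 0) (.ofNat 0) (.ofNat 0) (.ofNat 0) (.ofNat 0) (.ofNat 0) (.ofNat 0), mq (.ofNat 0) (.ofNat 0) (.ofNat 0) (.ofNat 0) (.ofNat 0) (.ofNat 0) (.ofNat 2) (.ofNat 0), mq (.negSucc 0) (.ofNat 0) (.ofNat 1) (.negSucc 1) (.ofNat 1) (.ofNat 0) (.ofNat 1) (.ofNat 0)⟩,
  ⟨mq (.ofNat 2) (.ofNat 0) (.ofNat 0) (.ofNat 0) (.ofNat 0) (.ofNat 0) (.ofNat 0) (.ofNat 0), mq (.ofNat 0) (.ofNat 0) (.ofNat 0) (.ofNat 0) (.ofNat 0) (.ofNat 0) (.ofNat 2) (.ofNat 0), mq (.negSucc 0) (.ofNat 0) (.ofNat 1) (.ofNat 0) (.negSucc 0) (.ofNat 0) (.negSucc 0) (.ofNat 2)⟩,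
  ⟨mq (.ofNat 2) (.ofNat 0) (.ofNat 0) (.ofNat 0) (.ofNat 0) (.ofNat 0) (.ofNat 0) (.ofNat 0), mq (.ofNat 0) (.ofNat 0) (.ofNat 0) (.ofNat 0) (.ofNat 0) (.ofNat 0) (.ofNat 2) (.ofNat 0), mq (.negSucc 0) (.ofNat 2) (.negSucc 0) (.ofNat 0) (.negSucc 0) (.ofNat 0) (.ofNat 1) (.ofNat 0)⟩,
  ⟨mq (.ofNat 2) (.ofNat 0) (.ofNat 0) (.ofNat 0) (.ofNat 0) (.ofNat 0) (.ofNat 0) (.ofNat 0), mq (.ofNat 0) (.ofNat 0) (.ofNat 0) (.ofNat 0) (.ofNat 0) (.ofNat 0) (.ofNat 2) (.ofNat 0), mq (.ofNat 1) (.negSucc 1) (.ofNat 1) (.ofNat 0) (.ofNat 1) (.ofNat 0) (.negSucc 0) (.ofNat 0)⟩,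
  ⟨mq (.ofNat 2) (.ofNat 0) (.ofNat 0) (.ofNat 0) (.ofNat 0) (.ofNat 0) (.ofNat 0) (.ofNat 0), mq (.ofNat 0) (.ofNat 0) (.ofNat 0) (.ofNat 0) (.ofNat 0) (.ofNat 0) (.ofNat 2) (.ofNat 0), mq (.ofNat 1) (.ofNat 0) (.negSucc 0) (.ofNat 0) (.ofNat 1) (.ofNat 0) (.ofNat 1) (.negSucc 1)⟩,
  ⟨mq (.ofNat 2) (.ofNat 0) (.ofNat 0) (.ofNat 0) (.ofNat 0) (.ofNat 0) (.ofNat 0) (.ofNat 0), mq (.ofNat 0) (.ofNat 0) (.ofNat 0) (.ofNat 0) (.ofNat 0) (.ofNat 0) (.ofNat 2) (.ofNat 0), mq (.ofNat 1) (.ofNat 0) (.negSucc 0) (.ofNat 2) (.negSucc 0) (.ofNat 0) (.negSucc 0) (.ofNat 0)⟩,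
  ⟨mq (.ofNat 2) (.ofNat 0) (.ofNat 0) (.ofNat 0) (.ofNat 0) (.ofNat 0) (.ofNat 0) (.ofNat 0), mq (.ofNat 0) (.ofNat 0) (.ofNat 0) (.ofNat 0) (.ofNat 0) (.ofNat 0) (.ofNat 2) (.ofNat 0), mq (.ofNat 1) (.ofNat 0) (.ofNat 1) (.ofNat 0) (.negSucc 0) (.ofNat 2) (.ofNat 1) (.ofNat 0)⟩,
  ⟨mq (.ofNat 1) (.negSucc 1) (.ofNat 1) (.ofNat 0) (.ofNat 1) (.ofNat 0) (.ofNat 1) (.ofNat 0), mq (.negSucc 0) (.ofNat 0) (.ofNat 1) (.ofNat 0) (.negSucc 0) (.ofNat 0) (.ofNat 1) (.negSucc 1), mq (.ofNat 0) (.ofNat 0) (.ofNat 0) (.ofNat 0) (.ofNat 0) (.ofNat 0) (.ofNat 0) (.ofNat 0)⟩,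
  ⟨mq (.ofNat 2) (.ofNat 0) (.ofNat 0) (.ofNat 0) (.ofNat 0) (.ofNat 0) (.ofNat 0) (.ofNat 0), mq (.ofNat 0) (.ofNat 0) (.ofNat 0) (.ofNat 0) (.ofNat 2) (.ofNat 0) (.ofNat 0) (.ofNat 0), mq (.negSucc 0) (.ofNat 0) (.negSucc 0) (.ofNat 0) (.negSucc 0) (.ofNat 2) (.ofNat 1) (.ofNat 0)⟩,
  ⟨mq (.ofNat 2) (.ofNat 0) (.ofNat 0) (.ofNat 0) (.ofNat 0) (.ofNat 0) (.ofNat 0) (.ofNat 0), mq (.ofNat 0) (.ofNat 0) (.ofNat 0) (.ofNat 0) (.ofNat 2) (.ofNat 0) (.ofNat 0) (.ofNat 0), mq (.negSucc 0) (.ofNat 0) (.ofNat 1) (.negSucc 1) (.negSucc 0) (.ofNat 0) (.negSucc 0) (.ofNat 0)⟩,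
  ⟨mq (.ofNat 2) (.ofNat 0) (.ofNat 0) (.ofNat 0) (.ofNat 0) (.ofNat 0) (.ofNat 0) (.ofNat 0), mq (.ofNat 0) (.ofNat 0) (.ofNat 0) (.ofNat 0) (.ofNat 2) (.ofNat 0) (.ofNat 0) (.ofNat 0), mq (.negSucc 0) (.ofNat 0) (.ofNat 1) (.ofNat 0) (.ofNat 1) (.ofNat 0) (.ofNat 1) (.negSucc 1)⟩,
  ⟨mq (.ofNat 2) (.ofNat 0) (.ofNat 0) (.ofNat 0) (.ofNat 0) (.ofNat 0) (.ofNat 0) (.ofNat 0), mq (.ofNat 0) (.ofNat 0) (.ofNat 0) (.ofNat 0) (.ofNat 2) (.ofNat 0) (.ofNat 0) (.ofNat 0), mq (.negSucc 0) (.ofNat 2) (.negSucc 0) (.ofNat 0) (.ofNat 1) (.ofNat 0) (.negSucc 0) (.ofNat 0)⟩,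
  ⟨mq (.ofNat 2) (.ofNat 0) (.ofNat 0) (.ofNat 0) (.ofNat 0) (.ofNat 0) (.ofNat 0) (.ofNat 0), mq (.ofNat 0) (.ofNat 0) (.ofNat 0) (.ofNat 0) (.ofNat 2) (.ofNat 0) (.ofNat 0) (.ofNat 0), mq (.ofNat 1) (.negSucc 1) (.ofNat 1) (.ofNat 0) (.negSucc 0) (.ofNat 0) (.ofNat 1) (.ofNat 0)⟩,
  ⟨mq (.ofNat 2) (.ofNat 0) (.ofNat 0) (.ofNat 0) (.ofNat 0) (.ofNat 0) (.ofNat 0) (.ofNat 0), mq (.ofNat 0) (.ofNat 0) (.ofNat 0) (.ofNat 0) (.ofNat 2) (.ofNat 0) (.ofNat 0) (.ofNat 0), mq (.ofNat 1) (.ofNat 0) (.negSucc 0) (.ofNat 0) (.negSucc 0) (.ofNat 0) (.negSucc 0) (.ofNat 2)⟩,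
  ⟨mq (.ofNat 2) (.ofNat 0) (.ofNat 0) (.ofNat 0) (.ofNat 0) (.ofNat 0) (.ofNat 0) (.ofNat 0), mq (.ofNat 0) (.ofNat 0) (.ofNat 0) (.ofNat 0) (.ofNat 2) (.ofNat 0) (.ofNat 0) (.ofNat 0), mq (.ofNat 1) (.ofNat 0) (.negSucc 0) (.ofNat 2) (.ofNat 1) (.ofNat 0) (.ofNat 1) (.ofNat 0)⟩,
  ⟨mq (.ofNat 2) (.ofNat 0) (.ofNat 0) (.ofNat 0) (.ofNat 0) (.ofNat 0) (.ofNat 0) (.ofNat 0), mq (.ofNat 0) (.ofNat 0) (.ofNat 0) (.ofNat 0) (.ofNat 2) (.ofNat 0) (.ofNat 0) (.ofNat 0), mq (.ofNat 1) (.ofNat 0) (.ofNat 1) (.ofNat 0) (.ofNat 1) (.negSucc 1) (.negSucc 0) (.ofNat 0)⟩,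
  ⟨mq (.ofNat 1) (.negSucc 1) (.ofNat 1) (.ofNat 0) (.ofNat 1) (.ofNat 0) (.ofNat 1) (.ofNat 0), mq (.negSucc 0) (.ofNat 0) (.negSucc 0) (.ofNat 0) (.ofNat 1) (.negSucc 1) (.ofNat 1) (.ofNat 0), mq (.ofNat 0) (.ofNat 0) (.ofNat 0) (.ofNat 0) (.ofNat 0) (.ofNat 0) (.ofNat 0) (.ofNat 0)⟩,
  ⟨mq (.ofNat 2) (.ofNat 0) (.ofNat 0) (.ofNat 0) (.ofNat 0) (.ofNat 0) (.ofNat 0) (.ofNat 0), mq (.ofNat 0) (.ofNat 0) (.ofNat 2) (.ofNat 0) (.ofNat 0) (.ofNat 0) (.ofNat 0) (.ofNat 0), mq (.negSucc 0) (.ofNat 0) (.negSucc 0) (.ofNat 0) (.negSucc 0) (.ofNat 0) (.ofNat 1) (.negSucc 1)⟩,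
  ⟨mq (.ofNat 2) (.ofNat 0) (.ofNat 0) (.ofNat 0) (.ofNat 0) (.ofNat 0) (.ofNat 0) (.ofNat 0), mq (.ofNat 0) (.ofNat 0) (.ofNat 2) (.ofNat 0) (.ofNat 0) (.ofNat 0) (.ofNat 0) (.ofNat 0), mq (.negSucc 0) (.ofNat 0) (.negSucc 0) (.ofNat 2) (.ofNat 1) (.ofNat 0) (.negSucc 0) (.ofNat 0)⟩,
  ⟨mq (.ofNat 2) (.ofNat 0) (.ofNat 0) (.ofNat 0) (.ofNat 0) (.ofNat 0) (.ofNat 0) (.ofNat 0), mq (.ofNat 0) (.ofNat 0) (.ofNat 2) (.ofNat 0) (.ofNat 0) (.ofNat 0) (.ofNat 0) (.ofNat 0), mq (.negSucc 0) (.ofNat 0) (.ofNat 1) (.ofNat 0) (.ofNat 1) (.negSucc 1) (.ofNat 1) (.ofNat 0)⟩,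
  ⟨mq (.ofNat 2) (.ofNat 0) (.ofNat 0) (.ofNat 0) (.ofNat 0) (.ofNat 0) (.ofNat 0) (.ofNat 0), mq (.ofNat 0) (.ofNat 0) (.ofNat 2) (.ofNat 0) (.ofNat 0) (.ofNat 0) (.ofNat 0) (.ofNat 0), mq (.negSucc 0) (.ofNat 2) (.ofNat 1) (.ofNat 0) (.negSucc 0) (.ofNat 0) (.negSucc 0) (.ofNat 0)⟩]
def LR3 : List V := [⟨mq (.ofNat 2) (.ofNat 0) (.ofNat 0) (.ofNat 0) (.ofNat 0) (.ofNat 0) (.ofNat 0) (.ofNat 0), mq (.ofNat 0) (.ofNat 0) (.ofNat 2) (.ofNat 0) (.ofNat 0) (.ofNat 0) (.ofNat 0) (.ofNat 0), mq (.ofNat 1) (.negSucc 1) (.negSucc 0) (.ofNat 0) (.ofNat 1) (.ofNat 0) (.ofNat 1) (.ofNat 0)⟩,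
  ⟨mq (.ofNat 2) (.ofNat 0) (.ofNat 0) (.ofNat 0) (.ofNat 0) (.ofNat 0) (.ofNat 0) (.ofNat 0), mq (.ofNat 0) (.ofNat 0) (.ofNat 2) (.ofNat 0) (.ofNat 0) (.ofNat 0) (.ofNat 0) (.ofNat 0), mq (.ofNat 1) (.ofNat 0) (.negSucc 0) (.ofNat 0) (.negSucc 0) (.ofNat 2) (.negSucc 0) (.ofNat 0)⟩,
  ⟨mq (.ofNat 2) (.ofNat 0) (.ofNat 0) (.ofNat 0) (.ofNat 0) (.ofNat 0) (.ofNat 0) (.ofNat 0), mq (.ofNat 0) (.ofNat 0) (.ofNat 2) (.ofNat 0) (.ofNat 0) (.ofNat 0) (.ofNat 0) (.ofNat 0), mq (.ofNat 1) (.ofNat 0) (.ofNat 1) (.negSucc 1) (.negSucc 0) (.ofNat 0) (.ofNat 1) (.ofNat 0)⟩,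
  ⟨mq (.ofNat 2) (.ofNat 0) (.ofNat 0) (.ofNat 0) (.ofNat 0) (.ofNat 0) (.ofNat 0) (.ofNat 0), mq (.ofNat 0) (.ofNat 0) (.ofNat 2) (.ofNat 0) (.ofNat 0) (.ofNat 0) (.ofNat 0) (.ofNat 0), mq (.ofNat 1) (.ofNat 0) (.ofNat 1) (.ofNat 0) (.ofNat 1) (.ofNat 0) (.negSucc 0) (.ofNat 2)⟩,
  ⟨mq (.ofNat 1) (.negSucc 1) (.ofNat 1) (.ofNat 0) (.ofNat 1) (.ofNat 0) (.ofNat 1) (.ofNat 0), mq (.negSucc 0) (.ofNat 0) (.ofNat 1) (.negSucc 1) (.ofNat 1) (.ofNat 0) (.negSucc 0) (.ofNat 0), mq (.ofNat 0) (.ofNat 0) (.ofNat 0) (.ofNat 0) (.ofNat 0) (.ofNat 0) (.ofNat 0) (.ofNat 0)⟩,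
  ⟨mq (.ofNat 2) (.ofNat 0) (.ofNat 0) (.ofNat 0) (.ofNat 0) (.ofNat 0) (.ofNat 0) (.ofNat 0), mq (.ofNat 0) (.ofNat 1) (.ofNat 0) (.negSucc 0) (.ofNat 0) (.negSucc 0) (.ofNat 0) (.negSucc 0), mq (.negSucc 0) (.ofNat 1) (.negSucc 0) (.ofNat 1) (.negSucc 0) (.ofNat 1) (.negSucc 0) (.ofNat 1)⟩,
  ⟨mq (.ofNat 2) (.ofNat 0) (.ofNat 0) (.ofNat 0) (.ofNat 0) (.ofNat 0) (.ofNat 0) (.ofNat 0), mq (.ofNat 0) (.ofNat 1) (.ofNat 0) (.negSucc 0) (.ofNat 0) (.negSucc 0) (.ofNat 0) (.negSucc 0), mq (.ofNat 1) (.negSucc 0) (.ofNat 1) (.negSucc 0) (.ofNat 1) (.negSucc 0) (.ofNat 1) (.negSucc 0)⟩,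
  ⟨mq (.ofNat 0) (.ofNat 1) (.ofNat 0) (.ofNat 1) (.ofNat 0) (.ofNat 1) (.ofNat 0) (.negSucc 0), mq (.ofNat 2) (.ofNat 0) (.ofNat 0) (.ofNat 0) (.ofNat 0) (.ofNat 0) (.ofNat 0) (.ofNat 0), mq (.ofNat 1) (.negSucc 0) (.ofNat 1) (.negSucc 0) (.negSucc 0) (.ofNat 1) (.negSucc 0) (.ofNat 1)⟩,
  ⟨mq (.ofNat 0) (.ofNat 1) (.ofNat 0) (.ofNat 1) (.ofNat 0) (.ofNat 1) (.ofNat 0) (.negSucc 0), mq (.ofNat 2) (.ofNat 0) (.ofNat 0) (.ofNat 0) (.ofNat 0) (.ofNat 0) (.ofNat 0) (.ofNat 0), mq (.negSucc 0) (.ofNat 1) (.negSucc 0) (.ofNat 1) (.ofNat 1) (.negSucc 0) (.ofNat 1) (.negSucc 0)⟩,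
  ⟨mq (.ofNat 0) (.ofNat 1) (.ofNat 0) (.ofNat 1) (.ofNat 0) (.negSucc 0) (.ofNat 0) (.ofNat 1), mq (.ofNat 2) (.ofNat 0) (.ofNat 0) (.ofNat 0) (.ofNat 0) (.ofNat 0) (.ofNat 0) (.ofNat 0), mq (.ofNat 1) (.negSucc 0) (.negSucc 0) (.ofNat 1) (.negSucc 0) (.ofNat 1) (.ofNat 1) (.negSucc 0)⟩,
  ⟨mq (.ofNat 0) (.ofNat 1) (.ofNat 0) (.ofNat 1) (.ofNat 0) (.negSucc 0) (.ofNat 0) (.ofNat 1), mq (.ofNat 2) (.ofNat 0) (.ofNat 0) (.ofNat 0) (.ofNat 0) (.ofNat 0) (.ofNat 0) (.ofNat 0), mq (.negSucc 0) (.ofNat 1) (.ofNat 1) (.negSucc 0) (.ofNat 1) (.negSucc 0) (.negSucc 0) (.ofNat 1)⟩,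
  ⟨mq (.ofNat 2) (.ofNat 0) (.ofNat 0) (.ofNat 0) (.ofNat 0) (.ofNat 0) (.ofNat 0) (.ofNat 0), mq (.ofNat 0) (.ofNat 1) (.ofNat 0) (.negSucc 0) (.ofNat 0) (.ofNat 1) (.ofNat 0) (.ofNat 1), mq (.negSucc 0) (.ofNat 1) (.ofNat 1) (.negSucc 0) (.negSucc 0) (.ofNat 1) (.ofNat 1) (.negSucc 0)⟩,
  ⟨mq (.ofNat 2) (.ofNat 0) (.ofNat 0) (.ofNat 0) (.ofNat 0) (.ofNat 0) (.ofNat 0) (.ofNat 0), mq (.ofNat 0) (.ofNat 1) (.ofNat 0) (.negSucc 0) (.ofNat 0) (.ofNat 1) (.ofNat 0) (.ofNat 1), mq (.ofNat 1) (.negSucc 0) (.negSucc 0) (.ofNat 1) (.ofNat 1) (.negSucc 0) (.negSucc 0) (.ofNat 1)⟩,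
  ⟨mq (.ofNat 0) (.ofNat 1) (.ofNat 0) (.negSucc 0) (.ofNat 0) (.ofNat 1) (.ofNat 0) (.ofNat 1), mq (.ofNat 2) (.ofNat 0) (.ofNat 0) (.ofNat 0) (.ofNat 0) (.ofNat 0) (.ofNat 0) (.ofNat 0), mq (.ofNat 1) (.negSucc 0) (.negSucc 0) (.ofNat 1) (.ofNat 1) (.negSucc 0) (.negSucc 0) (.ofNat 1)⟩,
  ⟨mq (.ofNat 0) (.ofNat 1) (.ofNat 0) (.negSucc 0) (.ofNat 0) (.ofNat 1) (.ofNat 0) (.ofNat 1), mq (.ofNat 2) (.ofNat 0) (.ofNat 0) (.ofNat 0) (.ofNat 0) (.ofNat 0) (.ofNat 0) (.ofNat 0), mq (.negSucc 0) (.ofNat 1) (.ofNat 1) (.negSucc 0) (.negSucc 0) (.ofNat 1) (.ofNat 1) (.negSucc 0)⟩,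
  ⟨mq (.ofNat 2) (.ofNat 0) (.ofNat 0) (.ofNat 0) (.ofNat 0) (.ofNat 0) (.ofNat 0) (.ofNat 0), mq (.ofNat 0) (.ofNat 1) (.ofNat 0) (.ofNat 1) (.ofNat 0) (.negSucc 0) (.ofNat 0) (.ofNat 1), mq (.negSucc 0) (.ofNat 1) (.ofNat 1) (.negSucc 0) (.ofNat 1) (.negSucc 0) (.negSucc 0) (.ofNat 1)⟩,
  ⟨mq (.ofNat 2) (.ofNat 0) (.ofNat 0) (.ofNat 0) (.ofNat 0) (.ofNat 0) (.ofNat 0) (.ofNat 0), mq (.ofNat 0) (.ofNat 1) (.ofNat 0) (.ofNat 1) (.ofNat 0) (.negSucc 0) (.ofNat 0) (.ofNat 1), mq (.ofNat 1) (.negSucc 0) (.negSucc 0) (.ofNat 1) (.negSucc 0) (.ofNat 1) (.ofNat 1) (.negSucc 0)⟩,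
  ⟨mq (.ofNat 2) (.ofNat 0) (.ofNat 0) (.ofNat 0) (.ofNat 0) (.ofNat 0) (.ofNat 0) (.ofNat 0), mq (.ofNat 0) (.ofNat 1) (.ofNat 0) (.ofNat 1) (.ofNat 0) (.ofNat 1) (.ofNat 0) (.negSucc 0), mq (.negSucc 0) (.ofNat 1) (.negSucc 0) (.ofNat 1) (.ofNat 1) (.negSucc 0) (.ofNat 1) (.negSucc 0)⟩,
  ⟨mq (.ofNat 2) (.ofNat 0) (.ofNat 0) (.ofNat 0) (.ofNat 0) (.ofNat 0) (.ofNat 0) (.ofNat 0), mq (.ofNat 0) (.ofNat 1) (.ofNat 0) (.ofNat 1) (.ofNat 0) (.ofNat 1) (.ofNat 0) (.negSucc 0), mq (.ofNat 1) (.negSucc 0) (.ofNat 1) (.negSucc 0) (.negSucc 0) (.ofNat 1) (.negSucc 0) (.ofNat 1)⟩,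
  ⟨mq (.ofNat 0) (.ofNat 1) (.ofNat 0) (.negSucc 0) (.ofNat 0) (.negSucc 0) (.ofNat 0) (.negSucc 0), mq (.ofNat 2) (.ofNat 0) (.ofNat 0) (.ofNat 0) (.ofNat 0) (.ofNat 0) (.ofNat 0) (.ofNat 0), mq (.negSucc 0) (.ofNat 1) (.negSucc 0) (.ofNat 1) (.negSucc 0) (.ofNat 1) (.negSucc 0) (.ofNat 1)⟩,
  ⟨mq (.ofNat 0) (.ofNat 1) (.ofNat 0) (.negSucc 0) (.ofNat 0) (.negSucc 0) (.ofNat 0) (.negSucc 0), mq (.ofNat 2) (.ofNat 0) (.ofNat 0) (.ofNat 0) (.ofNat 0) (.ofNat 0) (.ofNat 0) (.ofNat 0), mq (.ofNat 1) (.negSucc 0) (.ofNat 1) (.negSucc 0) (.ofNat 1) (.negSucc 0) (.ofNat 1) (.negSucc 0)⟩,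
  ⟨mq (.ofNat 2) (.ofNat 0) (.ofNat 0) (.ofNat 0) (.ofNat 0) (.ofNat 0) (.ofNat 0) (.ofNat 0), mq (.ofNat 1) (.negSucc 1) (.negSucc 0) (.ofNat 0) (.negSucc 0) (.ofNat 0) (.negSucc 0) (.ofNat 0), mq (.negSucc 1) (.ofNat 0) (.ofNat 0) (.ofNat 0) (.ofNat 0) (.ofNat 0) (.ofNat 0) (.ofNat 0)⟩,
  ⟨mq (.ofNat 2) (.ofNat 0) (.ofNat 0) (.ofNat 0) (.ofNat 0) (.ofNat 0) (.ofNat 0) (.ofNat 0), mq (.ofNat 1) (.negSucc 1) (.negSucc 0) (.ofNat 0) (.negSucc 0) (.ofNat 0) (.negSucc 0) (.ofNat 0), mq (.ofNat 2) (.ofNat 0) (.ofNat 0) (.ofNat 0) (.ofNat 0) (.ofNat 0) (.ofNat 0) (.ofNat 0)⟩,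
  ⟨mq (.ofNat 1) (.negSucc 1) (.ofNat 1) (.ofNat 0) (.ofNat 1) (.ofNat 0) (.negSucc 0) (.ofNat 0), mq (.ofNat 2) (.ofNat 0) (.ofNat 0) (.ofNat 0) (.ofNat 0) (.ofNat 0) (.ofNat 0) (.ofNat 0), mq (.ofNat 0) (.ofNat 0) (.ofNat 0) (.ofNat 0) (.ofNat 0) (.ofNat 0) (.ofNat 2) (.ofNat 0)⟩,
  ⟨mq (.ofNat 1) (.negSucc 1) (.ofNat 1) (.ofNat 0) (.ofNat 1) (.ofNat 0) (.negSucc 0) (.ofNat 0), mq (.ofNat 2) (.ofNat 0) (.ofNat 0) (.ofNat 0) (.ofNat 0) (.ofNat 0) (.ofNat 0) (.ofNat 0), mq (.ofNat 0) (.ofNat 0) (.ofNat 0) (.ofNat 0) (.ofNat 0) (.ofNat 0) (.negSucc 1) (.ofNat 0)⟩,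
  ⟨mq (.ofNat 1) (.negSucc 1) (.ofNat 1) (.ofNat 0) (.negSucc 0) (.ofNat 0) (.ofNat 1) (.ofNat 0), mq (.ofNat 2) (.ofNat 0) (.ofNat 0) (.ofNat 0) (.ofNat 0) (.ofNat 0) (.ofNat 0) (.ofNat 0), mq (.ofNat 0) (.ofNat 0) (.ofNat 0) (.ofNat 0) (.ofNat 2) (.ofNat 0) (.ofNat 0) (.ofNat 0)⟩,
  ⟨mq (.ofNat 1) (.negSucc 1) (.ofNat 1) (.ofNat 0) (.negSucc 0) (.ofNat 0) (.ofNat 1) (.ofNat 0), mq (.ofNat 2) (.ofNat 0) (.ofNat 0) (.ofNat 0) (.ofNat 0) (.ofNat 0) (.ofNat 0) (.ofNat 0), mq (.ofNat 0) (.ofNat 0) (.ofNat 0) (.ofNat 0) (.negSucc 1) (.ofNat 0) (.ofNat 0) (.ofNat 0)⟩,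
  ⟨mq (.ofNat 2) (.ofNat 0) (.ofNat 0) (.ofNat 0) (.ofNat 0) (.ofNat 0) (.ofNat 0) (.ofNat 0), mq (.ofNat 1) (.negSucc 1) (.negSucc 0) (.ofNat 0) (.ofNat 1) (.ofNat 0) (.ofNat 1) (.ofNat 0), mq (.ofNat 0) (.ofNat 0) (.negSucc 1) (.ofNat 0) (.ofNat 0) (.ofNat 0) (.ofNat 0) (.ofNat 0)⟩,
  ⟨mq (.ofNat 2) (.ofNat 0) (.ofNat 0) (.ofNat 0) (.ofNat 0) (.ofNat 0) (.ofNat 0) (.ofNat 0), mq (.ofNat 1) (.negSucc 1) (.negSucc 0) (.ofNat 0) (.ofNat 1) (.ofNat 0) (.ofNat 1) (.ofNat 0), mq (.ofNat 0) (.ofNat 0) (.ofNat 2) (.ofNat 0) (.ofNat 0) (.ofNat 0) (.ofNat 0) (.ofNat 0)⟩,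
  ⟨mq (.ofNat 1) (.negSucc 1) (.negSucc 0) (.ofNat 0) (.ofNat 1) (.ofNat 0) (.ofNat 1) (.ofNat 0), mq (.ofNat 2) (.ofNat 0) (.ofNat 0) (.ofNat 0) (.ofNat 0) (.ofNat 0) (.ofNat 0) (.ofNat 0), mq (.ofNat 0) (.ofNat 0) (.ofNat 2) (.ofNat 0) (.ofNat 0) (.ofNat 0) (.ofNat 0) (.ofNat 0)⟩,
  ⟨mq (.ofNat 1) (.negSucc 1) (.negSucc 0) (.ofNat 0) (.ofNat 1) (.ofNat 0) (.ofNat 1) (.ofNat 0), mq (.ofNat 2) (.ofNat 0) (.ofNat 0) (.ofNat 0) (.ofNat 0) (.ofNat 0) (.ofNat 0) (.ofNat 0), mq (.ofNat 0) (.ofNat 0) (.negSucc 1) (.ofNat 0) (.ofNat 0) (.ofNat 0) (.ofNat 0) (.ofNat 0)⟩,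
  ⟨mq (.ofNat 2) (.ofNat 0) (.ofNat 0) (.ofNat 0) (.ofNat 0) (.ofNat 0) (.ofNat 0) (.ofNat 0), mq (.ofNat 1) (.negSucc 1) (.ofNat 1) (.ofNat 0) (.negSucc 0) (.ofNat 0) (.ofNat 1) (.ofNat 0), mq (.ofNat 0) (.ofNat 0) (.ofNat 0) (.ofNat 0) (.negSucc 1) (.ofNat 0) (.ofNat 0) (.ofNat 0)⟩,
  ⟨mq (.ofNat 2) (.ofNat 0) (.ofNat 0) (.ofNat 0) (.ofNat 0) (.ofNat 0) (.ofNat 0) (.ofNat 0), mq (.ofNat 1) (.negSucc 1) (.ofNat 1) (.ofNat 0) (.negSucc 0) (.ofNat 0) (.ofNat 1) (.ofNat 0), mq (.ofNat 0) (.ofNat 0) (.ofNat 0) (.ofNat 0) (.ofNat 2) (.ofNat 0) (.ofNat 0) (.ofNat 0)⟩,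
  ⟨mq (.ofNat 2) (.ofNat 0) (.ofNat 0) (.ofNat 0) (.ofNat 0) (.ofNat 0) (.ofNat 0) (.ofNat 0), mq (.ofNat 1) (.negSucc 1) (.ofNat 1) (.ofNat 0) (.ofNat 1) (.ofNat 0) (.negSucc 0) (.ofNat 0), mq (.ofNat 0) (.ofNat 0) (.ofNat 0) (.ofNat 0) (.ofNat 0) (.ofNat 0) (.negSucc 1) (.ofNat 0)⟩,
  ⟨mq (.ofNat 2) (.ofNat 0) (.ofNat 0) (.ofNat 0) (.ofNat 0) (.ofNat 0) (.ofNat 0) (.ofNat 0), mq (.ofNat 1) (.negSucc 1) (.ofNat 1) (.ofNat 0) (.ofNat 1) (.ofNat 0) (.negSucc 0) (.ofNat 0), mq (.ofNat 0) (.ofNat 0) (.ofNat 0) (.ofNat 0) (.ofNat 0) (.ofNat 0) (.ofNat 2) (.ofNat 0)⟩,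
  ⟨mq (.ofNat 1) (.negSucc 1) (.negSucc 0) (.ofNat 0) (.negSucc 0) (.ofNat 0) (.negSucc 0) (.ofNat 0), mq (.ofNat 2) (.ofNat 0) (.ofNat 0) (.ofNat 0) (.ofNat 0) (.ofNat 0) (.ofNat 0) (.ofNat 0), mq (.negSucc 1) (.ofNat 0) (.ofNat 0) (.ofNat 0) (.ofNat 0) (.ofNat 0) (.ofNat 0) (.ofNat 0)⟩,
  ⟨mq (.ofNat 1) (.negSucc 1) (.negSucc 0) (.ofNat 0) (.negSucc 0) (.ofNat 0) (.negSucc 0) (.ofNat 0), mq (.ofNat 2) (.ofNat 0) (.ofNat 0) (.ofNat 0) (.ofNat 0) (.ofNat 0) (.ofNat 0) (.ofNat 0), mq (.ofNat 2) (.ofNat 0) (.ofNat 0) (.ofNat 0) (.ofNat 0) (.ofNat 0) (.ofNat 0) (.ofNat 0)⟩,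
  ⟨mq (.ofNat 1) (.negSucc 0) (.ofNat 1) (.negSucc 0) (.ofNat 1) (.negSucc 0) (.ofNat 1) (.negSucc 0), mq (.ofNat 2) (.ofNat 0) (.ofNat 0) (.ofNat 0) (.ofNat 0) (.ofNat 0) (.ofNat 0) (.ofNat 0), mq (.ofNat 0) (.negSucc 0) (.ofNat 0) (.ofNat 1) (.ofNat 0) (.ofNat 1) (.ofNat 0) (.ofNat 1)⟩,
  ⟨mq (.ofNat 1) (.negSucc 0) (.ofNat 1) (.negSucc 0) (.ofNat 1) (.negSucc 0) (.ofNat 1) (.negSucc 0), mq (.ofNat 2) (.ofNat 0) (.ofNat 0) (.ofNat 0) (.ofNat 0) (.ofNat 0) (.ofNat 0) (.ofNat 0), mq (.ofNat 0) (.ofNat 1) (.ofNat 0) (.negSucc 0) (.ofNat 0) (.negSucc 0) (.ofNat 0) (.negSucc 0)⟩,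
  ⟨mq (.ofNat 2) (.ofNat 0) (.ofNat 0) (.ofNat 0) (.ofNat 0) (.ofNat 0) (.ofNat 0) (.ofNat 0), mq (.ofNat 1) (.negSucc 0) (.negSucc 0) (.ofNat 1) (.negSucc 0) (.ofNat 1) (.ofNat 1) (.negSucc 0), mq (.ofNat 0) (.negSucc 0) (.ofNat 0) (.negSucc 0) (.ofNat 0) (.ofNat 1) (.ofNat 0) (.negSucc 0)⟩,
  ⟨mq (.ofNat 2) (.ofNat 0) (.ofNat 0) (.ofNat 0) (.ofNat 0) (.ofNat 0) (.ofNat 0) (.ofNat 0), mq (.ofNat 1) (.negSucc 0) (.negSucc 0) (.ofNat 1) (.negSucc 0) (.ofNat 1) (.ofNat 1) (.negSucc 0), mq (.ofNat 0) (.ofNat 1) (.ofNat 0) (.ofNat 1) (.ofNat 0) (.negSucc 0) (.ofNat 0) (.ofNat 1)⟩,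
  ⟨mq (.ofNat 2) (.ofNat 0) (.ofNat 0) (.ofNat 0) (.ofNat 0) (.ofNat 0) (.ofNat 0) (.ofNat 0), mq (.ofNat 1) (.negSucc 0) (.negSucc 0) (.ofNat 1) (.ofNat 1) (.negSucc 0) (.negSucc 0) (.ofNat 1), mq (.ofNat 0) (.negSucc 0) (.ofNat 0) (.ofNat 1) (.ofNat 0) (.negSucc 0) (.ofNat 0) (.negSucc 0)⟩,
  ⟨mq (.ofNat 2) (.ofNat 0) (.ofNat 0) (.ofNat 0) (.ofNat 0) (.ofNat 0) (.ofNat 0) (.ofNat 0), mq (.ofNat 1) (.negSucc 0) (.negSucc 0) (.ofNat 1) (.ofNat 1) (.negSucc 0) (.negSucc 0) (.ofNat 1), mq (.ofNat 0) (.ofNat 1) (.ofNat 0) (.negSucc 0) (.ofNat 0) (.ofNat 1) (.ofNat 0) (.ofNat 1)⟩,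
  ⟨mq (.ofNat 1) (.negSucc 0) (.ofNat 1) (.negSucc 0) (.negSucc 0) (.ofNat 1) (.negSucc 0) (.ofNat 1), mq (.ofNat 2) (.ofNat 0) (.ofNat 0) (.ofNat 0) (.ofNat 0) (.ofNat 0) (.ofNat 0) (.ofNat 0), mq (.ofNat 0) (.ofNat 1) (.ofNat 0) (.ofNat 1) (.ofNat 0) (.ofNat 1) (.ofNat 0) (.negSucc 0)⟩,
  ⟨mq (.ofNat 1) (.negSucc 0) (.ofNat 1) (.negSucc 0) (.negSucc 0) (.ofNat 1) (.negSucc 0) (.ofNat 1), mq (.ofNat 2) (.ofNat 0) (.ofNat 0) (.ofNat 0) (.ofNat 0) (.ofNat 0) (.ofNat 0) (.ofNat 0), mq (.ofNat 0) (.negSucc 0) (.ofNat 0) (.negSucc 0) (.ofNat 0) (.negSucc 0) (.ofNat 0) (.ofNat 1)⟩,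
  ⟨mq (.ofNat 2) (.ofNat 0) (.ofNat 0) (.ofNat 0) (.ofNat 0) (.ofNat 0) (.ofNat 0) (.ofNat 0), mq (.ofNat 1) (.negSucc 0) (.ofNat 1) (.negSucc 0) (.negSucc 0) (.ofNat 1) (.negSucc 0) (.ofNat 1), mq (.ofNat 0) (.negSucc 0) (.ofNat 0) (.negSucc 0) (.ofNat 0) (.negSucc 0) (.ofNat 0) (.ofNat 1)⟩,
  ⟨mq (.ofNat 2) (.ofNat 0) (.ofNat 0) (.ofNat 0) (.ofNat 0) (.ofNat 0) (.ofNat 0) (.ofNat 0), mq (.ofNat 1) (.negSucc 0) (.ofNat 1) (.negSucc 0) (.negSucc 0) (.ofNat 1) (.negSucc 0) (.ofNat 1), mq (.ofNat 0) (.ofNat 1) (.ofNat 0) (.ofNat 1) (.ofNat 0) (.ofNat 1) (.ofNat 0) (.negSucc 0)⟩,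
  ⟨mq (.ofNat 1) (.negSucc 0) (.negSucc 0) (.ofNat 1) (.ofNat 1) (.negSucc 0) (.negSucc 0) (.ofNat 1), mq (.ofNat 2) (.ofNat 0) (.ofNat 0) (.ofNat 0) (.ofNat 0) (.ofNat 0) (.ofNat 0) (.ofNat 0), mq (.ofNat 0) (.ofNat 1) (.ofNat 0) (.negSucc 0) (.ofNat 0) (.ofNat 1) (.ofNat 0) (.ofNat 1)⟩,
  ⟨mq (.ofNat 1) (.negSucc 0) (.negSucc 0) (.ofNat 1) (.ofNat 1) (.negSucc 0) (.negSucc 0) (.ofNat 1), mq (.ofNat 2) (.ofNat 0) (.ofNat 0) (.ofNat 0) (.ofNat 0) (.ofNat 0) (.ofNat 0) (.ofNat 0), mq (.ofNat 0) (.negSucc 0) (.ofNat 0) (.ofNat 1) (.ofNat 0) (.negSucc 0) (.ofNat 0) (.negSucc 0)⟩,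
  ⟨mq (.ofNat 1) (.negSucc 0) (.negSucc 0) (.ofNat 1) (.negSucc 0) (.ofNat 1) (.ofNat 1) (.negSucc 0), mq (.ofNat 2) (.ofNat 0) (.ofNat 0) (.ofNat 0) (.ofNat 0) (.ofNat 0) (.ofNat 0) (.ofNat 0), mq (.ofNat 0) (.ofNat 1) (.ofNat 0) (.ofNat 1) (.ofNat 0) (.negSucc 0) (.ofNat 0) (.ofNat 1)⟩,
  ⟨mq (.ofNat 1) (.negSucc 0) (.negSucc 0) (.ofNat 1) (.negSucc 0) (.ofNat 1) (.ofNat 1) (.negSucc 0), mq (.ofNat 2) (.ofNat 0) (.ofNat 0) (.ofNat 0) (.ofNat 0) (.ofNat 0) (.ofNat 0) (.ofNat 0), mq (.ofNat 0) (.negSucc 0) (.ofNat 0) (.negSucc 0) (.ofNat 0) (.ofNat 1) (.ofNat 0) (.negSucc 0)⟩,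
  ⟨mq (.ofNat 2) (.ofNat 0) (.ofNat 0) (.ofNat 0) (.ofNat 0) (.ofNat 0) (.ofNat 0) (.ofNat 0), mq (.ofNat 1) (.negSucc 0) (.ofNat 1) (.negSucc 0) (.ofNat 1) (.negSucc 0) (.ofNat 1) (.negSucc 0), mq (.ofNat 0) (.negSucc 0) (.ofNat 0) (.ofNat 1) (.ofNat 0) (.ofNat 1) (.ofNat 0) (.ofNat 1)⟩,
  ⟨mq (.ofNat 2) (.ofNat 0) (.ofNat 0) (.ofNat 0) (.ofNat 0) (.ofNat 0) (.ofNat 0) (.ofNat 0), mq (.ofNat 1) (.negSucc 0) (.ofNat 1) (.negSucc 0) (.ofNat 1) (.negSucc 0) (.ofNat 1) (.negSucc 0), mq (.ofNat 0) (.ofNat 1) (.ofNat 0) (.negSucc 0) (.ofNat 0) (.negSucc 0) (.ofNat 0) (.negSucc 0)⟩,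
  ⟨mq (.ofNat 0) (.negSucc 0) (.ofNat 0) (.ofNat 1) (.ofNat 0) (.ofNat 1) (.ofNat 0) (.ofNat 1), mq (.negSucc 0) (.ofNat 1) (.negSucc 0) (.ofNat 1) (.negSucc 0) (.ofNat 1) (.negSucc 0) (.ofNat 1), mq (.ofNat 2) (.ofNat 0) (.ofNat 0) (.ofNat 0) (.ofNat 0) (.ofNat 0) (.ofNat 0) (.ofNat 0)⟩,
  ⟨mq (.ofNat 0) (.ofNat 1) (.ofNat 0) (.negSucc 0) (.ofNat 0) (.negSucc 0) (.ofNat 0) (.negSucc 0), mq (.ofNat 1) (.negSucc 0) (.ofNat 1) (.negSucc 0) (.ofNat 1) (.negSucc 0) (.ofNat 1) (.negSucc 0), mq (.ofNat 2) (.ofNat 0) (.ofNat 0) (.ofNat 0) (.ofNat 0) (.ofNat 0) (.ofNat 0) (.ofNat 0)⟩,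
  ⟨mq (.ofNat 2) (.ofNat 0) (.ofNat 0) (.ofNat 0) (.ofNat 0) (.ofNat 0) (.ofNat 0) (.ofNat 0), mq (.ofNat 1) (.ofNat 0) (.negSucc 0) (.ofNat 0) (.negSucc 0) (.ofNat 0) (.negSucc 0) (.ofNat 2), mq (.ofNat 0) (.ofNat 0) (.ofNat 0) (.ofNat 0) (.negSucc 1) (.ofNat 0) (.ofNat 0) (.ofNat 0)⟩,
  ⟨mq (.ofNat 2) (.ofNat 0) (.ofNat 0) (.ofNat 0) (.ofNat 0) (.ofNat 0) (.ofNat 0) (.ofNat 0), mq (.ofNat 1) (.ofNat 0) (.negSucc 0) (.ofNat 0) (.negSucc 0) (.ofNat 0) (.negSucc 0) (.ofNat 2), mq (.ofNat 0) (.ofNat 0) (.ofNat 0) (.ofNat 0) (.ofNat 2) (.ofNat 0) (.ofNat 0) (.ofNat 0)⟩,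
  ⟨mq (.ofNat 1) (.ofNat 0) (.ofNat 1) (.ofNat 0) (.ofNat 1) (.ofNat 0) (.negSucc 0) (.ofNat 2), mq (.ofNat 2) (.ofNat 0) (.ofNat 0) (.ofNat 0) (.ofNat 0) (.ofNat 0) (.ofNat 0) (.ofNat 0), mq (.ofNat 0) (.ofNat 0) (.negSucc 1) (.ofNat 0) (.ofNat 0) (.ofNat 0) (.ofNat 0) (.ofNat 0)⟩,
  ⟨mq (.ofNat 1) (.ofNat 0) (.ofNat 1) (.ofNat 0) (.ofNat 1) (.ofNat 0) (.negSucc 0) (.ofNat 2), mq (.ofNat 2) (.ofNat 0) (.ofNat 0) (.ofNat 0) (.ofNat 0) (.ofNat 0) (.ofNat 0) (.ofNat 0), mq (.ofNat 0) (.ofNat 0) (.ofNat 2) (.ofNat 0) (.ofNat 0) (.ofNat 0) (.ofNat 0) (.ofNat 0)⟩,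
  ⟨mq (.negSucc 0) (.ofNat 1) (.ofNat 1) (.negSucc 0) (.negSucc 0) (.ofNat 1) (.ofNat 1) (.negSucc 0), mq (.ofNat 0) (.ofNat 1) (.ofNat 0) (.negSucc 0) (.ofNat 0) (.ofNat 1) (.ofNat 0) (.ofNat 1), mq (.ofNat 2) (.ofNat 0) (.ofNat 0) (.ofNat 0) (.ofNat 0) (.ofNat 0) (.ofNat 0) (.ofNat 0)⟩,
  ⟨mq (.ofNat 1) (.negSucc 0) (.negSucc 0) (.ofNat 1) (.ofNat 1) (.negSucc 0) (.negSucc 0) (.ofNat 1), mq (.ofNat 0) (.negSucc 0) (.ofNat 0) (.ofNat 1) (.ofNat 0) (.negSucc 0) (.ofNat 0) (.negSucc 0), mq (.ofNat 2) (.ofNat 0) (.ofNat 0) (.ofNat 0) (.ofNat 0) (.ofNat 0) (.ofNat 0) (.ofNat 0)⟩,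
  ⟨mq (.ofNat 2) (.ofNat 0) (.ofNat 0) (.ofNat 0) (.ofNat 0) (.ofNat 0) (.ofNat 0) (.ofNat 0), mq (.ofNat 1) (.ofNat 0) (.negSucc 0) (.ofNat 0) (.negSucc 0) (.ofNat 2) (.negSucc 0) (.ofNat 0), mq (.ofNat 0) (.ofNat 0) (.negSucc 1) (.ofNat 0) (.ofNat 0) (.ofNat 0) (.ofNat 0) (.ofNat 0)⟩,
  ⟨mq (.ofNat 2) (.ofNat 0) (.ofNat 0) (.ofNat 0) (.ofNat 0) (.ofNat 0) (.ofNat 0) (.ofNat 0), mq (.ofNat 1) (.ofNat 0) (.negSucc 0) (.ofNat 0) (.negSucc 0) (.ofNat 2) (.negSucc 0) (.ofNat 0), mq (.ofNat 0) (.ofNat 0) (.ofNat 2) (.ofNat 0) (.ofNat 0) (.ofNat 0) (.ofNat 0) (.ofNat 0)⟩]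
def LR4 : List V := [⟨mq (.ofNat 1) (.ofNat 0) (.ofNat 1) (.ofNat 0) (.ofNat 1) (.negSucc 1) (.negSucc 0) (.ofNat 0), mq (.ofNat 2) (.ofNat 0) (.ofNat 0) (.ofNat 0) (.ofNat 0) (.ofNat 0) (.ofNat 0) (.ofNat 0), mq (.ofNat 0) (.ofNat 0) (.ofNat 0) (.ofNat 0) (.negSucc 1) (.ofNat 0) (.ofNat 0) (.ofNat 0)⟩,
  ⟨mq (.ofNat 1) (.ofNat 0) (.ofNat 1) (.ofNat 0) (.ofNat 1) (.negSucc 1) (.negSucc 0) (.ofNat 0), mq (.ofNat 2) (.ofNat 0) (.ofNat 0) (.ofNat 0) (.ofNat 0) (.ofNat 0) (.ofNat 0) (.ofNat 0), mq (.ofNat 0) (.ofNat 0) (.ofNat 0) (.ofNat 0) (.ofNat 2) (.ofNat 0) (.ofNat 0) (.ofNat 0)⟩,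
  ⟨mq (.ofNat 1) (.ofNat 0) (.ofNat 1) (.ofNat 0) (.negSucc 0) (.ofNat 2) (.ofNat 1) (.ofNat 0), mq (.ofNat 2) (.ofNat 0) (.ofNat 0) (.ofNat 0) (.ofNat 0) (.ofNat 0) (.ofNat 0) (.ofNat 0), mq (.ofNat 0) (.ofNat 0) (.ofNat 0) (.ofNat 0) (.ofNat 0) (.ofNat 0) (.negSucc 1) (.ofNat 0)⟩,
  ⟨mq (.ofNat 1) (.ofNat 0) (.ofNat 1) (.ofNat 0) (.negSucc 0) (.ofNat 2) (.ofNat 1) (.ofNat 0), mq (.ofNat 2) (.ofNat 0) (.ofNat 0) (.ofNat 0) (.ofNat 0) (.ofNat 0) (.ofNat 0) (.ofNat 0), mq (.ofNat 0) (.ofNat 0) (.ofNat 0) (.ofNat 0) (.ofNat 0) (.ofNat 0) (.ofNat 2) (.ofNat 0)⟩,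
  ⟨mq (.ofNat 2) (.ofNat 0) (.ofNat 0) (.ofNat 0) (.ofNat 0) (.ofNat 0) (.ofNat 0) (.ofNat 0), mq (.ofNat 1) (.ofNat 0) (.negSucc 0) (.ofNat 0) (.ofNat 1) (.negSucc 1) (.ofNat 1) (.ofNat 0), mq (.negSucc 1) (.ofNat 0) (.ofNat 0) (.ofNat 0) (.ofNat 0) (.ofNat 0) (.ofNat 0) (.ofNat 0)⟩,
  ⟨mq (.ofNat 2) (.ofNat 0) (.ofNat 0) (.ofNat 0) (.ofNat 0) (.ofNat 0) (.ofNat 0) (.ofNat 0), mq (.ofNat 1) (.ofNat 0) (.negSucc 0) (.ofNat 0) (.ofNat 1) (.negSucc 1) (.ofNat 1) (.ofNat 0), mq (.ofNat 2) (.ofNat 0) (.ofNat 0) (.ofNat 0) (.ofNat 0) (.ofNat 0) (.ofNat 0) (.ofNat 0)⟩,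
  ⟨mq (.negSucc 0) (.ofNat 1) (.negSucc 0) (.ofNat 1) (.ofNat 1) (.negSucc 0) (.ofNat 1) (.negSucc 0), mq (.ofNat 0) (.ofNat 1) (.ofNat 0) (.ofNat 1) (.ofNat 0) (.ofNat 1) (.ofNat 0) (.negSucc 0), mq (.ofNat 2) (.ofNat 0) (.ofNat 0) (.ofNat 0) (.ofNat 0) (.ofNat 0) (.ofNat 0) (.ofNat 0)⟩,
  ⟨mq (.ofNat 1) (.negSucc 0) (.ofNat 1) (.negSucc 0) (.negSucc 0) (.ofNat 1) (.negSucc 0) (.ofNat 1), mq (.ofNat 0) (.negSucc 0) (.ofNat 0) (.negSucc 0) (.ofNat 0) (.negSucc 0) (.ofNat 0) (.ofNat 1), mq (.ofNat 2) (.ofNat 0) (.ofNat 0) (.ofNat 0) (.ofNat 0) (.ofNat 0) (.ofNat 0) (.ofNat 0)⟩,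
  ⟨mq (.ofNat 1) (.ofNat 0) (.ofNat 1) (.ofNat 0) (.negSucc 0) (.ofNat 0) (.ofNat 1) (.negSucc 1), mq (.ofNat 2) (.ofNat 0) (.ofNat 0) (.ofNat 0) (.ofNat 0) (.ofNat 0) (.ofNat 0) (.ofNat 0), mq (.negSucc 1) (.ofNat 0) (.ofNat 0) (.ofNat 0) (.ofNat 0) (.ofNat 0) (.ofNat 0) (.ofNat 0)⟩,
  ⟨mq (.ofNat 1) (.ofNat 0) (.ofNat 1) (.ofNat 0) (.negSucc 0) (.ofNat 0) (.ofNat 1) (.negSucc 1), mq (.ofNat 2) (.ofNat 0) (.ofNat 0) (.ofNat 0) (.ofNat 0) (.ofNat 0) (.ofNat 0) (.ofNat 0), mq (.ofNat 2) (.ofNat 0) (.ofNat 0) (.ofNat 0) (.ofNat 0) (.ofNat 0) (.ofNat 0) (.ofNat 0)⟩,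
  ⟨mq (.ofNat 2) (.ofNat 0) (.ofNat 0) (.ofNat 0) (.ofNat 0) (.ofNat 0) (.ofNat 0) (.ofNat 0), mq (.ofNat 1) (.ofNat 0) (.negSucc 0) (.ofNat 0) (.ofNat 1) (.ofNat 0) (.ofNat 1) (.negSucc 1), mq (.ofNat 0) (.ofNat 0) (.ofNat 0) (.ofNat 0) (.ofNat 0) (.ofNat 0) (.negSucc 1) (.ofNat 0)⟩,
  ⟨mq (.ofNat 2) (.ofNat 0) (.ofNat 0) (.ofNat 0) (.ofNat 0) (.ofNat 0) (.ofNat 0) (.ofNat 0), mq (.ofNat 1) (.ofNat 0) (.negSucc 0) (.ofNat 0) (.ofNat 1) (.ofNat 0) (.ofNat 1) (.negSucc 1), mq (.ofNat 0) (.ofNat 0) (.ofNat 0) (.ofNat 0) (.ofNat 0) (.ofNat 0) (.ofNat 2) (.ofNat 0)⟩,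
  ⟨mq (.ofNat 0) (.negSucc 0) (.ofNat 0) (.negSucc 0) (.ofNat 0) (.ofNat 1) (.ofNat 0) (.negSucc 0), mq (.ofNat 1) (.negSucc 0) (.negSucc 0) (.ofNat 1) (.negSucc 0) (.ofNat 1) (.ofNat 1) (.negSucc 0), mq (.ofNat 2) (.ofNat 0) (.ofNat 0) (.ofNat 0) (.ofNat 0) (.ofNat 0) (.ofNat 0) (.ofNat 0)⟩,
  ⟨mq (.ofNat 0) (.ofNat 1) (.ofNat 0) (.ofNat 1) (.ofNat 0) (.negSucc 0) (.ofNat 0) (.ofNat 1), mq (.negSucc 0) (.ofNat 1) (.ofNat 1) (.negSucc 0) (.ofNat 1) (.negSucc 0) (.negSucc 0) (.ofNat 1), mq (.ofNat 2) (.ofNat 0) (.ofNat 0) (.ofNat 0) (.ofNat 0) (.ofNat 0) (.ofNat 0) (.ofNat 0)⟩,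
  ⟨mq (.ofNat 2) (.ofNat 0) (.ofNat 0) (.ofNat 0) (.ofNat 0) (.ofNat 0) (.ofNat 0) (.ofNat 0), mq (.ofNat 1) (.ofNat 0) (.negSucc 0) (.ofNat 2) (.negSucc 0) (.ofNat 0) (.negSucc 0) (.ofNat 0), mq (.ofNat 0) (.ofNat 0) (.ofNat 0) (.ofNat 0) (.ofNat 0) (.ofNat 0) (.negSucc 1) (.ofNat 0)⟩,
  ⟨mq (.ofNat 2) (.ofNat 0) (.ofNat 0) (.ofNat 0) (.ofNat 0) (.ofNat 0) (.ofNat 0) (.ofNat 0), mq (.ofNat 1) (.ofNat 0) (.negSucc 0) (.ofNat 2) (.negSucc 0) (.ofNat 0) (.negSucc 0) (.ofNat 0), mq (.ofNat 0) (.ofNat 0) (.ofNat 0) (.ofNat 0) (.ofNat 0) (.ofNat 0) (.ofNat 2) (.ofNat 0)⟩,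
  ⟨mq (.ofNat 1) (.ofNat 0) (.ofNat 1) (.negSucc 1) (.ofNat 1) (.ofNat 0) (.negSucc 0) (.ofNat 0), mq (.ofNat 2) (.ofNat 0) (.ofNat 0) (.ofNat 0) (.ofNat 0) (.ofNat 0) (.ofNat 0) (.ofNat 0), mq (.negSucc 1) (.ofNat 0) (.ofNat 0) (.ofNat 0) (.ofNat 0) (.ofNat 0) (.ofNat 0) (.ofNat 0)⟩,
  ⟨mq (.ofNat 1) (.ofNat 0) (.ofNat 1) (.negSucc 1) (.ofNat 1) (.ofNat 0) (.negSucc 0) (.ofNat 0), mq (.ofNat 2) (.ofNat 0) (.ofNat 0) (.ofNat 0) (.ofNat 0) (.ofNat 0) (.ofNat 0) (.ofNat 0), mq (.ofNat 2) (.ofNat 0) (.ofNat 0) (.ofNat 0) (.ofNat 0) (.ofNat 0) (.ofNat 0) (.ofNat 0)⟩,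
  ⟨mq (.ofNat 1) (.ofNat 0) (.ofNat 1) (.negSucc 1) (.negSucc 0) (.ofNat 0) (.ofNat 1) (.ofNat 0), mq (.ofNat 2) (.ofNat 0) (.ofNat 0) (.ofNat 0) (.ofNat 0) (.ofNat 0) (.ofNat 0) (.ofNat 0), mq (.ofNat 0) (.ofNat 0) (.negSucc 1) (.ofNat 0) (.ofNat 0) (.ofNat 0) (.ofNat 0) (.ofNat 0)⟩,
  ⟨mq (.ofNat 1) (.ofNat 0) (.ofNat 1) (.negSucc 1) (.negSucc 0) (.ofNat 0) (.ofNat 1) (.ofNat 0), mq (.ofNat 2) (.ofNat 0) (.ofNat 0) (.ofNat 0) (.ofNat 0) (.ofNat 0) (.ofNat 0) (.ofNat 0), mq (.ofNat 0) (.ofNat 0) (.ofNat 2) (.ofNat 0) (.ofNat 0) (.ofNat 0) (.ofNat 0) (.ofNat 0)⟩,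
  ⟨mq (.ofNat 2) (.ofNat 0) (.ofNat 0) (.ofNat 0) (.ofNat 0) (.ofNat 0) (.ofNat 0) (.ofNat 0), mq (.ofNat 1) (.ofNat 0) (.negSucc 0) (.ofNat 2) (.ofNat 1) (.ofNat 0) (.ofNat 1) (.ofNat 0), mq (.ofNat 0) (.ofNat 0) (.ofNat 0) (.ofNat 0) (.negSucc 1) (.ofNat 0) (.ofNat 0) (.ofNat 0)⟩,
  ⟨mq (.ofNat 2) (.ofNat 0) (.ofNat 0) (.ofNat 0) (.ofNat 0) (.ofNat 0) (.ofNat 0) (.ofNat 0), mq (.ofNat 1) (.ofNat 0) (.negSucc 0) (.ofNat 2) (.ofNat 1) (.ofNat 0) (.ofNat 1) (.ofNat 0), mq (.ofNat 0) (.ofNat 0) (.ofNat 0) (.ofNat 0) (.ofNat 2) (.ofNat 0) (.ofNat 0) (.ofNat 0)⟩,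
  ⟨mq (.ofNat 1) (.ofNat 0) (.negSucc 0) (.ofNat 2) (.ofNat 1) (.ofNat 0) (.ofNat 1) (.ofNat 0), mq (.ofNat 2) (.ofNat 0) (.ofNat 0) (.ofNat 0) (.ofNat 0) (.ofNat 0) (.ofNat 0) (.ofNat 0), mq (.ofNat 0) (.ofNat 0) (.ofNat 0) (.ofNat 0) (.negSucc 1) (.ofNat 0) (.ofNat 0) (.ofNat 0)⟩,
  ⟨mq (.ofNat 1) (.ofNat 0) (.negSucc 0) (.ofNat 2) (.ofNat 1) (.ofNat 0) (.ofNat 1) (.ofNat 0), mq (.ofNat 2) (.ofNat 0) (.ofNat 0) (.ofNat 0) (.ofNat 0) (.ofNat 0) (.ofNat 0) (.ofNat 0), mq (.ofNat 0) (.ofNat 0) (.ofNat 0) (.ofNat 0) (.ofNat 2) (.ofNat 0) (.ofNat 0) (.ofNat 0)⟩,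
  ⟨mq (.ofNat 2) (.ofNat 0) (.ofNat 0) (.ofNat 0) (.ofNat 0) (.ofNat 0) (.ofNat 0) (.ofNat 0), mq (.ofNat 1) (.ofNat 0) (.ofNat 1) (.negSucc 1) (.negSucc 0) (.ofNat 0) (.ofNat 1) (.ofNat 0), mq (.ofNat 0) (.ofNat 0) (.negSucc 1) (.ofNat 0) (.ofNat 0) (.ofNat 0) (.ofNat 0) (.ofNat 0)⟩,
  ⟨mq (.ofNat 2) (.ofNat 0) (.ofNat 0) (.ofNat 0) (.ofNat 0) (.ofNat 0) (.ofNat 0) (.ofNat 0), mq (.ofNat 1) (.ofNat 0) (.ofNat 1) (.negSucc 1) (.negSucc 0) (.ofNat 0) (.ofNat 1) (.ofNat 0), mq (.ofNat 0) (.ofNat 0) (.ofNat 2) (.ofNat 0) (.ofNat 0) (.ofNat 0) (.ofNat 0) (.ofNat 0)⟩,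
  ⟨mq (.ofNat 2) (.ofNat 0) (.ofNat 0) (.ofNat 0) (.ofNat 0) (.ofNat 0) (.ofNat 0) (.ofNat 0), mq (.ofNat 1) (.ofNat 0) (.ofNat 1) (.negSucc 1) (.ofNat 1) (.ofNat 0) (.negSucc 0) (.ofNat 0), mq (.negSucc 1) (.ofNat 0) (.ofNat 0) (.ofNat 0) (.ofNat 0) (.ofNat 0) (.ofNat 0) (.ofNat 0)⟩,
  ⟨mq (.ofNat 2) (.ofNat 0) (.ofNat 0) (.ofNat 0) (.ofNat 0) (.ofNat 0) (.ofNat 0) (.ofNat 0), mq (.ofNat 1) (.ofNat 0) (.ofNat 1) (.negSucc 1) (.ofNat 1) (.ofNat 0) (.negSucc 0) (.ofNat 0), mq (.ofNat 2) (.ofNat 0) (.ofNat 0) (.ofNat 0) (.ofNat 0) (.ofNat 0) (.ofNat 0) (.ofNat 0)⟩,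
  ⟨mq (.ofNat 1) (.ofNat 0) (.negSucc 0) (.ofNat 2) (.negSucc 0) (.ofNat 0) (.negSucc 0) (.ofNat 0), mq (.ofNat 2) (.ofNat 0) (.ofNat 0) (.ofNat 0) (.ofNat 0) (.ofNat 0) (.ofNat 0) (.ofNat 0), mq (.ofNat 0) (.ofNat 0) (.ofNat 0) (.ofNat 0) (.ofNat 0) (.ofNat 0) (.ofNat 2) (.ofNat 0)⟩,
  ⟨mq (.ofNat 1) (.ofNat 0) (.negSucc 0) (.ofNat 2) (.negSucc 0) (.ofNat 0) (.negSucc 0) (.ofNat 0), mq (.ofNat 2) (.ofNat 0) (.ofNat 0) (.ofNat 0) (.ofNat 0) (.ofNat 0) (.ofNat 0) (.ofNat 0), mq (.ofNat 0) (.ofNat 0) (.ofNat 0) (.ofNat 0) (.ofNat 0) (.ofNat 0) (.negSucc 1) (.ofNat 0)⟩,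
  ⟨mq (.negSucc 0) (.ofNat 1) (.ofNat 1) (.negSucc 0) (.ofNat 1) (.negSucc 0) (.negSucc 0) (.ofNat 1), mq (.ofNat 0) (.ofNat 1) (.ofNat 0) (.ofNat 1) (.ofNat 0) (.negSucc 0) (.ofNat 0) (.ofNat 1), mq (.ofNat 2) (.ofNat 0) (.ofNat 0) (.ofNat 0) (.ofNat 0) (.ofNat 0) (.ofNat 0) (.ofNat 0)⟩,
  ⟨mq (.ofNat 1) (.negSucc 0) (.negSucc 0) (.ofNat 1) (.negSucc 0) (.ofNat 1) (.ofNat 1) (.negSucc 0), mq (.ofNat 0) (.negSucc 0) (.ofNat 0) (.negSucc 0) (.ofNat 0) (.ofNat 1) (.ofNat 0) (.negSucc 0), mq (.ofNat 2) (.ofNat 0) (.ofNat 0) (.ofNat 0) (.ofNat 0) (.ofNat 0) (.ofNat 0) (.ofNat 0)⟩,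
  ⟨mq (.ofNat 1) (.ofNat 0) (.negSucc 0) (.ofNat 0) (.ofNat 1) (.ofNat 0) (.ofNat 1) (.negSucc 1), mq (.ofNat 2) (.ofNat 0) (.ofNat 0) (.ofNat 0) (.ofNat 0) (.ofNat 0) (.ofNat 0) (.ofNat 0), mq (.ofNat 0) (.ofNat 0) (.ofNat 0) (.ofNat 0) (.ofNat 0) (.ofNat 0) (.negSucc 1) (.ofNat 0)⟩,
  ⟨mq (.ofNat 1) (.ofNat 0) (.negSucc 0) (.ofNat 0) (.ofNat 1) (.ofNat 0) (.ofNat 1) (.negSucc 1), mq (.ofNat 2) (.ofNat 0) (.ofNat 0) (.ofNat 0) (.ofNat 0) (.ofNat 0) (.ofNat 0) (.ofNat 0), mq (.ofNat 0) (.ofNat 0) (.ofNat 0) (.ofNat 0) (.ofNat 0) (.ofNat 0) (.ofNat 2) (.ofNat 0)⟩,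
  ⟨mq (.ofNat 2) (.ofNat 0) (.ofNat 0) (.ofNat 0) (.ofNat 0) (.ofNat 0) (.ofNat 0) (.ofNat 0), mq (.ofNat 1) (.ofNat 0) (.ofNat 1) (.ofNat 0) (.negSucc 0) (.ofNat 0) (.ofNat 1) (.negSucc 1), mq (.negSucc 1) (.ofNat 0) (.ofNat 0) (.ofNat 0) (.ofNat 0) (.ofNat 0) (.ofNat 0) (.ofNat 0)⟩,
  ⟨mq (.ofNat 2) (.ofNat 0) (.ofNat 0) (.ofNat 0) (.ofNat 0) (.ofNat 0) (.ofNat 0) (.ofNat 0), mq (.ofNat 1) (.ofNat 0) (.ofNat 1) (.ofNat 0) (.negSucc 0) (.ofNat 0) (.ofNat 1) (.negSucc 1), mq (.ofNat 2) (.ofNat 0) (.ofNat 0) (.ofNat 0) (.ofNat 0) (.ofNat 0) (.ofNat 0) (.ofNat 0)⟩,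
  ⟨mq (.ofNat 0) (.negSucc 0) (.ofNat 0) (.negSucc 0) (.ofNat 0) (.negSucc 0) (.ofNat 0) (.ofNat 1), mq (.ofNat 1) (.negSucc 0) (.ofNat 1) (.negSucc 0) (.negSucc 0) (.ofNat 1) (.negSucc 0) (.ofNat 1), mq (.ofNat 2) (.ofNat 0) (.ofNat 0) (.ofNat 0) (.ofNat 0) (.ofNat 0) (.ofNat 0) (.ofNat 0)⟩,
  ⟨mq (.ofNat 0) (.ofNat 1) (.ofNat 0) (.ofNat 1) (.ofNat 0) (.ofNat 1) (.ofNat 0) (.negSucc 0), mq (.negSucc 0) (.ofNat 1) (.negSucc 0) (.ofNat 1) (.ofNat 1) (.negSucc 0) (.ofNat 1) (.negSucc 0), mq (.ofNat 2) (.ofNat 0) (.ofNat 0) (.ofNat 0) (.ofNat 0) (.ofNat 0) (.ofNat 0) (.ofNat 0)⟩,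
  ⟨mq (.ofNat 1) (.ofNat 0) (.negSucc 0) (.ofNat 0) (.ofNat 1) (.negSucc 1) (.ofNat 1) (.ofNat 0), mq (.ofNat 2) (.ofNat 0) (.ofNat 0) (.ofNat 0) (.ofNat 0) (.ofNat 0) (.ofNat 0) (.ofNat 0), mq (.negSucc 1) (.ofNat 0) (.ofNat 0) (.ofNat 0) (.ofNat 0) (.ofNat 0) (.ofNat 0) (.ofNat 0)⟩,
  ⟨mq (.ofNat 1) (.ofNat 0) (.negSucc 0) (.ofNat 0) (.ofNat 1) (.negSucc 1) (.ofNat 1) (.ofNat 0), mq (.ofNat 2) (.ofNat 0) (.ofNat 0) (.ofNat 0) (.ofNat 0) (.ofNat 0) (.ofNat 0) (.ofNat 0), mq (.ofNat 2) (.ofNat 0) (.ofNat 0) (.ofNat 0) (.ofNat 0) (.ofNat 0) (.ofNat 0) (.ofNat 0)⟩,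
  ⟨mq (.ofNat 2) (.ofNat 0) (.ofNat 0) (.ofNat 0) (.ofNat 0) (.ofNat 0) (.ofNat 0) (.ofNat 0), mq (.ofNat 1) (.ofNat 0) (.ofNat 1) (.ofNat 0) (.negSucc 0) (.ofNat 2) (.ofNat 1) (.ofNat 0), mq (.ofNat 0) (.ofNat 0) (.ofNat 0) (.ofNat 0) (.ofNat 0) (.ofNat 0) (.negSucc 1) (.ofNat 0)⟩,
  ⟨mq (.ofNat 2) (.ofNat 0) (.ofNat 0) (.ofNat 0) (.ofNat 0) (.ofNat 0) (.ofNat 0) (.ofNat 0), mq (.ofNat 1) (.ofNat 0) (.ofNat 1) (.ofNat 0) (.negSucc 0) (.ofNat 2) (.ofNat 1) (.ofNat 0), mq (.ofNat 0) (.ofNat 0) (.ofNat 0) (.ofNat 0) (.ofNat 0) (.ofNat 0) (.ofNat 2) (.ofNat 0)⟩,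
  ⟨mq (.ofNat 2) (.ofNat 0) (.ofNat 0) (.ofNat 0) (.ofNat 0) (.ofNat 0) (.ofNat 0) (.ofNat 0), mq (.ofNat 1) (.ofNat 0) (.ofNat 1) (.ofNat 0) (.ofNat 1) (.negSucc 1) (.negSucc 0) (.ofNat 0), mq (.ofNat 0) (.ofNat 0) (.ofNat 0) (.ofNat 0) (.negSucc 1) (.ofNat 0) (.ofNat 0) (.ofNat 0)⟩,
  ⟨mq (.ofNat 2) (.ofNat 0) (.ofNat 0) (.ofNat 0) (.ofNat 0) (.ofNat 0) (.ofNat 0) (.ofNat 0), mq (.ofNat 1) (.ofNat 0) (.ofNat 1) (.ofNat 0) (.ofNat 1) (.negSucc 1) (.negSucc 0) (.ofNat 0), mq (.ofNat 0) (.ofNat 0) (.ofNat 0) (.ofNat 0) (.ofNat 2) (.ofNat 0) (.ofNat 0) (.ofNat 0)⟩,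
  ⟨mq (.ofNat 1) (.ofNat 0) (.negSucc 0) (.ofNat 0) (.negSucc 0) (.ofNat 2) (.negSucc 0) (.ofNat 0), mq (.ofNat 2) (.ofNat 0) (.ofNat 0) (.ofNat 0) (.ofNat 0) (.ofNat 0) (.ofNat 0) (.ofNat 0), mq (.ofNat 0) (.ofNat 0) (.ofNat 2) (.ofNat 0) (.ofNat 0) (.ofNat 0) (.ofNat 0) (.ofNat 0)⟩,
  ⟨mq (.ofNat 1) (.ofNat 0) (.negSucc 0) (.ofNat 0) (.negSucc 0) (.ofNat 2) (.negSucc 0) (.ofNat 0), mq (.ofNat 2) (.ofNat 0) (.ofNat 0) (.ofNat 0) (.ofNat 0) (.ofNat 0) (.ofNat 0) (.ofNat 0), mq (.ofNat 0) (.ofNat 0) (.negSucc 1) (.ofNat 0) (.ofNat 0) (.ofNat 0) (.ofNat 0) (.ofNat 0)⟩,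
  ⟨mq (.ofNat 0) (.negSucc 0) (.ofNat 0) (.ofNat 1) (.ofNat 0) (.negSucc 0) (.ofNat 0) (.negSucc 0), mq (.ofNat 1) (.negSucc 0) (.negSucc 0) (.ofNat 1) (.ofNat 1) (.negSucc 0) (.negSucc 0) (.ofNat 1), mq (.ofNat 2) (.ofNat 0) (.ofNat 0) (.ofNat 0) (.ofNat 0) (.ofNat 0) (.ofNat 0) (.ofNat 0)⟩,
  ⟨mq (.ofNat 0) (.ofNat 1) (.ofNat 0) (.negSucc 0) (.ofNat 0) (.ofNat 1) (.ofNat 0) (.ofNat 1), mq (.negSucc 0) (.ofNat 1) (.ofNat 1) (.negSucc 0) (.negSucc 0) (.ofNat 1) (.ofNat 1) (.negSucc 0), mq (.ofNat 2) (.ofNat 0) (.ofNat 0) (.ofNat 0) (.ofNat 0) (.ofNat 0) (.ofNat 0) (.ofNat 0)⟩,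
  ⟨mq (.ofNat 2) (.ofNat 0) (.ofNat 0) (.ofNat 0) (.ofNat 0) (.ofNat 0) (.ofNat 0) (.ofNat 0), mq (.ofNat 1) (.ofNat 0) (.ofNat 1) (.ofNat 0) (.ofNat 1) (.ofNat 0) (.negSucc 0) (.ofNat 2), mq (.ofNat 0) (.ofNat 0) (.negSucc 1) (.ofNat 0) (.ofNat 0) (.ofNat 0) (.ofNat 0) (.ofNat 0)⟩,
  ⟨mq (.ofNat 2) (.ofNat 0) (.ofNat 0) (.ofNat 0) (.ofNat 0) (.ofNat 0) (.ofNat 0) (.ofNat 0), mq (.ofNat 1) (.ofNat 0) (.ofNat 1) (.ofNat 0) (.ofNat 1) (.ofNat 0) (.negSucc 0) (.ofNat 2), mq (.ofNat 0) (.ofNat 0) (.ofNat 2) (.ofNat 0) (.ofNat 0) (.ofNat 0) (.ofNat 0) (.ofNat 0)⟩,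
  ⟨mq (.ofNat 1) (.ofNat 0) (.negSucc 0) (.ofNat 0) (.negSucc 0) (.ofNat 0) (.negSucc 0) (.ofNat 2), mq (.ofNat 2) (.ofNat 0) (.ofNat 0) (.ofNat 0) (.ofNat 0) (.ofNat 0) (.ofNat 0) (.ofNat 0), mq (.ofNat 0) (.ofNat 0) (.ofNat 0) (.ofNat 0) (.ofNat 2) (.ofNat 0) (.ofNat 0) (.ofNat 0)⟩,
  ⟨mq (.ofNat 1) (.ofNat 0) (.negSucc 0) (.ofNat 0) (.negSucc 0) (.ofNat 0) (.negSucc 0) (.ofNat 2), mq (.ofNat 2) (.ofNat 0) (.ofNat 0) (.ofNat 0) (.ofNat 0) (.ofNat 0) (.ofNat 0) (.ofNat 0), mq (.ofNat 0) (.ofNat 0) (.ofNat 0) (.ofNat 0) (.negSucc 1) (.ofNat 0) (.ofNat 0) (.ofNat 0)⟩,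
  ⟨mq (.negSucc 0) (.ofNat 1) (.negSucc 0) (.ofNat 1) (.negSucc 0) (.ofNat 1) (.negSucc 0) (.ofNat 1), mq (.ofNat 0) (.negSucc 0) (.ofNat 0) (.ofNat 1) (.ofNat 0) (.ofNat 1) (.ofNat 0) (.ofNat 1), mq (.ofNat 2) (.ofNat 0) (.ofNat 0) (.ofNat 0) (.ofNat 0) (.ofNat 0) (.ofNat 0) (.ofNat 0)⟩,
  ⟨mq (.ofNat 1) (.negSucc 0) (.ofNat 1) (.negSucc 0) (.ofNat 1) (.negSucc 0) (.ofNat 1) (.negSucc 0), mq (.ofNat 0) (.ofNat 1) (.ofNat 0) (.negSucc 0) (.ofNat 0) (.negSucc 0) (.ofNat 0) (.negSucc 0), mq (.ofNat 2) (.ofNat 0) (.ofNat 0) (.ofNat 0) (.ofNat 0) (.ofNat 0) (.ofNat 0) (.ofNat 0)⟩,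
  ⟨mq (.ofNat 2) (.ofNat 0) (.ofNat 0) (.ofNat 0) (.ofNat 0) (.ofNat 0) (.ofNat 0) (.ofNat 0), mq (.ofNat 2) (.ofNat 0) (.ofNat 0) (.ofNat 0) (.ofNat 0) (.ofNat 0) (.ofNat 0) (.ofNat 0), mq (.negSucc 0) (.ofNat 0) (.negSucc 0) (.ofNat 0) (.ofNat 1) (.ofNat 0) (.negSucc 0) (.ofNat 2)⟩,
  ⟨mq (.ofNat 2) (.ofNat 0) (.ofNat 0) (.ofNat 0) (.ofNat 0) (.ofNat 0) (.ofNat 0) (.ofNat 0), mq (.ofNat 2) (.ofNat 0) (.ofNat 0) (.ofNat 0) (.ofNat 0) (.ofNat 0) (.ofNat 0) (.ofNat 0), mq (.negSucc 0) (.ofNat 0) (.negSucc 0) (.ofNat 2) (.negSucc 0) (.ofNat 0) (.ofNat 1) (.ofNat 0)⟩,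
  ⟨mq (.ofNat 2) (.ofNat 0) (.ofNat 0) (.ofNat 0) (.ofNat 0) (.ofNat 0) (.ofNat 0) (.ofNat 0), mq (.ofNat 2) (.ofNat 0) (.ofNat 0) (.ofNat 0) (.ofNat 0) (.ofNat 0) (.ofNat 0) (.ofNat 0), mq (.negSucc 0) (.ofNat 0) (.ofNat 1) (.ofNat 0) (.negSucc 0) (.ofNat 2) (.negSucc 0) (.ofNat 0)⟩,
  ⟨mq (.ofNat 2) (.ofNat 0) (.ofNat 0) (.ofNat 0) (.ofNat 0) (.ofNat 0) (.ofNat 0) (.ofNat 0), mq (.ofNat 2) (.ofNat 0) (.ofNat 0) (.ofNat 0) (.ofNat 0) (.ofNat 0) (.ofNat 0) (.ofNat 0), mq (.negSucc 0) (.ofNat 2) (.ofNat 1) (.ofNat 0) (.ofNat 1) (.ofNat 0) (.ofNat 1) (.ofNat 0)⟩,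
  ⟨mq (.ofNat 2) (.ofNat 0) (.ofNat 0) (.ofNat 0) (.ofNat 0) (.ofNat 0) (.ofNat 0) (.ofNat 0), mq (.ofNat 2) (.ofNat 0) (.ofNat 0) (.ofNat 0) (.ofNat 0) (.ofNat 0) (.ofNat 0) (.ofNat 0), mq (.ofNat 1) (.negSucc 1) (.negSucc 0) (.ofNat 0) (.negSucc 0) (.ofNat 0) (.negSucc 0) (.ofNat 0)⟩,
  ⟨mq (.ofNat 2) (.ofNat 0) (.ofNat 0) (.ofNat 0) (.ofNat 0) (.ofNat 0) (.ofNat 0) (.ofNat 0), mq (.ofNat 2) (.ofNat 0) (.ofNat 0) (.ofNat 0) (.ofNat 0) (.ofNat 0) (.ofNat 0) (.ofNat 0), mq (.ofNat 1) (.ofNat 0) (.negSucc 0) (.ofNat 0) (.ofNat 1) (.negSucc 1) (.ofNat 1) (.ofNat 0)⟩,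
  ⟨mq (.ofNat 2) (.ofNat 0) (.ofNat 0) (.ofNat 0) (.ofNat 0) (.ofNat 0) (.ofNat 0) (.ofNat 0), mq (.ofNat 2) (.ofNat 0) (.ofNat 0) (.ofNat 0) (.ofNat 0) (.ofNat 0) (.ofNat 0) (.ofNat 0), mq (.ofNat 1) (.ofNat 0) (.ofNat 1) (.negSucc 1) (.ofNat 1) (.ofNat 0) (.negSucc 0) (.ofNat 0)⟩,
  ⟨mq (.ofNat 2) (.ofNat 0) (.ofNat 0) (.ofNat 0) (.ofNat 0) (.ofNat 0) (.ofNat 0) (.ofNat 0), mq (.ofNat 2) (.ofNat 0) (.ofNat 0) (.ofNat 0) (.ofNat 0) (.ofNat 0) (.ofNat 0) (.ofNat 0), mq (.ofNat 1) (.ofNat 0) (.ofNat 1) (.ofNat 0) (.negSucc 0) (.ofNat 0) (.ofNat 1) (.negSucc 1)⟩,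
  ⟨mq (.ofNat 1) (.negSucc 1) (.ofNat 1) (.ofNat 0) (.ofNat 1) (.ofNat 0) (.ofNat 1) (.ofNat 0), mq (.ofNat 1) (.negSucc 1) (.ofNat 1) (.ofNat 0) (.ofNat 1) (.ofNat 0) (.ofNat 1) (.ofNat 0), mq (.ofNat 0) (.ofNat 0) (.ofNat 0) (.ofNat 0) (.ofNat 0) (.ofNat 0) (.ofNat 0) (.ofNat 0)⟩]
def LR : List V := LR0 ++ (LR1 ++ (LR2 ++ (LR3 ++ LR4)))

end H4.Ico
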