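import Cfsg.Agent.H4.JCJ3P
import Cfsg.Agent.H4.JCJ3S0
import Cfsg.Agent.H4.JCJ3S1
set_option maxRecDepth 1000000
set_option Elab.async false
set_option linter.unusedVariables false
namespace H4.JCJ3
open H71
def steps0_0 : List ℕ := [3,2,32771,10,65539,18,98307,114691,131075,147459,56,0,4,8,12,60,32,36,40,44,48,56,0,4,8,12,60,16,20,40,44,56,0,4,8,12,60,16,20,40,44,56,0,8,60,56,1,10,5,2,9,2,13,18,17,14,21,62,25,62,29,18,33,2,37,41,10,45,42,49,53,22,57,62,61,22,65,38,69,73,77,81,85,77,89,57,62,9,2,93,18,97,101,18,105,109,113,61,22,117,42,85,41,10,121,25,113,93,18,125,34,129,133,137,69,73,89,141,49,29,18,145,149,54,153,18,77,81,157,65,38,69,129,73,77,81,89,85,77,133,161,34,133,89,165,38,105,57,62,57,62,9,2,117,42,97,85,37,169,173,25,62,73,177,38,181,2,121,113,185,34,133,189,65,38,125,34,69,193,54,197,42,81,113,129,77,85,105,121,113,125,34,129,201,133,89,137,157,205,77,73,133,209,54,129,77,81,73,85,105,113,129,121,77,125,34,201,42,133,89,137,213,73,69,217,34,185,34,221,38,177,38,193,54,113,125,34,133,169,69,85,137,129,225,77,73,229,38,69,157,73,233,137,205,129,161,34,221,38,237,50,73,85,105,133,65,38,113,125,34,69,89,133,225,77,81,137,113,129,85,105,121,113,129,117,42,241,133,25,62,125,34,193,54,149,54,229,38,73,77]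
def steps0_1 : List ℕ := [133,89,137,69,161]
theorem run0 : tcRun A 8 0 rules hs (steps0_0 ++ (steps0_1)) (eqSt D1 K1) D0 K0 = true := by decide +kernel
def steps1_0 : List ℕ := [34,221,38,237,50,245,18,173,73,133,169,249,113,129,225,65,38,125,34,253,34,257,38,193,54,261,38,149,54,45,42,85,77,73,113,125,34,129,133,137,249,89,225,161,34,221,38,73,133,205,85,77,113,129,201,42,237,50,97,149,54,129,77,81,73,137,65,38,265,34,161,34,269,54,165,38,257,38,273,50,73,245,18,225,249,89,113,129,157,169,133,205,125,34,69,277,54,281,34,193,54,261,38,209,54,129,85,77,81,73,213,241,285,42,137,65,38,113,125,34,161,34,221,38,237,50,133,89,225,173,105,289,117,42,73,137,189,245,18,101,18,53,22,93,18,61,22,293,297,85,21,62,97,233,141,153,18,129,217,34,257,38,149,54,77,113,29,18,129,89,65,38,69,285,42,193,54,73,301,38,81,137,69,221,38,77,85,73,81,161,34,241,97,9,2,237,50,245,18,133,89,305,42,121,129,221,38,309,149,54,77,85,157,25,62,113,169,37,57,62,125,34,133,97,9,2,253,285,42,313,2,193,57,62,141,129,317,321,2,325,6,5,2,65,38,17,14,37,73,137,329,58,333,58,337,34,341,42,225,333,58,81,345,2,165,349,42,197,42,353,58,345,2,329,58,333,58,357,2,17,14,33,2,105,89,17,14,285,177,49,129,249,361,321]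
theorem run1 : tcRun A 8 0 rules hs (steps1_0) (eqSt D2 K2) D1 K1 = true := by decide +kernel
def steps2_0 : List ℕ := [2,357,2,5,2,241,365,2,369,6,357,2,373,2,313,2,33,2,17,14,377,2,181,2,345,2,381,385,389,58,393,397,109,57,62,401,62,97,9,2,293,133,405,14,117,357,2,129,409,2,365,2,357,2,17,14,373,2,413,10,369,6,33,2,17,14,417,333,58,421,58,425,10,429,58,433,18,437,22,333,58,333,93,18,61,22,153,18,29,18,245,18,101,18,53,22,93,18,61,22,29,18,245,18,141,101,18,53,22,153,18,61,22,173,33,2,101,18,369,6,17,14,353,58,329,58,333,58,377,2,441,385,50,445,18,53,22,13,18,309,61,22,21,62,449,453,457,18,461,18,309,141,33,2,17,14,41,10,237,50,353,58,145,465,189,109,469,46,289,49,453,5,2,153,18,41,10,353,58,173,9,2,333,58,65,38,169,97,357,2,237,50,245,18,57,62,417,189,109,341,333,58,97,473,18,61,22,465,141,25,62,33,2,9,2,17,14,441,385,50,153,18,109,309,145,53,22,41,10,405,14,477,42,481,46,9,2,333,58,485,50,189,457,18,309,445,18,61,22,453,457,18,341,489,493,46,189,29,18,41,10,453,49,393,46,189,53,22,41,10,33,2,21,62,421,58,109,309,189,329,58,37,245,18,145,325,6,497,62,17,14,425,10,501,10,41,10,57,62,405]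
def steps2_1 : List ℕ := [14,13,18,405,14,497]
theorem run2 : tcRun A 8 0 rules hs (steps2_0 ++ (steps2_1)) (eqSt D3 K3) D2 K2 = true := by decide +kernel
end H4.JCJ3
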