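import Cfsg.Agent.H4.JCJ3P
import Cfsg.Agent.H4.JCJ3S1
import Cfsg.Agent.H4.JCJ3S2
set_option maxRecDepth 1000000
set_option Elab.async false
set_option linter.unusedVariables false
namespace H4.JCJ3
open H71
def steps3_0 : List ℕ := [62,17,14,41,10,21,62,425,10,289,17,14,365,2,357,2,373,2,313,2,57,62,5,2,505,62,17,14,41,10,33,2,357,2,509,513,517,333,58,465,377,2,321,2,429,58,5,2,357,2,17,14,405,14,33,2,17,14,425,10,5,2,109,341,117,389,58,333,58,501,10,53,22,65,409,2,369,6,5,2,357,2,17,14,5,2,1,10,65,521,353,58,489,85,461,18,525,14,425,10,413,10,501,10,41,10,57,62,97,29,18,405,14,33,2,141,329,58,385,50,529,397,109,481,46,305,42,25,62,473,18,33,2,65,38,17,14,61,22,125,34,413,10,397,50,353,58,533,2,1,10,21,62,189,461,18,309,449,537,9,2,541,425,10,353,58,49,109,465,153,18,501,10,13,18,189,289,165,149,545,42,541,25,62,17,14,425,10,549,18,233,113,553,497,62,17,14,405,14,425,10,557,18,489,561,58,325,6,565,2,5,2,17,14,353,525,14,1,10,425,10,413,10,57,62,97,29,18,405,14,33,2,13,18,141,237,50,329,58,21,62,465,33,2,17,14,1,10,125,34,353,58,445,18,13,18,101,18,53,22,93,18,61,22,429,58,489,381,46,453,141,21,49,97,357,2,37,53,22,41,10,405,14,309,33,2,21,62,109,365,2,5,2,357,2,373,2,57,62,505]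
def steps3_1 : List ℕ := [62,5,2,25,62,289,329,58,333]
theorem run3 : tcRun A 8 0 rules hs (steps3_0 ++ (steps3_1)) (eqSt D4 K4) D3 K3 = true := by decide +kernel
def steps4_0 : List ℕ := [58,421,58,377,2,345,2,561,58,553,58,17,14,45,42,309,449,237,50,469,46,485,50,353,58,433,18,109,465,189,25,62,13,18,93,18,61,22,449,21,62,9,2,153,18,309,145,549,18,29,18,17,14,245,18,429,21,62,49,189,365,2,357,2,373,2,17,14,313,2,5,2,57,62,17,14,25,62,33,2,569,329,58,333,58,537,405,14,181,2,573,2,1,10,577,65,38,369,6,17,14,5,2,53,22,517,525,14,1,10,425,10,9,2,57,62,413,10,409,2,357,2,17,14,369,6,373,2,425,10,57,62,9,2,401,62,21,9,2,357,2,65,405,14,505,25,62,61,22,365,2,357,2,373,2,357,2,163859,58,529,333,58,421,58,181,2,345,2,489,509,417,441,325,6,445,18,33,2,17,14,365,2,357,2,373,2,57,62,313,2,5,2,17,14,57,62,33,2,329,58,333,58,25,62,73,237,50,25,245,18,1,10,517,37,553,58,529,169,449,521,50,481,46,377,2,141,109,473,18,465,421,58,21,62,189,17,14,181,2,357,2,17,14,405,14,5,2,1,10,9,2,329,58,333,58,169,97,33,2,453,65,17,14,413,10,397,57,62,97,1,10,153,18,73,561,58,525,14,1,10,413,10,501,10,581,10,585,34,365,2,57,62,97,109,1,10,521,481,46,353]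
def steps4_1 : List ℕ := [58,29]
theorem run4 : tcRun A 8 0 rules hs (steps4_0 ++ (steps4_1)) (eqSt D5 K5) D4 K4 = true := by decide +kernel
def steps5_0 : List ℕ := [18,405,14,25,62,57,62,9,2,61,22,385,50,109,465,145,189,473,18,481,46,485,50,589,42,593,46,353,58,29,18,405,14,33,2,49,173,25,62,333,58,37,189,61,22,553,58,529,333,58,173,37,109,233,465,141,473,18,145,33,2,17,14,41,10,93,18,481,46,197,42,485,50,45,42,329,58,489,509,333,58,97,141,289,309,513,189,109,597,50,473,18,309,13,18,577,21,62,465,145,33,2,17,14,317,46,237,50,601,42,421,58,97,377,2,5,2,357,2,333,58,25,62,29,18,17,14,1,10,169,37,97,109,57,62,9,2,125,34,329,58,493,46,189,237,50,473,18,309,141,421,58,145,13,18,605,46,609,50,25,62,189,33,2,17,14,333,58,97,109,465,29,18,145,405,14,181,2,329,58,553,58,529,37,5,2,333,58,169,173,449,17,14,61,22,345,2,429,58,613,2,465,53,22,357,2,17,14,141,41,10,21,62,189,109,473,18,33,2,481,46,485,50,421,58,169,289,17,14,1,10,9,2,93,18,441,365,2,5,2,357,2,373,2,57,62,17,14,61,22,313,2,45,42,329,58,493,46,385,50,333,58,37,97,109,473,18,145,481,46,485,50,353,58,345,2,25,62,17,14,13,18,5,2,189,101,18,41,10,309,141,333,58,1,10,33,2,57,62,93]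
def steps5_1 : List ℕ := [18,109,465,145,421,58,29,18,33,2,65,38,405,14,125,34,617]
theorem run5 : tcRun A 8 0 rules hs (steps5_0 ++ (steps5_1)) (eqSt D6 K6) D5 K5 = true := by decide +kernel
end H4.JCJ3
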