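/- Tower KU: a unipotent isometry fixes, modulo an invariant totally isotropic subspace which is not
maximal, a further isotropic vector. -/
import Cfsg.Agent.H53.KUSpec

set_option autoImplicit false

namespace H4.KUExt

open Cfsg H59 H53.WU H53.KU Module

theorem nil {S : HS} (u : S.G) (hu : PE u) (hn : 0 < S.n) :
    ∃ k, ((u.1 : Module.End S.F S.V) - 1) ^ k = 0 := by
  obtain ⟨j, hj⟩ := hu
  have : Nontrivial S.V := Module.nontrivial_of_finrank_pos hn
  have hp : Fact (ringChar S.F).Prime := ⟨CharP.char_is_prime S.F _⟩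
  have : CharP (Module.End S.F S.V) (ringChar S.F) :=
    charP_of_injective_algebraMap (algebraMap S.F (Module.End S.F S.V)).injective _
  refine ⟨ringChar S.F ^ j, ?_⟩
  have h1 : u.1 ^ (ringChar S.F ^ j) = 1 := by simpa using congrArg Subtype.val hj
  have h2 : (u.1 : Module.End S.F S.V) ^ (ringChar S.F ^ j) = 1 := by
    have := congrArg (LinearEquiv.automorphismGroup.toLinearMapMonoidHom (R := S.F) (M := S.V)) h1
    rw [map_pow, map_one] at this
    exact this
  rw [sub_pow_char_pow_of_commute _ _ (Commute.one_right _), h2, one_pow, sub_self]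

theorem jobExt : JobExt := by
  intro S u R hu hR huR hlt
  have hP : ∀ y ∈ perp S.B R, u.1 y ∈ perp S.B R := isom_mapsTo_perp u.2.1 huR
  have hRP : R ≤ perp S.B R := fun y hy x hx => hR x hx y hy
  by_cases h : ∀ v ∈ perp S.B R, u.1 v - v ∈ R
  · obtain ⟨C, hC⟩ := Submodule.exists_isCompl R
    have h1 : R ⊔ C ⊓ perp S.B R = perp S.B R := by
      rw [← sup_inf_assoc_of_le C hRP, hC.sup_eq_top, top_inf_eq]
    have h2 := Submodule.finrank_sup_add_finrank_inf_eq R (C ⊓ perp S.B R)
    have h3 := S.h.finrank_add_finrank_perp R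
    rw [h1] at h2
    obtain ⟨y, hy, y0, yy⟩ := S.h.exists_isotropic_mem (W := C ⊓ perp S.B R) (by
      change finrank S.F R < finrank S.F S.V / 2 at hlt
      omega)
    exact ⟨y, fun hyR => y0 (Submodule.disjoint_def.1 hC.disjoint y hyR hy.1), yy, hy.2, h y hy.2⟩
  · push Not at h
    obtain ⟨v, hv, hvR⟩ := h
    obtain ⟨k, hk⟩ := nil u hu (by omega)
    set N : Module.End S.F S.V := (u.1 : Module.End S.F S.V) - 1 with hN
    have Nap : ∀ x, N x = u.1 x - x := fun x => rfl
    have hNP : ∀ i, (N ^ i) v ∈ perp S.B R := fun i => by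
      induction i with
      | zero => simpa using hv
      | succ i ih =>
        rw [pow_succ', Module.End.mul_apply, Nap]
        exact Submodule.sub_mem _ (hP _ ih) ih
    have ex : ∃ i, N ((N ^ i) v) ∈ R := ⟨k, by simp [hk]⟩
    classical
    have h0 : Nat.find ex ≠ 0 := fun h0 => hvR (by simpa [h0, Nap] using Nat.find_spec ex)
    obtain ⟨j, hj⟩ := Nat.exists_eq_succ_of_ne_zero h0
    have h1 : N ((N ^ j) v) ∉ R := Nat.find_min ex (by omega)
    have h2 : N (N ((N ^ j) v)) ∈ R := by
      have := Nat.find_spec ex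
      rwa [hj, Nat.succ_eq_add_one, pow_succ', Module.End.mul_apply] at this
    have h3 : N ((N ^ j) v) ∈ perp S.B R := by
      have := hNP (j + 1)
      rwa [pow_succ', Module.End.mul_apply] at this
    refine ⟨N ((N ^ j) v), h1, ?_, h3, h2⟩
    have h4 := S.h.eq_zero_comm.1 (hP _ (hNP j) _ h2)
    have h5 := u.2.1 ((N ^ j) v) (N ((N ^ j) v))
    generalize hy : N ((N ^ j) v) = y at h4 h5 ⊢
    rw [Nap, map_sub, h5] at h4
    have h6 : S.B y y = S.B (u.1 ((N ^ j) v)) y - S.B ((N ^ j) v) y := by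
      rw [← LinearMap.sub_apply, ← map_sub, ← Nap, hy]
    rw [h6]
    linear_combination -h4

end H4.KUExt
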