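/- The Kegel-Wielandt theorem, coprime case, part 1: the minimal counterexample and the key
generation lemma. -/
import Cfsg.Agent.H4.Factor
import Cfsg.Agent.H2.MinNormal

set_option autoImplicit false
open Cfsg Pointwise

namespace H4

universe u

variable {G : Type u} [Group G] [Finite G]

theorem Fact2.index_dvd {A B : Subgroup G} (h : Fact2 A B) : A.index ∣ Nat.card B := by
  rw [← relIndex_eq_index_of_mul h.symm]
  exact Subgroup.relIndex_dvd_card A B

theorem Fact2.isPiHall {π : Set ℕ} {A B : Subgroup G} (h : Fact2 A B) (hA : IsPiSubgroup π A)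
    (hB : ∀ p : ℕ, p.Prime → p ∈ π → ¬ p ∣ Nat.card B) : IsPiHall π A :=
  ⟨hA, fun p hp hπ hd => hB p hp hπ (hd.trans h.index_dvd)⟩

/-- Every nontrivial element has a power of prime order. -/
theorem exists_prime_order_pow {x : G} (hx : x ≠ 1) :
    ∃ y ∈ Subgroup.zpowers x, (orderOf y).Prime := by
  have h1 : Nat.card (Subgroup.zpowers x) ≠ 1 := by
    rwa [Nat.card_zpowers, Ne, orderOf_eq_one_iff]
  obtain ⟨p, hp, hd⟩ := Nat.exists_prime_and_dvd h1
  have := Fact.mk hp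
  obtain ⟨y, hy⟩ := exists_prime_orderOf_dvd_card' p hd
  exact ⟨y, y.2, by rwa [Subgroup.orderOf_coe, hy]⟩

theorem exists_mem_orderOf_eq {H : Subgroup G} {p : ℕ} (hp : p.Prime) (hd : p ∣ Nat.card H) :
    ∃ y ∈ H, orderOf y = p := by
  have := Fact.mk hp
  obtain ⟨y, hy⟩ := exists_prime_orderOf_dvd_card' p hd
  exact ⟨y, y.2, by rw [Subgroup.orderOf_coe, hy]⟩

theorem exists_prime_dvd_of_ne_bot {H : Subgroup G} (h : H ≠ ⊥) :
    ∃ p : ℕ, p.Prime ∧ p ∣ Nat.card H :=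
  Nat.exists_prime_and_dvd ((Subgroup.one_lt_card_iff_ne_bot H).mpr h).ne'

theorem dvd_card_of_isPGroup {p : ℕ} (hp : p.Prime) {H : Subgroup G} (h : IsPGroup p H)
    (hne : H ≠ ⊥) : p ∣ Nat.card H := by
  obtain ⟨q, hq, hd⟩ := exists_prime_dvd_of_ne_bot hne
  rwa [← show q = p from isPiSubgroup_of_isPGroup (π := {p}) hp h rfl q hq hd]

omit [Finite G] in
theorem exists_ne_one_of_ne_bot {H : Subgroup G} (h : H ≠ ⊥) : ∃ x ∈ H, x ≠ 1 :=
  (Subgroup.bot_or_exists_ne_one H).resolve_left h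

omit [Finite G] in
theorem ne_bot_of_mem {H : Subgroup G} {x : G} (hx : x ∈ H) (h1 : x ≠ 1) : H ≠ ⊥ :=
  fun h => h1 (Subgroup.mem_bot.mp (h ▸ hx))

/-- Hall subgroups of a solvable factorised subgroup that are normal in the factors permute. -/
theorem set_mul_comm_of_hall_factor {L H K A B : Subgroup G} [Group.IsSolvable L]
    (hf : ∀ g ∈ L, ∃ h ∈ L ⊓ H, ∃ k ∈ L ⊓ K, g = h * k) (hA : A ≤ L) (hB : B ≤ L)
    (hnA : H ≤ Subgroup.normalizer (A : Set G)) (hnB : K ≤ Subgroup.normalizer (B : Set G))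
    (hAh : (Nat.card A).Coprime A.index) (hBh : (Nat.card B).Coprime B.index) :
    (A : Set G) * B = (B : Set G) * A := by
  obtain ⟨D, hD, hAD⟩ := exists_isPiHallOf_ge
    (π := {p | p ∣ Nat.card A ∨ p ∣ Nat.card B}) hA (fun p _ h => Or.inl h)
  obtain ⟨g, hgL, hg⟩ := le_conj_isPiHallOf hD hB (fun p _ h => Or.inr h)
  obtain ⟨h, hh, k, hk, he⟩ := hf g⁻¹ (L.inv_mem hgL)
  rw [Subgroup.subset_pointwise_smul_iff, ← map_inv, he, ← conj_smul_conj_smul,
    conj_smul_eq_iff_mem_normalizer.mpr (hnB hk.2), Subgroup.pointwise_smul_subset_iff,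
    ← map_inv] at hg
  have hAD' : A ≤ MulAut.conj h⁻¹ • D := by
    rw [← conj_smul_eq_iff_mem_normalizer.mpr (hnA (H.inv_mem hh.2))]
    exact Subgroup.pointwise_smul_le_pointwise_smul_iff.mpr hAD
  have hD' := isPiSubgroup_smul hD.2.1 (MulAut.conj h⁻¹)
  generalize MulAut.conj h⁻¹ • D = D at *
  have hcop : (A.relIndex D).Coprime (B.relIndex D) := by
    apply Nat.coprime_of_dvd
    intro p hp h1 h2
    rcases hD' p hp (h1.trans (Subgroup.relIndex_dvd_card _ _)) with h3 | h3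
    · exact hp.one_lt.ne' (Nat.eq_one_of_dvd_coprimes hAh h3
        (h1.trans (Subgroup.relIndex_dvd_index_of_le hAD')))
    · exact hp.one_lt.ne' (Nat.eq_one_of_dvd_coprimes hBh h3
        (h2.trans (Subgroup.relIndex_dvd_index_of_le hg)))
  apply set_mul_comm_of_eq_coe (D := D)
  apply Set.Subset.antisymm
  · intro g hg
    obtain ⟨x, hx, y, hy, rfl⟩ := exists_mul_of_coprime_relIndex hcop hg
    exact Set.mul_mem_mul hx.1 hy.1
  · rintro _ ⟨x, hx, y, hy, rfl⟩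
    exact D.mul_mem (hAD' hx) (hg hy)

/-- If `G = H K`, `H` normalizes `A`, `K` normalizes `B` and `A`, `B` permute, then `A` permutes
with all conjugates of `B`. -/
theorem Fact2.set_mul_comm_conj {H K A B : Subgroup G} (hf : Fact2 H K)
    (hnA : H ≤ Subgroup.normalizer (A : Set G)) (hnB : K ≤ Subgroup.normalizer (B : Set G))
    (h : (A : Set G) * B = (B : Set G) * A) (x : G) :
    (A : Set G) * (MulAut.conj x • B : Subgroup G) =
      ((MulAut.conj x • B : Subgroup G) : Set G) * A := by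
  obtain ⟨a, ha, b, hb, rfl⟩ := hf x
  have := set_mul_comm_smul h (MulAut.conj a)
  rwa [conj_smul_eq_iff_mem_normalizer.mpr (hnA ha),
    ← conj_smul_eq_iff_mem_normalizer.mpr (hnB hb), conj_smul_conj_smul] at this

/-- A minimal counterexample to the coprime Kegel-Wielandt theorem. -/
structure KW (A B : Subgroup G) : Prop where
  fact : Fact2 A B
  nilA : Group.IsNilpotent A
  nilB : Group.IsNilpotent B
  cop : (Nat.card A).Coprime (Nat.card B)
  simple : ∀ N : Subgroup G, N.Normal → N = ⊥ ∨ N = ⊤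
  ih : ∀ L : Subgroup G, L ≠ ⊤ → ∀ A' B' : Subgroup L, Group.IsNilpotent A' →
    Group.IsNilpotent B' → (Nat.card A').Coprime (Nat.card B') → Fact2 A' B' → Group.IsSolvable L
  notpA : ∀ p : ℕ, p.Prime → ¬ IsPGroup p A
  notpB : ∀ p : ℕ, p.Prime → ¬ IsPGroup p B

namespace KW

variable {A B : Subgroup G}

omit [Finite G] in
theorem symm (h : KW A B) : KW B A :=
  ⟨h.fact.symm, h.nilB, h.nilA, h.cop.symm, h.simple, h.ih, h.notpB, h.notpA⟩

omit [Finite G] in
theorem conj_left (h : KW A B) (x : G) : KW (MulAut.conj x • A) B := by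
  have := h.nilA
  refine ⟨h.fact.conj_left x, isNilpotent_smul _ A, h.nilB, by rw [card_smul]; exact h.cop,
    h.simple, h.ih, fun p hp hP => h.notpA p hp ?_, h.notpB⟩
  have := hP.map (MulAut.conj x⁻¹).toMonoidHom
  rwa [← conj_smul_eq_map, conj_smul_conj_smul, inv_mul_cancel, conj_one_smul] at this

omit [Finite G] in
theorem conj_right (h : KW A B) (x : G) : KW A (MulAut.conj x • B) := (h.symm.conj_left x).symm

theorem hall (h : KW A B) : IsPiHall {p | p ∣ Nat.card A} A :=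
  h.fact.isPiHall (fun _ _ h => h)
    fun _ hp h1 h2 => hp.one_lt.ne' (Nat.eq_one_of_dvd_coprimes h.cop h1 h2)

theorem dvd_or_dvd (h : KW A B) {p : ℕ} (hp : p.Prime) (hd : p ∣ Nat.card G) :
    p ∣ Nat.card A ∨ p ∣ Nat.card B := by
  rw [← Nat.Prime.dvd_mul hp, ← h.fact.card_mul]
  exact hd.mul_right _

omit [Finite G] in
theorem not_dvd (h : KW A B) {p : ℕ} (hp : p.Prime) (h1 : p ∣ Nat.card A) : ¬ p ∣ Nat.card B :=
  fun h2 => hp.one_lt.ne' (Nat.eq_one_of_dvd_coprimes h.cop h1 h2)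

omit [Finite G] in
theorem ne_bot (h : KW A B) : A ≠ ⊥ := fun hA => h.notpA 2 Nat.prime_two (hA ▸ IsPGroup.of_bot)

omit [Finite G] in
theorem inf_eq_bot (h : KW A B) : A ⊓ B = ⊥ := (Subgroup.disjoint_of_coprime_natCard h.cop).eq_bot

omit [Finite G] in
theorem ne_top (h : KW A B) : A ≠ ⊤ := fun hA => h.symm.ne_bot (by simpa [hA] using h.inf_eq_bot)

omit [Finite G] in
theorem normalizer_ne_top (h : KW A B) {X : Subgroup G} (h1 : X ≠ ⊥) (h2 : X ≠ ⊤) :
    Subgroup.normalizer (X : Set G) ≠ ⊤ := fun ht =>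
  (h.simple X (Subgroup.normalizer_eq_top_iff.mp ht)).elim h1 h2

omit [Finite G] in
theorem centralizer_ne_top (h : KW A B) {g : G} (hg : g ≠ 1) :
    Subgroup.centralizer ({g} : Set G) ≠ ⊤ := by
  intro ht
  have h1 : g ∈ Subgroup.center G := Subgroup.mem_center_iff.mpr fun x =>
    Subgroup.mem_centralizer_singleton_iff.mp (ht ▸ Subgroup.mem_top x)
  have h2 := (h.simple _ inferInstance).resolve_left (ne_bot_of_mem h1 hg)
  refine h.normalizer_ne_top h.ne_bot h.ne_top (eq_top_iff.mpr ?_)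
  rw [← h2]
  exact Subgroup.center_le_normalizer _

theorem solvable_of_factorized (h : KW A B) {L : Subgroup G} (hL : L ≠ ⊤)
    (hf : ∀ g ∈ L, ∃ a ∈ L ⊓ A, ∃ b ∈ L ⊓ B, g = a * b) : Group.IsSolvable L := by
  have := h.nilA
  have := h.nilB
  exact h.ih L hL _ _ (isNilpotent_subgroupOf A L) (isNilpotent_subgroupOf B L)
    ((h.cop.coprime_dvd_left (Subgroup.card_comap_dvd_of_injective _ _ L.subtype_injective)).coprime_dvd_right
      (Subgroup.card_comap_dvd_of_injective _ _ L.subtype_injective)) (fact2_subgroupOf hf)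

/-- In a factorised subgroup `L`, a normal `p`-subgroup with `p ∣ |A|` lies in `A`. -/
theorem pCore_le (h : KW A B) {L : Subgroup G}
    (hf : ∀ g ∈ L, ∃ a ∈ L ⊓ A, ∃ b ∈ L ⊓ B, g = a * b) {p : ℕ} (hp : p.Prime)
    (hd : p ∣ Nat.card A) : (pCore p L).map L.subtype ≤ A := by
  have h1 : IsPiHall {p | p ∣ Nat.card A} (A.subgroupOf L) :=
    (fact2_subgroupOf hf).isPiHall (isPiSubgroup_subgroupOf h.hall.1 L) fun q hq h1 h2 =>
      h.not_dvd hq h1 (h2.trans (Subgroup.card_comap_dvd_of_injective _ _ L.subtype_injective))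
  rw [Subgroup.map_le_iff_le_comap]
  exact le_isPiHall_of_normal h1 (isPiSubgroup_of_isPGroup hp (H2.pCore_isPGroup p L) hd)

theorem compl_ne_bot (h : KW A B) {p : ℕ} (hp : p.Prime) {C : Subgroup G}
    (hC : IsPiHallOf {q | q ≠ p} C A) : C ≠ ⊥ := by
  rintro rfl
  refine h.notpA p hp (isPGroup_of_isPiSubgroup_singleton fun q hq hd => by_contra fun hne => ?_)
  exact hC.2.2 q hq hne (by rwa [Subgroup.relIndex_bot_left])

theorem compl_coprime (h : KW A B) {π : Set ℕ} {C : Subgroup G} (hC : IsPiHallOf π C A) :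
    (Nat.card C).Coprime C.index := by
  apply Nat.coprime_of_dvd
  intro q hq h1 h2
  rw [← Subgroup.relIndex_mul_index hC.1] at h2
  rcases (Nat.Prime.dvd_mul hq).mp h2 with h3 | h3
  · exact hC.2.2 q hq (hC.2.1 q hq h1) h3
  · exact h.hall.2 q hq (h1.trans (Subgroup.card_dvd_of_le hC.1)) h3

theorem gen_step1 (h : KW A B) {A0 B0 : Subgroup G} (hA : A0 ≤ A)
    (hnA : A ≤ Subgroup.normalizer (A0 : Set G)) (hnB : B ≤ Subgroup.normalizer (B0 : Set G))
    (hmax : ∀ A1 : Subgroup G, A0 ≤ A1 → A1 ≤ A → A ≤ Subgroup.normalizer (A1 : Set G) →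
      A1 ⊔ B0 ≠ ⊤ → A1 ≤ A0)
    {L : Subgroup G} (hL : L = Subgroup.normalizer ((A0 ⊔ B0 : Subgroup G) : Set G))
    {p : ℕ} (hp : p.Prime) (hd : p ∣ Nat.card A) (hne : (pCore p L).map L.subtype ≠ ⊥)
    {C : Subgroup G} (hC : IsPiHallOf {q | q ≠ p} C A) :
    C ≤ A0 ∧ C ≤ Subgroup.centralizer (((pCore p L).map L.subtype : Subgroup G) : Set G) := by
  have := h.nilA
  have hf := h.fact.normalizer_sup hnA hnB
  rw [← hL] at hf
  have h1 := h.pCore_le hf hp hd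
  have h2 : C ≤ Subgroup.centralizer (((pCore p L).map L.subtype : Subgroup G) : Set G) :=
    le_centralizer_of_nilpotent hC.1 h1 (coprime_of_pi hC.2.1 fun q hq hqp hqd => hqp
      (isPiSubgroup_of_isPGroup (π := {p}) hp (H2.isPGroup_map_pCore_subtype L) rfl q hq hqd))
  refine ⟨le_sup_right.trans (hmax (A0 ⊔ C) le_sup_left (sup_le hA hC.1) ?_ ?_), h2⟩
  · exact (le_inf hnA (le_normalizer_isPiHallOf_of_nilpotent hC)).trans
      (Subgroup.normalizer_inf_normalizer_le_normalizer_sup _ _)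
  · refine ne_top_of_le_ne_top (h.normalizer_ne_top hne (ne_top_of_le_ne_top h.ne_top h1)) ?_
    have h3 : A0 ⊔ B0 ≤ Subgroup.normalizer (((pCore p L).map L.subtype : Subgroup G) : Set G) :=
      (hL ▸ Subgroup.le_normalizer : A0 ⊔ B0 ≤ L).trans (le_normalizer_map_subtype _)
    exact sup_le (sup_le (le_sup_left.trans h3) (h2.trans (Subgroup.centralizer_le_normalizer _)))
      (le_sup_right.trans h3)

theorem gen_step2 (h : KW A B) {A0 B0 : Subgroup G} (hA : A0 ≤ A)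
    (hnA : A ≤ Subgroup.normalizer (A0 : Set G)) (hnB : B ≤ Subgroup.normalizer (B0 : Set G))
    (hB0 : B0 ≠ ⊥) (htop : A0 ⊔ B0 ≠ ⊤)
    (hmax : ∀ A1 : Subgroup G, A0 ≤ A1 → A1 ≤ A → A ≤ Subgroup.normalizer (A1 : Set G) →
      A1 ⊔ B0 ≠ ⊤ → A1 ≤ A0)
    {L : Subgroup G} (hL : L = Subgroup.normalizer ((A0 ⊔ B0 : Subgroup G) : Set G)) :
    ∃ q : ℕ, q.Prime ∧ q ∣ Nat.card B ∧ (pCore q L).map L.subtype ≠ ⊥ := by
  have := h.nilA
  by_contra hcon
  push Not at hcon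
  have hle : A0 ⊔ B0 ≤ L := hL ▸ Subgroup.le_normalizer
  have hLb : L ≠ ⊥ := ne_bot_of_le_ne_bot hB0 (le_sup_right.trans hle)
  have hLt : L ≠ ⊤ := hL ▸ h.normalizer_ne_top (ne_bot_of_le_ne_bot hB0 le_sup_right) htop
  have hf := h.fact.normalizer_sup hnA hnB
  rw [← hL] at hf
  have := h.solvable_of_factorized hLt hf
  have := (Subgroup.nontrivial_iff_ne_bot L).mpr hLb
  have hdA : ∀ r : ℕ, r.Prime → (pCore r L).map L.subtype ≠ ⊥ → r ∣ Nat.card A := fun r hr hne =>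
    (h.dvd_or_dvd hr ((dvd_card_of_isPGroup hr (H2.isPGroup_map_pCore_subtype L) hne).trans
      (Subgroup.card_subgroup_dvd_card _))).resolve_right fun hd => hne (hcon r hr hd)
  have hA0 : ¬ A ≤ A0 := fun hAA => by
    have h1 := normalClosure_le_of_factor (h.fact.symm.mono le_rfl (hAA.trans le_sup_left :
      A ≤ A0 ⊔ B0)) hnB (g := 1) (by rw [conj_one_smul]; exact le_sup_right)
    rcases h.simple (Subgroup.normalClosure (B0 : Set G)) inferInstance with h2 | h2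
    · exact hB0 (eq_bot_iff.mpr (h2 ▸ Subgroup.subset_normalClosure))
    · exact htop (eq_top_iff.mpr (h2 ▸ h1))
  obtain ⟨p, hp, hne⟩ := H2.exists_pCore_ne_bot L
  have hne' : (pCore p L).map L.subtype ≠ ⊥ := by
    rwa [Ne, Subgroup.map_eq_bot_iff_of_injective _ L.subtype_injective]
  obtain ⟨C, hC⟩ := exists_isPiHallOf {q | q ≠ p} A
  obtain ⟨h1, h2⟩ := h.gen_step1 hA hnA hnB hmax hL hp (hdA p hp hne') hne' hC
  have hF : fittingSubgroup L = pCore p L := by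
    have := Fact.mk hp
    refine le_antisymm ?_ (H2.pCore_le_fitting p L)
    rw [H2.fitting_eq_iSup_pCore]
    refine iSup_le fun r => ?_
    by_cases hrp : (r : ℕ) = p
    · rw [hrp]
    by_cases hr : (pCore r L).map L.subtype = ⊥
    · rw [(Subgroup.map_eq_bot_iff_of_injective _ L.subtype_injective).mp hr]; exact bot_le
    obtain ⟨D, hD⟩ := exists_isPiHallOf {q | q ≠ (r : ℕ)} A
    obtain ⟨h3, -⟩ := h.gen_step1 hA hnA hnB hmax hL r.2 (hdA r r.2 hr) hr hD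
    exact absurd (le_of_isPiHallOf_le hC hD (fun s _ _ => by
      by_cases hs : s = p
      · exact Or.inr fun h => hrp (h.symm.trans hs)
      · exact Or.inl hs) h1 h3) hA0
  have hCL : C ≤ L := h1.trans (le_sup_left.trans hle)
  have h4 : C.subgroupOf L ≤ pCore p L := by
    rw [← hF]
    refine le_trans ?_ (H2.centralizer_fitting_le L)
    rw [hF]
    intro c hc x hx
    exact Subtype.ext (h2 hc x (Subgroup.mem_map_of_mem _ hx))
  have h5 : IsPGroup p C := by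
    rw [← Subgroup.map_subgroupOf_eq_of_le hCL]
    exact ((H2.pCore_isPGroup p L).to_le h4).map _
  exact hC.2.1 p hp (dvd_card_of_isPGroup hp h5 (h.compl_ne_bot hp hC)) rfl

/-- Nontrivial normal subgroups of the two factors generate the group. -/
theorem sup_eq_top (h : KW A B) {A1 B1 : Subgroup G} (hA : A1 ≤ A)
    (hnA : A ≤ Subgroup.normalizer (A1 : Set G)) (hA1 : A1 ≠ ⊥) (hB : B1 ≤ B)
    (hnB : B ≤ Subgroup.normalizer (B1 : Set G)) (hB1 : B1 ≠ ⊥) : A1 ⊔ B1 = ⊤ := by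
  by_contra htop
  obtain ⟨⟨A0, B0⟩, ⟨hA, hnA, hA0, hB, hnB, hB0, htop⟩, hmax⟩ := exists_maximal_of_wellFoundedGT
    (fun X : Subgroup G × Subgroup G => X.1 ≤ A ∧ A ≤ Subgroup.normalizer (X.1 : Set G) ∧
      X.1 ≠ ⊥ ∧ X.2 ≤ B ∧ B ≤ Subgroup.normalizer (X.2 : Set G) ∧ X.2 ≠ ⊥ ∧ X.1 ⊔ X.2 ≠ ⊤)
    ⟨(A1, B1), hA, hnA, hA1, hB, hnB, hB1, htop⟩
  simp only at hA hnA hA0 hB hnB hB0 htop
  have hmaxA : ∀ A1 : Subgroup G, A0 ≤ A1 → A1 ≤ A → A ≤ Subgroup.normalizer (A1 : Set G) →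
      A1 ⊔ B0 ≠ ⊤ → A1 ≤ A0 := fun A1 h1 h2 h3 h4 =>
    (hmax (y := (A1, B0)) ⟨h2, h3, ne_bot_of_le_ne_bot hA0 h1, hB, hnB, hB0, h4⟩ ⟨h1, le_rfl⟩).1
  have hmaxB : ∀ B1 : Subgroup G, B0 ≤ B1 → B1 ≤ B → B ≤ Subgroup.normalizer (B1 : Set G) →
      B1 ⊔ A0 ≠ ⊤ → B1 ≤ B0 := fun B1 h1 h2 h3 h4 =>
    (hmax (y := (A0, B1)) ⟨hA, hnA, hA0, h2, h3, ne_bot_of_le_ne_bot hB0 h1, by rwa [sup_comm]⟩
      ⟨le_rfl, h1⟩).2
  obtain ⟨L, hL⟩ : ∃ L, L = Subgroup.normalizer ((A0 ⊔ B0 : Subgroup G) : Set G) := ⟨_, rfl⟩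
  have hL' : L = Subgroup.normalizer ((B0 ⊔ A0 : Subgroup G) : Set G) := by rw [hL, sup_comm]
  obtain ⟨q, hq, hqd, hqne⟩ := h.gen_step2 hA hnA hnB hB0 htop hmaxA hL
  obtain ⟨p, hp, hpd, hpne⟩ := h.symm.gen_step2 hB hnB hnA hA0 (by rwa [sup_comm]) hmaxB hL'
  have := h.nilA
  have := h.nilB
  obtain ⟨C, hC⟩ := exists_isPiHallOf {r | r ≠ p} A
  obtain ⟨D, hD⟩ := exists_isPiHallOf {r | r ≠ q} B
  obtain ⟨h1, -⟩ := h.gen_step1 hA hnA hnB hmaxA hL hp hpd hpne hC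
  obtain ⟨h2, -⟩ := h.symm.gen_step1 hB hnB hnA hmaxB hL' hq hqd hqne hD
  have hle : A0 ⊔ B0 ≤ L := hL ▸ Subgroup.le_normalizer
  have hLt : L ≠ ⊤ := hL ▸ h.normalizer_ne_top (ne_bot_of_le_ne_bot hB0 le_sup_right) htop
  have hf := h.fact.normalizer_sup hnA hnB
  rw [← hL] at hf
  have := h.solvable_of_factorized hLt hf
  have hnC := le_normalizer_isPiHallOf_of_nilpotent hC
  have hnD := le_normalizer_isPiHallOf_of_nilpotent hD
  have h3 := set_mul_comm_of_hall_factor hf (h1.trans (le_sup_left.trans hle))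
    (h2.trans (le_sup_right.trans hle)) hnC hnD (h.compl_coprime hC) (h.symm.compl_coprime hD)
  obtain ⟨N, hN, hNt, hle'⟩ := kegel_normal (h.fact.set_mul_comm_conj hnC hnD h3)
    (ne_top_of_le_ne_top htop (sup_le_sup h1 h2))
  rw [(h.simple N hN).resolve_right hNt, le_bot_iff, le_bot_iff] at hle'
  exact hle'.elim (h.compl_ne_bot hp hC) (h.symm.compl_ne_bot hq hD)

end KW

end H4
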