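/- The Kegel-Wielandt theorem, coprime case, part 2. -/
import Cfsg.Agent.H4.KegelA
import Cfsg.Agent.H3.NormalRankOne
import Cfsg.Agent.S0041
import Cfsg.Agent.S0023
import Cfsg.Agent.S0079
import Cfsg.Agent.S0143

set_option autoImplicit false
open Cfsg Pointwise

namespace H4

universe u

variable {G : Type u} [Group G] [Finite G]

/-- The centre of a subgroup, as a subgroup of the ambient group. -/
abbrev zc (A : Subgroup G) : Subgroup G := A ⊓ Subgroup.centralizer (A : Set G)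

theorem zc_ne_bot {A : Subgroup G} [Group.IsNilpotent A] (h : A ≠ ⊥) : zc A ≠ ⊥ := by
  have := H2.inf_inf_centralizer_ne_bot (N := A) (K := A) Subgroup.le_normalizer (by rwa [inf_idem])
  rwa [inf_idem] at this

omit [Finite G] in
theorem conj_mem_zc {A : Subgroup G} {z : G} (hz : z ∈ zc A) (g : G) :
    g * z * g⁻¹ ∈ zc (MulAut.conj g • A) := by
  refine Subgroup.mem_inf.mpr ⟨mem_conj_smul.mpr (by simpa [mul_assoc] using hz.1), fun x hx => ?_⟩
  have := hz.2 _ (mem_conj_smul.mp hx)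
  calc x * (g * z * g⁻¹) = g * (g⁻¹ * x * g * z) * g⁻¹ := by group
    _ = _ := by rw [this]; group

omit [Finite G] in
theorem normalizer_le_normalizer_zc (A : Subgroup G) :
    Subgroup.normalizer (A : Set G) ≤ Subgroup.normalizer ((zc A : Subgroup G) : Set G) := by
  have key : ∀ g ∈ Subgroup.normalizer (A : Set G), ∀ z ∈ zc A, g * z * g⁻¹ ∈ zc A := by
    intro g hg z hz
    have := conj_mem_zc hz g
    rwa [conj_smul_eq_iff_mem_normalizer.mpr hg] at this
  intro g hg
  rw [Subgroup.mem_normalizer_iff]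
  intro x
  refine ⟨key g hg x, fun h => ?_⟩
  simpa [mul_assoc] using key g⁻¹ (inv_mem hg) _ h

omit [Finite G] in
theorem zc_le_normalizer {A X : Subgroup G} (h : X ≤ A) : zc A ≤ Subgroup.normalizer (X : Set G) :=
  (inf_le_right.trans (Subgroup.centralizer_le h)).trans (Subgroup.centralizer_le_normalizer _)

omit [Finite G] in
theorem le_normalizer_of_le_zc {A X : Subgroup G} (h : X ≤ zc A) :
    A ≤ Subgroup.normalizer (X : Set G) :=
  (Subgroup.le_centralizer_iff.mp (h.trans inf_le_right)).trans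
    (Subgroup.centralizer_le_normalizer _)

namespace KW

variable {A B : Subgroup G}

theorem zc_ne (h : KW A B) : zc A ≠ ⊥ := have := h.nilA; zc_ne_bot h.ne_bot

/-- No proper subgroup meets both centres. -/
theorem eq_top_of_zc (h : KW A B) {L : Subgroup G} (h1 : zc A ⊓ L ≠ ⊥) (h2 : zc B ⊓ L ≠ ⊥) :
    L = ⊤ :=
  eq_top_iff.mpr ((h.sup_eq_top (inf_le_left.trans inf_le_left)
    (le_normalizer_of_le_zc inf_le_left) h1 (inf_le_left.trans inf_le_left)
    (le_normalizer_of_le_zc inf_le_left) h2).ge.trans (sup_le inf_le_right inf_le_right))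

theorem eq_top_of_zc_le (h : KW A B) {L : Subgroup G} (h1 : zc A ≤ L) (h2 : zc B ≤ L) : L = ⊤ :=
  h.eq_top_of_zc (by rw [inf_eq_left.mpr h1]; exact h.zc_ne)
    (by rw [inf_eq_left.mpr h2]; exact h.symm.zc_ne)

theorem mem_of_commute (h : KW A B) {z g : G} (hz : z ∈ zc A) (h1 : z ≠ 1) (hg : z * g = g * z) :
    g ∈ A := by
  obtain ⟨a, ha, b, hb, rfl⟩ := h.fact g
  by_cases hb1 : b = 1
  · rwa [hb1, mul_one]
  exfalso
  refine h.centralizer_ne_top hb1 (h.eq_top_of_zc (ne_bot_of_mem (x := z) (Subgroup.mem_inf.mpr ⟨hz, ?_⟩) h1) ?_)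
  · rw [Subgroup.mem_centralizer_singleton_iff]
    rwa [← mul_assoc, ← hz.2 a ha, mul_assoc, mul_assoc, mul_right_inj] at hg
  · rw [inf_eq_left.mpr]
    · exact h.symm.zc_ne
    · exact fun w hw => Subgroup.mem_centralizer_singleton_iff.mpr (hw.2 b hb).symm

theorem eq_of_zc_mem {A' : Subgroup G} (h : KW A B) (h' : KW A' B)
    (hc : Nat.card A = Nat.card A') {z : G} (hz : z ∈ zc A') (h1 : z ≠ 1) (hzA : z ∈ A) :
    A' = A := by
  have := h.nilA
  have := h'.nilA
  obtain ⟨y, hy, hp⟩ := exists_prime_order_pow h1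
  have hyz : y ∈ zc A' := (Subgroup.zpowers_le (G := G)).mpr hz hy
  have hyA : y ∈ A := (Subgroup.zpowers_le (G := G)).mpr hzA hy
  have hy1 : y ≠ 1 := by rintro rfl; rw [orderOf_one] at hp; exact Nat.not_prime_one hp
  obtain ⟨C, hC⟩ := exists_isPiHallOf {q | q ≠ orderOf y} A
  have hCA' : C ≤ A' := fun c hc' => h'.mem_of_commute hyz hy1
    (commute_of_nilpotent hyA (hC.1 hc') ((Nat.Prime.coprime_iff_not_dvd hp).mpr fun hd =>
      hC.2.1 _ hp (hd.trans (C.orderOf_dvd_natCard hc')) rfl))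
  have hC' : IsPiHallOf {q | q ≠ orderOf y} C A' := by
    refine ⟨hCA', hC.2.1, ?_⟩
    rw [Nat.eq_of_mul_eq_mul_left Nat.card_pos
      ((card_mul_relIndex hCA').trans (hc.symm.trans (card_mul_relIndex hC.1).symm))]
    exact hC.2.2
  obtain ⟨w, hw, hw1⟩ := exists_ne_one_of_ne_bot (H2.inf_inf_centralizer_ne_bot (N := C) (K := A)
    (le_normalizer_isPiHallOf_of_nilpotent hC)
    (by rw [inf_eq_left.mpr hC.1]; exact h.compl_ne_bot hp hC))
  obtain ⟨S, hS⟩ := exists_sylowOf hp A'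
  have h2 : A' ≤ Subgroup.centralizer {w} := by
    refine le_of_isPiHallOf_le hC' hS (fun r _ _ => (em (r = orderOf y)).symm) ?_ ?_
    · exact fun c hc' => Subgroup.mem_centralizer_singleton_iff.mpr (hw.2 c (hC.1 hc'))
    · exact fun s hs => Subgroup.mem_centralizer_singleton_iff.mpr
        (le_centralizer_of_nilpotent hS.1 hCA' (coprime_of_pi hS.2.1 fun r hr hrq hd =>
          hC.2.1 r hr hd hrq) hs w hw.1.1).symm
  exact Subgroup.eq_of_le_of_card_ge (fun g hg => h.mem_of_commute ⟨hw.1.2, hw.2⟩ hw1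
    (Subgroup.mem_centralizer_singleton_iff.mp (h2 hg)).symm) hc.le

theorem mem_normalizer_of_conj_mem (h : KW A B) {z g : G} (hz : z ∈ zc A) (h1 : z ≠ 1)
    (hg : g * z * g⁻¹ ∈ A) : g ∈ Subgroup.normalizer (A : Set G) :=
  conj_smul_eq_iff_mem_normalizer.mp (h.eq_of_zc_mem (h.conj_left g) (card_smul _ A).symm
    (conj_mem_zc hz g) (by simpa using h1) hg)

/-- A pi-subgroup meeting `Z(A)` lies in `A`. -/
theorem le_of_pi (h : KW A B) {S : Subgroup G} (hS : IsPiSubgroup {p | p ∣ Nat.card A} S) {z : G}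
    (hz : z ∈ zc A) (h1 : z ≠ 1) (hzS : z ∈ S) : S ≤ A := by
  have := h.nilA
  obtain ⟨x, hx⟩ := le_conj_nilpotent_hall h.hall _ S rfl hS
  rwa [← (h.conj_left x).eq_of_zc_mem h (card_smul _ A) hz h1 (hx hzS)] at hx

/-- A proper factorised subgroup containing `Z(A)` normalizes `A`. -/
theorem le_normalizer_of_factorized (h : KW A B) {L : Subgroup G} (hL : L ≠ ⊤)
    (hf : ∀ g ∈ L, ∃ a ∈ L ⊓ A, ∃ b ∈ L ⊓ B, g = a * b) (hZ : zc A ≤ L) :
    L ≤ Subgroup.normalizer (A : Set G) := by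
  have := h.solvable_of_factorized hL hf
  have hf' : ∀ g ∈ L, ∃ b ∈ L ⊓ B, ∃ a ∈ L ⊓ A, g = b * a := fun g hg => by
    obtain ⟨a, ha, b, hb, he⟩ := hf g⁻¹ (L.inv_mem hg)
    exact ⟨b⁻¹, inv_mem hb, a⁻¹, inv_mem ha, by rw [← mul_inv_rev, ← he, inv_inv]⟩
  have hF : (fittingSubgroup L).map L.subtype ≤ A := by
    rw [H2.fitting_eq_iSup_pCore, Subgroup.map_iSup]
    refine iSup_le fun q => ?_
    by_cases hne : (pCore q L).map L.subtype = ⊥
    · rw [hne]; exact bot_le
    rcases h.dvd_or_dvd q.2 ((dvd_card_of_isPGroup q.2 (H2.isPGroup_map_pCore_subtype L) hne).trans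
      (Subgroup.card_subgroup_dvd_card _)) with hd | hd
    · exact h.pCore_le hf q.2 hd
    · have h1 := h.symm.pCore_le hf' q.2 hd
      exact absurd (h.eq_top_of_zc_le (hZ.trans (le_normalizer_map_subtype _)) (zc_le_normalizer h1))
        (h.normalizer_ne_top hne (ne_top_of_le_ne_top h.symm.ne_top h1))
  obtain ⟨z, hz, hz1⟩ := exists_ne_one_of_ne_bot h.zc_ne
  have hzF : (⟨z, hZ hz⟩ : L) ∈ fittingSubgroup L := H2.centralizer_fitting_le L fun x hx =>
    Subtype.ext (hz.2 x (hF (Subgroup.mem_map_of_mem _ hx)))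
  intro g hg
  exact h.mem_normalizer_of_conj_mem hz hz1 (hF (Subgroup.mem_map_of_mem L.subtype
    ((inferInstance : (fittingSubgroup L).Normal).conj_mem _ hzF ⟨g, hg⟩)))

theorem centralizer_le_normalizer (h : KW A B) {u : G} (huA : u ∈ A)
    (huB : u ∈ Subgroup.normalizer (B : Set G)) (hp : (orderOf u).Prime) :
    Subgroup.centralizer {u} ≤ Subgroup.normalizer (A : Set G) := by
  have := h.nilA
  set D := A ⊓ Subgroup.normalizer (B : Set G) with hD
  have hu1 : u ≠ 1 := by rintro rfl; rw [orderOf_one] at hp; exact Nat.not_prime_one hp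
  have hnil : Group.IsNilpotent D := isNilpotent_of_le inf_le_left
  have hcomm : IsMulCommutative (zc B) := ⟨⟨fun a b => Subtype.ext (b.2.2 a a.2.1)⟩⟩
  have hcyc : ∀ E : Subgroup G, E ≤ D → IsMulCommutative E → IsCyclic E := fun E hE hc =>
    Cfsg.Agent.S0041.result E (zc B) h.symm.zc_ne
      ((hE.trans inf_le_right).trans (normalizer_le_normalizer_zc B)) (fun a ha ha1 => by
        rw [eq_bot_iff]
        intro w hw
        by_contra hw1
        have h1 := h.symm.mem_of_commute hw.1 hw1 (Subgroup.mem_centralizer_singleton_iff.mp hw.2)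
        exact ha1 (Subgroup.mem_bot.mp (h.inf_eq_bot ▸ (⟨(hE ha).1, h1⟩ : a ∈ A ⊓ B))))
      (Or.inl hc)
  obtain ⟨P, hP⟩ := exists_sylowOf hp D
  have hPb : P ⊓ D ≠ ⊥ := by
    rw [inf_eq_left.mpr hP.1]
    rintro rfl
    exact hP.2.2 _ hp rfl (by
      rw [Subgroup.relIndex_bot_left]; exact D.orderOf_dvd_natCard ⟨huA, huB⟩)
  obtain ⟨w, hw, hw1⟩ := exists_ne_one_of_ne_bot (H2.inf_inf_centralizer_ne_bot (N := P) (K := D)
    (le_normalizer_isPiHallOf_of_nilpotent hP) hPb)
  obtain ⟨z, hz, hzp⟩ := exists_prime_order_pow hw1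
  have hz' := (Subgroup.zpowers_le (G := G)).mpr hw hz
  have hzo : orderOf z = orderOf u := hP.2.1 _ hzp (P.orderOf_dvd_natCard hz'.1.1)
  have huniq : ∀ v ∈ D, orderOf v = orderOf u → Subgroup.zpowers v = Subgroup.zpowers z := by
    intro v hv hvo
    have hc : IsMulCommutative (Subgroup.closure {z, v}) :=
      Subgroup.isMulCommutative_closure (by
        rintro a (rfl | rfl) b (rfl | rfl)
        · rfl
        · exact (hz'.2 _ hv).symm
        · exact hz'.2 _ hv
        · rfl)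
    have h1 := H3.mem_zpowers_of_isCyclic_subgroup (hcyc _ ((Subgroup.closure_le _).mpr (by
        rintro a (rfl | rfl)
        · exact hz'.1.2
        · exact hv)) hc) (Subgroup.subset_closure (by simp) : v ∈ _)
      (Subgroup.subset_closure (by simp) : z ∈ _) (hvo ▸ pow_orderOf_eq_one v) hzo
    exact Subgroup.eq_of_le_of_card_ge ((Subgroup.zpowers_le (G := G)).mpr h1)
      (by rw [Nat.card_zpowers, Nat.card_zpowers, hzo, hvo])
  set U := Subgroup.zpowers u
  have hUA : U ≤ A := (Subgroup.zpowers_le (G := G)).mpr huA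
  have hUB : U ≤ Subgroup.normalizer (B : Set G) := (Subgroup.zpowers_le (G := G)).mpr huB
  refine le_trans ?_ (h.le_normalizer_of_factorized (L := Subgroup.normalizer (U : Set G))
    (h.normalizer_ne_top (ne_bot_of_mem (Subgroup.mem_zpowers u) hu1)
      (ne_top_of_le_ne_top h.ne_top hUA)) (fun g hg => ?_) (zc_le_normalizer hUA))
  · rw [← Subgroup.centralizer_closure, ← Subgroup.zpowers_eq_closure]
    exact Subgroup.centralizer_le_normalizer _
  · obtain ⟨a, ha, b, hb, rfl⟩ := h.fact g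
    have h1 : a⁻¹ * u * a ∈ D := by
      refine ⟨A.mul_mem (A.mul_mem (A.inv_mem ha) huA) ha, ?_⟩
      have h2 : (a * b)⁻¹ * u * (a * b) ∈ U :=
        (Subgroup.mem_normalizer_iff''.mp hg u).mp (Subgroup.mem_zpowers u)
      have hb' : b ∈ Subgroup.normalizer (B : Set G) := Subgroup.le_normalizer hb
      have h3 := Subgroup.mul_mem _ (Subgroup.mul_mem _ hb' (hUB h2)) (Subgroup.inv_mem _ hb')
      simpa [mul_assoc] using h3
    have h2 : a⁻¹ ∈ Subgroup.normalizer (U : Set G) := by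
      rw [← conj_smul_eq_iff_mem_normalizer, conj_smul_eq_map, MonoidHom.map_zpowers]
      refine (huniq _ (by simpa using h1) ?_).trans (huniq u ⟨huA, huB⟩ rfl).symm
      exact (MulAut.conj a⁻¹).orderOf_eq u
    have h3 : a ∈ Subgroup.normalizer (U : Set G) := by simpa using Subgroup.inv_mem _ h2
    exact ⟨a, ⟨h3, ha⟩, b, ⟨by simpa using Subgroup.mul_mem _ h2 hg, hb⟩, rfl⟩

theorem centralizer_le_of_le_normalizer (h : KW A B) {e : G} (heA : e ∈ A)
    (hp : (orderOf e).Prime)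
    (hN : Subgroup.centralizer {e} ⊓ Subgroup.normalizer (A : Set G) ≤ A) :
    Subgroup.centralizer {e} ≤ A := by
  have := h.nilA
  set H := Subgroup.centralizer ({e} : Set G) with hH
  have he1 : e ≠ 1 := by rintro rfl; rw [orderOf_one] at hp; exact Nat.not_prime_one hp
  have hZH : zc A ≤ H := fun w hw => Subgroup.mem_centralizer_singleton_iff.mpr (hw.2 e heA).symm
  obtain ⟨r, hr, hrd, hre⟩ : ∃ r : ℕ, r.Prime ∧ r ∣ Nat.card A ∧ r ≠ orderOf e := by
    by_contra hne
    push Not at hne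
    exact h.notpA _ hp (isPGroup_of_isPiSubgroup_singleton hne)
  obtain ⟨R, hR⟩ := exists_sylowOf hr A
  obtain ⟨P, hP⟩ := exists_sylowOf hp A
  obtain ⟨C, hC⟩ := exists_isPiHallOf {q | q ≠ r} A
  have hRH : R ≤ H := fun x hx => Subgroup.mem_centralizer_singleton_iff.mpr
    (commute_of_nilpotent heA (hR.1 hx) ((Nat.Prime.coprime_iff_not_dvd hp).mpr fun hd =>
      hre (hR.2.1 _ hp (hd.trans (R.orderOf_dvd_natCard hx))).symm)).symm
  have hCR : C ≤ Subgroup.centralizer (R : Set G) := le_centralizer_of_nilpotent hC.1 hR.1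
    (coprime_of_pi hC.2.1 fun q hq hqr hd => hqr (hR.2.1 q hq hd))
  have hnR := le_normalizer_isPiHallOf_of_nilpotent hR
  have hRb : R ≠ ⊥ := by
    rintro rfl
    exact hR.2.2 _ hr rfl (by rwa [Subgroup.relIndex_bot_left])
  have hPb : P ⊓ A ≠ ⊥ := by
    rw [inf_eq_left.mpr hP.1]
    rintro rfl
    exact hP.2.2 _ hp rfl (by rw [Subgroup.relIndex_bot_left]; exact A.orderOf_dvd_natCard heA)
  obtain ⟨z, hz, hz1⟩ := exists_ne_one_of_ne_bot (H2.inf_inf_centralizer_ne_bot (N := P) (K := A)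
    (le_normalizer_isPiHallOf_of_nilpotent hP) hPb)
  have hzA : z ∈ zc A := ⟨hz.1.2, hz.2⟩
  have hzp : IsPiSubgroup {orderOf e} (Subgroup.zpowers z) :=
    isPiSubgroup_of_le hP.2.1 ((Subgroup.zpowers_le (G := G)).mpr hz.1.1)
  -- `R` controls its own fusion in `H`
  have hfus : ∀ x ∈ R, ∀ g ∈ H, g * x * g⁻¹ ∈ R → ∃ k ∈ R, k * x * k⁻¹ = g * x * g⁻¹ := by
    intro x hx g hg hy
    set y := g * x * g⁻¹ with hydef
    set M := H ⊓ Subgroup.centralizer {y}
    have hzM : Subgroup.zpowers z ≤ M := (Subgroup.zpowers_le (G := G)).mpr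
      ⟨hZH hzA, Subgroup.mem_centralizer_singleton_iff.mpr (hz.2 y (hR.1 hy)).symm⟩
    obtain ⟨S, hS, hzS⟩ := exists_sylowOf_ge hp hzM hzp
    have hSA : S ≤ A := h.le_of_pi (fun q hq hd => by
      rw [show q = orderOf e from hS.2.1 q hq hd]; exact A.orderOf_dvd_natCard heA)
      hzA hz1 (hzS (Subgroup.mem_zpowers z))
    have hgM : MulAut.conj g • Subgroup.zpowers z ≤ M := by
      rw [conj_smul_eq_map, MonoidHom.map_zpowers, Subgroup.zpowers_le]
      refine ⟨H.mul_mem (H.mul_mem hg (hZH hzA)) (H.inv_mem hg),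
        Subgroup.mem_centralizer_singleton_iff.mpr ?_⟩
      have := hz.2 x (hR.1 hx)
      change g * z * g⁻¹ * (g * x * g⁻¹) = g * x * g⁻¹ * (g * z * g⁻¹)
      calc _ = g * (z * x) * g⁻¹ := by group
        _ = _ := by rw [← this]; group
    obtain ⟨c, hc, hle⟩ := le_conj_sylowOf hp hS hgM (isPiSubgroup_smul hzp _)
    have h1 : c⁻¹ * g ∈ Subgroup.normalizer (A : Set G) := by
      refine h.mem_normalizer_of_conj_mem hzA hz1 (hSA ?_)
      have := mem_conj_smul.mp (hle (Subgroup.smul_mem_pointwise_smul _ _ _ (Subgroup.mem_zpowers z)))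
      simpa [mul_assoc] using this
    have h2 : c⁻¹ * g ∈ A := hN ⟨H.mul_mem (H.inv_mem hc.1) hg, h1⟩
    obtain ⟨k, hk, d, hd, he⟩ := exists_mul_of_coprime_relIndex (A := R) (B := C)
      (coprime_of_pi (π := {q | q ≠ r}) (fun q hq hd hqr => hR.2.2 q hq hqr hd) hC.2.2) h2
    refine ⟨k, hk.1, ?_⟩
    have h3 := hCR hd.1 x hx
    have h4 := Subgroup.mem_centralizer_singleton_iff.mp hc.2
    calc k * x * k⁻¹ = k * (x * d) * d⁻¹ * k⁻¹ := by group
      _ = (k * d) * x * (k * d)⁻¹ := by rw [h3]; group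
      _ = c⁻¹ * (y * c) := by rw [← he, hydef]; group
      _ = y := by rw [← h4]; group
  have hRG : IsPiHall {r} R :=
    isPiHall_of_isPiHallOf hR fun q hq hqr => h.hall.2 q hq (hqr ▸ hrd)
  have hRnil : Group.IsNilpotent R := isNilpotent_of_le hR.1
  obtain ⟨K, hKn, hK⟩ := (Cfsg.Agent.S0079.result (R.subgroupOf H) (isNilpotent_subgroupOf R H)
    (isPiHall_coprime (isPiHall_subgroupOf_of_le hRG hRH))).mpr (by
      rintro x hx y hy ⟨g, rfl⟩
      obtain ⟨k, hk, he⟩ := hfus x hx g g.2 hy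
      exact ⟨⟨k, hRH hk⟩, hk, Subtype.ext he⟩)
  have hcop : (Nat.card R).Coprime (Nat.card (K.map H.subtype)) := by
    rw [Subgroup.card_subtype, ← hK.index_eq_card, ← card_subgroupOf_of_le hRH]
    exact isPiHall_coprime (isPiHall_subgroupOf_of_le hRG hRH)
  refine h.le_of_pi (fun q hq hd => ?_) hzA hz1 (hZH hzA)
  rw [← hK.card_mul_card, card_subgroupOf_of_le hRH, ← Subgroup.card_subtype] at hd
  refine ((Nat.Prime.dvd_mul hq).mp hd).elim (fun hd => ?_)
    fun hd => hd.trans (Subgroup.card_dvd_of_le hR.1)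
  refine (h.dvd_or_dvd hq (hd.trans (Subgroup.card_subgroup_dvd_card _))).resolve_right fun hqB => ?_
  have := Fact.mk hq
  obtain ⟨Q, hQ⟩ := Cfsg.Agent.S0023.result R (K.map H.subtype)
    (hRH.trans (le_normalizer_map_subtype K)) hcop (Or.inl inferInstance) q
  have hQb : (Q : Subgroup (K.map H.subtype)).map (K.map H.subtype).subtype ≠ ⊥ := by
    rw [Ne, Subgroup.map_eq_bot_iff_of_injective _ (Subgroup.subtype_injective _)]
    exact Q.ne_bot_of_dvd_card hd
  have := h.nilB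
  obtain ⟨x, hx⟩ := le_conj_nilpotent_hall h.symm.hall _ _ rfl
    (isPiSubgroup_of_isPGroup hq (Q.isPGroup'.map (K.map H.subtype).subtype) hqB)
  have h' := h.conj_right x
  refine h.normalizer_ne_top hQb (ne_top_of_le_ne_top h'.symm.ne_top hx) (eq_top_iff.mpr ?_)
  rw [← h'.sup_eq_top hR.1 hnR hRb inf_le_left (le_normalizer_of_le_zc le_rfl) h'.symm.zc_ne]
  exact sup_le hQ (zc_le_normalizer hx)

/-- The factors are trivial intersection subgroups. -/
theorem ti (h : KW A B) {g : G} (hg : A ⊓ MulAut.conj g • A ≠ ⊥) : MulAut.conj g • A = A := by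
  have := h.nilA
  have := h.nilB
  obtain ⟨e0, he0, he1⟩ := exists_ne_one_of_ne_bot hg
  obtain ⟨e, he, hp⟩ := exists_prime_order_pow he1
  have he' := (Subgroup.zpowers_le (G := G)).mpr he0 he
  have h' := h.conj_left g
  obtain ⟨z, hz, hz1⟩ := exists_ne_one_of_ne_bot h'.zc_ne
  have hze : z ∈ Subgroup.centralizer {e} :=
    Subgroup.mem_centralizer_singleton_iff.mpr (hz.2 e he'.2).symm
  refine h.eq_of_zc_mem h' (card_smul _ A).symm hz hz1 ?_
  by_cases hN : Subgroup.centralizer {e} ⊓ Subgroup.normalizer (A : Set G) ≤ A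
  · exact h.centralizer_le_of_le_normalizer he'.1 hp hN hze
  have h1 : ¬ IsPiSubgroup {p | p ∣ Nat.card A}
      (Subgroup.centralizer {e} ⊓ Subgroup.normalizer (A : Set G)) :=
    fun hπ => hN (le_isPiHall_of_le_normalizer h.hall hπ inf_le_right)
  simp only [IsPiSubgroup, not_forall] at h1
  obtain ⟨s, hs, hd, hsA⟩ := h1
  have hsB := (h.dvd_or_dvd hs (hd.trans (Subgroup.card_subgroup_dvd_card _))).resolve_left hsA
  obtain ⟨v, hv, hvo⟩ := exists_mem_orderOf_eq hs hd
  obtain ⟨x, hx⟩ := le_conj_nilpotent_hall h.symm.hall _ (Subgroup.zpowers v) rfl (fun q hq hqd => by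
    rw [Nat.card_zpowers, hvo] at hqd
    exact hqd.trans hsB)
  have h2 := (h.conj_right x).symm.centralizer_le_normalizer (hx (Subgroup.mem_zpowers v)) hv.2
    (hvo ▸ hs) (Subgroup.mem_centralizer_singleton_iff.mpr
      (Subgroup.mem_centralizer_singleton_iff.mp hv.1).symm)
  have h3 := (h.conj_right x).centralizer_le_normalizer he'.1 h2 hp hze
  refine le_isPiHall_of_le_normalizer h.hall (A := Subgroup.zpowers z) ?_
    ((Subgroup.zpowers_le (G := G)).mpr h3) (Subgroup.mem_zpowers z)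
  exact isPiSubgroup_of_le (isPiSubgroup_smul h.hall.1 _) ((Subgroup.zpowers_le (G := G)).mpr hz.1)

theorem card_le (h : KW A B) : Nat.card A ≤ Nat.card B := by
  obtain ⟨g, hg⟩ : ∃ g, g ∉ Subgroup.normalizer (A : Set G) := by
    by_contra hne
    push Not at hne
    exact h.normalizer_ne_top h.ne_bot h.ne_top (eq_top_iff.mpr fun g _ => hne g)
  have h1 : A ⊓ MulAut.conj g • A = ⊥ := by_contra fun hne =>
    hg (conj_smul_eq_iff_mem_normalizer.mp (h.ti hne))
  have h2 := card_set_mul_mul_card_inf A (MulAut.conj g • A)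
  rw [h1, Subgroup.card_bot, mul_one, card_smul] at h2
  have h3 := h.fact.card_mul
  rw [h.inf_eq_bot, Subgroup.card_bot, mul_one] at h3
  apply Nat.le_of_mul_le_mul_left _ (Nat.card_pos (α := A))
  rw [← h2, ← h3]
  exact Finite.card_subtype_le _

theorem false (h : KW A B) : False := by
  have h1 := h.cop
  rw [le_antisymm h.card_le h.symm.card_le, Nat.coprime_self, Subgroup.card_eq_one] at h1
  exact h.symm.ne_bot h1

end KW

end H4
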