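/- The Kegel-Wielandt theorem: a product of two nilpotent groups is solvable. -/
import Cfsg.Agent.H4.KegelB

set_option autoImplicit false
open Cfsg Pointwise

namespace H4

universe u

theorem kegel_coprime_aux (n : ℕ) : ∀ (G : Type u) [Group G] [Finite G], Nat.card G = n →
    ∀ A B : Subgroup G, Group.IsNilpotent A → Group.IsNilpotent B →
      (Nat.card A).Coprime (Nat.card B) → Fact2 A B → Group.IsSolvable G := by
  induction n using Nat.strong_induction_on with
  | _ n ih =>
  intro G _ _ hG A B hA hB hcop hf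
  have ih' : ∀ L : Subgroup G, L ≠ ⊤ → ∀ A' B' : Subgroup L, Group.IsNilpotent A' →
      Group.IsNilpotent B' → (Nat.card A').Coprime (Nat.card B') → Fact2 A' B' →
      Group.IsSolvable L := fun L hL => ih _ (hG ▸ card_lt_of_ne_top L hL) L rfl
  by_cases hs : ∀ N : Subgroup G, N.Normal → N = ⊥ ∨ N = ⊤
  · have key : ∀ A B : Subgroup G, Group.IsNilpotent A → Group.IsNilpotent B → Fact2 A B →
        ∀ p : ℕ, p.Prime → IsPGroup p A → Group.IsSolvable G := by
      intro A B hA hB hf p hp hP
      by_cases hBb : B = ⊥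
      · have : A = ⊤ := hf.eq_top le_rfl (hBb ▸ bot_le)
        have := Group.isNilpotent_top.mp (this ▸ hA)
        infer_instance
      obtain ⟨z, hz, hz1⟩ := exists_ne_one_of_ne_bot (zc_ne_bot hBb)
      have : Nontrivial G := ⟨⟨z, 1, hz1⟩⟩
      have : IsSimpleGroup G := ⟨hs⟩
      have := Fact.mk hp
      obtain ⟨k, hk⟩ := IsPGroup.iff_card.mp hP
      have h1 : (Subgroup.centralizer ({z} : Set G)).index ∣ p ^ k := by
        rw [← hk]
        exact (Subgroup.index_dvd_of_le fun b hb =>
          Subgroup.mem_centralizer_singleton_iff.mpr (hz.2 b hb)).trans hf.symm.index_dvd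
      obtain ⟨j, -, hj⟩ := (Nat.dvd_prime_pow hp).mp h1
      have := Fact.mk (Cfsg.Agent.S0143.result p j hp z hz1 hj)
      have := isCyclic_of_prime_card (α := G) rfl
      exact Group.isSolvable_of_comm IsCyclic.isMulCommutative.is_comm.comm
    by_contra hns
    exact KW.false ⟨hf, hA, hB, hcop, hs, ih', fun p hp hP => hns (key A B hA hB hf p hp hP),
      fun p hp hP => hns (key B A hB hA hf.symm p hp hP)⟩
  push Not at hs
  obtain ⟨N, hN, hb, ht⟩ := hs
  refine (Group.isSolvable_iff_subgroup_quotient N).mpr ⟨?_, ?_⟩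
  · have hA' : IsPiHall {p | p ∣ Nat.card A} A := hf.isPiHall (fun _ _ h => h)
      fun _ hp h1 h2 => hp.one_lt.ne' (Nat.eq_one_of_dvd_coprimes hcop h1 h2)
    have hB' : IsPiHall {p | ¬ p ∣ Nat.card A} B := hf.symm.isPiHall
      (fun _ hp h1 h2 => hp.one_lt.ne' (Nat.eq_one_of_dvd_coprimes hcop h2 h1)) fun _ _ h => h
    have h1 := isPiHall_subgroupOf_of_normal hA' N
    have h2 := isPiHall_subgroupOf_of_normal hB' N
    exact ih' N ht _ _ (isNilpotent_subgroupOf A N) (isNilpotent_subgroupOf B N)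
      (coprime_of_pi h1.1 fun p hp h hd => h2.1 p hp hd h)
      (exists_mul_of_coprime_index (coprime_of_pi (π := {p | ¬ p ∣ Nat.card A})
        (fun p hp hd h => h1.2 p hp h hd) h2.2))
  · exact ih _ (hG ▸ card_quotient_lt N hb) (G ⧸ N) rfl _ _ (isNilpotent_map A _)
      (isNilpotent_map B _) ((hcop.coprime_dvd_left (A.card_map_dvd _)).coprime_dvd_right
        (B.card_map_dvd _)) (hf.map _ (QuotientGroup.mk'_surjective N))

/-- Wielandt: a product of two nilpotent groups of coprime orders is solvable. -/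
theorem kegel_coprime {G : Type u} [Group G] [Finite G] {A B : Subgroup G}
    (hA : Group.IsNilpotent A) (hB : Group.IsNilpotent B)
    (hcop : (Nat.card A).Coprime (Nat.card B)) (hf : Fact2 A B) : Group.IsSolvable G :=
  kegel_coprime_aux _ G rfl A B hA hB hcop hf

theorem set_mul_comm_map {G G' : Type*} [Group G] [Group G'] {A B : Subgroup G}
    (h : (A : Set G) * B = (B : Set G) * A) (f : G →* G') :
    ((A.map f : Subgroup G') : Set G') * (B.map f : Subgroup G') =
      ((B.map f : Subgroup G') : Set G') * (A.map f : Subgroup G') := by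
  rw [Subgroup.coe_map, Subgroup.coe_map, ← Set.image_mul, ← Set.image_mul, h]

theorem set_mul_comm_subgroupOf {G : Type*} [Group G] {A B K : Subgroup G} (hA : A ≤ K)
    (h : (A : Set G) * B = (B : Set G) * A) :
    ((A.subgroupOf K : Subgroup K) : Set K) * (B.subgroupOf K : Subgroup K) =
      ((B.subgroupOf K : Subgroup K) : Set K) * (A.subgroupOf K : Subgroup K) := by
  apply Set.Subset.antisymm
  · rintro _ ⟨a, ha, b, hb, rfl⟩
    obtain ⟨b', hb', a', ha', he⟩ : (a : G) * b ∈ (B : Set G) * A := h ▸ Set.mul_mem_mul ha hb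
    have he' : b' * a' = a * b := he
    have : b' ∈ K := by
      rw [← eq_mul_inv_iff_mul_eq] at he'
      exact he' ▸ K.mul_mem (K.mul_mem a.2 b.2) (K.inv_mem (hA ha'))
    exact ⟨⟨b', this⟩, hb', ⟨a', hA ha'⟩, ha', Subtype.ext he'⟩
  · rintro _ ⟨b, hb, a, ha, rfl⟩
    obtain ⟨a', ha', b', hb', he⟩ : (b : G) * a ∈ (A : Set G) * B := h ▸ Set.mul_mem_mul hb ha
    have he' : a' * b' = b * a := he
    have : b' ∈ K := by
      rw [← eq_inv_mul_iff_mul_eq] at he'
      exact he' ▸ K.mul_mem (K.inv_mem (hA ha')) (K.mul_mem b.2 a.2)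
    exact ⟨⟨a', hA ha'⟩, ha', ⟨b', this⟩, hb', Subtype.ext he'⟩

theorem normalClosure_le_of_conj_le {G : Type*} [Group G] {Y L : Subgroup G}
    (h : ∀ g : G, MulAut.conj g • Y ≤ L) : Subgroup.normalClosure (Y : Set G) ≤ L := by
  rw [Subgroup.normalClosure, Subgroup.closure_le]
  intro a ha
  obtain ⟨m, hm, hc⟩ := Group.mem_conjugatesOfSet_iff.mp ha
  obtain ⟨c, rfl⟩ := isConj_iff.mp hc
  exact h c (mem_conj_smul.mpr (by simpa [mul_assoc] using hm))

theorem conj_smul_le_normal {G : Type*} [Group G] {Y N : Subgroup G} [hN : N.Normal] (h : Y ≤ N)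
    (g : G) : MulAut.conj g • Y ≤ N := by
  rw [← hN.conj_smul_eq_self g N]
  exact Subgroup.pointwise_smul_le_pointwise_smul_iff.mpr h

theorem commutator_le_pCore_step {G : Type u} [Group G] [Finite G] {p : ℕ} (hO : pCore p G = ⊥)
    {K X Y : Subgroup G} [hK : K.Normal] (hXK : X ≤ K) (hX : IsPGroup p X) (hY : IsPGroup p Y)
    (h : ∀ g : G, (X : Set G) * (MulAut.conj g • Y : Subgroup G) =
      ((MulAut.conj g • Y : Subgroup G) : Set G) * X)
    (ih : ∀ X Y : Subgroup K, IsPGroup p X → IsPGroup p Y →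
      (∀ g : K, (X : Set K) * (MulAut.conj g • Y : Subgroup K) =
        ((MulAut.conj g • Y : Subgroup K) : Set K) * X) → ⁅X, Y⁆ ≤ pCore p K) :
    ⁅X, Y⁆ = ⊥ := by
  have hY' : ∀ g : G, IsPGroup p (MulAut.conj g • Y : Subgroup G) := fun g => hY.map _
  have h1 : ∀ g : G, MulAut.conj g • (Y ⊓ K) ≤ Subgroup.centralizer (X : Set G) := by
    intro g
    have h2 := ih (X.subgroupOf K) ((MulAut.conj g • Y).subgroupOf K) hX.comap_subtype
      (hY' g).comap_subtype fun k => by
        have := set_mul_comm_subgroupOf hXK (h (k * g))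
        have h0 : (MulAut.conj ((k : G) * g) • Y).subgroupOf K =
            MulAut.conj k • (MulAut.conj g • Y).subgroupOf K := by
          rw [← conj_smul_conj_smul]
          exact comap_conj_smul K.subtype k _
        rwa [h0] at this
    have h3 := (Subgroup.map_mono h2).trans (H2.map_pCore_subtype_le K)
    rw [hO, le_bot_iff, Subgroup.map_commutator, Subgroup.map_subgroupOf_eq_of_le hXK,
      Subgroup.subgroupOf_map_subtype, Subgroup.commutator_eq_bot_iff_le_centralizer,
      Subgroup.le_centralizer_iff] at h3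
    rwa [Subgroup.smul_inf, hK.conj_smul_eq_self]
  set M := Subgroup.normalClosure ((Y ⊓ K : Subgroup G) : Set G)
  have hM : M ≤ Subgroup.centralizer (X : Set G) := normalClosure_le_of_conj_le h1
  have h2 : ∀ g : G, MulAut.conj g • Y ≤ Subgroup.normalizer ((X ⊔ M : Subgroup G) : Set G) := by
    intro g y hy
    apply mem_normalizer_of_conj_smul_le
    rw [Subgroup.smul_sup, Subgroup.Normal.conj_smul_eq_self y M]
    refine sup_le ?_ le_sup_right
    rintro _ ⟨x, hx, rfl⟩
    have h3 : y * x * y⁻¹ ∈ ((X ⊔ MulAut.conj g • Y : Subgroup G) : Set G) :=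
      Subgroup.mul_mem _ (Subgroup.mul_mem _ (Subgroup.mem_sup_right hy) (Subgroup.mem_sup_left hx))
        (Subgroup.inv_mem _ (Subgroup.mem_sup_right hy))
    rw [coe_sup_of_set_mul_comm (h g)] at h3
    obtain ⟨x', hx', y', hy', he⟩ := h3
    have he' : x' * y' = y * x * y⁻¹ := he
    change y * x * y⁻¹ ∈ _
    rw [← he']
    refine Subgroup.mul_mem_sup hx' (conj_smul_le_normal Subgroup.subset_normalClosure g ?_)
    rw [Subgroup.smul_inf, hK.conj_smul_eq_self]
    refine ⟨hy', ?_⟩
    rw [← eq_inv_mul_iff_mul_eq] at he'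
    exact he' ▸ K.mul_mem (K.inv_mem (hXK hx')) (hK.conj_mem _ (hXK hx) y)
  set T := Subgroup.normalClosure (Y : Set G)
  set O := (pCore p (X ⊔ M : Subgroup G)).map (X ⊔ M).subtype
  have hT : T ≤ Subgroup.normalizer (O : Set G) :=
    (normalClosure_le_of_conj_le h2).trans (H2.normalizer_le_normalizer_map_subtype _ _)
  have hXO : X ≤ O := H2.le_map_pCore_subtype le_sup_left
    (sup_le Subgroup.le_normalizer (hM.trans (Subgroup.centralizer_le_normalizer _))) hX
  have h3 : O ⊓ T ≤ ⊥ := by
    rw [← hO]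
    refine (H2.le_map_pCore_subtype inf_le_right ?_
      (H2.isPGroup_map_pCore_subtype _).to_inf_left).trans (H2.map_pCore_subtype_le T)
    exact (le_inf hT Subgroup.le_normalizer).trans Subgroup.inf_normalizer_le_normalizer_inf
  have hYT : Y ≤ T := Subgroup.subset_normalClosure
  rw [← le_bot_iff]
  refine le_trans (le_inf ?_ ?_) h3
  · refine (Subgroup.commutator_mono hXO le_rfl).trans ?_
    exact Subgroup.le_normalizer_iff_commutator_le_left.mp (hYT.trans hT)
  · exact (Subgroup.commutator_mono le_rfl hYT).trans (Subgroup.commutator_le_right _ _)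

theorem commutator_le_pCore_aux (p : ℕ) (hp : p.Prime) (n : ℕ) :
    ∀ (G : Type u) [Group G] [Finite G], Nat.card G = n → ∀ X Y : Subgroup G,
      IsPGroup p X → IsPGroup p Y → (∀ g : G, (X : Set G) * (MulAut.conj g • Y : Subgroup G) =
        ((MulAut.conj g • Y : Subgroup G) : Set G) * X) → ⁅X, Y⁆ ≤ pCore p G := by
  induction n using Nat.strong_induction_on with
  | _ n ih =>
  intro G _ _ hG X Y hX hY h
  by_cases hO : pCore p G = ⊥
  swap
  · have hs := QuotientGroup.mk'_surjective (pCore p G)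
    have h1 := ih _ (hG ▸ card_quotient_lt _ hO) (G ⧸ pCore p G) rfl _ _
      (hX.map (QuotientGroup.mk' _)) (hY.map (QuotientGroup.mk' _)) fun g => by
        obtain ⟨g, rfl⟩ := hs g
        rw [← map_conj_smul]
        exact set_mul_comm_map (h g) _
    rwa [H2.pCore_quotient_pCore, ← Subgroup.map_commutator, le_bot_iff, Subgroup.map_eq_bot_iff,
      QuotientGroup.ker_mk'] at h1
  by_cases htop : X ⊔ Y = ⊤
  · have h1 := isPiSubgroup_sup_of_set_mul_comm (by simpa only [conj_one_smul] using h 1)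
      (isPiSubgroup_of_isPGroup (π := {p}) hp hX rfl) (isPiSubgroup_of_isPGroup hp hY rfl)
    rw [htop] at h1
    exact le_top.trans (H2.le_pCore (isPGroup_of_isPiSubgroup_singleton h1))
  obtain ⟨K, hK, hKt, hle⟩ := kegel_normal h htop
  have ih' := ih _ (hG ▸ card_lt_of_ne_top K hKt) K rfl
  rcases hle with hle | hle
  · rw [commutator_le_pCore_step hO hle hX hY h ih']; exact bot_le
  · rw [Subgroup.commutator_comm, commutator_le_pCore_step hO hle hY hX (fun g => ?_) ih']
    · exact bot_le
    · have := set_mul_comm_smul (h g⁻¹) (MulAut.conj g)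
      rw [conj_smul_conj_smul, mul_inv_cancel, conj_one_smul] at this
      exact this.symm

/-- Wielandt: if a `p`-subgroup `X` permutes with all conjugates of a `p`-subgroup `Y`, then
`[X, Y] ≤ O_p(G)`. -/
theorem commutator_le_pCore_of_permutes {G : Type u} [Group G] [Finite G] {p : ℕ} (hp : p.Prime)
    {X Y : Subgroup G} (hX : IsPGroup p X) (hY : IsPGroup p Y)
    (h : ∀ g : G, (X : Set G) * (MulAut.conj g • Y : Subgroup G) =
      ((MulAut.conj g • Y : Subgroup G) : Set G) * X) : ⁅X, Y⁆ ≤ pCore p G :=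
  commutator_le_pCore_aux p hp _ G rfl X Y hX hY h

theorem kegel_wielandt_aux (n : ℕ) : ∀ (G : Type u) [Group G] [Finite G], Nat.card G = n →
    ∀ A B : Subgroup G, Group.IsNilpotent A → Group.IsNilpotent B → Fact2 A B →
      Group.IsSolvable G := by
  induction n using Nat.strong_induction_on with
  | _ n ih =>
  intro G _ _ hG A B hA hB hf
  have ih' : ∀ (N : Subgroup G) [N.Normal], N ≠ ⊥ → Group.IsSolvable (G ⧸ N) := fun N _ hb =>
    ih _ (hG ▸ card_quotient_lt N hb) (G ⧸ N) rfl _ _ (isNilpotent_map A _)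
      (isNilpotent_map B _) (hf.map _ (QuotientGroup.mk'_surjective N))
  by_contra hns
  have hsol : ∀ (N : Subgroup G) [N.Normal], Group.IsSolvable N → N = ⊥ := fun N _ hN =>
    by_contra fun hb => hns ((Group.isSolvable_iff_subgroup_quotient N).mpr ⟨hN, ih' N hb⟩)
  obtain ⟨p, hp, hpA, hpB⟩ := Nat.Prime.not_coprime_iff_dvd.mp
    fun hcop => hns (kegel_coprime hA hB hcop hf)
  have := Fact.mk hp
  have hO : pCore p G = ⊥ := hsol _ (by have := H2.pCore_isNilpotent p G; infer_instance)
  obtain ⟨P, Q, R, hP, hQ, -, he⟩ := hf.exists_sylow_mul hp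
  have h1 := hf.set_mul_comm_conj (le_normalizer_isPiHallOf_of_nilpotent hP)
    (le_normalizer_isPiHallOf_of_nilpotent hQ) (set_mul_comm_of_eq_coe he)
  have h2 : ∀ g : G, MulAut.conj g • Q ≤ Subgroup.centralizer (P : Set G) := fun g => by
    rw [← Subgroup.le_centralizer_iff, ← Subgroup.commutator_eq_bot_iff_le_centralizer,
      ← le_bot_iff, ← hO]
    exact commutator_le_pCore_of_permutes hp (isPGroup_of_isPiSubgroup_singleton hP.2.1)
      ((isPGroup_of_isPiSubgroup_singleton hQ.2.1).map _) fun x => by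
        rw [conj_smul_conj_smul]; exact h1 _
  set N₂ := Subgroup.normalClosure (Q : Set G)
  have h3 : P ≤ Subgroup.centralizer (N₂ : Set G) :=
    Subgroup.le_centralizer_iff.mp (normalClosure_le_of_conj_le h2)
  set N₁ := Subgroup.normalClosure (P : Set G)
  have h4 : N₁ ≤ Subgroup.centralizer (N₂ : Set G) := Subgroup.normalClosure_le_normal h3
  have h5 : N₁ ⊓ N₂ = ⊥ := hsol _ (Group.isSolvable_of_comm fun a b =>
    Subtype.ext (h4 b.2.1 a a.2.2))
  have hne : ∀ {S H : Subgroup G}, IsPiHallOf {p} S H → p ∣ Nat.card H →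
      Subgroup.normalClosure (S : Set G) ≠ ⊥ := fun {S H} hS hd hb => by
    have : S = ⊥ := eq_bot_iff.mpr (hb ▸ Subgroup.subset_normalClosure)
    subst this
    exact hS.2.2 p hp rfl (by rwa [Subgroup.relIndex_bot_left])
  have := ih' N₁ (hne hP hpA)
  have := ih' N₂ (hne hQ hpB)
  apply hns
  apply Group.isSolvable_of_isSolvable_injective
    (f := (QuotientGroup.mk' N₁).prod (QuotientGroup.mk' N₂))
  rw [← MonoidHom.ker_eq_bot_iff, MonoidHom.ker_prod, QuotientGroup.ker_mk', QuotientGroup.ker_mk',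
    h5]

/-- The Kegel-Wielandt theorem. -/
theorem kegel_wielandt {G : Type u} [Group G] [Finite G] {A B : Subgroup G}
    (hA : Group.IsNilpotent A) (hB : Group.IsNilpotent B) (hf : Fact2 A B) : Group.IsSolvable G :=
  kegel_wielandt_aux _ G rfl A B hA hB hf

end H4
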