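import Cfsg.Agent.H45.MSpec5
import Cfsg.Agent.H45.BrGen
import Cfsg.Agent.H40.Coset

/-! Recognition of `M₂₄` by its order: local characters for the primes `5` and `11`. -/

set_option autoImplicit false

namespace H4.M24L12

open Cfsg H28 H39 H87 H45 H45.MO H45.MN H45.M24 Subgroup Finset
open scoped ComplexConjugate

universe u

theorem jobF22 : JobF22.{u} := by
  intro G _ _ _ ⟨_, _, _, _, A⟩ v ⟨_, _, _, _, B⟩ χ hχ f hf
  have h1 := B.ic rfl hf χ
  have h2 := iv_cong (p := 5) (by norm_num) (χ := χ) (hf ▸ pow_orderOf_eq_one f)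
    (Commute.one_right f) (by simpa using h1) (ic_one χ)
  rw [mul_one, iv_one, hχ] at h2
  obtain ⟨y, hy⟩ := A.exists_ord
  have h3 := A.card_nor hy
  rw [A.ccp y hy] at h3
  have : Fact (Nat.Prime 5) := ⟨by norm_num⟩
  have : Fact (Nat.Prime 11) := ⟨by norm_num⟩
  obtain ⟨h, hh⟩ := exists_prime_orderOf_dvd_card' (G := Nor (zpowers y)) 5 (h3 ▸ by norm_num)
  obtain ⟨P, hP⟩ : ∃ P, P = (zpowers y).subgroupOf (Nor (zpowers y)) := ⟨_, rfl⟩
  have : P.Normal := hP ▸ normal_in_normalizer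
  have := Fintype.ofFinite P
  have hc : Nat.card P = 11 := by
    rw [hP, Nat.card_congr (subgroupOfEquivOfLe le_normalizer).toEquiv, Nat.card_zpowers, hy]
  obtain ⟨η, e1, e2⟩ := H40.exists_quot_char_avg P (χ.2.isCharacter.restrict (Nor (zpowers y)))
  have e3 : η 1 = 2 := by
    rw [← QuotientGroup.mk_one, e2, hc, sum_prime_subgroup (by norm_num) hc
      (f := fun n => χ.1 (n * 1 : Nor (zpowers y))) (c := 0) fun x x1 x2 => A.zero (hχ ▸ by norm_num)
        (by rw [mul_one, orderOf_coe, orderOf_eq_of_mem_prime hc x1 x2]), mul_one,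
      OneMemClass.coe_one, ← coe_dg, hχ]
    norm_num
  have e4 : ∀ n : P, χ.1 (n * h : Nor (zpowers y)) = χ.1 f := fun n => by
    have a1 : (QuotientGroup.mk (n * h) : _ ⧸ P) = QuotientGroup.mk h := by
      rw [QuotientGroup.mk_mul, (QuotientGroup.eq_one_iff _).2 n.2, one_mul]
    have a2 : orderOf (QuotientGroup.mk h : _ ⧸ P) = 5 := orderOf_eq_prime
      (by rw [← QuotientGroup.mk_pow, ← hh, pow_orderOf_eq_one, QuotientGroup.mk_one]) fun e => by
        have a3 := orderOf_dvd_natCard (⟨h, (QuotientGroup.eq_one_iff _).1 e⟩ : P)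
        rw [orderOf_mk, hh, hc] at a3
        omega
    have a3 : 5 ∣ orderOf (n * h : Nor (zpowers y)) :=
      a2 ▸ a1 ▸ orderOf_map_dvd (QuotientGroup.mk' P) _
    have a4 : (n * h : Nor (zpowers y)) ^ 5 ∈ P := by
      rw [← QuotientGroup.eq_one_iff, QuotientGroup.mk_pow, a1, ← a2, pow_orderOf_eq_one]
    have a5 : (n * h : Nor (zpowers y)) ^ 5 = 1 := by
      by_contra a5
      exact A.not_both (q := 5) (by norm_num) (by norm_num) (by norm_num) (g := (n * h : Nor (zpowers y)))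
        (by rw [orderOf_coe, ← orderOf_eq_of_mem_prime hc a4 a5]; exact orderOf_pow_dvd 5)
        (by rwa [orderOf_coe])
    obtain ⟨c, rfl⟩ := isConj_iff.1 (B.isConj rfl ((orderOf_coe _).trans
      (Nat.dvd_antisymm (orderOf_dvd_of_pow_eq_one a5) a3)) hf)
    exact (χ.2.isCharacter.isClassFunction _ c).symm
  have e5 := e1.norm_le h
  rw [e3, e2, sum_congr rfl fun n _ => e4 n, sum_const, card_univ, ← Nat.card_eq_fintype_card,
    nsmul_eq_mul, inv_mul_cancel_left₀ (card_ne_zero' P), ← h1, Complex.norm_intCast] at e5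
  have e6 : |iv χ f| ≤ 2 := by exact_mod_cast e5
  rw [← h1, show iv χ f = 2 by rw [abs_le] at e6; omega]
  norm_num

theorem sum_norm {A : Type*} [Group A] [Fintype A] {μ : A →* ℂˣ} (h : μ ≠ 1) :
    ∑ a, ‖1 - (μ a : ℂ)⁻¹‖ ^ 2 = 2 * Nat.card A := by
  classical
  have h1 := sum_hom_mul_inv 1 μ
  have h2 := sum_hom_mul_inv μ 1
  rw [if_neg h.symm] at h1
  rw [if_neg h] at h2
  simp only [MonoidHom.one_apply, Units.val_one, one_mul, inv_one, mul_one] at h1 h2
  have h3 : ∀ a, ((‖1 - (μ a : ℂ)⁻¹‖ ^ 2 : ℝ) : ℂ) = 2 - μ a - (μ a : ℂ)⁻¹ := fun a => by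
    have h4 : ‖(μ a : ℂ)‖ = 1 := Complex.norm_eq_one_of_pow_eq_one (n := Nat.card A)
      (by rw [← Units.val_pow_eq_pow_val, ← map_pow, pow_card_eq_one', map_one, Units.val_one])
      Nat.card_pos.ne'
    rw [Complex.ofReal_pow, ← Complex.mul_conj', map_sub, map_one, map_inv₀,
      ← Complex.inv_eq_conj h4, inv_inv]
    field_simp
    ring
  refine Complex.ofReal_injective ?_
  rw [Complex.ofReal_sum, sum_congr rfl fun a _ => h3 a, sum_sub_distrib, sum_sub_distrib, h1, h2]
  simp [mul_comm]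

theorem no_two {V : Type*} [Group V] [Fintype V] (hV : Nat.card V = 12)
    (h : #{v : V | ¬ 3 ∣ orderOf v} = 4) {D : V → ℂ} (hD : IsIrrCharacter V D) : D 1 ≠ 2 := fun e => by
  obtain ⟨Q⟩ : Nonempty (Sylow 2 V) := inferInstance
  have h1 : Nat.card (Q : Subgroup V) = 2 ^ 2 := by
    rw [Q.card_eq_multiplicity, hV, show (12 : ℕ).factorization 2 = 2 by decide +kernel]
  have h2 : ((Q : Subgroup V) : Set V) = {v | ¬ 3 ∣ orderOf v} :=
    Set.eq_of_subset_of_ncard_le (fun v hv h3 => by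
      have := h3.trans ((orderOf_mk v hv).symm.dvd.trans (orderOf_dvd_natCard _))
      omega) (by
      rw [← Nat.card_coe_set_eq, ← Nat.card_coe_set_eq, SetLike.coe_sort_coe, h1,
        Nat.card_eq_fintype_card, Fintype.card_subtype]
      exact h.le)
  have : (Q : Subgroup V).Normal := ⟨fun a ha g => by
    rw [← SetLike.mem_coe, h2] at ha ⊢
    rwa [Set.mem_setOf_eq, H46.orderOf_conj]⟩
  have h3 := hD.charDegree_dvd_index Q fun a ha b hb => congrArg Subtype.val
    ((IsPGroup.isMulCommutative_of_card_eq_prime_sq h1).is_comm.comm ⟨a, ha⟩ ⟨b, hb⟩)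
  have h4 := (Q : Subgroup V).card_mul_index
  have h5 : charDegree D = 2 := by exact_mod_cast hD.cast_charDegree.trans e
  rw [h1, hV] at h4
  rw [h5] at h3
  omega

theorem jobL12 : JobL12.{u} := by
  intro G _ _ ⟨_, _, _, _, A⟩ ρ χ h1 h2 h3 h4
  obtain ⟨_, P, V, -, -, -, -, -, C, -, hV, he, -⟩ := A.br
  classical
  have := Fintype.ofFinite (P : Subgroup G)
  have := Fintype.ofFinite V
  have m1 := C.master ρ.2.isCharacter.isClassFunction
  have m2 := C.master (F := fun g => χ.1 g * conj (χ.1 g))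
    (χ.2.isCharacter.mul χ.2.isCharacter.conj).isClassFunction
  have a1 : #{v : V | ¬ 3 ∣ orderOf v} = 4 := by
    rw [h1, mul_zero, sum_congr rfl (g := fun v => 4 * if 3 ∣ orderOf v then (-1 : ℂ) else 2)
      fun v _ => by
        rw [sum_prime_subgroup (by norm_num) C.card (f := fun y => ρ.1 (y * v))
          (c := if 3 ∣ orderOf v then -1 else 2) fun y y1 y2 => by
            have a := orderOf_eq_of_mem_prime C.card y1 y2
            rw [h3 _ (C.dvd_order y1 y2 v.2), Commute.orderOf_mul_eq_mul_orderOf_of_coprime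
              (C.le v.2 y y1) (a ▸ (Nat.Prime.coprime_iff_not_dvd (by norm_num)).2 (C.reg v v.2)),
              a, orderOf_coe]
            simp only [Nat.Coprime.dvd_mul_left (show Nat.Coprime 3 5 by norm_num)]]
        norm_num, ← mul_sum, sum_ite, sum_const, sum_const] at m1
    have a2 := card_filter_add_card_filter_not (s := univ) fun v : V => 3 ∣ orderOf v
    rw [card_univ, ← Nat.card_eq_fintype_card, hV] at a2
    have a3 : (#{v : V | 3 ∣ orderOf v} : ℂ) = 2 * #{v : V | ¬ 3 ∣ orderOf v} := by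
      simp only [nsmul_eq_mul] at m1
      linear_combination m1 / 4
    have a4 : #{v : V | 3 ∣ orderOf v} = 2 * #{v : V | ¬ 3 ∣ orderOf v} := by exact_mod_cast a3
    omega
  have hP := le_centralizer_prime C.card
  obtain ⟨μ, hμ⟩ : ∃ μ : (P : Subgroup G) →* ℂˣ, μ ≠ 1 := by
    have : Nontrivial (P : Subgroup G) := Finite.one_lt_card_iff_nontrivial.1 (by rw [C.card]; omega)
    obtain ⟨a, ha⟩ := exists_ne (1 : (P : Subgroup G))
    obtain ⟨μ, hμ⟩ := H45.exists_hom_ne_one (fun a b => Subtype.ext (hP b.2 a a.2)) ha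
    exact ⟨μ, fun e => hμ (e ▸ rfl)⟩
  have hι : ∀ a, inclusion hP a ∈ center (Cen (P : Subgroup G)) := fun a =>
    mem_center_iff.2 fun c => Subtype.ext (c.2 a a.2).symm
  have hC := χ.2.isCharacter.restrict (Cen (P : Subgroup G))
  have d1 := ((isCharacter_cPart hι 1 hC).isGeneralizedCharacter.sub
    (isCharacter_cPart hι μ hC).isGeneralizedCharacter).comp (inclusion C.le)
  generalize hD : (fun x => (cPart (inclusion hP) 1 _ - cPart (inclusion hP) μ _)
    (inclusion C.le x)) = D at d1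
  have d2 : ∀ v : V, D v = 5⁻¹ * ∑ y ∈ univ.erase (1 : (P : Subgroup G)),
      χ.1 (y * v) * (1 - (μ y : ℂ)⁻¹) := fun v => by
    rw [← hD, sum_erase _ (by simp)]
    simp only [cPart, Pi.sub_apply, C.card]
    simp [mul_sub]
  have d3 : D 1 = 2 := by
    have := sum_hom_mul_inv 1 μ
    rw [if_neg hμ.symm] at this
    simp only [MonoidHom.one_apply, Units.val_one, one_mul] at this
    rw [d2, sum_congr rfl (g := fun y => 2 * (1 - (μ y : ℂ)⁻¹)) fun y hy => by
      rw [OneMemClass.coe_one, mul_one, h4 _ (orderOf_eq_of_mem_prime C.card y.2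
        fun e => ne_of_mem_erase hy (Subtype.ext e))], sum_erase _ (by simp), ← mul_sum,
      sum_sub_distrib, this, sum_const, card_univ, ← Nat.card_eq_fintype_card, C.card]
    norm_num
  have d4 : ∑ v : V, ∑ y ∈ univ.erase (1 : (P : Subgroup G)), ‖χ.1 (y * v)‖ ^ 2 = 48 := by
    refine Complex.ofReal_injective ?_
    rw [h2, he, hV] at m2
    simp only [Complex.mul_conj'] at m2
    simp only [Complex.ofReal_sum, Complex.ofReal_pow, sum_erase_eq_sub (mem_univ _),
      OneMemClass.coe_one, one_mul, Complex.ofReal_sub, ← m2]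
    norm_num
  have d5 : ∑ v, ‖D v‖ ^ 2 ≤ 25⁻¹ * (48 * 10) := by
    rw [← d4, sum_mul, mul_sum]
    refine sum_le_sum fun v _ => ?_
    rw [d2, norm_mul, mul_pow]
    refine mul_le_mul (by norm_num) ((pow_le_pow_left₀ (norm_nonneg _) ((norm_sum_le _ _).trans_eq
      (sum_congr rfl fun y _ => norm_mul _ _)) 2).trans ((sum_mul_sq_le_sq_mul_sq _ _ _).trans
        (mul_le_mul_of_nonneg_left ?_ (sum_nonneg fun _ _ => sq_nonneg _)))) (sq_nonneg _) (by norm_num)
    rw [sum_erase _ (by simp), sum_norm hμ, C.card]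
    norm_num
  have d6 : ‖D 1‖ ^ 2 ≤ ∑ v, ‖D v‖ ^ 2 :=
    single_le_sum (f := fun v => ‖D v‖ ^ 2) (fun _ _ => sq_nonneg _) (mem_univ 1)
  obtain ⟨k, hk⟩ := d1.classInner_self_nat
  have d7 := card_mul_classInner D D
  simp only [hk, hV, Complex.mul_conj'] at d7
  have d8 : (12 * k : ℝ) = ∑ v, ‖D v‖ ^ 2 := by exact_mod_cast d7
  rw [d3, ← d8] at d6
  rw [← d8] at d5
  obtain rfl : k = 1 := by
    have b1 : (0 : ℝ) < k := by norm_num at d6; linarith
    have b2 : (k : ℝ) < 2 := by linarith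
    have b3 : 0 < k := by exact_mod_cast b1
    have b4 : k < 2 := by exact_mod_cast b2
    omega
  rcases d1.eq_irr_or_neg_of_norm_one (hk.trans Nat.cast_one) with h | h
  · exact no_two hV a1 h d3
  · have := h.cast_charDegree
    rw [Pi.neg_apply, d3] at this
    have b : ((charDegree (-D) + 2 : ℕ) : ℂ) = 0 := by rw [Nat.cast_add, this]; norm_num
    exact absurd (Nat.cast_eq_zero.1 b) (by omega)

end H4.M24L12
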