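import Cfsg.Agent.H4.O7MG2
import Cfsg.Agent.H68.TwD4

/-! O7: the configuration in `³D₄(q)`. -/

set_option autoImplicit false
set_option linter.unusedSectionVars false

namespace H4.O7MD4

open Cfsg Cfsg.Lie H63 H64 H65 H67 H31.O7 H4.O7RT H4.O7MG2
open H20.LD (cp)
open H56.SL2M (xx yy)
open Matrix.SpecialLinearGroup (map)
open scoped MatrixGroups

theorem lift {F : Type} [Field F] {G Γ : Type} [Group G] [Group Γ] {j : Γ →* G}
    (hj : Function.Injective j) (φ : SL(2, F) →* G) (hU : ∀ t, φ (xx t) ∈ j.range)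
    (hL : ∀ t, φ (yy t) ∈ j.range) : ∃ φ' : SL(2, F) →* Γ, ∀ g, j (φ' g) = φ g := by
  have h : ∀ g, φ g ∈ j.range := fun g => by
    induction g using sl2_induction with
    | hU t => exact hU t
    | hW =>
      have : (sl2W : SL(2, F)) = xx 1 * yy (-1) * xx 1 := by
        ext s t
        fin_cases s <;> fin_cases t <;>
          simp [H56.SL2M.xx_coe, H56.SL2M.yy_coe, Matrix.mul_apply, Fin.sum_univ_two]
      rw [this, map_mul, map_mul]
      exact mul_mem (mul_mem (hU _) (hL _)) (hU _)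
    | hmul a b ha hb => rw [map_mul]; exact mul_mem ha hb
  exact ⟨(MonoidHom.ofInjective hj).symm.toMonoidHom.comp (φ.codRestrict _ h),
    fun g => MonoidHom.apply_ofInjective_symm hj _⟩

section

variable {E K : Type} [Field E] [Field K] (f : E →+* K)

theorem map_xx (t : E) : map f (xx t) = sl2U (f t) := by
  ext s u; fin_cases s <;> fin_cases u <;> simp [H56.SL2M.xx_coe]

theorem map_yy (t : E) : map f (yy t) = sl2L (f t) := by
  ext s u; fin_cases s <;> fin_cases u <;> simp [H56.SL2M.yy_coe]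

theorem map_hh (s : Eˣ) : map f (H56.SL2M.hh s) = H56.SL2M.hh (Units.map (f : E →* K) s) := by
  ext s u; fin_cases s <;> fin_cases u <;> simp [H56.SL2M.hh_coe]

theorem slR_h {D : ChevalleyDatum} [RS D] [Tab D] [Comm D] (r : Rt D) (s : Kˣ) :
    slR K r (H56.SL2M.hh s) = hh D (xG D K) r s := by
  rw [slR_of_upper r (c := s) rfl rfl, hh_eq_torG,
    show (H56.SL2M.hh s) 0 1 / (s : K) = 0 from zero_div _, (stBG (D := D)).toSt.x_zero, mul_one]

theorem slR_cm {D : ChevalleyDatum} [RS D] [Tab D] [Comm D] {r s : Rt D}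
    (h : ∀ p ∈ [r.1, D.neg r], ∀ q ∈ [s.1, D.neg s], q < D.nroots ∧ p < D.nroots ∧ p ≠ q ∧
      p ≠ D.neg q ∧ D.commTerms q p = []) (g g' : SL(2, K)) : Commute (slR K r g) (slR K s g') := by
  have k := fun p hp q hq t u => comm_nil (stBG (D := D) (k := K)).toSt (h p hp q hq) u t
  have k1 : (slR K r).range ≤ Subgroup.centralizer ((slR K s).range : Set _) := by
    rw [range_slR, range_slR, gen_XR_eq, gen_XR_eq, Subgroup.centralizer_closure,
      Subgroup.closure_le]
    rintro _ ⟨p, rfl | rfl, t, rfl⟩ _ ⟨q, rfl | rfl, u, rfl⟩ <;>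
      exact (k _ (by simp) _ (by simp) _ _).eq.symm
  exact (k1 ⟨g, rfl⟩ _ ⟨g', rfl⟩).symm

/-- The short root `SL₂`. -/
noncomputable def ψ (f : K →+* K) : SL(2, K) →* chevD4.group K :=
  MonoidHom.mk' (fun g => slR K ⟨18, by decide⟩ g * slR K ⟨13, by decide⟩ (map f g) *
    slR K ⟨12, by decide⟩ (map (f.comp f) g)) fun g g' => by
    have c1 := slR_cm (K := K) (D := chevD4) (r := ⟨18, by decide⟩) (s := ⟨13, by decide⟩)
      (by decide +kernel) g' (map f g)
    have c2 := slR_cm (K := K) (D := chevD4) (r := ⟨18, by decide⟩) (s := ⟨12, by decide⟩)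
      (by decide +kernel) g' (map (f.comp f) g)
    have c3 := slR_cm (K := K) (D := chevD4) (r := ⟨13, by decide⟩) (s := ⟨12, by decide⟩)
      (by decide +kernel) (map f g') (map (f.comp f) g)
    simp only [map_mul]
    rw [c1.mul_mul_mul_comm, (c2.mul_left c3).mul_mul_mul_comm]

theorem ψ_apply (f : K →+* K) (g : SL(2, K)) : ψ f g = slR K ⟨18, by decide⟩ g *
    slR K ⟨13, by decide⟩ (map f g) * slR K ⟨12, by decide⟩ (map (f.comp f) g) := rfl

end

variable {K : Type} [Field K] [Fintype K] {q : ℕ} (hq : IsPrimePow q) (hK : Fintype.card K = q ^ 3)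

theorem le_D4 : twistedD4 K q ≤ chevD4.group K := by
  rw [twistedD4, H68.mat_genSubgroup, Subgroup.closure_le]
  rintro _ ⟨w, -, rfl⟩
  induction w with
  | nil => exact one_mem _
  | cons p w ih => rw [H68.CM.wd_cons]; exact mul_mem (xU_mem_group _ _) ih

include hq hK

theorem x_mem {r : ℕ} (hr : r ∈ [0, 9, 14, 22, 23]) {t : K} (ht : t ^ q = t) :
    xG chevD4 K r t ∈ (Subgroup.inclusion (le_D4 (K := K) (q := q))).range := by
  have h : ∀ r ∈ [0, 9, 14, 22, 23], r < chevD4.nroots ∧ H68.rhoD4 r = r ∧ H68.gamD4 r = 1 := by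
    decide +kernel
  obtain ⟨h1, h2, h3⟩ := h r hr
  refine ⟨⟨xU chevD4 K r t, ?_⟩, rfl⟩
  rw [H68.twistedD4_eq_Fix hq hK]
  refine ⟨H68.mat_Gp.ge (xU_mem_group r t), ((H68.smD4 hq hK).map_x r h1 t).trans ?_⟩
  rw [H68.smD4_ρ, H68.smD4_γ, H68.smD4_e, h2, h3, ht, Int.cast_one, one_mul]
  rfl

theorem w7 (hW : JobMW) {r : ℕ} [CharP K r] (hr : r ≠ 2) : W7 (twistedD4 K q) r := by
  have : Fact r.Prime := ⟨CharP.char_is_prime K r⟩
  obtain ⟨f, hf⟩ := H68.exists_frob hq hK
  let μ := ZMod.castHom (dvd_refl r) K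
  have hμ : ∀ a, μ a ^ q = μ a := fun a =>
    (hf _).symm.trans (DFunLike.congr_fun (RingHom.ext_zmod (f.comp μ) μ) a)
  have hj := Subgroup.inclusion_injective (le_D4 (K := K) (q := q))
  have h : StB chevD4 (xG chevD4 K) := stBG
  have s := h.toSt
  have e1 : ∀ t, (slR K (D := chevD4) ⟨14, by decide⟩).comp (map μ) (xx t) = xG chevD4 K 14 (μ t) :=
    fun t => by rw [MonoidHom.comp_apply, map_xx, slR_U]
  have e2 : ∀ t, (slR K (D := chevD4) ⟨14, by decide⟩).comp (map μ) (yy t) = xG chevD4 K 9 (μ t) :=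
    fun t => by rw [MonoidHom.comp_apply, map_yy, slR_L]; rfl
  obtain ⟨φ, hφ⟩ := lift hj _ (fun t => e1 t ▸ x_mem hq hK (by simp) (hμ t))
    fun t => e2 t ▸ x_mem hq hK (by simp) (hμ t)
  choose X hX using fun a => x_mem hq hK (r := 23) (by simp) (hμ a)
  choose Y hY using fun a => x_mem hq hK (r := 22) (by simp) (hμ a)
  refine w7_of hW hr φ (X := X) (Y := Y) (fun a b => hj ?_) (fun a b => hj ?_) (fun a b => hj ?_)
    (fun e => ?_) (fun t a => hj ?_) (fun t a => hj ?_) (fun t a => hj ?_) fun t a => hj ?_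
  all_goals try simp only [map_mul, map_add, hX, hY, hφ, e1, e2]
  · exact s.add 23 (by decide) _ _
  · exact s.add 22 (by decide) _ _
  · exact comm_nil s (by decide +kernel) _ _
  · have := hX 1
    rw [e, map_one, map_one] at this
    exact one_ne_zero (h.x_injective ⟨23, by decide⟩ (this.symm.trans (s.x_zero ⟨23, by decide⟩).symm))
  · exact comm_nil s (by decide +kernel) _ _
  · exact comm_one s (by decide +kernel) _ _
  · exact comm_nil s (by decide +kernel) _ _
  · exact comm_one s (by decide +kernel) _ _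

theorem kc {r : ℕ} [CharP K r] (ho : Odd q) : KC (twistedD4 K q) r := by
  obtain ⟨f, hf⟩ := H68.exists_frob hq hK
  have hj := Subgroup.inclusion_injective (le_D4 (K := K) (q := q))
  have hA : Ad chevD4 (xG chevD4 K) := ad_xG matOK
  have h := hA.toStB
  have h2 : (-1 : K) ≠ 1 := Ring.neg_one_ne_one_of_char_ne_two fun e => by
    have := FiniteField.even_card_of_char_two e
    rw [hK] at this
    have := Nat.odd_iff.1 (ho.pow (n := 3))
    omega
  have f2 : ∀ t, f.comp f t = t ^ q ^ 2 := fun t => by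
    rw [RingHom.comp_apply, hf, hf, ← pow_mul, pow_two]
  obtain ⟨φ, hφ⟩ := lift hj (ψ f) (fun t => ⟨⟨_, H68.wd_mem_D4 (H68.mem_d4Words.2
      (.inl (.inl ⟨t, rfl⟩)))⟩, by
      rw [ψ_apply, map_xx, map_xx, show xx t = sl2U t from rfl, slR_U, slR_U, slR_U, f2, hf]
      exact Subtype.ext (by simp [mul_assoc])⟩)
    fun t => ⟨⟨_, H68.wd_mem_D4 (H68.mem_d4Words.2 (.inl (.inr ⟨t, rfl⟩)))⟩, by
      rw [ψ_apply, map_yy, map_yy, show yy t = sl2L t from rfl, slR_L, slR_L, slR_L, f2, hf]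
      exact Subtype.ext (by simp [mul_assoc]; rfl)⟩
  have dia : ∀ s : Kˣ, Dia chevD4 (xG chevD4 K) (ψ f (H56.SL2M.hh s)) fun v =>
      (s : K) ^ (chevD4.pairing 18 v + q * chevD4.pairing 13 v + q ^ 2 * chevD4.pairing 12 v) :=
    fun s => by
      rw [ψ_apply, map_hh, map_hh, slR_h, slR_h, slR_h]
      convert ((Dia.hh h.toStN ⟨18, by decide⟩ s.ne_zero).mul (Dia.hh h.toStN ⟨13, by decide⟩
        (Units.ne_zero _))).mul (Dia.hh h.toStN ⟨12, by decide⟩ (Units.ne_zero _)) using 2 with v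
      simp only [Units.coe_map, MonoidHom.coe_coe, f2]
      rw [hf, zpow_add₀ s.ne_zero, zpow_add₀ s.ne_zero, zpow_mul, zpow_mul, ← Nat.cast_pow,
        zpow_natCast, zpow_natCast]
  let a : Rt chevD4 := ⟨23, by decide⟩
  let b : Rt chevD4 := ⟨9, by decide⟩
  have p1 : chevD4.pairing a b = -1 := by decide +kernel
  have p2 : chevD4.pairing b a = -1 := by decide +kernel
  have n1 : (-1 : K) ≠ 0 := neg_ne_zero.2 one_ne_zero
  have hz : ψ f (-1) = hh chevD4 (xG chevD4 K) a (-1) := by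
    rw [← hh_neg_one]
    refine (dia (-1)).eq hA (Dia.hh h.toStN a n1) fun v => ?_
    have k : ∀ v : Rt chevD4, chevD4.pairing a v % 2 =
        (chevD4.pairing 18 v + chevD4.pairing 13 v + chevD4.pairing 12 v) % 2 := by decide +kernel
    obtain ⟨m, rfl⟩ := ho
    have := k v
    rw [Units.val_neg, Units.val_one, ← mul_inv_eq_one₀ (zpow_ne_zero _ n1), ← zpow_neg,
      ← zpow_add₀ n1]
    refine Even.neg_one_zpow ⟨m * chevD4.pairing 13 v + 2 * (m * m + m) * chevD4.pairing 12 v +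
      (chevD4.pairing 18 v + chevD4.pairing 13 v + chevD4.pairing 12 v - chevD4.pairing a v) / 2, ?_⟩
    have e : chevD4.pairing 18 v + chevD4.pairing 13 v + chevD4.pairing 12 v - chevD4.pairing a v =
        2 * ((chevD4.pairing 18 v + chevD4.pairing 13 v + chevD4.pairing 12 v -
          chevD4.pairing a v) / 2) := by omega
    push_cast
    linear_combination e
  have hz1 : φ (-1) ≠ 1 := fun e => by
    have := h.toStN.hh_conj a b n1 1
    rw [← hz, ← hφ, e, map_one, p1, one_mul, inv_one, mul_one] at this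
    exact h2 (by simpa using (h.x_injective b this).symm)
  obtain ⟨g, hg⟩ := IsCyclic.exists_ofOrder_eq_natCard (α := Kˣ)
  have q2 := hq.two_le
  obtain ⟨n, rfl⟩ : ∃ n, q = n + 1 := ⟨q - 1, by omega⟩
  have hs : orderOf (g ^ n) = (n + 1) ^ 2 + (n + 1) + 1 := by
    rw [Nat.card_units, Nat.card_eq_fintype_card, hK,
      show (n + 1) ^ 3 = n * ((n + 1) ^ 2 + (n + 1) + 1) + 1 by ring, Nat.add_sub_cancel] at hg
    rw [orderOf_pow_of_dvd (by omega) (hg ▸ dvd_mul_right _ _), hg, Nat.mul_div_cancel_left _ (by omega)]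
  generalize g ^ n = s at hs
  have s1 : (s : K) ^ (((n + 1) ^ 2 + (n + 1) + 1 : ℕ) : ℤ) = 1 := by
    rw [zpow_natCast, ← hs, ← Units.val_pow_eq_pow_val, pow_orderOf_eq_one, Units.val_one]
  have so : Odd ((n + 1) ^ 2 + (n + 1) + 1) := (ho.pow.add_odd ho).add_one
  have m1 : ∀ r ∈ [0, 9, 14, 22, 23], ∀ t ∈ [(1 : K), -1⁻¹], xG chevD4 K r t ∈ _ := fun r hr t ht =>
    x_mem hq hK hr (by
      simp only [List.mem_cons, List.not_mem_nil, or_false] at ht
      rcases ht with rfl | rfl <;> simp [ho.neg_pow])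
  obtain ⟨w, hw⟩ : ww chevD4 (xG chevD4 K) a b ∈ (Subgroup.inclusion le_D4).range := by
    rw [ww, nn_eq, nn_eq]
    exact pow_mem (mul_mem (mul_mem (mul_mem (m1 23 (by simp) _ (by simp)) (m1 0 (by simp) _ (by simp)))
      (m1 23 (by simp) _ (by simp))) (mul_mem (mul_mem (m1 9 (by simp) _ (by simp))
        (m1 14 (by simp) _ (by simp))) (m1 9 (by simp) _ (by simp)))) _
  have t3 := t3_hh hA p1 p2 n1
  rw [← hz, ← hφ, ← hw] at t3
  refine ⟨K, _, _, inferInstance, φ, H56.SL2M.hh s, φ (-1), w, ⟨⟨hj ?_, hj ?_, hj ?_⟩, hz1, ?_⟩,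
    fr_sl2 φ hz1, fun e => ?_, ?_, ?_, hj ?_, .inr ⟨rfl, _, s, hK, rfl, hs⟩⟩
  · rw [map_pow, t3.w3, map_one]
  · simpa only [map_mul, map_cp] using t3.comm.eq
  · simpa only [map_mul, map_cp, map_one] using t3.prod
  · rw [← map_mul, neg_mul_neg, one_mul, map_one]
  · have := dia s ⟨18, by decide⟩ 1
    rw [← hφ, e, map_one, one_mul, inv_one, mul_one] at this
    have e1 := h.x_injective ⟨18, by decide⟩ this
    have k : chevD4.pairing 18 18 = 2 ∧ chevD4.pairing 13 18 = 0 ∧ chevD4.pairing 12 18 = 0 := by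
      decide +kernel
    simp only [k, mul_zero, add_zero, mul_one] at e1
    have e2 : s ^ 2 = 1 := Units.ext (by simpa using e1.symm)
    have := Nat.le_of_dvd two_pos (hs ▸ orderOf_dvd_of_pow_eq_one e2)
    nlinarith
  · refine so.of_dvd_nat ((orderOf_map_dvd φ _).trans (orderOf_dvd_of_pow_eq_one ?_))
    rw [← hs]
    exact ((MonoidHom.mk' H56.SL2M.hh H56.SL2M.hh_mul).map_pow s _).symm.trans (by
      rw [pow_orderOf_eq_one, map_one])
  · exact (Commute.neg_one_right _).map φ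
  · rw [map_mul, map_mul, hφ, hw]
    have k : ∀ v ∈ [23, 0, 9, 14], v < chevD4.nroots ∧ ∃ c ∈ [(0 : ℤ), 1, -1],
        chevD4.pairing 18 v = c ∧ chevD4.pairing 13 v = c ∧ chevD4.pairing 12 v = c := by
      decide +kernel
    have c : ∀ v ∈ [23, 0, 9, 14], ∀ t, Commute (ψ f (H56.SL2M.hh s)) (xG chevD4 K v t) :=
      fun v hv t => by
        obtain ⟨h0, c, -, h1, h2, h3⟩ := k v hv
        have := dia s ⟨v, h0⟩ t
        simp only [h1, h2, h3] at this
        rw [show c + ((n + 1 : ℕ) : ℤ) * c + ((n + 1 : ℕ) : ℤ) ^ 2 * c =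
          (((n + 1) ^ 2 + (n + 1) + 1 : ℕ) : ℤ) * c by push_cast; ring, zpow_mul, s1, one_zpow,
          one_mul] at this
        exact mul_inv_eq_iff_eq_mul.1 this
    rw [ww, nn_eq, nn_eq]
    exact (((((c 23 (by simp) _).mul_right (c 0 (by simp) _)).mul_right (c 23 (by simp) _)).mul_right
      (((c 9 (by simp) _).mul_right (c 14 (by simp) _)).mul_right (c 9 (by simp) _))).pow_right 4).eq

omit hq hK in
theorem jobMD4 : JobMD4 := fun hW K _ _ q r _ ho hK => by
  have hq : IsPrimePow q :=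
    (isPrimePow_pow_iff three_ne_zero).1 (hK ▸ Fintype.isPrimePow_card_of_field)
  refine ⟨w7 hq hK hW ?_, kc hq hK ho⟩
  rintro rfl
  have := FiniteField.even_card_of_char_two (ringChar.eq K 2)
  rw [hK] at this
  have := Nat.odd_iff.1 (ho.pow (n := 3))
  omega

end H4.O7MD4
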