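import Cfsg.Agent.H4.O7RT
import Cfsg.Agent.H65.All

/-! O7: the configuration in `G₂(q)`. -/

set_option autoImplicit false
set_option linter.unusedSectionVars false

namespace H4.O7MG2

open Cfsg Cfsg.Lie H63 H64 H65 H67 H31.O7 H4.O7RT
open H20.LD (cp)
open H56.SL2M (xx yy)
open scoped MatrixGroups

section gen

variable {F : Type*} [Field F] {G : Type*} [Group G] {D : ChevalleyDatum} {x : ℕ → F → G}

theorem comm_nil (h : St D x) {r s : ℕ} (hc : r < D.nroots ∧ s < D.nroots ∧ s ≠ r ∧ s ≠ D.neg r ∧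
    D.commTerms r s = []) (t u : F) : Commute (x s u) (x r t) := by
  have := h.comm r s hc.1 hc.2.1 hc.2.2.1 hc.2.2.2.1 t u
  rwa [ChevalleyDatum.commWord, hc.2.2.2.2, List.map_nil, wd_nil, mul_one] at this

theorem comm_one (h : St D x) {r s c : ℕ} (hc : r < D.nroots ∧ s < D.nroots ∧ s ≠ r ∧ s ≠ D.neg r ∧
    D.commTerms r s = [(c, -1, 1, 1)]) (t u : F) : x s u * x r t = x r t * x s u * x c (u * t) := by
  rw [h.comm r s hc.1 hc.2.1 hc.2.2.1 hc.2.2.2.1, ChevalleyDatum.commWord, hc.2.2.2.2]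
  simp [mul_comm]

end gen

theorem w7_of (hW : JobMW) {F : Type} [Field F] [Fintype F] {r : ℕ} [CharP F r] (hr : r ≠ 2)
    {Γ : Type} [Group Γ] (φ : SL(2, F) →* Γ) {X Y : F → Γ} (hX : ∀ a b, X a * X b = X (a + b))
    (hY : ∀ a b, Y a * Y b = Y (a + b)) (c : ∀ a b, Commute (X a) (Y b)) (ne : X 1 ≠ 1)
    (h1 : ∀ t a, Commute (φ (xx t)) (X a))
    (h2 : ∀ t b, φ (xx t) * Y b = Y b * φ (xx t) * X (t * b))
    (h3 : ∀ t b, Commute (φ (yy t)) (Y b))
    (h4 : ∀ t a, φ (yy t) * X a = X a * φ (yy t) * Y (t * a)) : W7 Γ r := by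
  refine (hW F r Γ φ hr).2 (fun a b => X a * Y b) (fun a b p q => ?_) ⟨1, 0, ?_⟩ (fun t a b => ?_)
    fun t a b => ?_
  · rw [← hX, ← hY, mul_assoc, mul_assoc, ← mul_assoc (X p), (c p b).eq, mul_assoc]
  · rwa [mul_eq_left.1 ((hY 0 0).trans (by rw [add_zero])), mul_one]
  · rw [← mul_assoc, (h1 t a).eq, mul_assoc (X a), h2, mul_assoc (Y b), (h1 t _).eq, ← hX,
      mul_assoc (X a) (X _), (c _ b).eq]
    group
  · rw [← mul_assoc, h4, mul_assoc _ (Y _) (Y _), hY, mul_assoc (X a), (h3 t _).eq, add_comm]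
    group

variable {F : Type} [Field F] [RS chevG2] [Tab chevG2] [Comm chevG2]

theorem slR_hh {D : ChevalleyDatum} [RS D] [Tab D] [Comm D] (r : Rt D) (s : Fˣ) :
    slR F r (H56.SL2M.hh s) = hh D (xG D F) r s := by
  rw [slR_of_upper r (c := s) rfl rfl, hh_eq_torG,
    show (H56.SL2M.hh s) 0 1 / (s : F) = 0 from zero_div _, (stBG (D := D)).toSt.x_zero, mul_one]

theorem fac {D : ChevalleyDatum} [RS D] [Tab D] [Comm D] {r p : Rt D} (h : D.pairing p r = -1) :
    Fac (slR F r) fun s => hh D (xG D F) p s := fun s a => by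
  have k := (stBG (D := D) (k := F)).toStN.hh_conj p
  beta_reduce
  constructor
  · rw [show xx a = sl2U a from rfl, show xx _ = sl2U _ from rfl, slR_U, slR_U, k r s.ne_zero, h]
    simp
  · rw [show yy a = sl2L a from rfl, show yy _ = sl2L _ from rfl, slR_L, slR_L, k _ s.ne_zero,
      negR_val, pairing_negR_right, h]
    simp

theorem w7 (hW : JobMW) [Fintype F] {r : ℕ} [CharP F r] (hr : r ≠ 2) : W7 (chevG2.group F) r := by
  have h : StB chevG2 (xG chevG2 F) := stBG
  have s := h.toSt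
  refine w7_of hW hr (slR F ⟨6, by decide⟩) (X := xG chevG2 F 11) (Y := xG chevG2 F 10)
    (s.add 11 (by decide)) (s.add 10 (by decide)) (fun a b => comm_nil s (by decide +kernel) b a)
    (fun e => one_ne_zero (h.x_injective ⟨11, by decide⟩ (e.trans (s.x_zero ⟨11, by decide⟩).symm)))
    (fun t a => ?_) (fun t a => ?_) (fun t a => ?_) fun t a => ?_
  · rw [show xx t = sl2U t from rfl, slR_U]
    exact comm_nil s (s := 6) (by decide +kernel) a t
  · rw [show xx t = sl2U t from rfl, slR_U]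
    exact comm_one s (s := 6) (by decide +kernel) a t
  · rw [show yy t = sl2L t from rfl, slR_L]
    exact comm_nil s (s := 5) (by decide +kernel) a t
  · rw [show yy t = sl2L t from rfl, slR_L]
    exact comm_one s (s := 5) (by decide +kernel) a t

theorem tls [Fintype F] {r : ℕ} [CharP F r] (hr : r ≠ 2) (h3 : 3 < Fintype.card F) :
    TLs (chevG2.group F) r := by
  have hA : Ad chevG2 (xG chevG2 F) := ad_xG matOK
  have h := hA.toStB
  have h2 : ringChar F ≠ 2 := by rwa [ringChar.eq F r]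
  have h5 := FiniteField.odd_card_of_char_ne_two h2
  let a : Rt chevG2 := ⟨6, by decide⟩
  let b : Rt chevG2 := ⟨10, by decide⟩
  let c : Rt chevG2 := ⟨2, by decide⟩
  have p1 : chevG2.pairing a b = -1 := by decide +kernel
  have p2 : chevG2.pairing b a = -1 := by decide +kernel
  have e : (fun s : Fˣ => cp (ww chevG2 (xG chevG2 F) a b) 1 (slR F a (H56.SL2M.hh s))) =
      fun s : Fˣ => hh chevG2 (xG chevG2 F) b s :=
    funext fun s => by rw [slR_hh, conj_hh hA p1 p2 s.ne_zero]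
  refine ⟨F, _, _, inferInstance, by omega, slR F a, slR F c, ww chevG2 (xG chevG2 F) a b,
    fun e => ?_, fun s => ?_, e ▸ fac p2, e ▸ fac (by decide +kernel), ?_, fun s => ?_, ?_⟩
  · have := slR_injective (r := a) (s := ⟨11, by decide⟩) ((isPosRoot_iff a).1 (by decide +kernel))
      (by decide +kernel) (e.trans (map_one _).symm)
    exact Ring.neg_one_ne_one_of_char_ne_two h2 (by simpa using congrArg (fun g => g.1 0 0) this)
  · rw [slR_hh]; exact t3_hh hA p1 p2 s.ne_zero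
  · have k : ∀ p ∈ [6, 5], ∀ q ∈ [2, 9], ∀ t u, Commute (xG chevG2 F p t) (xG chevG2 F q u) :=
      fun p hp q hq t u => comm_nil h.toSt (by revert p q; decide +kernel) u t
    intro g g'
    have k1 : (slR F a).range ≤ Subgroup.centralizer ((slR F c).range : Set _) := by
      rw [range_slR, range_slR, gen_XR_eq, gen_XR_eq, Subgroup.centralizer_closure,
        Subgroup.closure_le]
      rintro _ ⟨p, rfl | rfl, t, rfl⟩ _ ⟨q, rfl | rfl, u, rfl⟩
      exacts [(k 6 (by simp) 2 (by simp) _ _).eq.symm, (k 6 (by simp) 9 (by simp) _ _).eq.symm,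
        (k 5 (by simp) 2 (by simp) _ _).eq.symm, (k 5 (by simp) 9 (by simp) _ _).eq.symm]
    exact (k1 ⟨g, rfl⟩ _ ⟨g', rfl⟩).symm
  · have d := fun (p : Rt chevG2) (s : Fˣ) => Dia.hh h.toStN p s.ne_zero
    have k : ∀ v : Rt chevG2, chevG2.pairing c v =
        -(chevG2.pairing a v + chevG2.pairing b v + chevG2.pairing b v) := by decide +kernel
    rw [slR_hh, (d c s).eq hA (((d a s⁻¹).mul (d b s⁻¹)).mul (d b s⁻¹)) fun v => by
      rw [k, ← zpow_add₀ s⁻¹.ne_zero, ← zpow_add₀ s⁻¹.ne_zero, Units.val_inv_eq_inv_val, inv_zpow']]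
    have m : hh chevG2 (xG chevG2 F) b (s⁻¹ : Fˣ) ∈ Subgroup.closure {x | ∃ s',
        x = slR F a (H56.SL2M.hh s') ∨
          x = cp (ww chevG2 (xG chevG2 F) a b) 1 (slR F a (H56.SL2M.hh s'))} :=
      Subgroup.subset_closure ⟨s⁻¹, .inr (congrFun e _).symm⟩
    exact mul_mem (mul_mem (Subgroup.subset_closure ⟨s⁻¹, .inl (slR_hh _ _).symm⟩) m) m
  · obtain ⟨σ, sg, -, hσ⟩ := exists_rot hA p1 p2
    rw [eq_top_iff, ← hA.top]
    generalize hK : (slR F a).range ⊔ (slR F c).range ⊔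
      Subgroup.zpowers (ww chevG2 (xG chevG2 F) a b) = K
    have hw : ww chevG2 (xG chevG2 F) a b ∈ K :=
      hK ▸ Subgroup.mem_sup_right (Subgroup.mem_zpowers _)
    have st : ∀ v : Rt chevG2, (∀ t, xG chevG2 F v t ∈ K) → ∀ t, xG chevG2 F (σ v) t ∈ K :=
      fun v hv t => by
        obtain ⟨u, hu, -⟩ := sg.conj_x v t
        rw [hu]; exact mul_mem (mul_mem hw (hv u)) (inv_mem hw)
    have b0 : ∀ v ∈ [a, negR a, c, negR c], ∀ t, xG chevG2 F v t ∈ K := by
      simp only [List.forall_mem_cons, List.not_mem_nil, false_imp_iff, implies_true, and_true, ← hK]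
      exact ⟨fun t => Subgroup.mem_sup_left (Subgroup.mem_sup_left ⟨_, slR_U a t⟩),
        fun t => Subgroup.mem_sup_left (Subgroup.mem_sup_left ⟨_, slR_L a t⟩),
        fun t => Subgroup.mem_sup_left (Subgroup.mem_sup_right ⟨_, slR_U c t⟩),
        fun t => Subgroup.mem_sup_left (Subgroup.mem_sup_right ⟨_, slR_L c t⟩)⟩
    have k : ∀ v v₁ v₂ : Rt chevG2, chevG2.pairing a v = -chevG2.pairing a v₁ - chevG2.pairing b v₁ →
        chevG2.pairing b v = chevG2.pairing a v₁ →
        chevG2.pairing a v₁ = -chevG2.pairing a v₂ - chevG2.pairing b v₂ →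
        chevG2.pairing b v₁ = chevG2.pairing a v₂ → ∃ u ∈ [v, v₁, v₂], u.1 ∈ [6, 5, 2, 9] := by
      decide +kernel
    refine GG_le fun v => ?_
    obtain ⟨v, rfl⟩ := σ.surjective v
    obtain ⟨v, rfl⟩ := σ.surjective v
    have b1 : ∀ u : Rt chevG2, u.1 ∈ [6, 5, 2, 9] → ∀ t, xG chevG2 F u t ∈ K := fun u hu => by
      simp only [List.mem_cons, List.not_mem_nil, or_false] at hu
      rcases hu with e | e | e | e <;> rw [e]
      exacts [b0 a (by simp), b0 (negR a) (by simp), b0 c (by simp), b0 (negR c) (by simp)]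
    obtain ⟨u, hu, h1⟩ := k _ _ v (hσ _).2.1 (hσ _).2.2 (hσ _).2.1 (hσ _).2.2
    simp only [List.mem_cons, List.not_mem_nil, or_false] at hu
    rcases hu with rfl | rfl | rfl
    exacts [b1 _ h1, st _ (b1 _ h1), st _ (st _ (b1 _ h1))]

omit [RS chevG2] [Tab chevG2] [Comm chevG2] in
theorem jobMG2 : JobMG2 := fun hW F _ _ r _ hr => by
  obtain ⟨_, _, _⟩ := H65.of_mem (D := chevG2) (by simp)
  exact ⟨w7 hW hr, tls hr⟩

end H4.O7MG2
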