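import Cfsg.Agent.H31.O7K
import Cfsg.Agent.H67.RootSL
import Cfsg.Agent.H63.AdMat
import Cfsg.Agent.H63.Long
import Cfsg.Agent.H64.MatBr

/-! The element of order three of the Weyl group of a subsystem of type `A₂`. -/

set_option autoImplicit false
set_option linter.unusedSectionVars false

namespace H4.O7RT

open Cfsg Cfsg.Lie H63 H64 H31.O7
open H20.LD (cp)

variable {F : Type*} [Field F] {G : Type*} [Group G] {D : ChevalleyDatum} [RS D] {x : ℕ → F → G}

variable (D x) in
/-- `g` acts on the root elements by scalars. -/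
def Dia (g : G) (χ : Rt D → F) : Prop := ∀ (s : Rt D) u, g * x s u * g⁻¹ = x s (χ s * u)

theorem Dia.mul {g g' : G} {χ χ' : Rt D → F} (h : Dia D x g χ) (h' : Dia D x g' χ') :
    Dia D x (g * g') fun s => χ s * χ' s := fun s u => by
  rw [mul_assoc (χ s), ← h, ← h']; group

theorem Dia.eq (hA : Ad D x) {g g' : G} {χ χ' : Rt D → F} (h : Dia D x g χ) (h' : Dia D x g' χ')
    (e : ∀ s, χ s = χ' s) : g = g' := by
  have k : ∀ s : Rt D, g'⁻¹ * g * x s 1 = x s 1 * (g'⁻¹ * g) := fun s => by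
    have := h s 1
    rw [e, ← h'] at this
    calc _ = g'⁻¹ * (g * x s 1 * g⁻¹) * g := by group
      _ = _ := by rw [this]; group
  exact (inv_mul_eq_one.1 (hA.eq_one_of_comm fun i => ⟨k (simpleR i), k (negR (simpleR i))⟩)).symm

theorem Dia.one : Dia D x 1 fun _ => 1 := fun s u => by simp

theorem Dia.conj {m g : G} {w : Equiv.Perm (Rt D)} {χ : Rt D → F} (hm : Sgn D x m w)
    (h : Dia D x g χ) : Dia D x (m * g * m⁻¹) fun s => χ (w.symm s) := fun s u => by
  obtain ⟨s, rfl⟩ := w.surjective s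
  obtain ⟨η, h1, h2⟩ := hm s
  have e1 := (h2 (η * u)).1
  have e2 := (h2 (χ s * (η * u))).1
  rw [← mul_assoc η, h1, one_mul] at e1
  rw [mul_left_comm η, ← mul_assoc η, h1, one_mul] at e2
  beta_reduce
  rw [Equiv.symm_apply_apply, ← e2, ← e1, ← h]; group

theorem Dia.hh (h : StN D x) (r : Rt D) {c : F} (hc : c ≠ 0) :
    Dia D x (hh D x r c) fun s => c ^ D.pairing r s := fun s u => h.hh_conj r s hc u

theorem sq_of_sgn (hA : Ad D x) {m : G} (hm : Sgn D x m 1) : m * m = 1 := by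
  choose η h1 h2 using hm
  have : Dia D x m η := fun s u => (h2 s u).1
  exact (this.mul this).eq hA Dia.one h1

variable (D x) in
/-- The element of order three. -/
def ww (a b : ℕ) : G := (nn D x a 1 * nn D x b 1) ^ 4

theorem exists_rot (hA : Ad D x) {a b : Rt D} (h1 : D.pairing a b = -1) (h2 : D.pairing b a = -1) :
    ∃ σ : Equiv.Perm (Rt D), Sgn D x (ww D x a b) σ ∧ ww D x a b ^ 3 = 1 ∧ ∀ s : Rt D,
      rt (σ s) = rt s - D.pairing b s • rt b - (D.pairing a s + D.pairing b s) • rt a ∧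
      D.pairing a (σ s) = -D.pairing a s - D.pairing b s ∧ D.pairing b (σ s) = D.pairing a s := by
  obtain ⟨u, hu, su⟩ := hA.toStB.toStN.sgn_nn_one a
  obtain ⟨v, hv, sv⟩ := hA.toStB.toStN.sgn_nn_one b
  have k : ∀ p r s : Rt D, D.pairing p (refl r s) = D.pairing p s - D.pairing r s * D.pairing p r :=
    fun p r s => by
      rw [pairing_of_comb p (r := s) (s := r) (a := 1) (b := -D.pairing r s)
        (by rw [rt_refl, one_smul, neg_smul, sub_eq_add_neg])]
      ring
  have e : ∀ s : Rt D, rt ((u.1 * v.1) s) =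
      rt s - D.pairing b s • rt b - (D.pairing a s + D.pairing b s) • rt a ∧
      D.pairing a ((u.1 * v.1) s) = -D.pairing a s - D.pairing b s ∧
      D.pairing b ((u.1 * v.1) s) = D.pairing a s := fun s => by
    rw [Equiv.Perm.mul_apply, hu, hv, rt_refl, rt_refl]
    simp only [k, h1, h2, pairing_self]
    exact ⟨by congr 2; ring, by ring, by ring⟩
  have e3 : u.1 * v.1 * (u.1 * v.1) * (u.1 * v.1) = 1 := Equiv.ext fun s => rt_inj (by
    rw [Equiv.Perm.mul_apply, Equiv.Perm.mul_apply, Equiv.Perm.one_apply]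
    simp only [e]
    module)
  have s1 := su.mul sv
  have s3 := (s1.mul s1).mul s1
  rw [e3] at s3
  refine ⟨u.1 * v.1, ?_, ?_, e⟩
  · have := s3.mul s1
    rw [one_mul] at this
    convert this using 1
    rw [ww, pow_succ, pow_three']
  · have := sq_of_sgn hA s3
    rw [← pow_three', ← pow_add] at this
    rw [ww, ← pow_mul, show 4 * 3 = (3 + 3) * 2 from rfl, pow_mul, this, one_pow]

theorem conj_hh (hA : Ad D x) {a b : Rt D} (h1 : D.pairing a b = -1) (h2 : D.pairing b a = -1)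
    {c : F} (hc : c ≠ 0) : cp (ww D x a b) 1 (hh D x a c) = hh D x b c := by
  obtain ⟨σ, s, -, e⟩ := exists_rot hA h1 h2
  rw [cp_one]
  refine ((Dia.hh hA.toStB.toStN a hc).conj s).eq hA (Dia.hh hA.toStB.toStN b hc) fun r => ?_
  rw [← (e _).2.2, Equiv.apply_symm_apply]

theorem t3_hh (hA : Ad D x) {a b : Rt D} (h1 : D.pairing a b = -1) (h2 : D.pairing b a = -1)
    {c : F} (hc : c ≠ 0) : T3 (hh D x a c) (ww D x a b) := by
  obtain ⟨σ, s, w3, e⟩ := exists_rot hA h1 h2
  have da := Dia.hh hA.toStB.toStN a hc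
  have db := Dia.hh hA.toStB.toStN b hc
  refine ⟨w3, ?_, ?_⟩
  · rw [conj_hh hA h1 h2 hc]
    exact (da.mul db).eq hA (db.mul da) fun _ => mul_comm _ _
  · rw [← cp_cp _ _ 1 1, conj_hh hA h1 h2 hc, cp_one]
    refine ((da.mul db).mul (db.conj s)).eq hA Dia.one fun r => ?_
    obtain ⟨r, rfl⟩ := σ.surjective r
    rw [Equiv.symm_apply_apply, (e _).2.1, (e _).2.2, ← zpow_add₀ hc, ← zpow_add₀ hc]
    convert zpow_zero c using 2
    ring

end H4.O7RT
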