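import Cfsg.Agent.H45.MO3
import Cfsg.Agent.H44.Sv3

/-! Simple groups of order dividing `95040`: general lemmas. -/

set_option autoImplicit false
set_option linter.unusedSectionVars false

namespace H4.Ord

open Cfsg H28 H87 H45 H45.MO H39 Subgroup Finset

/-- The trace of an inverting involution on the fixed space of `P`. -/
theorem fix_bound {G : Type*} [Group G] {χ : G → ℂ} (hχ : IsCharacter G χ) (P : Subgroup G)
    [Fintype P] {s : G} (hs : s * s = 1) (hi : ∀ y ∈ P, s * y * s⁻¹ = y⁻¹) {σ : ℤ}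
    (hσ : σ = 1 ∨ σ = -1) :
    ∃ m : ℕ, ∑ y : P, χ y + σ * ∑ y : P, χ (y * s) = 2 * Nat.card P * m := by
  obtain ⟨n, ρ, rfl⟩ := hχ
  have h0 := H33.natCard_ne_zero P
  obtain ⟨E, hE⟩ : ∃ E, E = (Nat.card P : ℂ)⁻¹ • ∑ x : P, ρ x := ⟨_, rfl⟩
  have h1 : E * E = E := by
    rw [hE, smul_mul_smul_comm, Finset.sum_mul, Finset.sum_congr rfl
      (g := fun _ => ∑ x : P, ρ x) fun y _ => by
        rw [Finset.mul_sum, ← Equiv.sum_comp (Equiv.mulLeft y) fun x : P => ρ x]
        simp, Finset.sum_const, Finset.card_univ, ← Nat.card_eq_fintype_card,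
      ← Nat.cast_smul_eq_nsmul ℂ, smul_smul, inv_mul_cancel_right₀ h0]
  have h2 : ρ s * E = E * ρ s := by
    rw [hE, mul_smul_comm, smul_mul_assoc, Finset.mul_sum, Finset.sum_mul,
      ← Equiv.sum_comp (Equiv.inv P) fun x : P => ρ x * ρ s]
    refine congrArg _ (Finset.sum_congr rfl fun y _ => ?_)
    rw [← map_mul, ← map_mul, Equiv.inv_apply, InvMemClass.coe_inv, ← hi y y.2,
      inv_mul_cancel_right]
  have h3 : ρ s * ρ s = 1 := by rw [← map_mul, hs, map_one]
  have h4 : (σ : ℂ) * σ = 1 := sign_sq hσ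
  have h5 : E * ρ s * (E * ρ s) = E := by
    rw [mul_assoc, ← mul_assoc (ρ s), h2, mul_assoc, h3, mul_one, h1]
  have h6 : IsIdempotentElem ((2 : ℂ)⁻¹ • (E + (σ : ℂ) • (E * ρ s))) := by
    rw [IsIdempotentElem, smul_mul_smul_comm, add_mul, mul_add, mul_add, smul_mul_smul_comm, h5,
      h4, h1, mul_smul_comm, smul_mul_assoc, ← mul_assoc, h1, mul_assoc, h2, ← mul_assoc, h1]
    module
  obtain ⟨m, h7⟩ : ∃ m : ℕ, LinearMap.trace ℂ _ ((2 : ℂ)⁻¹ • (E + (σ : ℂ) • (E * ρ s))) = m :=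
    ⟨_, (LinearMap.IsIdempotentElem.isProj_range _ h6).trace⟩
  refine ⟨m, ?_⟩
  rw [← h7, hE]
  simp only [map_smul, map_add, map_sum, smul_mul_assoc, Finset.sum_mul, ← map_mul, smul_eq_mul,
    Representation.character]
  field_simp

theorem sum_types {α β : Type*} [DecidableEq β] (S : Finset α) (τ : α → β) (L : Finset β)
    (h : ∀ x ∈ S, τ x ∈ L) (F : β → ℤ) :
    ∑ x ∈ S, F (τ x) = ∑ b ∈ L, ((S.filter fun x => τ x = b).card : ℤ) * F b := by
  rw [← sum_fiberwise_of_maps_to h]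
  refine sum_congr rfl fun b _ => ?_
  rw [sum_congr rfl fun x hx => by rw [(mem_filter.1 hx).2], sum_const, nsmul_eq_mul]

theorem order_perm {Ω : Type*} [Fintype Ω] [DecidableEq Ω] (h : Fintype.card Ω = 12)
    (σ : Equiv.Perm Ω) (h1 : 11 ∣ orderOf σ) : orderOf σ = 11 := by
  rw [← Equiv.Perm.lcm_cycleType] at h1 ⊢
  have hs : σ.cycleType.sum ≤ 12 := by rw [Equiv.Perm.sum_cycleType, ← h]; exact card_le_univ _
  have h2 : ∀ n ∈ σ.cycleType, 2 ≤ n := fun n => Equiv.Perm.two_le_of_mem_cycleType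
  obtain ⟨n, hn, hd⟩ := Prime.exists_mem_multiset_dvd Nat.prime_eleven.prime
    (h1.trans (Multiset.lcm_dvd.2 fun b hb => Multiset.dvd_prod hb))
  obtain ⟨t, ht⟩ := Multiset.exists_cons_of_mem hn
  have h3 := h2 n hn
  rw [ht] at hs h2 ⊢
  rw [Multiset.sum_cons] at hs
  obtain rfl : t = 0 := by
    by_contra h4
    obtain ⟨m, hm⟩ := Multiset.exists_mem_of_ne_zero h4
    have h5 := h2 m (Multiset.mem_cons_of_mem hm)
    have h6 := Multiset.le_sum_of_mem hm
    omega
  obtain rfl : n = 11 := by omega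
  simp

variable {G : Type*} [Group G] [Fintype G] [IsSimpleGroup G] (hna : ¬ IsMulCommutative G)
  [Fact (Nat.Prime 11)] {P : Sylow 11 G} {V : Subgroup G}

theorem card_V_of_index (hC : Cpl P V) {H : Subgroup G} (hH : H.index = 12) : Nat.card V = 1 := by
  classical
  have := Fintype.ofFinite (G ⧸ H)
  have hX : Fintype.card (G ⧸ H) = 12 := by rw [← hH, ← Nat.card_eq_fintype_card]; rfl
  obtain ⟨g, hg⟩ := exists_smul_ne_quotient H (by rintro rfl; simp at hH)
  have hf := toPermHom_injective _ g _ hg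
  obtain ⟨x, hx, x1⟩ := exists_ne_one_mem_prime hC.card
  rw [Subgroup.card_eq_one, eq_bot_iff_forall]
  intro v hv
  have h1 := order_perm hX (MulAction.toPermHom G (G ⧸ H) (x * v))
  rw [orderOf_injective _ hf] at h1
  have h2 := pow_orderOf_eq_one (x * v)
  have h3 := pow_orderOf_eq_one x
  rw [h1 (hC.dvd_order hx x1 hv), Commute.mul_pow (hC.le hv x hx)] at h2
  rw [orderOf_eq_of_mem_prime hC.card hx x1] at h3
  rw [h3, one_mul] at h2
  exact orderOf_eq_one_iff.1 (((Nat.dvd_prime Nat.prime_eleven).1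
    (orderOf_dvd_of_pow_eq_one h2)).resolve_right fun e => hC.reg v hv e.symm.dvd)

omit [IsSimpleGroup G] in
theorem nor_le (hC : Cpl P V) : Nor (P : Subgroup G) ≤ Nor V := fun g hg => by
  refine mem_normalizer_fintype fun v hv => ?_
  obtain ⟨y, hy, w, hw, e⟩ := hC.ex (g * v * g⁻¹) fun z hz => by
    have h1 := hC.le hv (g⁻¹ * z * g) (by
      have := (mem_normalizer_iff.1 (inv_mem hg) z).1 hz
      rwa [inv_inv] at this)
    calc z * (g * v * g⁻¹) = g * (g⁻¹ * z * g * v) * g⁻¹ := by group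
      _ = g * v * g⁻¹ * z := by rw [h1]; group
  obtain rfl : y = 1 := by
    by_contra h1
    have h2 := hC.dvd_order hy h1 hw
    rw [← e, H46.orderOf_conj] at h2
    exact hC.reg v hv h2
  rw [e, one_mul]
  exact hw

include hna in
/-- The case `|C(P)| = 33`. -/
theorem V_ne_three (hC : Cpl P V) (hn : Nat.card (Sylow 11 G) = 144) : Nat.card V ≠ 3 := fun hV => by
  have := Fact.mk Nat.prime_three
  have h1 := card_eq_of_cpl hC
  have h2 := relIndex_dvd_prime_sub_one hC.card
  have h3 := relIndex_mul_card_centralizer (P : Subgroup G)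
  have h4 := hC.card_cen
  obtain ⟨K, hK, hVK⟩ := Sylow.exists_subgroup_card_pow_succ (p := 3) (n := 1) (H := V)
    (by rw [h1, hn, hV]; exact ⟨48 * _ * 11, by ring⟩) (by rw [hV]; rfl)
  have h5 : K ≤ Nor V := fun k hk => centralizer_le_normalizer' V fun v hv =>
    congrArg Subtype.val ((IsPGroup.isMulCommutative_of_card_eq_prime_sq hK).is_comm.comm
      (⟨v, hVK hv⟩ : K) ⟨k, hk⟩)
  have h6 := card_dvd_of_le h5
  have h7 := nor_le hC
  have h8 := (P.subtype (le_normalizer.trans h7)).card_eq_index_normalizer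
  have h9 : Nat.card (Sylow 11 (Nor V)) = (Nor (P : Subgroup G)).relIndex (Nor V) := by
    rw [h8, relIndex, subgroupOf_normalizer_eq (le_normalizer.trans h7)]; rfl
  have h10 := card_sylow_modEq_one 11 (Nor V)
  have h11 := relIndex_mul_index h7
  have h12 := H46.card_mul_relIndex h7
  have h13 : (Nor V).index ≠ 1 := fun e => normalizer_ne_top' V
    (by rintro rfl; simp at hV) (by
      rintro rfl
      rw [hV, hn] at h1
      rw [Subgroup.card_top] at hV
      omega) (index_eq_one.1 e)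
  have h14 : (Nor V).index ≠ 12 := fun e => by have := card_V_of_index hC e; omega
  rw [show (Nor (P : Subgroup G)).index = 144 from P.card_eq_index_normalizer.symm.trans hn] at h11
  rw [h9] at h10
  rw [← h12, hK, ← h3, h4, hV] at h6
  generalize (Nor (P : Subgroup G)).relIndex (Nor V) = k at *
  generalize (centralizer ((P : Subgroup G) : Set G)).relIndex
    (normalizer ((P : Subgroup G) : Set G)) = e at *
  have key : ∀ k ∈ Nat.divisors 144, k % 11 = 1 → ∀ e ∈ Nat.divisors 10,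
      9 ∣ e * (11 * 3) * k → k = 12 ∨ k = 144 := by decide +kernel
  rcases key k (Nat.mem_divisors.2 ⟨⟨_, h11.symm⟩, by norm_num⟩) h10 e
    (Nat.mem_divisors.2 ⟨h2, by norm_num⟩) h6 with rfl | rfl <;> omega

end H4.Ord
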