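import Cfsg.Agent.H67.SPIII

/-! STD-SP chapter III, slot TE: the relations `RE` for `β = 1`.  The commutator of `s z x` and
`s u v` is read off from the product rule at the vector `u + z`. -/

set_option autoImplicit false
set_option linter.unusedSectionVars false

namespace H4.SP3TE

open H67.UA H67.SP

universe u

variable {n : ℕ} {F : Type} [Field F] [StarRing F] [TrivialStar F] [CharP F 2] [Finite F] [FV n F]
  {G : Type u} [Group G] {e : XU n F →* G} {τ : Vn n F → G} {δ : F}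

theorem hc (x y : Vn n F) : hf x y = hf y x := by rw [← star_hf, star_trivial]

theorem ii (x : Vn n F) : hf x x = 0 := FV.iso x

theorem acT (c : F) (u y : Vn n F) : ac (Tc c u) y = y + (c * hf y u) • u :=
  ac_Tc (FV.iso u) (star_trivial c) y

theorem acq {u v : Vn n F} (h : hf u v = 0) (y : Vn n F) :
    ac (qq v u) y = y + hf y v • u + hf y u • v := ac_qq (FV.pp u v h) y

theorem Tc_sum {u z : Vn n F} (h : hf u z = 0) (c : F) :
    Tc c u * Tc c z * Tc c (u + z) = qq (c • z) u := ac_ext fun y => by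
  have t := two0 F
  simp only [ac_mul, acT, acq (show hf u (c • z) = 0 by simp [hf_smul_right, h]), hf_add_left,
    hf_add_right, hf_smul_left, hf_smul_right, ii, h, hf_symm h, star_trivial]
  ext i
  simp only [Pi.add_apply, Pi.smul_apply, smul_eq_mul]
  grind

theorem fix (h : RA e τ 1) {g : XU n F} {u v : Vn n F} (hu : ac g u = u) (hv : ac g v = v) :
    Commute (e g) (sg e τ 1 u v) := by
  have := h.toR0.sg_eqv 1 g u v
  rwa [hu, hv, mul_inv_eq_iff_eq_mul] at this

theorem mul (h : RA e τ 1) (b : RB e τ 1 δ) {u v w : Vn n F} (h1 : hf u v = 0) (h2 : hf u w = 0) :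
    sg e τ 1 u v * sg e τ 1 u w = sg e τ 1 u (v + w) * e (Tc (δ * hf v w) u) := by
  have r : rt (0 : F) = 0 := pow_eq_zero_iff (two_ne_zero) |>.1 (rt_sq 0)
  rw [b u v w h1 h2, CharTwo.add_self_eq_zero, zero_mul, r, zero_smul, h.zero, mul_one]

theorem sym (h : RA e τ 1) {u v : Vn n F} (h1 : hf u v = 0) :
    sg e τ 1 v u = sg e τ 1 u v * e (qq v u) := by rw [h.ssym u v h1, one_smul]

theorem ladd (h : RA e τ 1) {u z x : Vn n F} (uz : hf u z = 0) (ux : hf u x = 0) (zx : hf z x = 0) :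
    sg e τ 1 (u + z) x = sg e τ 1 u x * sg e τ 1 z x := by
  have xu := hf_symm ux
  have xz := hf_symm zx
  have c : Commute (e (qq u x)) (sg e τ 1 x z) :=
    fix h (by simp [acq xu, xu, ii]) (by simp [acq xu, hf_symm uz, zx])
  rw [sym h (u := x) (v := u + z) (by rw [hf_add_right, xu, xz, add_zero]), h.sadd x u z ⟨xu, xz, uz⟩,
    qq_add (FV.pp x u xu) (FV.pp x z xz) (hf_symm uz), map_mul, sym h xu, sym h xz,
    mul_assoc (sg e τ 1 x u) (e _), ← mul_assoc (e _), c.eq]
  simp only [mul_assoc]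

/-- The case `v ⊥ z`. -/
theorem cs0 (h : RA e τ 1) (b : RB e τ 1 δ) {u z x v : Vn n F} (uz : hf u z = 0) (ux : hf u x = 0)
    (zx : hf z x = 0) (uv : hf u v = 0) (zv : hf z v = 0) :
    sg e τ 1 z x * sg e τ 1 u v * (sg e τ 1 z x)⁻¹ = e (qq ((δ * hf x v) • z) u) * sg e τ 1 u v := by
  have h1 := mul h b (u := u + z) (v := x) (w := v) (by rw [hf_add_left, ux, zx, add_zero])
    (by rw [hf_add_left, uv, zv, add_zero])
  have i : ∀ (c : F) (w : Vn n F), (e (Tc c w))⁻¹ = e (Tc c w) := fun c w =>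
    inv_eq_of_mul_eq_one_right (by rw [← map_mul, Tc_mul_self (FV.iso w) (star_trivial c), map_one])
  rw [ladd h uz ux zx, ladd h uz uv zv, ladd h uz (by rw [hf_add_right, ux, uv, add_zero])
    (by rw [hf_add_right, zx, zv, add_zero]), ← mul_inv_eq_iff_eq_mul.2 (mul h b ux uv),
    ← mul_inv_eq_iff_eq_mul.2 (mul h b zx zv), i, i] at h1
  have zu := hf_symm uz
  have c1 : Commute (e (Tc (δ * hf x v) u)) (sg e τ 1 z x * sg e τ 1 z v) :=
    (fix h (by simp [acT, zu]) (by simp [acT, hf_symm ux])).mul_right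
      (fix h (by simp [acT, zu]) (by simp [acT, hf_symm uv]))
  have q : hf u ((δ * hf x v) • z) = 0 := by simp [hf_smul_right, uz]
  have c2 : ∀ a w : Vn n F, hf a u = 0 → hf a z = 0 → hf w u = 0 → hf w z = 0 →
      Commute (e (qq ((δ * hf x v) • z) u)) (sg e τ 1 a w) := fun a w a1 a2 w1 w2 =>
    fix h (by simp [acq q, hf_smul_right, a1, a2]) (by simp [acq q, hf_smul_right, w1, w2])
  have c3 := c2 z x zu (ii z) (hf_symm ux) (hf_symm zx)
  have c4 := c2 z v zu (ii z) (hf_symm uv) (hf_symm zv)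
  have c5 := c2 u v (ii u) uz (hf_symm uv) (hf_symm zv)
  have h2 : sg e τ 1 u x * (sg e τ 1 z x * sg e τ 1 u v) * sg e τ 1 z v =
      sg e τ 1 u x * (e (qq ((δ * hf x v) • z) u) * sg e τ 1 u v * sg e τ 1 z x) * sg e τ 1 z v := by
    calc _ = sg e τ 1 u x * sg e τ 1 z x * (sg e τ 1 u v * sg e τ 1 z v) := by simp only [mul_assoc]
      _ = sg e τ 1 u x * sg e τ 1 u v * (e (Tc (δ * hf x v) u) * (sg e τ 1 z x * sg e τ 1 z v)) *
          e (Tc (δ * hf x v) z) * e (Tc (δ * hf x v) (u + z)) := by rw [h1]; simp only [mul_assoc]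
      _ = sg e τ 1 u x * (sg e τ 1 u v * sg e τ 1 z x * sg e τ 1 z v *
          e (qq ((δ * hf x v) • z) u)) := by
        rw [c1.eq, ← Tc_sum uz, map_mul, map_mul]; simp only [mul_assoc]
      _ = _ := by rw [← ((c5.mul_right c3).mul_right c4).eq]; simp only [mul_assoc]
  rw [mul_left_cancel (mul_right_cancel h2), mul_inv_cancel_right]

/-- The case `v ⊥ z` for `s x z`. -/
theorem cs1 (h : RA e τ 1) (b : RB e τ 1 δ) {u z x v : Vn n F} (uz : hf u z = 0) (ux : hf u x = 0)
    (zx : hf z x = 0) (uv : hf u v = 0) (zv : hf z v = 0) :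
    sg e τ 1 x z * sg e τ 1 u v * (sg e τ 1 x z)⁻¹ =
      e (qq ((δ * hf x v) • z) u) * sg e τ 1 u (v + hf v x • z) := by
  have h1 := h.toR0.sg_eqv 1 (qq x z) u v
  simp only [acq zx, ux, uz, hf_symm zv, zero_smul, add_zero] at h1
  have h2 := cs0 h b (v := v + hf v x • z) uz ux zx (by simp [hf_add_right, hf_smul_right, uv, uz])
    (by simp [hf_add_right, hf_smul_right, zv, ii])
  rw [hf_add_right, hf_smul_right, hf_symm zx, mul_zero, add_zero] at h2
  rw [← h2, ← h1, sym h zx]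
  group

theorem cS (h : RA e τ 1) (b : RB e τ 1 δ) (u x z v : Vn n F) (p : P3 u x z) (uv : hf u v = 0) :
    sg e τ 1 x z * sg e τ 1 u v * (sg e τ 1 x z)⁻¹ =
      e (qq (δ • (hf v z • x + hf v x • z)) u) * sg e τ 1 u (v + hf v x • z) := by
  by_cases hx : hf v x = 0
  · rw [cs0 h b p.uv p.uw p.vw uv (hf_symm hx), hx, zero_smul, add_zero, add_zero, smul_smul, hc z v]
  obtain ⟨a, ha⟩ : ∃ a, a * hf v x = hf v z := ⟨hf v z * (hf v x)⁻¹, inv_mul_cancel_right₀ hx _⟩
  have xz : hf x (z + a • x) = 0 := by simp [hf_add_right, hf_smul_right, p.vw, ii]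
  have h0 : sg e τ 1 x z = sg e τ 1 x (z + a • x) * e (Tc a x) := by
    have := h.sadd x (z + a • x) (a • x) ⟨xz, by simp [hf_smul_right, ii],
      by simp [hf_smul_right, hf_symm xz]⟩
    rwa [add_assoc, v_add_self, add_zero, h.shift, one_mul] at this
  have h1 := h.toR0.sg_eqv 1 (Tc a x) u v
  rw [acT, acT, p.uv, mul_zero, zero_smul, add_zero, ha] at h1
  have h2 := cs1 h b (u := u) (z := z + a • x) (x := x) (v := v + hf v z • x)
    (by simp [hf_add_right, hf_smul_right, p.uv, p.uw]) p.uv (hf_symm xz)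
    (by simp [hf_add_right, hf_smul_right, p.uv, uv]) (by
      simp only [hf_add_left, hf_add_right, hf_smul_left, hf_smul_right, ii, hf_symm p.vw, hc z v,
        hc x v, ha, mul_zero, add_zero, CharTwo.add_self_eq_zero])
  have e1 : (δ * hf x (v + hf v z • x)) • (z + a • x) = δ • (hf v z • x + hf v x • z) := by
    rw [hf_add_right, hf_smul_right, ii, mul_zero, add_zero, hc x v, ← ha]
    module
  have e2 : v + hf v z • x + hf (v + hf v z • x) x • (z + a • x) = v + hf v x • z := by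
    rw [hf_add_left, hf_smul_left, ii, mul_zero, add_zero, smul_add, smul_smul, mul_comm, ha,
      add_comm (hf v x • z), ← add_assoc, add_assoc v, v_add_self, add_zero]
  rw [e1, e2, ← h1] at h2
  rw [← h2, h0]
  group

theorem re (h : RA e τ 1) (b : RB e τ 1 δ) : RE e (sg e τ 1) δ where
  eqv g u v _ := h.toR0.sg_eqv 1 g u v
  mul _ _ _ := mul h b
  ssym _ _ := sym h
  sscal := h.sscal
  shift a u := by rw [h.shift, one_mul]
  cS := cS h b

theorem jobTE : JobTE.{u} := fun _ _ _ _ _ _ _ _ _ _ _ _ _ _ _ _ _ _ h _ b => re h b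

end H4.SP3TE
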