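import Cfsg.Agent.H67.SWDef

/-! STD-SP wreath endgame, slot FD: `U` is centrally indecomposable. -/

set_option autoImplicit false
set_option linter.unusedSectionVars false

namespace H4.SWFD

open Subgroup H67.SP H67.SW
open H67.UA hiding Par
open H64.SG (Cs Cs_le_Ns)

theorem alg {F : Type} [Field F] {a0 a1 b0 b1 x0 x1 : F} (h1 : a0 * b1 = b0 * a1)
    (h2 : x0 * b1 = b0 * x1) (hb : b0 ≠ 0 ∨ b1 ≠ 0) : a0 * x1 = x0 * a1 := by
  rcases hb with k | k <;> refine mul_left_cancel₀ k ?_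
  · linear_combination x0 * h1 - a0 * h2
  · linear_combination x1 * h1 - a1 * h2

variable {n : ℕ} {F : Type} [Field F] [StarRing F] [TrivialStar F] [CharP F 2] [Finite F]
  {g h : XU n F} {d d' : ℕ}

/-- `g + 1` -/
def NM (g : XU n F) : Matrix (Fin (n + 1)) (Fin (n + 1)) F := mt g + 1
/-- `g + 1` lowers the flag by `d` steps -/
def Lv (d : ℕ) (g : XU n F) : Prop := ∀ i j : Fin (n + 1), j.val < i.val + d → NM g i j = 0
/-- entries with natural number indices -/
def en (g : XU n F) (i j : ℕ) : F := NM g (Fin.ofNat _ i) (Fin.ofNat _ j)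

theorem val_of {i : ℕ} (h : i ≤ n) : (Fin.ofNat (n + 1) i).val = i := Nat.mod_eq_of_lt (by omega)

theorem NM_mul (g h : XU n F) : NM (g * h) = NM g * NM h + NM g + NM h := by
  simp only [NM, mt_mul, add_mul, mul_add, one_mul, mul_one]
  ext i j
  simp only [Matrix.add_apply]
  linear_combination (-mt g i j - mt h i j - (1 : Matrix _ _ F) i j) * two0 F

theorem comm_iff : g * h = h * g ↔ NM g * NM h = NM h * NM g := by
  refine ⟨fun e => ?_, fun e => X_ext (add_right_cancel (b := 1) ?_)⟩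
  · have := NM_mul g h
    rwa [e, NM_mul, add_right_comm, add_left_inj, add_left_inj, eq_comm] at this
  · change NM _ = NM _
    rw [NM_mul, NM_mul, e, add_right_comm]

theorem prod0 (a : Lv d g) (b : Lv d' h) (i j : Fin (n + 1)) (k : j.val < i.val + d + d') :
    (NM g * NM h) i j = 0 := by
  rw [Matrix.mul_apply]
  refine Finset.sum_eq_zero fun m _ => ?_
  by_cases e : m.val < i.val + d
  · rw [a i m e, zero_mul]
  · rw [b m j (by omega), mul_zero]

theorem prod1 (a : Lv d g) (b : Lv d' h) (i : ℕ) (k : i + d + d' ≤ n) :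
    (NM g * NM h) (Fin.ofNat _ i) (Fin.ofNat _ (i + d + d')) =
      en g i (i + d) * en h (i + d) (i + d + d') := by
  rw [Matrix.mul_apply]
  refine Finset.sum_eq_single (Fin.ofNat _ (i + d)) (fun m _ e => ?_) (by simp)
  have e' : m.val ≠ i + d := fun e' => e (Fin.ext (by rw [val_of (by omega), e']))
  by_cases e : m.val < i + d
  · rw [a _ m (by rwa [val_of (by omega)]), zero_mul]
  · rw [b m _ (by rw [val_of k]; omega), mul_zero]

theorem key (a : Lv d g) (b : Lv 1 h) (e : g * h = h * g) (i : ℕ) (k : i + d + 1 ≤ n) :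
    en g i (i + d) * en h (i + d) (i + d + 1) = en h i (i + 1) * en g (i + 1) (i + 1 + d) := by
  rw [← prod1 a b i k, ← prod1 b a i (by omega), comm_iff.1 e, add_right_comm i d]

theorem en_mul (a : Lv 1 g) (b : Lv 1 h) (i : ℕ) (k : i + 1 ≤ n) :
    en (g * h) i (i + 1) = en g i (i + 1) + en h i (i + 1) := by
  rw [en, NM_mul, Matrix.add_apply, Matrix.add_apply, prod0 a b _ _ (by
    rw [val_of k, val_of (by omega)]; omega), zero_add, en, en]

theorem Lv.succ (a : Lv d g) (b : ∀ i, i + d ≤ n → en g i (i + d) = 0) : Lv (d + 1) g :=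
  fun i j k => by
    by_cases e : j.val < i.val + d
    · exact a i j e
    have := b i.val (by omega)
    rwa [en, show Fin.ofNat (n + 1) i.val = i from Fin.ext (val_of (by omega)),
      show Fin.ofNat (n + 1) (i.val + d) = j from Fin.ext (by rw [val_of (by omega)]; omega)] at this

theorem NM_ev (g : XU n F) (i j : Fin (n + 1)) : NM g i j = (ac g (ev j) + ev j : Vn n F) i := by
  rw [NM, Matrix.add_apply, Pi.add_apply, ac_ev, ev_apply, Matrix.one_apply]

variable [FV n F]

theorem mem_U : g ∈ UU n F ↔ Lv 1 g := by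
  rw [FV.mem_U]
  refine ⟨fun a i j k => ?_, fun a j v hv i k => ?_⟩
  · rw [NM_ev]
    exact a j.val _ (fun m e => by rw [ev_apply, if_neg (by rintro rfl; omega)]) i (by omega)
  · have : ac g v + v = (NM g).mulVec v := by rw [NM, Matrix.add_mulVec, Matrix.one_mulVec, ac]
    rw [this, Matrix.mulVec, dotProduct]
    refine Finset.sum_eq_zero fun m _ => ?_
    by_cases e : m.val < i.val + 1
    · rw [a i m e, zero_mul]
    · rw [hv m (by omega), mul_zero]

theorem NM_EE (u x : Fin (n + 1)) (c c' : F) (p : x ≠ u.rev) (i j : Fin (n + 1)) :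
    NM (EE (ev u) (c • ev x) c') i j = (if i = u ∧ j = x.rev then c else 0) +
      (if i = x ∧ j = u.rev then c else 0) + if i = u ∧ j = u.rev then c' else 0 := by
  rw [NM_ev, ac_EE (FV.ok _ _ _ (by rw [hf_smul_left, hf_ev, if_neg (fun e => p (by simp [e])),
    mul_zero]))]
  simp only [Pi.add_apply, Pi.smul_apply, hf_smul_right, hf_ev, ev_apply, smul_eq_mul, star_trivial,
    @eq_comm _ x j.rev, @eq_comm _ u j.rev, Fin.rev_eq_iff, ite_and]
  split_ifs <;> first | ring1 | linear_combination two0 F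

theorem root (i : ℕ) (k : i + 1 ≤ n) : ∃ u ∈ UU n F, en u i (i + 1) = 1 ∧
    ∀ j, j + 1 ≤ n → j ≠ i → j + i + 1 ≠ n → en u j (j + 1) = 0 := by
  have v0 := val_of (show i ≤ n by omega)
  have v1 := val_of (show n - (i + 1) ≤ n by omega)
  have p : Fin.ofNat (n + 1) (n - (i + 1)) ≠ (Fin.ofNat (n + 1) i).rev := fun e => by
    have := congrArg Fin.val e
    rw [Fin.val_rev, v0, v1] at this; omega
  by_cases e : 2 * i + 1 = n
  · refine ⟨EE (ev (Fin.ofNat _ i)) ((0 : F) • ev (Fin.ofNat _ (n - (i + 1)))) 1,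
      mem_U.2 fun a b k' => ?_, ?_, fun j k1 k2 k3 => ?_⟩ <;>
      simp only [en, NM_EE _ _ _ _ p, ite_self, zero_add, Fin.ext_iff, Fin.val_rev, v0, true_and]
    · rw [if_neg (by omega)]
    · rw [val_of k, if_pos (by omega)]
    · rw [val_of (show j ≤ n by omega), if_neg (by omega)]
  · refine ⟨EE (ev (Fin.ofNat _ i)) ((1 : F) • ev (Fin.ofNat _ (n - (i + 1)))) 0,
      mem_U.2 fun a b k' => ?_, ?_, fun j k1 k2 k3 => ?_⟩ <;>
      simp only [en, NM_EE _ _ _ _ p, ite_self, add_zero, Fin.ext_iff, Fin.val_rev, v0, v1,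
        true_and]
    · rw [if_neg (by omega), if_neg (by omega), add_zero]
    · rw [val_of k, if_pos (by omega), if_neg (by omega), add_zero]
    · rw [val_of (show j ≤ n by omega), val_of k1, if_neg (by omega), if_neg (by omega), add_zero]

/-- the hypotheses in symmetric form -/
structure Hp (P Q : Subgroup (XU n F)) : Prop where
  p : ∀ p ∈ P, Lv 1 p
  q : ∀ q ∈ Q, Lv 1 q
  cm : ∀ p ∈ P, ∀ q ∈ Q, p * q = q * p
  dec : ∀ u ∈ UU n F, ∃ p ∈ P, ∃ q ∈ Q, ∀ i, i + 1 ≤ n →
    en u i (i + 1) = en p i (i + 1) + en q i (i + 1)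

/-- the `i`-th superdiagonal entry vanishes on `P` -/
def Zr (P : Subgroup (XU n F)) (i : ℕ) : Prop := ∀ p ∈ P, en p i (i + 1) = 0

variable {P Q : Subgroup (XU n F)} (H : Hp P Q)
include H

theorem Hp.symm : Hp Q P := ⟨H.q, H.p, fun q a p b => (H.cm p b q a).symm, fun u hu => by
  obtain ⟨p, a, q, b, e⟩ := H.dec u hu
  exact ⟨q, b, p, a, fun i k => by rw [e i k, add_comm]⟩⟩

theorem Hp.step (ho : Odd n) (i : ℕ) (k : i + 2 ≤ n) :
    Zr P i ∧ Zr P (i + 1) ∨ Zr Q i ∧ Zr Q (i + 1) := by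
  obtain ⟨m, hm⟩ := ho
  rw [or_iff_not_imp_right]
  intro hq
  obtain ⟨q, b, hb⟩ : ∃ q ∈ Q, en q i (i + 1) ≠ 0 ∨ en q (i + 1) (i + 1 + 1) ≠ 0 := by
    by_contra! k'
    exact hq ⟨fun q b => (k' q b).1, fun q b => (k' q b).2⟩
  have ky := fun p a q b => key (H.p p a) (H.q q b) (H.cm p a q b) i k
  have al : ∀ p ∈ P, ∀ u ∈ UU n F,
      en p i (i + 1) * en u (i + 1) (i + 1 + 1) = en u i (i + 1) * en p (i + 1) (i + 1 + 1) :=
    fun p a u hu => by
      obtain ⟨p', a', q', b', e⟩ := H.dec u hu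
      rw [e i (by omega), e (i + 1) k]
      linear_combination alg (ky p a q b) (ky p' a' q b) hb + ky p a q' b'
  obtain ⟨u, hu, e1, e2⟩ := root (F := F) i (show i + 1 ≤ n by omega)
  obtain ⟨u', hu', e1', e2'⟩ := root (F := F) (i + 1) k
  refine ⟨fun p a => ?_, fun p a => ?_⟩
  · simpa [e1', e2' i (by omega) (by omega) (by omega)] using al p a u' hu'
  · simpa [e1, e2 (i + 1) k (by omega) (by omega)] using (al p a u hu).symm

theorem Hp.all (ho : Odd n) (h0 : Zr P 0) (i : ℕ) (k : i + 1 ≤ n) : Zr P i := by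
  induction i with
  | zero => exact h0
  | succ i ih =>
    refine (H.step ho i k).elim (·.2) fun a => ?_
    obtain ⟨u, hu, e1, -⟩ := root (F := F) i (show i + 1 ≤ n by omega)
    obtain ⟨p, a', q, b', e⟩ := H.dec u hu
    rw [e i (by omega), ih (by omega) p a', a.1 q b', add_zero] at e1
    exact absurd e1 zero_ne_one

theorem Hp.cen (ho : Odd n) (h5 : 5 ≤ n) (h0 : Zr P 0) : P ≤ Cs (UU n F) := fun g hg => by
  have ky : ∀ d, Lv d g → ∀ u ∈ UU n F, ∀ i, i + d + 1 ≤ n →
      en g i (i + d) * en u (i + d) (i + d + 1) = en u i (i + 1) * en g (i + 1) (i + 1 + d) :=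
    fun d a u hu i k => by
      obtain ⟨p, a', q, b', e⟩ := H.dec u hu
      rw [e i (by omega), e _ k, H.all ho h0 i (by omega) p a', H.all ho h0 _ k p a', zero_add,
        zero_add]
      exact key a (H.q q b') (H.cm g hg q b') i k
  have lv : ∀ d, d + 2 ≤ n → Lv (d + 1) g := fun d k => by
    induction d with
    | zero => exact H.p g hg
    | succ d ih =>
      refine (ih (by omega)).succ fun i k' => ?_
      by_cases c : i + (d + 1) + 1 ≤ n ∧ 2 * i + (d + 1) + 1 ≠ n
      · obtain ⟨u, hu, e1, e2⟩ := root (F := F) (i + (d + 1)) c.1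
        simpa [e1, e2 i (by omega) (by omega) (by omega)] using ky _ (ih (by omega)) u hu i c.1
      · obtain ⟨j, rfl⟩ : ∃ j, i = j + 1 := ⟨i - 1, by omega⟩
        obtain ⟨u, hu, e1, e2⟩ := root (F := F) j (show j + 1 ≤ n by omega)
        simpa [e1, e2 (j + (d + 1)) (by omega) (by omega) (by omega)] using
          (ky _ (ih (by omega)) u hu j (by omega)).symm
  obtain ⟨d, rfl⟩ : ∃ d, n = d + 2 := ⟨n - 2, by omega⟩
  intro u hu
  have a := lv d le_rfl
  have b := mem_U.1 hu
  refine (comm_iff.2 (Matrix.ext fun i j => ?_)).symm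
  by_cases c : j.val < i.val + (d + 1) + 1
  · rw [prod0 a b i j c, prod0 b a i j (by omega)]
  have e1 : i = Fin.ofNat _ 0 := Fin.ext (by rw [val_of (by omega)]; omega)
  have e2 : j = Fin.ofNat _ (0 + (d + 1) + 1) := Fin.ext (by rw [val_of (by omega)]; omega)
  rw [e1, e2, prod1 a b 0 (by omega), ky _ a u hu 0 (by omega), ← prod1 b a 0 (by omega),
    add_right_comm 0 (d + 1)]

omit H in
theorem fd (ho : Odd n) (h5 : 5 ≤ n) : H86.WR.FD (UU n F) := fun P a Q b c e => by
  have H : Hp P Q := ⟨fun p k => mem_U.1 (a k), fun p k => mem_U.1 (b k),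
    fun p k q k' => (e k q k').symm, fun u hu => by
      have := c hu
      rw [← SetLike.mem_coe, coe_mul_of_left_le_normalizer_right _ _ (e.trans (Cs_le_Ns Q))] at this
      obtain ⟨p, k, q, k', rfl⟩ := this
      exact ⟨p, k, q, k', en_mul (mem_U.1 (a k)) (mem_U.1 (b k'))⟩⟩
  exact (H.step ho 0 (by omega)).imp (fun k => H.cen ho h5 k.1) fun k => H.symm.cen ho h5 k.1

end H4.SWFD

namespace H4.SWFD

theorem jobFD : H67.SW.JobFD := fun _ _ _ _ _ _ _ p _ _ _ => fd p.odd p.five

end H4.SWFD
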