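/- Row S3255, part B: normal subgroups of transitive linear groups of odd dimension. -/
import Cfsg.Agent.H4.TrA

set_option autoImplicit false

namespace H4.Tr

open Cfsg Subgroup MulAction H90
open H98 (IsSyl)
open scoped commutatorElement

/-- A transitive linear group of odd dimension in odd characteristic. -/
structure Lin0 (Γ V : Type*) [Group Γ] [AddCommGroup V] [DistribMulAction Γ V] (r e : ℕ) :
    Prop where
  prime : r.Prime
  ne : r ≠ 2
  eodd : Odd e
  card : Nat.card V = r ^ e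
  exp : ∀ v : V, r • v = 0
  tr : TransNZ Γ V

structure Lin (Γ V : Type*) [Group Γ] [AddCommGroup V] [DistribMulAction Γ V] (r e l : ℕ) :
    Prop extends Lin0 Γ V r e where
  ppd : Ppd r e l
  three : 3 ≤ e

variable {Γ V : Type*} [Group Γ] [AddCommGroup V] [DistribMulAction Γ V] {r e l : ℕ}

theorem eq_one_of_fix [FaithfulSMul Γ V] {g : Γ} (h : ∀ v : V, g • v = v) : g = 1 :=
  eq_of_smul_eq_smul (α := V) fun v => by rw [h, one_smul]

namespace Lin0

variable (h : Lin0 Γ V r e)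
include h

theorem odd : Odd (Nat.card V) := h.card ▸ (h.prime.odd_of_ne_two h.ne).pow

theorem nontrivial [Finite V] : Nontrivial V :=
  Finite.one_lt_card_iff_nontrivial.1 (h.card ▸ Nat.one_lt_pow h.eodd.pos.ne' h.prime.one_lt)

theorem det0 [Finite V] [Fact r.Prime] [Module (ZMod r) V] :
    (∀ t ∈ commutator Γ, ¬ ∀ v : V, t • v = -v) ∧
    ∀ (x y : Γ) (l : ℕ), Odd l → x ^ l = 1 → y * x * y⁻¹ = x⁻¹ → ∃ v : V, v ≠ 0 ∧ x • v = v := by
  have : Module.Finite (ZMod r) V := Module.Finite.of_finite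
  let ρ : Γ →* Module.End (ZMod r) V :=
    { toFun := fun g => (DistribSMul.toAddMonoidHom V g).toZModLinearMap r
      map_one' := LinearMap.ext fun v => one_smul Γ v
      map_mul' := fun g k => LinearMap.ext fun v => mul_smul g k v }
  have ho : Odd (Module.finrank (ZMod r) V) := by
    have h1 := Module.natCard_eq_pow_finrank (K := ZMod r) (V := V)
    rw [h.card, Nat.card_zmod] at h1
    exact Nat.pow_right_injective h.prime.two_le h1 ▸ h.eodd
  have h2 : (2 : ZMod r) ≠ 0 := fun e0 => h.ne ((Nat.prime_dvd_prime_iff_eq h.prime Nat.prime_two).1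
    ((ZMod.natCast_eq_zero_iff 2 r).1 (by exact_mod_cast e0)))
  exact ⟨fun t ht hv => det_neg_one ρ ho h2 ht (LinearMap.ext hv),
    fun x y l hl hx hy => fix_of_real ρ ho h2 hl hx hy⟩

theorem det [Finite V] : (∀ t ∈ commutator Γ, ¬ ∀ v : V, t • v = -v) ∧
    ∀ (x y : Γ) (l : ℕ), Odd l → x ^ l = 1 → y * x * y⁻¹ = x⁻¹ → ∃ v : V, v ≠ 0 ∧ x • v = v :=
  haveI := Fact.mk h.prime
  @det0 _ _ _ _ _ _ _ h _ _ (AddCommGroup.zmodModule h.exp)

end Lin0

namespace Lin

variable (h : Lin Γ V r e l)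
include h

theorem lt : e + 1 < l := by
  have h1 := h.ppd.lt h.prime.pos h.eodd.pos
  have h2 := h.three
  have h3 := h.ppd.prime.odd_of_ne_two (by omega)
  obtain ⟨m, hm⟩ := h.eodd
  obtain ⟨k, hk⟩ := h3
  omega

theorem lodd : Odd l := h.ppd.prime.odd_of_ne_two (by have := h.lt; have := h.three; omega)

variable [Finite V] [FaithfulSMul Γ V]

theorem dvd : l ∣ Nat.card Γ := by
  have := h.nontrivial
  exact (h.card ▸ h.ppd.dvd).trans h.tr.card_sub_one_dvd

theorem not_real {x y : Γ} (hx : orderOf x = l) : y * x * y⁻¹ ≠ x⁻¹ := fun e0 => by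
  obtain ⟨v, h0, hv⟩ := h.det.2 x y l h.lodd (hx ▸ pow_orderOf_eq_one x) e0
  exact h0 (h.ppd.fpf h.prime h.card hx hv)

theorem comm {x a b : Γ} (hx : orderOf x = l) (ha : a * x = x * a) (hb : b * x = x * b) :
    a * b = b * a := by
  have key : ∀ c : Γ, c * x = x * c → c ∈ centralizer (zpowers x : Set Γ) := by
    rintro c hc _ ⟨n, rfl⟩
    exact ((show Commute c x from hc).zpow_right n).eq.symm
  exact comm_of_irreducible (V := V) _ (h.ppd.irreducible h.prime h.card hx) (key a ha) (key b hb)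

theorem semireg {x g : Γ} (hx : orderOf x = l) (hg : g * x = x * g) {v : V} (h0 : v ≠ 0)
    (hv : g • v = v) : g = 1 := by
  let W : AddSubgroup V :=
    { carrier := {w | g • w = w}
      zero_mem' := smul_zero g
      add_mem' := fun {a b} ha hb => by
        change g • (a + b) = a + b
        rw [smul_add, ha, hb]
      neg_mem' := fun {a} ha => by
        change g • (-a) = -a
        rw [smul_neg, ha] }
  rcases h.ppd.irreducible h.prime h.card hx W (by
    rintro _ ⟨n, rfl⟩ w hw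
    change g • x ^ n • w = x ^ n • w
    rw [← mul_smul, ((show Commute g x from hg).zpow_right n).eq, mul_smul, hw]) with e0 | e0
  · exact absurd (AddSubgroup.mem_bot.1 (e0 ▸ (hv : v ∈ W))) h0
  · exact eq_one_of_fix (V := V) fun w => (e0 ▸ AddSubgroup.mem_top w : w ∈ W)

variable [Finite Γ]

/-- An element of order `l` normalises no `2`-subgroup of determinant one. -/
theorem two_eq_bot {x : Γ} (hx : orderOf x = l) {S : Subgroup Γ} (hS : IsPGroup 2 S)
    (hc : S ≤ commutator Γ) (hn : x ∈ normalizer (S : Set Γ)) : S = ⊥ := by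
  have h1 : ∀ g ∈ zpowers x, g ≠ 1 → S ⊓ centralizer {g} = ⊥ := fun g hg g1 => by
    have hg' : orderOf g = l := by
      have := orderOf_dvd_of_mem_zpowers hg
      rw [hx] at this
      exact ((Nat.dvd_prime h.ppd.prime).1 this).resolve_left fun e0 => g1 (orderOf_eq_one_iff.1 e0)
    by_contra hne
    have h2 : IsPGroup 2 (S ⊓ centralizer {g} : Subgroup Γ) := hS.to_le inf_le_left
    have := (nontrivial_iff_ne_bot _).2 hne
    obtain ⟨n, hn0, hn⟩ := h2.nontrivial_iff_card.1 this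
    obtain ⟨t, ht⟩ := exists_prime_orderOf_dvd_card' (G := (S ⊓ centralizer {g} : Subgroup Γ)) 2
      (hn ▸ dvd_pow_self 2 hn0.ne')
    have t1 : (t : Γ) ≠ 1 := fun e0 => by
      rw [show t = 1 from Subtype.ext e0, orderOf_one] at ht; omega
    have t2 : (t : Γ) * t = 1 := by
      have := pow_orderOf_eq_one t
      rw [ht, pow_two] at this
      exact congrArg Subtype.val this
    refine h.det.1 t (hc t.2.1) fun v => eq_neg_of_add_eq_zero_left ?_
    by_contra h0
    refine t1 (h.semireg hg' (mem_centralizer_singleton_iff.1 t.2.2) h0 ?_)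
    rw [smul_add, ← mul_smul, t2, one_smul, add_comm]
  let φ : Γ →* MulAut (Multiplicative V) :=
    { toFun := fun g => AddEquiv.toMultiplicative (DistribMulAction.toAddEquiv V g)
      map_one' := MulEquiv.ext fun v => one_smul Γ v.toAdd
      map_mul' := fun g k => MulEquiv.ext fun v => mul_smul g k v.toAdd }
  obtain ⟨n, hn'⟩ := IsPGroup.iff_card.1 hS
  refine eq_bot_iff.2 fun k hk => mem_bot.2 (eq_one_of_fix (V := V) fun v => ?_)
  exact H47.fixed_of_frob φ (K := S) (R := zpowers x) (zpowers_le.2 hn) h1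
    (fun w hw => h.ppd.fpf h.prime h.card hx (v := w.toAdd) (hw x (mem_zpowers x)))
    (by rw [hn']; exact (Nat.coprime_two_right.2 h.odd).pow_right n) (Multiplicative.ofAdd v) hk

theorem not_solvable {A M : Subgroup Γ} (hA : MaxAb A) (hM : MinNon A M) :
    ¬ Group.IsSolvable M := fun _ => by
  have := hA.normal
  have := hA.comm
  have := hM.normal
  have := h.nontrivial
  obtain ⟨E, _, _, _, ⟨D⟩⟩ := h.tr.exists_FD A
  obtain ⟨s, m, hs, hsM, hm, h1, h2, -⟩ := D.exists_data hA hM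
  have h3 := Module.natCard_eq_pow_finrank (K := E) (V := V)
  have h4 : s ≤ s ^ m := Nat.le_self_pow (by omega) s
  have h5 := hs.two_le
  obtain ⟨k, -, hk⟩ := (Nat.dvd_prime_pow h.prime).1
    (show Nat.card E ∣ r ^ e by rw [← h.card, h3]; exact dvd_pow_self _ (by omega))
  rw [h.card, hk, ← pow_mul] at h3
  have h6 : e = k * Module.finrank E V := Nat.pow_right_injective h.prime.two_le h3
  have h7 : Module.finrank E V ≤ e := Nat.le_of_dvd h.eodd.pos (h6 ▸ dvd_mul_left _ _)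
  have h8 := h.lt
  have := Fact.mk hs
  obtain ⟨n, hn⟩ := IsPGroup.iff_card.1 hsM
  have h9 := D.pow_dvd_of_ppd (hM.cl2 hA) h.prime hk (by omega) (h6 ▸ h.ppd) (by
    rw [hn]
    exact ((Nat.coprime_primes h.ppd.prime hs).2 (by omega)).pow_right n) (j := 1)
    (by rw [pow_one]; exact h.dvd)
  rw [pow_one, h1, show (s ^ m) ^ 2 - 1 = (s ^ m + 1) * (s ^ m - 1) from by
    rw [← Nat.sq_sub_sq, one_pow], h.ppd.prime.dvd_mul] at h9
  rcases h9 with h9 | h9 <;> have := Nat.le_of_dvd (by omega) h9 <;> omega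

theorem three_dvd {A M : Subgroup Γ} (hA : MaxAb A) (hM : MinNon A M) : 3 ∣ Nat.card M := by
  by_contra h3
  have := hA.normal
  have := hM.normal
  have hns := h.not_solvable hA hM
  have hcA : ∀ B : Subgroup Γ, B ≤ A → IsMulCommutative B := fun B hB =>
    ⟨⟨fun a b => Subtype.ext (Subtype.ext_iff.1
      (hA.comm.is_comm.comm (⟨a, hB a.2⟩ : A) ⟨b, hB b.2⟩) :)⟩⟩
  have hperf : ⁅M, M⁆ = M := by
    by_contra hne
    have h1 := hcA _ (hM.le_of_lt hA _ ((commutator_le_left M M).lt_of_ne hne))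
    refine hns (Group.isSolvable_of_ker_le_range (commutator M).subtype (Abelianization.of) (by simp)
      (hG' := ?_))
    have e : commutator M ≃* (⁅M, M⁆ : Subgroup Γ) :=
      ((commutator M).equivMapOfInjective M.subtype M.subtype_injective).trans
        (MulEquiv.subgroupCongr (map_subtype_commutator M))
    exact Group.isSolvable_of_comm fun a b => e.injective (by
      rw [map_mul, map_mul]; exact h1.is_comm.comm _ _)
  have hMc : M ≤ commutator Γ := hperf.ge.trans (commutator_mono le_top le_top)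
  have := Fact.mk h.ppd.prime
  obtain ⟨S, hS⟩ := H98.exists_isSyl 2 M
  have hS1 : S ≠ ⊥ := fun e0 => hns (H42.odd_order
    (Nat.not_even_iff_odd.1 fun he => hS.eq_bot_iff.1 e0 he.two_dvd))
  have hl : l ∣ Nat.card M := by
    have h1 := hS.frattini le_top (H := ⊤) (normalizer_eq_top M).ge
    rw [top_inf_eq] at h1
    have h2 := h.dvd
    rw [← M.index_mul_card, h.ppd.prime.dvd_mul] at h2
    refine h2.resolve_left fun h4 => hS1 ?_
    rw [← relIndex_top_right, ← h1, relIndex_sup_right] at h4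
    obtain ⟨x, hx⟩ := exists_prime_orderOf_dvd_card' l (h4.trans (relIndex_dvd_card _ _))
    exact h.two_eq_bot ((orderOf_coe x).trans hx) hS.isPGroup (hS.le.trans hMc) x.2
  obtain ⟨⟨x, hxM⟩, hx⟩ := exists_prime_orderOf_dvd_card' l hl
  replace hx : orderOf x = l := (orderOf_coe (⟨x, hxM⟩ : M)).trans hx
  have hno : ∀ z ∈ A, orderOf z ≠ l := fun z hz e0 => hM.nonab
    ⟨⟨fun a b => Subtype.ext (h.comm e0 (hM.le a.2 z hz).symm (hM.le b.2 z hz).symm)⟩⟩
  set π := QuotientGroup.mk' (M ⊓ A) with hπ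
  have hsurj : Function.Surjective π := QuotientGroup.mk'_surjective _
  have hker : π.ker = M ⊓ A := QuotientGroup.ker_mk' _
  have hnc : ¬ IsMulCommutative (M.map π) := fun hc => by
    have h1 : M.map π = ⊥ := by
      rw [← congrArg (map π) hperf, map_commutator, commutator_eq_bot_iff_le_centralizer]
      exact fun a ha b hb => congrArg Subtype.val (hc.is_comm.comm ⟨b, hb⟩ ⟨a, ha⟩)
    rw [Subgroup.map_eq_bot_iff, hker] at h1
    exact hM.nonab (hcA _ (h1.trans inf_le_right))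
  have hmin : H89.IsMinNormal (M.map π) := by
    refine ⟨Normal.map inferInstance π hsurj, fun e0 => hnc (e0 ▸ inferInstance), fun B hB hle => ?_⟩
    have h1 : B.comap π ≤ M := by
      refine (comap_mono hle).trans ?_
      rw [comap_map_eq, hker]
      exact sup_le le_rfl inf_le_left
    rcases h1.eq_or_lt with e0 | hlt
    · exact Or.inr ((map_comap_eq_self_of_surjective hsurj B).symm.trans (congrArg (map π) e0))
    · left
      rw [← map_comap_eq_self_of_surjective hsurj B, Subgroup.map_eq_bot_iff, hker]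
      exact le_inf h1 (hM.le_of_lt hA _ hlt)
  obtain ⟨_, ⟨y, hy, rfl⟩, hyx⟩ := minNormal_real hmin hnc
    (fun hd => h3 (hd.trans (card_map_dvd _ _))) (mem_map_of_mem π hxM) h.lodd
    (by rw [← map_pow, ← hx, pow_orderOf_eq_one, map_one])
  have hz : x * (y * x * y⁻¹) ∈ M ⊓ A := by
    rw [← hker, MonoidHom.mem_ker, map_mul, map_mul, map_mul, map_inv, hyx, mul_inv_cancel]
  have hc : Commute x⁻¹ (x * (y * x * y⁻¹)) := (hM.le (inv_mem hxM) _ hz.2).symm
  have hxl : x ^ l = 1 := hx ▸ pow_orderOf_eq_one x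
  have h5 : (x * (y * x * y⁻¹)) ^ l = 1 := by
    have := hc.mul_pow l
    rwa [inv_mul_cancel_left, conj_pow, inv_pow, hxl, mul_one, mul_inv_cancel, inv_one, one_mul,
      eq_comm] at this
  have h6 := ((Nat.dvd_prime h.ppd.prime).1 (orderOf_dvd_of_pow_eq_one h5)).resolve_right
    (hno _ hz.2)
  exact h.not_real hx (eq_inv_of_mul_eq_one_right (orderOf_eq_one_iff.1 h6))

theorem inf_le {A Y : Subgroup Γ} (hA : MaxAb A) [Y.Normal]
    (hY : ¬ 3 ∣ Nat.card Y ∨ Odd (Nat.card Y)) : Y ⊓ centralizer (A : Set Γ) ≤ A := by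
  have := hA.normal
  by_cases hc : IsMulCommutative (Y ⊓ centralizer (A : Set Γ) : Subgroup Γ)
  · exact hA.le_of_comm _ inf_le_right
  obtain ⟨M, hM, hmin⟩ := (wellFounded_lt (α := Subgroup Γ)).has_min
    {M | M.Normal ∧ M ≤ Y ⊓ centralizer (A : Set Γ) ∧ ¬ IsMulCommutative M}
    ⟨_, inferInstance, le_rfl, hc⟩
  have h1 : MinNon A M := ⟨hM.1, hM.2.1.trans inf_le_right, hM.2.2, fun B hB hle hn =>
    hle.eq_or_lt.resolve_right (hmin B ⟨hB, hle.trans hM.2.1, hn⟩)⟩
  have h2 := card_dvd_of_le (hM.2.1.trans inf_le_left)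
  rcases hY with hY | hY
  · exact absurd ((h.three_dvd hA h1).trans h2) hY
  · exact absurd (H42.odd_order (hY.of_dvd_nat h2)) (h.not_solvable hA h1)

end Lin

/-- The conclusion: an abelian semiregular subgroup that controls `Y`. -/
structure Ctl (V : Type*) [AddCommGroup V] [DistribMulAction Γ V] (Y A : Subgroup Γ) : Prop where
  le : A ≤ Y
  normal : A.Normal
  comm : ∀ a ∈ A, ∀ b ∈ A, a * b = b * a
  reg : ∀ a ∈ A, ∀ v : V, v ≠ 0 → a • v = v → a = 1
  sq : ∀ y ∈ Y, y * y ∈ A → y ∈ A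
  aut : ∀ α : Γ ≃* Γ, (∀ y ∈ Y, α y ∈ Y) → ∀ y ∈ Y, y⁻¹ * α y ∈ A

variable [Finite V] [FaithfulSMul Γ V] [Finite Γ]

theorem Lin0.ctl_of_comm (h : Lin0 Γ V r e) {Y : Subgroup Γ} [hY : Y.Normal]
    (hc : ∀ a ∈ Y, ∀ b ∈ Y, a * b = b * a) : Ctl V Y Y := by
  have := h.nontrivial
  have : IsMulCommutative Y := ⟨⟨fun a b => Subtype.ext (hc a a.2 b b.2)⟩⟩
  obtain ⟨E, _, _, _, ⟨D⟩⟩ := h.tr.exists_FD Y
  exact ⟨le_rfl, hY, hc, fun a ha v h0 hv => D.eq_one_of_smul ha h0 hv, fun y hy _ => hy,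
    fun α hα y hy => mul_mem (inv_mem hy) (hα y hy)⟩

theorem Lin.ctl (h : Lin Γ V r e l) {Y : Subgroup Γ} [Y.Normal]
    (hY : ¬ 3 ∣ Nat.card Y ∨ Odd (Nat.card Y)) : ∃ A, Ctl V Y A := by
  have := h.nontrivial
  obtain ⟨A, -, hA⟩ := exists_maxAb (⊥ : Subgroup Γ)
  have := hA.normal
  have := hA.comm
  have := Fact.mk h.ppd.prime
  have hle := h.inf_le hA hY
  obtain ⟨E, _, _, _, ⟨D⟩⟩ := h.tr.exists_FD A
  have h3 := Module.natCard_eq_pow_finrank (K := E) (V := V)
  obtain ⟨k, -, hk⟩ := (Nat.dvd_prime_pow h.prime).1 (show Nat.card E ∣ r ^ e by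
    rw [← h.card, h3]; exact dvd_pow_self _ Module.finrank_pos.ne')
  rw [h.card, hk, ← pow_mul] at h3
  have h6 : k ∣ e := ⟨_, Nat.pow_right_injective h.prime.two_le h3⟩
  have hC : ∀ x : Γ, orderOf x = l → x ∈ centralizer (A : Set Γ) := fun x hx =>
    D.mem_centralizer_of_coprime h.prime hk (hx ▸ (Nat.Prime.coprime_iff_not_dvd h.ppd.prime).2
      fun hd => by
        have := Nat.le_of_dvd h.eodd.pos (hd.trans h6)
        have := h.lt
        omega)
  have hidx : Odd (centralizer (A : Set Γ)).index :=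
    h.eodd.of_dvd_nat ((D.index_centralizer_dvd h.prime hk).trans h6)
  by_cases hl : l ∣ Nat.card Y
  swap
  · obtain ⟨x, hx⟩ := exists_prime_orderOf_dvd_card' l h.dvd
    have key : ∀ y ∈ Y, y * x = x * y := fun y hy => by
      have h1 : y * x * y⁻¹ * x⁻¹ ∈ Y ⊓ centralizer (A : Set Γ) :=
        ⟨by simpa [mul_assoc] using mul_mem hy (Normal.conj_mem inferInstance _ (inv_mem hy) x),
          Subgroup.mul_mem _ (Normal.conj_mem inferInstance _ (hC x hx) y) (inv_mem (hC x hx))⟩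
      have hc : Commute (y * x * y⁻¹ * x⁻¹) x := hC x hx _ (hle h1)
      have hxl : x ^ l = 1 := hx ▸ pow_orderOf_eq_one x
      have h2 := hc.mul_pow l
      rw [inv_mul_cancel_right, conj_pow, hxl, mul_one, mul_inv_cancel, mul_one, eq_comm] at h2
      have h4 := ((Nat.dvd_prime h.ppd.prime).1 (orderOf_dvd_of_pow_eq_one h2)).resolve_right
        fun e0 => hl (e0 ▸ Y.orderOf_dvd_natCard h1.1)
      rw [orderOf_eq_one_iff, mul_inv_eq_one, mul_inv_eq_iff_eq_mul] at h4
      exact h4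
    exact ⟨Y, h.ctl_of_comm fun a ha b hb => h.comm hx (key a ha) (key b hb)⟩
  obtain ⟨⟨x, hxY⟩, hx⟩ := exists_prime_orderOf_dvd_card' l hl
  replace hx : orderOf x = l := (orderOf_coe (⟨x, hxY⟩ : Y)).trans hx
  have hxA := hle ⟨hxY, hC x hx⟩
  have huniq : ∀ x' ∈ Y, orderOf x' = l → ∃ i : ℕ, x ^ i = x' := fun x' hx' ho => by
    have h1 := hle ⟨hx', hC x' ho⟩
    have h2 : ∀ z : A, orderOf (z : Γ) = l → orderOf (D.ι z) = l := fun z hz => by
      rw [orderOf_injective _ D.ι_injective, ← orderOf_coe, hz]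
    have h4 : IsPrimitiveRoot (D.ι ⟨x, hxA⟩) l := h2 ⟨x, hxA⟩ hx ▸ IsPrimitiveRoot.orderOf _
    have : NeZero l := ⟨h.ppd.prime.ne_zero⟩
    obtain ⟨i, -, hi⟩ := h4.eq_pow_of_mem_rootsOfUnity (ξ := D.ι ⟨x', h1⟩)
      ((mem_rootsOfUnity _ _).2 (h2 ⟨x', h1⟩ ho ▸ pow_orderOf_eq_one _))
    exact ⟨i, congrArg Subtype.val (D.ι_injective ((map_pow _ _ _).trans hi))⟩
  have hAc : ∀ a ∈ A, ∀ b ∈ A, a * b = b * a := fun a ha b hb =>
    congrArg Subtype.val (hA.comm.is_comm.comm ⟨a, ha⟩ ⟨b, hb⟩)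
  refine ⟨Y ⊓ A, inf_le_left, inferInstance, fun a ha b hb => hAc a ha.2 b hb.2,
    fun a ha v h0 hv => D.eq_one_of_smul ha.2 h0 hv, fun y hy h2 => ⟨hy, hle ⟨hy, ?_⟩⟩,
    fun α hα y hy => ?_⟩
  · obtain ⟨m, hm⟩ := hidx
    have h4 := (centralizer (A : Set Γ)).pow_index_mem y
    rw [hm, pow_succ, pow_mul, pow_two] at h4
    have h5 : y * y ∈ centralizer (A : Set Γ) := fun a ha => hAc a ha _ h2.2
    exact (Subgroup.mul_mem_cancel_left _ (pow_mem h5 m)).1 h4
  · have hY' := mul_mem (inv_mem hy) (hα y hy)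
    have ho : orderOf (α x) = l := (α.orderOf_eq x).trans hx
    obtain ⟨i, hi⟩ := huniq _ (Normal.conj_mem inferInstance x hxY y)
      (((MulAut.conj y).orderOf_eq x).trans hx)
    obtain ⟨j, hj⟩ := huniq _ (hα x hxY) ho
    have e1 : α y * α x * (α y)⁻¹ = y * α x * y⁻¹ := by
      rw [← map_inv, ← map_mul, ← map_mul, ← hi, map_pow, ← hj, ← conj_pow, ← hi, ← pow_mul,
        ← pow_mul, mul_comm]
    have e2 : y⁻¹ * α y * α x = α x * (y⁻¹ * α y) := by
      calc y⁻¹ * α y * α x = y⁻¹ * (α y * α x * (α y)⁻¹) * α y := by group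
        _ = _ := by rw [e1]; group
    exact ⟨hY', hle ⟨hY', fun a ha => h.comm ho (hC _ ho a ha) e2⟩⟩

theorem Lin0.ctl (h : Lin0 Γ V r e) {Y : Subgroup Γ} [Y.Normal]
    (hY : ¬ 3 ∣ Nat.card Y ∨ Odd (Nat.card Y)) : ∃ A, Ctl V Y A := by
  by_cases h1 : e = 1
  · have := Fact.mk h.prime
    refine ⟨Y, h.ctl_of_comm fun a _ b _ => comm_of_irreducible (V := V) ∅ (fun W _ => ?_)
      (fun _ h => h.elim) fun _ h => h.elim⟩
    have h2 := W.card_addSubgroup_dvd_card
    rw [h.card, h1, pow_one, Nat.dvd_prime h.prime] at h2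
    exact h2.imp AddSubgroup.card_eq_one.1 fun e0 =>
      AddSubgroup.eq_top_of_card_eq _ (by rw [e0, h.card, h1, pow_one])
  · have h3 : 3 ≤ e := by obtain ⟨m, hm⟩ := h.eodd; omega
    obtain ⟨l, hl⟩ := H27.zsigmondy r e h.prime.one_lt (by omega) (fun h4 => h.ne h4.1)
      (fun h4 => by omega)
    exact Lin.ctl ⟨h, ⟨hl.1, hl.2.1, hl.2.2⟩, h3⟩ hY

end H4.Tr
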