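/- Row S3255, part C: a simple doubly transitive group with affine point stabiliser. -/
import Cfsg.Agent.H89.KEta
import Cfsg.Agent.H89.KZass

set_option autoImplicit false

namespace H4.Tr

open Cfsg Subgroup MulAction H89.K

theorem exists_char {H : Type*} [Group H] [Finite H] [Group.IsSolvable H] (L : Subgroup H)
    [L.Normal] (hL : L ≠ ⊤) : ∃ η : H →* ℂˣ, η ≠ 1 ∧ ∀ x ∈ L, η x = 1 := by
  have : Nontrivial (H ⧸ L) := QuotientGroup.nontrivial_iff.2 hL
  have h1 := Group.IsSolvable.commutator_lt_top_of_nontrivial (H ⧸ L)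
  obtain ⟨q, -, hq⟩ := SetLike.exists_of_lt h1
  have h2 : Abelianization.of q ≠ 1 := fun e => hq (Abelianization.ker_of (H ⧸ L) ▸ e)
  have : NeZero ((Monoid.exponent (Abelianization (H ⧸ L)) : ℕ) : ℂ) :=
    ⟨by exact_mod_cast Monoid.exponent_ne_zero_of_finite⟩
  obtain ⟨φ, hφ⟩ := CommGroup.exists_apply_ne_one_of_hasEnoughRootsOfUnity _ ℂ h2
  obtain ⟨x, rfl⟩ := QuotientGroup.mk_surjective q
  refine ⟨(φ.comp Abelianization.of).comp (QuotientGroup.mk' L),
    fun e => hφ (DFunLike.congr_fun e x), fun y hy => ?_⟩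
  rw [MonoidHom.comp_apply, QuotientGroup.mk'_apply, (QuotientGroup.eq_one_iff y).2 hy, map_one]

/-- The data of the last step. -/
structure Fn (S : Type*) {Ω : Type*} [Group S] [MulAction S Ω] (a b : Ω) (V A : Subgroup S) :
    Prop extends T2 S Ω where
  ne : a ≠ b
  even : Even (Nat.card Ω)
  pp : IsPrimePow (Nat.card Ω - 1)
  vfix : ∀ v ∈ V, v • a = a
  vconj : ∀ g : S, g • a = a → ∀ v ∈ V, g * v * g⁻¹ ∈ V
  vcomm : ∀ v ∈ V, ∀ w ∈ V, v * w = w * v
  vtr : ∀ c, c ≠ a → ∃ v ∈ V, v • b = c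
  vreg : ∀ v ∈ V, v • b = b → v = 1
  le : A ≤ St S a b
  conj : ∀ y ∈ St S a b, ∀ x ∈ A, y * x * y⁻¹ ∈ A
  comm : ∀ x ∈ A, ∀ y ∈ A, x * y = y * x
  reg : ∀ x ∈ A, ∀ c, c ≠ a → c ≠ b → x • c = c → x = 1
  sq : ∀ y ∈ St S a b, y * y ∈ A → y ∈ A
  aut : ∀ s : S, s • a = b → s • b = a → ∀ y ∈ St S a b, y⁻¹ * (s * y * s⁻¹) ∈ A

namespace Fn

variable {S Ω : Type*} [Group S] [MulAction S Ω] {a b : Ω} {V A : Subgroup S} (h : Fn S a b V A)
include h

theorem mem_of_inv {s y : S} (ha : s • a = b) (hb : s • b = a) (hy : y ∈ St S a b)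
    (e : s * y * s⁻¹ = y⁻¹) : y ∈ A :=
  inv_mem_iff.1 (h.sq _ (inv_mem hy) (by simpa only [e] using h.aut s ha hb y hy))

theorem inverts {z v : S} (hz : z ∈ St S a b) (z1 : z ≠ 1) (zz : z * z = 1) (hv : v ∈ V) :
    z * v * z⁻¹ = v⁻¹ := by
  have h1 := h.vconj z hz.1 v hv
  have h2 := mul_mem hv h1
  refine eq_inv_of_mul_eq_one_right (by_contra fun hw => z1 ?_)
  refine h.reg z (h.sq z hz (zz ▸ one_mem A)) ((v * (z * v * z⁻¹)) • b)
    (fun e => h.ne ((smul_left_cancel_iff _).1 ((h.vfix _ h2).trans e.symm)))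
    (fun e => hw (h.vreg _ h2 e)) (fix_of_comm ?_ hz.2)
  calc v * (z * v * z⁻¹) * z = v * z * v := by group
    _ = z * z * v * z⁻¹ * v := by rw [zz, one_mul, inv_eq_of_mul_eq_one_right zz]
    _ = _ := by rw [h.vcomm v hv _ h1]; group

theorem uniq {z w : S} (hz : z ∈ St S a b) (z1 : z ≠ 1) (zz : z * z = 1) (hw : w ∈ St S a b)
    (w1 : w ≠ 1) (ww : w * w = 1) : w = z := by
  have h1 : z * w = 1 := h.faith _ fun c => by
    by_cases hc : c = a
    · exact hc ▸ (mul_mem hz hw).1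
    obtain ⟨v, hv, rfl⟩ := h.vtr c hc
    refine fix_of_comm (mul_inv_eq_iff_eq_mul.1 ?_).symm (mul_mem hz hw).2
    calc z * w * v * (z * w)⁻¹ = z * (w * v * w⁻¹) * z⁻¹ := by group
      _ = v := by rw [h.inverts hw w1 ww hv, h.inverts hz z1 zz (inv_mem hv), inv_inv]
  exact mul_left_cancel (h1.trans zz.symm)

variable [Finite S]

theorem of_even (he : ¬ Odd (Nat.card (St S a b))) : Nat.card Ω ≤ 2 * Nat.card A + 2 := by
  have := h.toT2.finite
  obtain ⟨⟨z, hz⟩, ho⟩ := exists_prime_orderOf_dvd_card' (G := St S a b) 2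
    (Nat.not_odd_iff_even.1 he).two_dvd
  replace ho : orderOf z = 2 := (orderOf_coe (⟨z, hz⟩ : St S a b)).trans ho
  have z1 : z ≠ 1 := fun e => by rw [e, orderOf_one] at ho; omega
  have zz : z * z = 1 := by rw [← pow_two, ← ho, pow_orderOf_eq_one]
  have hsq : ∀ x, IsConj z x → x ≠ 1 ∧ x * x = 1 := fun x hx => by
    obtain ⟨g, rfl⟩ := isConj_iff.1 hx
    exact ⟨fun e => z1 (by simpa using e), by rw [conj_mul, zz, mul_one, mul_inv_cancel]⟩
  have hK : ∀ x ∈ {x | IsConj z x}, ∀ g : S, g * x * g⁻¹ ∈ {x | IsConj z x} := fun x hx g =>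
    IsConj.trans hx (isConj_iff.2 ⟨g, rfl⟩)
  have hi : ∀ x ∈ {x | IsConj z x}, Nat.card {c : Ω // x • c = c} = 2 := fun x hx => by
    rw [card_fix_of_isConj hx, Nat.card_eq_two_iff]
    refine ⟨⟨a, hz.1⟩, ⟨b, hz.2⟩, fun e => h.ne (congrArg Subtype.val e),
      Set.eq_univ_of_forall fun c => ?_⟩
    by_contra hc
    exact z1 (h.reg z (h.sq z hz (zz ▸ one_mem A)) c (fun e => hc (Or.inl (Subtype.ext e)))
      (fun e => hc (Or.inr (Subtype.ext e))) c.2)
  have h1 := h.toT2.count_two _ hK hi h.ne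
  have h2 := h.toT2.count_move _ hK hi h.ne
  rw [show {x | x ∈ {x | IsConj z x} ∧ x ∈ St S a b} = {z} from Set.ext fun x =>
    ⟨fun hx => h.uniq hz z1 zz hx.2 (hsq x hx.1).1 (hsq x hx.1).2,
      fun hx => by rw [hx]; exact ⟨IsConj.refl _, hz⟩⟩, Set.ncard_singleton] at h1
  set B := {x | x ∈ {x | IsConj z x} ∧ x • a = b}
  have h3 : B.ncard ≤ Nat.card A := by
    rcases B.eq_empty_or_nonempty with e | ⟨s, hs⟩
    · rw [e, Set.ncard_empty]; exact Nat.zero_le _
    have hsw : ∀ x ∈ B, x • b = a := fun x hx => by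
      rw [← hx.2, ← mul_smul, (hsq x hx.1).2, one_smul]
    refine (Set.ncard_le_ncard_of_injOn (t := (A : Set S)) (fun x => s * x) (fun x hx => ?_)
      fun x _ y _ e => mul_left_cancel e).trans (Nat.card_coe_set_eq _).ge
    refine h.mem_of_inv hs.2 (hsw s hs) ⟨?_, ?_⟩ ?_
    · change (s * x) • a = a
      rw [mul_smul, hx.2, hsw s hs]
    · change (s * x) • b = b
      rw [mul_smul, hsw x hx, hs.2]
    · rw [← mul_assoc, (hsq s hs.1).2, one_mul, mul_inv_rev,
        inv_eq_of_mul_eq_one_right (hsq x hx.1).2]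
  have h4 := h.toT2.two_lt
  have h5 : Nat.card Ω * (Nat.card Ω - 1) * (Nat.card Ω - 2) =
      Nat.card Ω * (Nat.card Ω - 1) * (2 * B.ncard) := by
    rw [mul_left_comm _ 2, ← h2, ← mul_one (Nat.card Ω * (Nat.card Ω - 1)), ← h1]; ring
  have := Nat.eq_of_mul_eq_mul_left (Nat.mul_pos (by omega) (by omega)) h5
  omega

theorem of_odd [IsSimpleGroup S] (ho : Odd (Nat.card (St S a b))) :
    Nat.card Ω ≤ 2 * Nat.card A + 2 ∧ ∃ (F : Type) (_ : Field F) (_ : Fintype F),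
      Fintype.card F + 1 = Nat.card Ω ∧ Nonempty (S ≃* PSL2 F) := by
  have := h.toT2.finite
  have h4 := h.toT2.two_lt
  have hna := not_aff_of_simple h.toT2
  have hso : ∀ x : Ω, Odd (Nat.card (stabilizer S x)) := fun x => by
    have h1 := (h.toT2.card_eq_stab x).symm.trans (h.toT2.card_eq_stab a)
    rw [Nat.eq_of_mul_eq_mul_left (by omega) h1, h.toT2.card_stab h.ne]
    exact (Nat.Even.sub_odd (by omega) h.even odd_one).mul ho
  obtain ⟨x, hx⟩ := exists_prime_orderOf_dvd_card' (G := S) 2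
    (h.toT2.card_eq_stab a ▸ h.even.two_dvd.mul_right _)
  obtain ⟨g, sa, sb⟩ := h.toT2.exists_conj_swap (x := x)
    (fun e => by rw [e, orderOf_one] at hx; omega)
    (by rw [← pow_two, ← hx, pow_orderOf_eq_one]) h.ne
  have so : orderOf (g * x * g⁻¹) = 2 := ((MulAut.conj g).orderOf_eq x).trans hx
  generalize g * x * g⁻¹ = s at sa sb so
  have ss : s * s = 1 := by rw [← pow_two, ← so, pow_orderOf_eq_one]
  have si : s⁻¹ = s := inv_eq_of_mul_eq_one_right ss
  let K : Subgroup S :=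
    { carrier := {y | y ∈ St S a b ∧ s * y * s⁻¹ = y⁻¹}
      one_mem' := ⟨one_mem _, by simp⟩
      mul_mem' := fun {y z} hy hz => ⟨mul_mem hy.1 hz.1, by
        rw [← conj_mul, hy.2, hz.2, ← mul_inv_rev,
          h.comm _ (h.mem_of_inv sa sb hy.1 hy.2) _ (h.mem_of_inv sa sb hz.1 hz.2)]⟩
      inv_mem' := fun {y} hy => ⟨inv_mem hy.1, by rw [← conj_inv, hy.2]⟩ }
  have hKA : K ≤ A := fun y hy => h.mem_of_inv sa sb hy.1 hy.2
  have hKc : ∀ y ∈ St S a b, ∀ k ∈ K, y * k * y⁻¹ ∈ K := fun y hy k hk => by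
    refine ⟨mul_mem (mul_mem hy hk.1) (inv_mem hy), ?_⟩
    have h1 := h.comm _ (h.aut s sa sb y hy) _ (inv_mem (hKA hk))
    calc s * (y * k * y⁻¹) * s⁻¹
        = y * (y⁻¹ * (s * y * s⁻¹) * (s * k * s⁻¹)) * (s * y * s⁻¹)⁻¹ := by group
      _ = _ := by rw [hk.2, h1]; group
  have hn : stabilizer S a ≤ normalizer ((V ⊔ K : Subgroup S) : Set S) := fun g hg => by
    obtain ⟨v, hv, e⟩ := h.vtr (g • b) fun e => h.ne ((smul_left_cancel_iff g).1 (hg.trans e.symm))
    have hy : v⁻¹ * g ∈ St S a b :=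
      ⟨(stabilizer S a).mul_mem ((stabilizer S a).inv_mem (h.vfix v hv)) hg, by
        change (v⁻¹ * g) • b = b
        rw [mul_smul, ← e, inv_smul_smul]⟩
    rw [← mul_inv_cancel_left v g]
    refine mul_mem (le_normalizer (mem_sup_left hv))
      (normalizer_inf_normalizer_le_normalizer_sup V K ⟨?_, ?_⟩)
    · exact mem_normalizer_fintype (h.vconj _ hy.1)
    · exact mem_normalizer_fintype (hKc _ hy)
  have hle : V ⊔ K ≤ stabilizer S a := sup_le h.vfix fun k hk => hk.1.1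
  have : ((V ⊔ K).subgroupOf (stabilizer S a)).Normal := (normal_subgroupOf_iff_le_normalizer hle).2 hn
  have hYK : St S a b ≤ K := by
    by_cases hL : (V ⊔ K).subgroupOf (stabilizer S a) = ⊤
    · intro y hy
      have h1 : y ∈ ((V ⊔ K : Subgroup S) : Set S) := subgroupOf_eq_top.1 hL hy.1
      rw [coe_mul_of_right_le_normalizer_left V K fun k hk =>
        mem_normalizer_fintype (h.vconj _ hk.1.1)] at h1
      obtain ⟨v, hv, k, hk, rfl⟩ := h1
      have h2 : v = 1 := h.vreg v hv ((mul_mem_cancel_right hk.1).1 hy).2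
      simpa [h2] using hk
    exfalso
    have := H42.odd_order (hso a)
    obtain ⟨η, hη, h1⟩ := exists_char _ hL
    obtain ⟨ψ, hψ⟩ := jobEta S Ω a b s η h.toT2 ss sa
      (fun c e => (hso c).not_two_dvd_nat (so ▸ (stabilizer S c).orderOf_dvd_natCard e))
      (fun y k hy e => by
        have h2 : y⁻¹ * k ∈ (V ⊔ K).subgroupOf (stabilizer S a) := by
          refine mem_subgroupOf.2 (mem_sup_right ⟨h.le ?_, ?_⟩)
          · simpa only [coe_mul, coe_inv, e, si] using h.aut s sa sb y ⟨y.2, hy⟩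
          · rw [coe_mul, coe_inv, e, si]
            calc s * ((y : S)⁻¹ * (s * y * s)) * s = s * (y : S)⁻¹ * s * y * (s * s) := by group
              _ = _ := by rw [ss, mul_inv_rev, mul_inv_rev, mul_inv_rev, si]; group
        have h3 := h1 _ h2
        rw [map_mul, map_inv, inv_mul_eq_one] at h3
        exact h3.symm)
      (fun k hk e => h1 k (mem_subgroupOf.2 (mem_sup_right ⟨⟨k.2, hk⟩, by
        obtain ⟨c, hc⟩ := isConj_iff.1 e
        have h2 : s * k * (s * k) = 1 := by rw [← hc, conj_mul, ss, mul_one, mul_inv_cancel]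
        rw [si]
        exact eq_inv_of_mul_eq_one_left (by rw [← h2, mul_assoc])⟩))) (Or.inl h.pp)
    rcases ψ.normal_ker.eq_bot_or_eq_top with e | e
    · refine hna (h.toT2.aff_of_comm ⊤ top_ne_bot fun x _ y _ => ψ.ker_eq_bot_iff.1 e ?_)
      rw [map_mul, map_mul, mul_comm]
    · exact hη (MonoidHom.ext fun y => (hψ y).symm.trans (e ▸ mem_top (y : S) : (y : S) ∈ ψ.ker))
  have hz := (h.toT2.aff_or_zass fun g x y z h1 h2 h3 e1 e2 e3 => by
    obtain ⟨k, k1, k2⟩ := h.two h1 h.ne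
    have h5 := conj_mem_St k (show g ∈ St S x y from ⟨e1, e2⟩)
    rw [k1, k2] at h5
    simpa using h.reg _ (hKA (hYK h5)) (k • z)
      (fun e => h3 ((smul_left_cancel_iff k).1 (k1.trans e.symm)))
      (fun e => h2 ((smul_left_cancel_iff k).1 (k2.trans e.symm))) (conj_smul_eq.2 e3)).resolve_left
    hna
  obtain ⟨-, h1, -, -, h2⟩ := jobZF1 S Ω a b hz h.even h.ne ho
  have := card_le_of_le (hYK.trans hKA)
  exact ⟨by omega, h2⟩

end Fn

end H4.Tr
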