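/- Row S3255, part D: simple normal subgroups of triply transitive groups of even degree. -/
import Cfsg.Agent.H4.TrB
import Cfsg.Agent.H4.TrC
import Cfsg.Agent.H90.Trans

set_option autoImplicit false

namespace H4.Tr

open Cfsg Subgroup MulAction H89.K H90

variable {G Ω : Type*} [Group G] [MulAction G Ω]

/-- `x` and `y` are conjugate under the stabiliser of `a` and `b` in `N`. -/
def Cj (N : Subgroup G) (a b x y : Ω) : Prop := ∃ g ∈ N, g • a = a ∧ g • b = b ∧ g • x = y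

/-- At most two orbits of the two-point stabiliser. -/
def P2 (N : Subgroup G) (a b : Ω) : Prop :=
  ∀ c d e : Ω, c ≠ a → c ≠ b → d ≠ a → d ≠ b → e ≠ a → e ≠ b →
    Cj N a b c d ∨ Cj N a b c e ∨ Cj N a b d e

theorem Cj.mono {N M : Subgroup G} (hle : N ≤ M) {a b x y : Ω} (h : Cj N a b x y) : Cj M a b x y :=
  let ⟨g, h1, h2⟩ := h; ⟨g, hle h1, h2⟩

theorem P2.mono {N M : Subgroup G} (hle : N ≤ M) {a b : Ω} (h : P2 N a b) : P2 M a b :=
  fun c d e h1 h2 h3 h4 h5 h6 =>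
    (h c d e h1 h2 h3 h4 h5 h6).imp (Cj.mono hle) (Or.imp (Cj.mono hle) (Cj.mono hle))

theorem Cj.symm {N : Subgroup G} {a b x y : Ω} (h : Cj N a b x y) : Cj N a b y x :=
  let ⟨g, h1, h2, h3, h4⟩ := h
  ⟨g⁻¹, inv_mem h1, inv_smul_eq_iff.2 h2.symm, inv_smul_eq_iff.2 h3.symm, inv_smul_eq_iff.2 h4.symm⟩

theorem Cj.trans {N : Subgroup G} {a b x y z : Ω} (h : Cj N a b x y) (h' : Cj N a b y z) :
    Cj N a b x z :=
  let ⟨g, h1, h2, h3, h4⟩ := h
  let ⟨k, k1, k2, k3, k4⟩ := h'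
  ⟨k * g, mul_mem k1 h1, by rw [mul_smul, h2, k2], by rw [mul_smul, h3, k3],
    by rw [mul_smul, h4, k4]⟩

theorem Cj.ne {N : Subgroup G} {a b x y : Ω} (h : Cj N a b x y) (ha : x ≠ a) (hb : x ≠ b) :
    y ≠ a ∧ y ≠ b :=
  let ⟨g, _, h2, h3, h4⟩ := h
  ⟨fun e => ha ((smul_left_cancel_iff g).1 (h4.trans (e.trans h2.symm))),
    fun e => hb ((smul_left_cancel_iff g).1 (h4.trans (e.trans h3.symm)))⟩

theorem Cj.of_sub {N : Subgroup G} {A : Subgroup N} {a b x y : Ω} (h : Cj A a b x y) :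
    Cj N a b x y := let ⟨g, _, h2⟩ := h; ⟨g, g.2, h2⟩

theorem ncard_compl_pair [Finite Ω] {a b : Ω} (hab : a ≠ b) :
    ({a, b}ᶜ : Set Ω).ncard + 2 = Nat.card Ω := by
  rw [← Set.ncard_pair hab, add_comm, Set.ncard_add_ncard_compl]

theorem p2_of_semireg [Finite G] [Finite Ω] {A : Subgroup G} {a b : Ω} (hab : a ≠ b)
    (hA : A ≤ St G a b) (hr : ∀ x ∈ A, ∀ c, c ≠ a → c ≠ b → x • c = c → x = 1)
    (hn : Nat.card Ω ≤ 2 * Nat.card A + 2) : P2 A a b := fun c d e c1 c2 d1 d2 e1 e2 => by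
  by_contra hc
  simp only [not_or] at hc
  have h1 : ∀ x, x ≠ a → x ≠ b → (orbit A x).ncard = Nat.card A := fun x x1 x2 => by
    rw [← index_stabilizer, show stabilizer A x = ⊥ from
      eq_bot_iff.2 fun g hg => Subtype.ext (hr g g.2 x x1 x2 hg), index_bot]
  have h2 : ∀ x y : Ω, y ∈ orbit A x → Cj A a b x y := fun x y ⟨g, hg⟩ =>
    ⟨g, g.2, (hA g.2).1, (hA g.2).2, hg⟩
  have h3 : ∀ x y : Ω, ¬ Cj A a b x y → Disjoint (orbit A x) (orbit A y) := fun x y hxy =>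
    Set.disjoint_left.2 fun z z1 z2 => hxy ((h2 x z z1).trans (h2 y z z2).symm)
  have h4 : ∀ x, x ≠ a → x ≠ b → orbit A x ⊆ {a, b}ᶜ := fun x x1 x2 y hy =>
    not_or.2 ((h2 x y hy).ne x1 x2)
  have h5 := Set.ncard_le_ncard
    (Set.union_subset (Set.union_subset (h4 c c1 c2) (h4 d d1 d2)) (h4 e e1 e2))
  rw [Set.ncard_union_eq (Set.disjoint_union_left.2 ⟨h3 _ _ hc.2.1, h3 _ _ hc.2.2⟩),
    Set.ncard_union_eq (h3 _ _ hc.1), h1 c c1 c2, h1 d d1 d2, h1 e e1 e2] at h5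
  have := ncard_compl_pair hab
  have := Nat.card_pos (α := A)
  omega

/-- An elementary abelian normal subgroup of the point stabiliser, regular on the other points. -/
structure Af (a b : Ω) (V : Subgroup G) (r e : ℕ) : Prop extends T2 G Ω where
  ne : a ≠ b
  three : ∀ c d, c ≠ a → c ≠ b → d ≠ a → d ≠ b → Cj (⊤ : Subgroup G) a b c d
  vfix : ∀ v ∈ V, v • a = a
  vconj : ∀ g : G, g • a = a → ∀ v ∈ V, g * v * g⁻¹ ∈ V
  vcomm : ∀ v ∈ V, ∀ w ∈ V, v * w = w * v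
  vtr : ∀ c, c ≠ a → ∃ v ∈ V, v • b = c
  vreg : ∀ v ∈ V, v • b = b → v = 1
  prime : r.Prime
  rne : r ≠ 2
  eodd : Odd e
  exp : ∀ v ∈ V, v ^ r = 1
  card : Nat.card V = r ^ e

theorem Af.ctl [Finite G] {a b : Ω} {V : Subgroup G} {r e : ℕ} (h : Af a b V r e) (N : Subgroup G)
    [N.Normal] (hN : ¬ 3 ∣ Nat.card (N ⊓ St G a b : Subgroup G) ∨
      Odd (Nat.card (N ⊓ St G a b : Subgroup G))) :
    ∃ A : Subgroup G, A ≤ N ⊓ St G a b ∧ (∀ y ∈ St G a b, ∀ x ∈ A, y * x * y⁻¹ ∈ A) ∧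
      (∀ x ∈ A, ∀ y ∈ A, x * y = y * x) ∧ (∀ x ∈ A, ∀ c, c ≠ a → c ≠ b → x • c = c → x = 1) ∧
      (∀ y ∈ N ⊓ St G a b, y * y ∈ A → y ∈ A) ∧
      ∀ s : G, s • a = b → s • b = a → ∀ y ∈ N ⊓ St G a b, y⁻¹ * (s * y * s⁻¹) ∈ A := by
  have : IsMulCommutative V := ⟨⟨fun v w => Subtype.ext (h.vcomm v v.2 w w.2)⟩⟩
  let _ : CommGroup V := IsMulCommutative.instCommGroup
  let _ : DistribMulAction (St G a b) (Additive V) :=
    { smul := fun d x => Additive.ofMul ⟨d * x.toMul * (d : G)⁻¹, h.vconj d d.2.1 _ x.toMul.2⟩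
      one_smul := fun x => Subtype.ext (by
        change (1 : G) * x.toMul * 1⁻¹ = x.toMul
        group)
      mul_smul := fun d k x => Subtype.ext (by
        change (d : G) * k * x.toMul * ((d : G) * k)⁻¹ = d * (k * x.toMul * (k : G)⁻¹) * (d : G)⁻¹
        group)
      smul_zero := fun d => Subtype.ext (by
        change (d : G) * 1 * (d : G)⁻¹ = 1
        group)
      smul_add := fun d x y => Subtype.ext (by
        change (d : G) * (x.toMul * y.toMul) * (d : G)⁻¹ =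
          d * x.toMul * (d : G)⁻¹ * (d * y.toMul * (d : G)⁻¹)
        group) }
  have hact : ∀ (d : St G a b) (x : Additive V),
      ((d • x).toMul : G) • b = (d : G) • (x.toMul : G) • b := fun d x => by
    change ((d : G) * x.toMul * (d : G)⁻¹) • b = _
    rw [mul_smul, mul_smul, show (d : G)⁻¹ • b = b from (d⁻¹).2.2]
  have hinj : ∀ x y : Additive V, (x.toMul : G) • b = (y.toMul : G) • b → x = y := fun x y e =>
    Subtype.ext (inv_mul_eq_one.1 (h.vreg _ (mul_mem (inv_mem y.toMul.2) x.toMul.2)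
      (by rw [mul_smul, e, inv_smul_smul]))).symm
  have hne : ∀ x : Additive V, x ≠ 0 → (x.toMul : G) • b ≠ a ∧ (x.toMul : G) • b ≠ b := fun x hx =>
    ⟨fun e => h.ne ((smul_left_cancel_iff _).1 ((h.vfix _ x.toMul.2).trans e.symm)),
      fun e => hx (Subtype.ext (h.vreg _ x.toMul.2 e))⟩
  have : FaithfulSMul (St G a b) (Additive V) := ⟨fun {d k} e => Subtype.ext
    (h.toT2.faithful.eq_of_smul_eq_smul fun c => by
      by_cases hc : c = a
      · rw [hc]; exact d.2.1.trans k.2.1.symm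
      obtain ⟨v, hv, rfl⟩ := h.vtr c hc
      exact (hact d (Additive.ofMul ⟨v, hv⟩)).symm.trans (by rw [e, hact]; rfl))⟩
  have hL : Lin0 (St G a b) (Additive V) r e := ⟨h.prime, h.rne, h.eodd, h.card,
    fun v => Subtype.ext (h.exp _ v.toMul.2), fun v w hv hw => by
      obtain ⟨g, -, h1, h2, h3⟩ := h.three _ _ (hne v hv).1 (hne v hv).2 (hne w hw).1 (hne w hw).2
      exact ⟨⟨g, h1, h2⟩, hinj _ _ ((hact _ _).trans h3)⟩⟩
  obtain ⟨A, hA⟩ := hL.ctl (Y := N.subgroupOf (St G a b)) (by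
    rwa [← inf_subgroupOf_right, Nat.card_congr (subgroupOfEquivOfLe inf_le_right).toEquiv])
  refine ⟨A.map (St G a b).subtype, ?_, ?_, ?_, ?_, ?_, ?_⟩
  · rintro _ ⟨x, hx, rfl⟩
    exact ⟨hA.le hx, x.2⟩
  · rintro y hy _ ⟨x, hx, rfl⟩
    exact ⟨_, hA.normal.conj_mem x hx ⟨y, hy⟩, rfl⟩
  · rintro _ ⟨x, hx, rfl⟩ _ ⟨y, hy, rfl⟩
    exact congrArg Subtype.val (hA.comm x hx y hy)
  · rintro _ ⟨x, hx, rfl⟩ c c1 c2 hc
    obtain ⟨v, hv, rfl⟩ := h.vtr c c1
    exact congrArg Subtype.val (hA.reg x hx (Additive.ofMul ⟨v, hv⟩)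
      (fun e0 => c2 (by rw [show v = 1 from congrArg Subtype.val e0, one_smul]))
      (hinj _ _ ((hact _ _).trans hc)))
  · rintro y hy ⟨x, hx, e0⟩
    exact ⟨⟨y, hy.2⟩, hA.sq _ hy.1 (by rwa [show (⟨y, hy.2⟩ * ⟨y, hy.2⟩ : St G a b) = x from
      Subtype.ext e0.symm]), rfl⟩
  · intro s sa sb y hy
    have hs : s ∈ normalizer (St G a b : Set G) := mem_normalizer_fintype fun x => swap_conj_mem sa sb
    exact ⟨_, hA.aut ((St G a b).normalizerMonoidHom ⟨s, hs⟩)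
      (fun x hx => Normal.conj_mem inferInstance (x : G) hx s) ⟨y, hy.2⟩ hy.1, rfl⟩

theorem Af.core [Finite G] {a b : Ω} {V : Subgroup G} {r e : ℕ} (h : Af a b V r e) (N : Subgroup G)
    [N.Normal] [IsSimpleGroup N] (h2 : T2 N Ω) (hV : V ≤ N) (hc : Nat.card Ω = r ^ e + 1)
    (hN : ¬ 3 ∣ Nat.card (N ⊓ St G a b : Subgroup G) ∨ Odd (Nat.card (N ⊓ St G a b : Subgroup G))) :
    P2 N a b ∧ (Odd (Nat.card (N ⊓ St G a b : Subgroup G)) → ∃ (F : Type) (_ : Field F)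
      (_ : Fintype F), Fintype.card F + 1 = Nat.card Ω ∧ Nonempty (N ≃* PSL2 F)) := by
  have := h2.finite
  obtain ⟨A, h3, h4, h5, h6, h7, h8⟩ := h.ctl N hN
  have hF : Fn N a b (V.subgroupOf N) (A.subgroupOf N) :=
    { toT2 := h2
      ne := h.ne
      even := hc ▸ (h.prime.odd_of_ne_two h.rne).pow.add_one
      pp := by rw [hc, Nat.add_sub_cancel]; exact h.prime.isPrimePow.pow h.eodd.pos.ne'
      vfix := fun v hv => h.vfix v hv
      vconj := fun g hg v hv => h.vconj g hg v hv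
      vcomm := fun v hv w hw => Subtype.ext (h.vcomm v hv w hw)
      vtr := fun c hc => let ⟨v, hv, e0⟩ := h.vtr c hc; ⟨⟨v, hV hv⟩, hv, e0⟩
      vreg := fun v hv e0 => Subtype.ext (h.vreg v hv e0)
      le := fun x hx => (h3 hx).2
      conj := fun y hy x hx => h4 y hy x hx
      comm := fun x hx y hy => Subtype.ext (h5 x hx y hy)
      reg := fun x hx c c1 c2 e0 => Subtype.ext (h6 x hx c c1 c2 e0)
      sq := fun y hy e0 => h7 y ⟨y.2, hy⟩ e0
      aut := fun s sa sb y hy => h8 s sa sb y ⟨y.2, hy⟩ }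
  rw [← card_St_subgroup]
  refine ⟨fun c d e c1 c2 d1 d2 e1 e2 => (p2_of_semireg h.ne hF.le hF.reg
    ((em _).elim (fun ho => (hF.of_odd ho).1) hF.of_even) c d e c1 c2 d1 d2 e1 e2).imp Cj.of_sub
      (Or.imp Cj.of_sub Cj.of_sub), fun ho => (hF.of_odd ho).2⟩

theorem odd_exp {r e m k : ℕ} (h : r ^ e % m = k) (hk : ∀ x < m, x * x % m ≠ k) (hm : 0 < m) :
    Odd e := by
  refine Nat.not_even_iff_odd.1 fun ⟨j, hj⟩ => hk (r ^ j % m) (Nat.mod_lt _ hm) ?_
  rw [← Nat.mul_mod, ← pow_add, ← hj, h]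

theorem core [Finite G] [FaithfulSMul G Ω] (h3 : IsMultiplyPretransitive G Ω 3)
    (hn : 3 < Nat.card Ω) (he : Even (Nat.card Ω)) (N : Subgroup G) [N.Normal] [IsSimpleGroup N]
    (h2 : T2 N Ω) {a b : Ω} (hab : a ≠ b)
    (hN : (3 ∣ Nat.card Ω ∧ ¬ 3 ∣ Nat.card (N ⊓ stabilizer G a : Subgroup G)) ∨
      (Nat.card Ω % 4 = 0 ∧ Odd (Nat.card (N ⊓ stabilizer G a : Subgroup G)))) :
    P2 N a b ∧ (Odd (Nat.card (N ⊓ stabilizer G a : Subgroup G)) → ∃ (F : Type) (_ : Field F)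
      (_ : Fintype F), Fintype.card F + 1 = Nat.card Ω ∧ Nonempty (N ≃* PSL2 F)) := by
  have := h2.finite
  have hG : T2 G Ω := ⟨fun g hg => eq_of_smul_eq_smul (α := Ω) fun x => by rw [hg, one_smul],
    fun h1 h4 => let ⟨g, hg⟩ := h2.two h1 h4; ⟨g, hg⟩, h2.big⟩
  have := hG.pretransitive
  have h4 : IsMultiplyPretransitive (stabilizer G a) (SubMulAction.ofStabilizer G a) 2 :=
    SubMulAction.ofStabilizer.isMultiplyPretransitive.1 h3
  have hc := SubMulAction.nat_card_ofStabilizer_add_one_eq G a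
  have h5 := T2.of_mult h4 (by omega)
  obtain ⟨c, c1, c2⟩ := h2.exists_third a b
  obtain ⟨n, n1, n2⟩ := h2.two hab c1.symm
  obtain ⟨V, hV, hmin⟩ := H89.exists_isMinNormal_le (N.subgroupOf (stabilizer G a)) inferInstance
    fun e => c2 (by
      have : (⟨n, n1⟩ : stabilizer G a) ∈ N.subgroupOf (stabilizer G a) := n.2
      rw [e, mem_bot] at this
      rw [← n2, Subgroup.smul_def, show (n : G) = 1 from congrArg Subtype.val this, one_smul])
  have := hmin.normal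
  have hdvd : Nat.card V ∣ Nat.card (N ⊓ stabilizer G a : Subgroup G) := by
    rw [← Nat.card_congr (subgroupOfEquivOfLe inf_le_right).toEquiv, inf_subgroupOf_right]
    exact card_dvd_of_le hV
  have htr := h5.normal_trans V hmin.ne_bot
  have hodd : Odd (Nat.card (SubMulAction.ofStabilizer G a)) := by
    rw [← Nat.not_even_iff_odd, ← Nat.even_add_one, hc]; exact he
  rcases hmin.burnside h4 with ⟨-, -, hr⟩ | ⟨hs, hp, hr⟩
  · have hr' : ∀ x : SubMulAction.ofStabilizer G a, ∀ v ∈ V, v • x = x → v = 1 := fun x v hv e =>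
      congrArg Subtype.val (show (⟨v, hv⟩ : V) = 1 from mem_bot.1 ((hr x).le e))
    obtain ⟨h6, h7, r, e, hp, h8, h9⟩ := h5.elem_of_regular htr hr'
    have hdv := card_dvd_of_le (inf_le_inf_left N (inf_le_left : St G a b ≤ stabilizer G a))
    have hA : Af a b (V.map (stabilizer G a).subtype) r e :=
      { toT2 := hG
        ne := hab
        three := fun c d c1 c2 d1 d2 =>
          let ⟨g, hg⟩ := three_trans h3 hab c1.symm c2.symm hab d1.symm d2.symm; ⟨g, trivial, hg⟩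
        vfix := by rintro _ ⟨v, -, rfl⟩; exact v.2
        vconj := by
          rintro g hg _ ⟨v, hv, rfl⟩
          exact ⟨_, hmin.normal.conj_mem v hv ⟨g, hg⟩, rfl⟩
        vcomm := by
          rintro _ ⟨v, hv, rfl⟩ _ ⟨w, hw, rfl⟩
          exact congrArg Subtype.val (h6 v hv w hw)
        vtr := fun c hc =>
          let ⟨v, hv, e0⟩ := htr ⟨b, hab.symm⟩ ⟨c, hc⟩; ⟨v, ⟨v, hv, rfl⟩, congrArg Subtype.val e0⟩
        vreg := by
          rintro _ ⟨v, hv, rfl⟩ e0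
          exact congrArg Subtype.val (hr' ⟨b, hab.symm⟩ v hv (Subtype.ext e0))
        prime := hp
        rne := by
          rintro rfl
          rw [h9] at hodd hc
          rcases e with _ | e
          · omega
          · exact hodd.not_two_dvd_nat (dvd_pow_self 2 e.succ_ne_zero)
        eodd := by
          rcases hN with h | h
          · exact odd_exp (r := r) (m := 3) (k := 2) (by omega) (by decide) (by omega)
          · exact odd_exp (r := r) (m := 4) (k := 3) (by omega) (by decide) (by omega)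
        exp := by
          rintro _ ⟨v, hv, rfl⟩
          exact congrArg Subtype.val (h8 v hv)
        card := by rw [card_map_of_injective (subtype_injective _), h7, h9] }
    have := hA.core N h2 (by rintro _ ⟨v, hv, rfl⟩; exact hV hv) (by omega)
      (hN.imp (fun h hd => h.2 (hd.trans hdv)) fun h => h.2.of_dvd_nat hdv)
    exact ⟨this.1, fun ho => this.2 (ho.of_dvd_nat hdv)⟩
  · have hnc : ¬ IsMulCommutative V := fun hc => hr ⟨b, hab.symm⟩ (eq_bot_iff.2 fun v hv =>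
      mem_bot.2 (Subtype.ext (h5.faith _ fun x => by
        obtain ⟨w, hw, rfl⟩ := htr ⟨b, hab.symm⟩ x
        exact fix_of_comm (congrArg Subtype.val (hc.is_comm.comm (⟨w, hw⟩ : V) v)) hv)))
    have hno : ¬ Odd (Nat.card (N ⊓ stabilizer G a : Subgroup G)) := fun ho => hnc
      ⟨⟨IsSimpleGroup.comm_iff_isSolvable.2 (H42.odd_order (ho.of_dvd_nat hdvd))⟩⟩
    have := h5.nontrivial
    refine ⟨fun c d _ c1 c2 d1 d2 _ _ => Or.inl ?_, fun ho => absurd ho hno⟩
    obtain ⟨g, g1, g2⟩ := sz_two (b := (⟨b, hab.symm⟩ : SubMulAction.ofStabilizer G a))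
      (c := ⟨c, c1⟩) (d := ⟨d, d1⟩) (isoSz V hnc fun hd =>
        ((hN.resolve_right fun h => hno h.2).2 (hd.trans hdvd))) hp hodd
      (fun e => c2 (congrArg Subtype.val e)) fun e => d2 (congrArg Subtype.val e)
    exact ⟨g, hV g.2, g.1.2, congrArg Subtype.val g1, congrArg Subtype.val g2⟩

end H4.Tr
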