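/- Row S3255, part E: reduction to the fixed points of a Sylow subgroup, and the theorem. -/
import Cfsg.Agent.H4.TrD
import Cfsg.Agent.H4.DpA
import Cfsg.Agent.S0699

set_option autoImplicit false

namespace H4.Tr

open Cfsg Subgroup MulAction H89.K H90
open H98 (IsSyl cj)

universe u v

section Gen

variable {G Ω : Type*} [Group G] [MulAction G Ω]

theorem wagner [Finite Ω] [FaithfulSMul G Ω] (h3 : IsMultiplyPretransitive G Ω 3)
    (hn : 3 < Nat.card Ω) (ho : Odd (Nat.card Ω)) (N : Subgroup G) [hN : N.Normal] (h1 : N ≠ ⊥) :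
    IsMultiplyPretransitive N Ω 3 := by
  classical
  have := Fintype.ofFinite Ω
  rw [Nat.card_eq_fintype_card] at hn ho
  have hs := (toPermHom G Ω).rangeRestrict_surjective
  have := hN.map _ hs
  have h4 := Cfsg.Agent.S0699.result (toPermHom G Ω).range ho (by obtain ⟨k, hk⟩ := ho; omega)
    (three_trans_iff.2 fun a1 a2 a3 a4 a5 a6 =>
      let ⟨g, hg⟩ := three_trans h3 a1 a2 a3 a4 a5 a6; ⟨(toPermHom G Ω).rangeRestrict g, hg⟩)
    (N.map (toPermHom G Ω).rangeRestrict) fun e => h1 ((map_eq_bot_iff_of_injective N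
      ((toPermHom G Ω).rangeRestrict_injective_iff.2 toPerm_injective)).1 e)
  refine three_trans_iff.2 fun a1 a2 a3 a4 a5 a6 => ?_
  obtain ⟨⟨_, g, hg, rfl⟩, h⟩ := three_trans h4 a1 a2 a3 a4 a5 a6
  exact ⟨⟨g, hg⟩, h⟩

theorem three_of_cj {N : Subgroup G} (h2 : T2 N Ω) {a b d : Ω} (hab : a ≠ b)
    (h : ∀ e, e ≠ a → e ≠ b → Cj N a b d e) : IsMultiplyPretransitive N Ω 3 := by
  have key : ∀ x y z : Ω, x ≠ y → x ≠ z → y ≠ z → ∃ g : N, g • a = x ∧ g • b = y ∧ g • d = z :=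
    fun x y z h1 h3 h4 => by
    obtain ⟨g, rfl, rfl⟩ := h2.two hab h1
    obtain ⟨k, hk, k1, k2, k3⟩ := h (g⁻¹ • z) (fun e => h3 (inv_smul_eq_iff.1 e).symm)
      fun e => h4 (inv_smul_eq_iff.1 e).symm
    refine ⟨g * ⟨k, hk⟩, ?_, ?_, ?_⟩ <;> rw [mul_smul]
    · exact congrArg (g • ·) k1
    · exact congrArg (g • ·) k2
    · exact (congrArg (g • ·) k3).trans (smul_inv_smul g z)
  refine three_trans_iff.2 fun a1 a2 a3 a4 a5 a6 => ?_
  obtain ⟨g, rfl, rfl, rfl⟩ := key _ _ _ a1 a2 a3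
  obtain ⟨k, rfl, rfl, rfl⟩ := key _ _ _ a4 a5 a6
  exact ⟨k * g⁻¹, by simp [mul_smul]⟩

theorem card_quot_le [Finite Ω] {N : Subgroup G} (h2 : T2 N Ω) {a b : Ω} (hab : a ≠ b)
    (h : P2 N a b) : Nat.card (orbitRel.Quotient N (Fin 3 ↪ Ω)) ≤ 2 := by
  have key : ∀ x : orbitRel.Quotient N (Fin 3 ↪ Ω), ∃ (c : Ω) (h1 : a ≠ c) (h3 : b ≠ c),
      x = Quotient.mk _ (emb3 hab h1 h3) := fun x => by
    obtain ⟨x, rfl⟩ := Quotient.exists_rep x
    obtain ⟨g, g1, g2⟩ := h2.two (x.injective.ne (show (0 : Fin 3) ≠ 1 by decide)) hab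
    refine ⟨g • x 2, g1 ▸ fun e => absurd (x.injective (smul_left_cancel g e)) (by decide),
      g2 ▸ fun e => absurd (x.injective (smul_left_cancel g e)) (by decide),
      (Quotient.sound (s := orbitRel N (Fin 3 ↪ Ω)) (mem_orbit_iff.2 ⟨g, ?_⟩)).symm⟩
    ext i
    fin_cases i
    exacts [g1, g2, rfl]
  have eq : ∀ (c d : Ω) (h1 : a ≠ c) (h3 : b ≠ c) (h4 : a ≠ d) (h5 : b ≠ d), Cj N a b c d →
      (Quotient.mk _ (emb3 hab h1 h3) : orbitRel.Quotient N (Fin 3 ↪ Ω)) =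
        Quotient.mk _ (emb3 hab h4 h5) := fun c d h1 h3 h4 h5 ⟨g, hg, g1, g2, g3⟩ => by
    refine (Quotient.sound (s := orbitRel N (Fin 3 ↪ Ω)) (mem_orbit_iff.2 ⟨⟨g, hg⟩, ?_⟩)).symm
    ext i
    fin_cases i
    exacts [g1, g2, g3]
  by_contra hc
  have := Fintype.ofFinite (orbitRel.Quotient N (Fin 3 ↪ Ω))
  rw [Nat.card_eq_fintype_card, not_le, Fintype.two_lt_card_iff] at hc
  obtain ⟨x, y, z, h4, h5, h6⟩ := hc
  obtain ⟨c, c1, c2, rfl⟩ := key x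
  obtain ⟨d, d1, d2, rfl⟩ := key y
  obtain ⟨e, e1, e2, rfl⟩ := key z
  rcases h c d e c1.symm c2.symm d1.symm d2.symm e1.symm e2.symm with h | h | h
  exacts [h4 (eq _ _ _ _ _ _ h), h5 (eq _ _ _ _ _ _ h), h6 (eq _ _ _ _ _ _ h)]

theorem cj_iff {N : Subgroup G} {a b x y : Ω} :
    y ∈ orbit (N ⊓ St G a b : Subgroup G) x ↔ Cj N a b x y :=
  ⟨fun ⟨g, hg⟩ => ⟨g, g.2.1, g.2.2.1, g.2.2.2, hg⟩, fun ⟨g, h1, h2, h3, h4⟩ => ⟨⟨g, h1, h2, h3⟩, h4⟩⟩

theorem orbit_facts [Finite Ω] (h3 : IsMultiplyPretransitive G Ω 3) (N : Subgroup G) [hN : N.Normal]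
    {a b c d : Ω} (hab : a ≠ b) (c1 : c ≠ a) (c2 : c ≠ b) (d1 : d ≠ a) (d2 : d ≠ b) :
    (orbit (N ⊓ St G a b : Subgroup G) c).ncard ∣ Nat.card Ω - 2 ∧
      (orbit (N ⊓ St G a b : Subgroup G) d).ncard = (orbit (N ⊓ St G a b : Subgroup G) c).ncard := by
  have hr := Dp.rel_orbit (Ω := Ω) (A := St G a b) (T := N ⊓ St G a b) fun g hg t ht =>
    ⟨hN.conj_mem t ht.1 g, (St G a b).mul_mem (mul_mem hg ht.2) (inv_mem hg)⟩
  have h1 : orbit (St G a b) c = {a, b}ᶜ := Set.ext fun x =>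
    ⟨fun ⟨g, hg⟩ => not_or.2 (Cj.ne (N := ⊤) ⟨g, trivial, g.2.1, g.2.2, hg⟩ c1 c2), fun hx =>
      let ⟨g, g1, g2, g3⟩ := three_trans h3 hab c1.symm c2.symm hab (Ne.symm (not_or.1 hx).1)
        (Ne.symm (not_or.1 hx).2); ⟨⟨g, g1, g2⟩, g3⟩⟩
  have h2 : ∀ y, y ≠ a → y ≠ b → {z | z ∈ orbit (St G a b) c ∧
      z ∈ orbit (N ⊓ St G a b : Subgroup G) y} = orbit (N ⊓ St G a b : Subgroup G) y :=
    fun y y1 y2 => Set.ext fun z =>
      ⟨fun h => h.2, fun h => ⟨h1 ▸ not_or.2 ((cj_iff.1 h).ne y1 y2), h⟩⟩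
  have h4 := hr.dvd c
  have h5 := hr.ncard_eq (y := c) (y' := d) (h1 ▸ not_or.2 ⟨d1, d2⟩)
  rw [h2 c c1 c2, h1] at h4
  rw [h2 c c1 c2, h2 d d1 d2] at h5
  exact ⟨by rwa [← ncard_compl_pair hab, Nat.add_sub_cancel], h5⟩

variable [Finite G]

theorem relIndex_St {N : Subgroup G} (h2 : T2 N Ω) {a b : Ω} (hab : a ≠ b) :
    (N ⊓ St G a b).relIndex (N ⊓ stabilizer G a) = Nat.card Ω - 1 := by
  have h1 := h2.card_stab hab
  have h4 := card_eq_relIndex_mul (N ⊓ St G a b) (N ⊓ stabilizer G a)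
  rw [inf_of_le_right (inf_le_inf_left N inf_le_left), ← card_St_subgroup,
    ← Nat.card_congr (subgroupOfEquivOfLe inf_le_left).toEquiv, inf_subgroupOf_left] at h4
  exact Nat.eq_of_mul_eq_mul_right Nat.card_pos (h4.symm.trans h1)

variable [FaithfulSMul G Ω] [Finite Ω] (h3 : IsMultiplyPretransitive G Ω 3) (hn : 3 < Nat.card Ω)
  (hd : 3 ∣ Nat.card Ω)
include h3 hn

theorem t2_top : T2 G Ω :=
  T2.of_mult (isMultiplyPretransitive_of_le' (n := 3) (by omega) (by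
    rw [ENat.card_eq_coe_natCard]; exact_mod_cast hn.le)) (by omega)

include hd

theorem t2_normal (N : Subgroup G) [N.Normal] (h1 : N ≠ ⊥) : T2 N Ω := by
  rcases H89.isMultiplyPretransitive_of_normal 1 hn h3 N h1 with h | ⟨-, h4, h5⟩
  · exact T2.of_mult h (by omega)
  obtain ⟨a, -⟩ := (t2_top h3 hn).big
  obtain ⟨m, hm⟩ := H89.card_eq_two_pow_of_regular N ⟨fun x y =>
    let ⟨g, hg, e⟩ := (t2_top h3 hn).normal_trans N h1 x y; ⟨⟨g, hg⟩, e⟩⟩ a (h5 a) h4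
  exact absurd (Nat.prime_three.dvd_of_dvd_pow (hm ▸ hd)) (by decide)

theorem exists_simple (he : Even (Nat.card Ω)) (N : Subgroup G) [hN : N.Normal] (h1 : N ≠ ⊥) :
    ∃ L : Subgroup G, L ≤ N ∧ L.Normal ∧ IsSimpleGroup L ∧ L ≠ ⊥ := by
  obtain ⟨L, hL, hm⟩ := H89.exists_isMinNormal_le N hN h1
  refine ⟨L, hL, hm.normal, (((t2_top h3 hn).aff_or_simple hm).resolve_left fun ha => ?_).1,
    hm.ne_bot⟩
  exact absurd ((isPrimePow_iff_unique_prime_dvd.1 ((t2_top h3 hn).isPrimePow_of_aff ha)).unique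
    ⟨Nat.prime_two, he.two_dvd⟩ ⟨Nat.prime_three, hd⟩) (by decide)

theorem partA0 (N : Subgroup G) [N.Normal] (h1 : N ≠ ⊥) {a b : Ω} (hab : a ≠ b)
    (hN : ¬ 3 ∣ Nat.card (N ⊓ stabilizer G a : Subgroup G)) : P2 N a b := by
  rcases Nat.even_or_odd (Nat.card Ω) with he | ho
  · obtain ⟨L, hL, _, _, h4⟩ := exists_simple h3 hn hd he N h1
    exact (core h3 hn he L (t2_normal h3 hn hd L h4) hab (Or.inl ⟨hd, fun h =>
      hN (h.trans (card_dvd_of_le (inf_le_inf_right _ hL)))⟩)).1.mono hL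
  · intro c d _ c1 c2 d1 d2 _ _
    obtain ⟨g, hg⟩ := three_trans (wagner h3 hn ho N h1) hab c1.symm c2.symm hab d1.symm d2.symm
    exact Or.inl ⟨g, g.2, hg⟩

theorem partA (N : Subgroup G) [hN : N.Normal] (h1 : N ≠ ⊥) {a b : Ω} (hab : a ≠ b) : P2 N a b := by
  have h2 := t2_normal h3 hn hd N h1
  obtain ⟨R, hR⟩ := H98.exists_isSyl 3 (N ⊓ St G a b)
  have hF : ∀ x, x ∈ fixedPoints R Ω ↔ ∀ g ∈ R, g • x = x := fun x =>
    ⟨fun h g hg => h ⟨g, hg⟩, fun h g => h g g.2⟩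
  have ha : a ∈ fixedPoints R Ω := (hF a).2 fun g hg => (hR.le hg).2.1
  have hb : b ∈ fixedPoints R Ω := (hF b).2 fun g hg => (hR.le hg).2.2
  have witt : ∀ (g : G) (x y z : Ω), x ≠ y → x ∈ fixedPoints R Ω → y ∈ fixedPoints R Ω →
      z ∈ fixedPoints R Ω → g • x ∈ fixedPoints R Ω → g • y ∈ fixedPoints R Ω →
      g • z ∈ fixedPoints R Ω → ∃ n ∈ N, n * g ∈ normalizer (R : Set G) ∧ (n * g) • x = g • x ∧
        (n * g) • y = g • y ∧ (n * g) • z = g • z := fun g x y z hxy x1 y1 z1 x2 y2 z2 => by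
    have h4 : R ≤ N ⊓ St G (g • x) (g • y) ⊓ stabilizer G (g • z) := fun r hr =>
      ⟨⟨(hR.le hr).1, x2 ⟨r, hr⟩, y2 ⟨r, hr⟩⟩, z2 ⟨r, hr⟩⟩
    have h5 : IsSyl 3 R (N ⊓ St G (g • x) (g • y)) :=
      H98.isSyl_of_card_eq (h4.trans inf_le_left) (by
        rw [hR.card_eq, ← card_St_subgroup, ← card_St_subgroup,
          h2.card_St_eq hab ((smul_left_cancel_iff g).not.2 hxy)])
    have h6 := h5.of_le h4 inf_le_left
    have h7 := h6.of_card_ge (H98.isPGroup_cj g hR.isPGroup) (by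
      rintro _ ⟨r, hr, rfl⟩
      exact ⟨⟨hN.conj_mem r (hR.le hr).1 g, conj_mem_St g ⟨x1 ⟨r, hr⟩, y1 ⟨r, hr⟩⟩⟩,
        conj_smul_eq.2 (z1 ⟨r, hr⟩)⟩) (H98.card_cj g R).ge
    obtain ⟨n, n1, n2⟩ := h7.exists_cj_eq h6
    rw [H98.cj_cj, H98.cj_eq_self_iff] at n2
    exact ⟨n, n1.1.1, n2, (mul_smul _ _ _).trans n1.1.2.1, (mul_smul _ _ _).trans n1.1.2.2,
      (mul_smul _ _ _).trans n1.2⟩
  have move : ∀ c, c ≠ a → c ≠ b → ∃ c' ∈ fixedPoints R Ω, Cj N a b c c' := fun c c1 c2 => by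
    obtain ⟨x, hx⟩ := (H98.isPGroup_subgroupOf hR.isPGroup
      (N ⊓ St G a b)).nonempty_fixed_point_of_prime_not_dvd_card
      (orbit (N ⊓ St G a b : Subgroup G) c) fun h => by
        have := h.trans (orbit_facts h3 N hab c1 c2 c1 c2).1
        omega
    exact ⟨x, (hF x).2 fun g hg => congrArg Subtype.val (hx ⟨⟨g, hR.le hg⟩, hg⟩), cj_iff.1 x.2⟩
  intro c d e c1 c2 d1 d2 e1 e2
  obtain ⟨c', c3, c4⟩ := move c c1 c2
  obtain ⟨d', d3, d4⟩ := move d d1 d2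
  obtain ⟨e', e3, e4⟩ := move e e1 e2
  by_cases hcd : c' = d'
  · exact Or.inl (c4.trans (hcd ▸ d4.symm))
  have c5 := c4.ne c1 c2
  have d5 := d4.ne d1 d2
  have e5 := e4.ne e1 e2
  have hn' : 3 < Nat.card (fixedPoints R Ω) := by
    have := Set.ncard_le_ncard (show ({a, b, c', d'} : Set Ω) ⊆ fixedPoints R Ω by
      rintro x (rfl | rfl | rfl | rfl) <;> assumption)
    rwa [Set.ncard_insert_of_notMem (by simp [hab, c5.1.symm, d5.1.symm]),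
      Set.ncard_insert_of_notMem (by simp [c5.2.symm, d5.2.symm]), Set.ncard_pair hcd] at this
  have hd' : 3 ∣ Nat.card (fixedPoints R Ω) :=
    ((hR.isPGroup.card_modEq_card_fixedPoints Ω).dvd_iff (dvd_refl 3)).1 hd
  obtain ⟨Y, _, _, _, π, hπ⟩ := exists_res (normalizer (R : Set G)) (fixedPoints R Ω)
    fun g hg x hx => smul_mem_fixedPoints hg hx
  have : FaithfulSMul Y (fixedPoints R Ω) := ⟨fun {y z} h => (inv_mul_eq_one.1
    (hπ.faith (z⁻¹ * y) fun x => by rw [mul_smul, h, inv_smul_smul])).symm⟩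
  have h3' : IsMultiplyPretransitive Y (fixedPoints R Ω) 3 := three_trans_iff.2
    fun {x y z x' y' z'} a1 a2 a3 a4 a5 a6 => by
    obtain ⟨g, g1, g2, g3⟩ := three_trans h3 (Subtype.coe_injective.ne a1)
      (Subtype.coe_injective.ne a2) (Subtype.coe_injective.ne a3) (Subtype.coe_injective.ne a4)
      (Subtype.coe_injective.ne a5) (Subtype.coe_injective.ne a6)
    obtain ⟨n, -, n1, n2, n3, n4⟩ := witt g x y z (Subtype.coe_injective.ne a1) x.2 y.2 z.2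
      (g1 ▸ x'.2) (g2 ▸ y'.2) (g3 ▸ z'.2)
    exact ⟨π ⟨_, n1⟩, hπ.smul_eq_iff.2 (n2.trans g1), hπ.smul_eq_iff.2 (n3.trans g2),
      hπ.smul_eq_iff.2 (n4.trans g3)⟩
  have := (inferInstance : (N.subgroupOf (normalizer (R : Set G))).Normal).map π hπ.surj
  have hP := partA0 h3' hn' hd' ((N.subgroupOf (normalizer (R : Set G))).map π) (fun e0 => by
      obtain ⟨g, g1, g2⟩ := h2.exists_swap hab
      obtain ⟨n, n0, n1, n2, -⟩ := witt g a b a hab ha hb ha (g1 ▸ hb) (g2 ▸ ha) (g1 ▸ hb)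
      have h4 : π ⟨_, n1⟩ = 1 := mem_bot.1 (e0 ▸ mem_map_of_mem π (mul_mem n0 g.2 :))
      exact hab ((hπ.eq_one_iff.1 h4 a ha).symm.trans (n2.trans g1)))
    (a := ⟨a, ha⟩) (b := ⟨b, hb⟩) (fun e0 => hab (congrArg Subtype.val e0)) (by
      have h4 : IsSyl 3 R (N ⊓ stabilizer G a) := by
        refine H98.isSyl_of_not_dvd_relIndex (hR.le.trans (inf_le_inf_left N inf_le_left))
          hR.isPGroup ?_
        rw [← relIndex_mul_relIndex R _ _ hR.le (inf_le_inf_left N inf_le_left), relIndex_St h2 hab,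
          Nat.prime_three.dvd_mul, not_or]
        exact ⟨hR.not_dvd_relIndex, by omega⟩
      have h5 := ((h4.of_le (le_inf h4.le le_normalizer) inf_le_left).subgroupOf inf_le_right).map π
      refine fun h => h5.eq_bot_iff.1 ?_ (h.trans (card_dvd_of_le ?_))
      · exact (Subgroup.map_eq_bot_iff _).2 fun g hg => hπ.eq_one_iff.2 fun x hx => hx ⟨g, hg⟩
      · rintro _ ⟨⟨g, hg, rfl⟩, h6⟩
        exact ⟨g, ⟨⟨hg, hπ.smul_eq_iff.1 h6⟩, g.2⟩, rfl⟩)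
  have back : ∀ x y : fixedPoints R Ω, Cj ((N.subgroupOf (normalizer (R : Set G))).map π)
      ⟨a, ha⟩ ⟨b, hb⟩ x y → Cj N a b (x : Ω) y := by
    rintro x y ⟨_, ⟨g, hg, rfl⟩, g1, g2, g3⟩
    exact ⟨g, hg, hπ.smul_eq_iff.1 g1, hπ.smul_eq_iff.1 g2, hπ.smul_eq_iff.1 g3⟩
  exact (hP ⟨c', c3⟩ ⟨d', d3⟩ ⟨e', e3⟩ (fun e0 => c5.1 (congrArg Subtype.val e0))
    (fun e0 => c5.2 (congrArg Subtype.val e0)) (fun e0 => d5.1 (congrArg Subtype.val e0))
    (fun e0 => d5.2 (congrArg Subtype.val e0)) (fun e0 => e5.1 (congrArg Subtype.val e0))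
    fun e0 => e5.2 (congrArg Subtype.val e0)).imp
    (fun h => (c4.trans (back _ _ h)).trans d4.symm) (Or.imp
      (fun h => (c4.trans (back _ _ h)).trans e4.symm) fun h => (d4.trans (back _ _ h)).trans e4.symm)

theorem odd_stab (h4 : Nat.card Ω % 4 = 0) (N : Subgroup G) [N.Normal] (h1 : N ≠ ⊥)
    (hN : ¬ IsMultiplyPretransitive N Ω 3) (a : Ω) :
    Odd (Nat.card (N ⊓ stabilizer G a : Subgroup G)) := by
  have h2 := t2_normal h3 hn hd N h1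
  refine Nat.not_even_iff_odd.1 fun he => ?_
  obtain ⟨⟨t, ht⟩, ho⟩ := exists_prime_orderOf_dvd_card' 2 he.two_dvd
  replace ho : orderOf t = 2 := (orderOf_coe (⟨t, ht⟩ : (N ⊓ stabilizer G a : Subgroup G))).trans ho
  have tt : t * t = 1 := by rw [← pow_two, ← ho, pow_orderOf_eq_one]
  obtain ⟨c, hc⟩ := (t2_top h3 hn).exists_move (x := t) fun e => by
    rw [e, orderOf_one] at ho; omega
  have hac : a ≠ c := fun e => hc (e ▸ ht.2)
  have hda : t • c ≠ a := fun e => hac ((smul_left_cancel_iff t).1 (ht.2.trans e.symm))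
  have htd : t • t • c = c := by rw [← mul_smul, tt, one_smul]
  generalize hd0 : t • c = d at hc hda htd
  obtain ⟨e, e1, e2, e3⟩ : ∃ e, e ≠ a ∧ e ≠ c ∧ ¬ Cj N a c d e := by
    by_contra hx
    push Not at hx
    exact hN (three_of_cj h2 hac hx)
  have h5 : ({a, c}ᶜ : Set Ω) =
      orbit (N ⊓ St G a c : Subgroup G) d ∪ orbit (N ⊓ St G a c : Subgroup G) e := by
    refine Set.ext fun x => ⟨fun hx => ?_, fun hx => not_or.2 (hx.elim
      (fun h => (cj_iff.1 h).ne hda hc) fun h => (cj_iff.1 h).ne e1 e2)⟩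
    exact ((partA h3 hn hd N h1 hac d e x hda hc e1 e2 (not_or.1 hx).1
      (not_or.1 hx).2).resolve_left e3).imp cj_iff.2 cj_iff.2
  have h6 := ncard_compl_pair hac
  rw [h5, Set.ncard_union_eq (Set.disjoint_left.2 fun z z1 z2 =>
    e3 ((cj_iff.1 z1).trans (cj_iff.1 z2).symm)), (orbit_facts h3 N hac hda hc e1 e2).2,
    ← index_stabilizer] at h6
  change (stabilizer G d).relIndex _ + (stabilizer G d).relIndex _ + 2 = _ at h6
  have h7 := relIndex_mul_relIndex (stabilizer G d ⊓ (N ⊓ St G a c)) _ _ inf_le_right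
    (inf_le_inf_left N (inf_le_left : St G a c ≤ stabilizer G a))
  rw [inf_relIndex_right, relIndex_St h2 hac] at h7
  have h8 := relIndex_mul_relIndex (stabilizer G d ⊓ (N ⊓ St G a c))
    (N ⊓ stabilizer G a ⊓ H30.pairStab G c d) _
    (fun g hg => ⟨⟨hg.2.1, hg.2.2.1⟩, Or.inl ⟨hg.2.2.2, hg.1⟩⟩) inf_le_left
  have ht' : t ∈ N ⊓ stabilizer G a ⊓ H30.pairStab G c d := ⟨ht, Or.inr ⟨hd0, htd⟩⟩
  rw [relIndex_eq_two_iff.2 ⟨t, ht', fun g hg => ?_⟩, ← h7] at h8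
  · have h9 : Odd ((stabilizer G d).relIndex (N ⊓ St G a c) * (Nat.card Ω - 1)) :=
      (Nat.odd_iff.2 (by omega)).mul (Nat.odd_iff.2 (by omega))
    exact h9.not_two_dvd_nat ⟨_, h8.symm⟩
  · rcases hg.2 with ⟨g1, g2⟩ | ⟨g1, g2⟩
    · refine Or.inr ⟨⟨g2, hg.1.1, hg.1.2, g1⟩, fun h => hc ?_⟩
      have h9 : (g * t) • d = d := h.1
      rw [mul_smul, htd, g1] at h9
      exact h9.symm
    · refine Or.inl ⟨⟨?_, mul_mem hg.1.1 ht.1, mul_mem hg.1.2 ht.2, ?_⟩, fun h => hc (h.1.symm.trans g2)⟩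
      · change (g * t) • d = d
        rw [mul_smul, htd, g1]
      · change (g * t) • c = c
        rw [mul_smul, hd0, g2]

theorem main (N : Subgroup G) [N.Normal] (h1 : N ≠ ⊥) :
    Nat.card (orbitRel.Quotient N (Fin 3 ↪ Ω)) ≤ 2 ∧
      (Nat.card Ω % 4 ≠ 2 → IsMultiplyPretransitive N Ω 3 ∨
        ∃ (M : Subgroup N) (F : Type) (_ : Field F) (_ : Fintype F), M.Normal ∧
          Fintype.card F + 1 = Nat.card Ω ∧ Nonempty (M ≃* PSL2 F)) := by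
  have h2 := t2_normal h3 hn hd N h1
  obtain ⟨a, b, -, hab, -⟩ := h2.big
  refine ⟨card_quot_le h2 hab (partA h3 hn hd N h1 hab), fun h4 => or_iff_not_imp_left.2 fun hN => ?_⟩
  have he : Even (Nat.card Ω) := Nat.not_odd_iff_even.1 fun ho => hN (wagner h3 hn ho N h1)
  have h5 : Nat.card Ω % 4 = 0 := by obtain ⟨k, hk⟩ := he; omega
  obtain ⟨L, hL, _, _, h6⟩ := exists_simple h3 hn hd he N h1
  have h7 := (odd_stab h3 hn hd h5 N h1 hN a).of_dvd_nat (card_dvd_of_le (inf_le_inf_right _ hL))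
  obtain ⟨F, _, _, h8, ⟨e⟩⟩ :=
    (core h3 hn he L (t2_normal h3 hn hd L h6) hab (Or.inr ⟨h5, h7⟩)).2 h7
  exact ⟨L.subgroupOf N, F, _, _, inferInstance, h8, ⟨(subgroupOfEquivOfLe hL).trans e⟩⟩

end Gen

end H4.Tr
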