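import Cfsg.Agent.H53.WUKit

/-! Tower WU, slot P3: the principal series of `SU₃(q)` contains at most `q + 1` characters with
the Weil property. -/

set_option autoImplicit false
set_option linter.unusedSectionVars false

namespace H4.WUP3

open Cfsg H28 H59 Module H53.WU H53.WU.HS
open scoped ComplexConjugate

section Abs

variable {G : Type} [Group G] [Fintype G] {P Z Q : Subgroup G} [Fintype P] [Fintype Z] [Fintype Q]
  {θ : P →* ℂˣ} {χ χ' f : G → ℂ} {w : G}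

/-- The spherical function of `χ`. -/
noncomputable def sph (θ : P →* ℂˣ) (χ : G → ℂ) (g : G) : ℂ := ∑ p : P, χ (g * p) * (θ p⁻¹ : ℂˣ)

theorem sph_right (g : G) (p : P) : sph θ χ (g * p) = (θ p : ℂˣ) * sph θ χ g := by
  rw [sph, sph, ← Equiv.sum_comp (Equiv.mulLeft p) (fun x : P => χ (g * x) * (θ x⁻¹ : ℂˣ)),
    Finset.mul_sum]
  refine Finset.sum_congr rfl fun x _ => ?_
  have h : ((θ p : ℂˣ) : ℂ) ≠ 0 := Units.ne_zero _
  simp only [Equiv.coe_mulLeft, Subgroup.coe_mul, mul_assoc, mul_inv_rev, map_mul, map_inv,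
    Units.val_mul, Units.val_inv_eq_inv_val]
  field_simp

theorem sph_left (hχ : IsClassFunction G χ) (g : G) (p : P) :
    sph θ χ (p * g) = (θ p : ℂˣ) * sph θ χ g := by
  rw [sph, sph, ← Equiv.sum_comp (Equiv.mulRight p) (fun x : P => χ (g * x) * (θ x⁻¹ : ℂˣ)),
    Finset.mul_sum]
  refine Finset.sum_congr rfl fun x _ => ?_
  have h : ((θ p : ℂˣ) : ℂ) ≠ 0 := Units.ne_zero _
  have e : χ (p * g * x) = χ (g * (x * p)) := by
    rw [← hχ (g * (x * p)) p]; congr 1; group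
  simp only [Equiv.coe_mulRight, Subgroup.coe_mul, e, mul_inv_rev, map_mul, map_inv,
    Units.val_mul, Units.val_inv_eq_inv_val]
  field_simp

/-- The averages over `Z` and `Q` agree as operators. -/
def Wo (Z Q : Subgroup G) [Fintype Z] [Fintype Q] (χ : G → ℂ) : Prop :=
  ∀ g, (Nat.card Z : ℂ) * ∑ u : Q, χ (g * u) = Nat.card Q * ∑ z : Z, χ (g * z)

theorem wo_rep {N : Type} [AddCommGroup N] [Module ℂ N] [FiniteDimensional ℂ N]
    (ρ : Representation ℂ G N) (hle : Z ≤ Q)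
    (h : ∀ m, (∀ t ∈ Z, ρ t m = m) → ∀ u ∈ Q, ρ u m = m) : Wo Z Q ρ.character := fun g => by
  have h1 : (∑ u : Q, ρ u) * (∑ z : Z, ρ z) = (Nat.card Z : ℂ) • ∑ u : Q, ρ u := by
    rw [Finset.mul_sum, Nat.card_eq_fintype_card, Nat.cast_smul_eq_nsmul, ← Finset.card_univ,
      ← Finset.sum_const]
    refine Finset.sum_congr rfl fun z _ => ?_
    rw [Finset.sum_mul, ← Equiv.sum_comp (Equiv.mulRight (⟨z, hle z.2⟩ : Q)) (fun u : Q => ρ u)]
    exact Finset.sum_congr rfl fun u _ => (map_mul ρ _ _).symm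
  have h2 : (∑ u : Q, ρ u) * (∑ z : Z, ρ z) = (Nat.card Q : ℂ) • ∑ z : Z, ρ z := by
    rw [Finset.sum_mul, Nat.card_eq_fintype_card, Nat.cast_smul_eq_nsmul, ← Finset.card_univ,
      ← Finset.sum_const]
    refine Finset.sum_congr rfl fun u _ => LinearMap.ext fun m => h _ (fun t ht => ?_) u u.2
    change (ρ t * ∑ z : Z, ρ z) m = _
    rw [Finset.mul_sum, ← Equiv.sum_comp (Equiv.mulLeft (⟨t, ht⟩ : Z)) (fun u : Z => ρ u)]
    congr 1
    exact Finset.sum_congr rfl fun u _ => (map_mul ρ _ _).symm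
  have h3 := congrArg (fun T => LinearMap.trace ℂ N (ρ g * T)) (h1.symm.trans h2)
  simp only [mul_smul_comm, Finset.mul_sum, ← map_mul, map_smul, map_sum, smul_eq_mul] at h3
  simp only [Finset.mul_sum]
  exact h3

theorem sph_sum (hχ : IsClassFunction G χ) (H : Subgroup G) [Fintype H] :
    ∑ u : H, sph θ χ (w⁻¹ * u * w) = ∑ p : P, (∑ u : H, χ (w * p * w⁻¹ * u)) * (θ p⁻¹ : ℂˣ) := by
  simp only [sph, Finset.sum_mul]
  rw [Finset.sum_comm]
  refine Finset.sum_congr rfl fun p _ => Finset.sum_congr rfl fun u _ => ?_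
  rw [← hχ (w⁻¹ * u * w * p) (w * p)]
  congr 2
  group

theorem sph_L (hχ : IsClassFunction G χ) (h : Wo Z Q χ) :
    (Nat.card Z : ℂ) * ∑ u : Q, sph θ χ (w⁻¹ * u * w) =
      Nat.card Q * ∑ z : Z, sph θ χ (w⁻¹ * z * w) := by
  rw [sph_sum hχ, sph_sum hχ, Finset.mul_sum, Finset.mul_sum]
  exact Finset.sum_congr rfl fun p _ => by rw [← mul_assoc, h, mul_assoc]

/-- The rank one configuration. -/
structure Rk (P Z Q : Subgroup G) (w : G) : Prop where
  le : Z ≤ Q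
  ne : Nat.card Z ≠ Nat.card Q
  br : ∀ g, g ∈ P ∨ ∃ p p' : P, g = p * w * p'
  reg : ∀ u ∈ Q, w⁻¹ * u * w ∈ P → u = 1

theorem key (R : Rk P Z Q w) (h1 : ∀ g (p : P), f (g * p) = (θ p : ℂˣ) * f g)
    (h2 : ∀ g (p : P), f (p * g) = (θ p : ℂˣ) * f g) (hw : f w = 0)
    (hL : (Nat.card Z : ℂ) * ∑ u : Q, f (w⁻¹ * u * w) = Nat.card Q * ∑ z : Z, f (w⁻¹ * z * w))
    (g : G) : f g = 0 := by
  have h3 : ∀ g, g ∉ P → f g = 0 := fun g hg => by
    obtain ⟨p, p', rfl⟩ := (R.br g).resolve_left hg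
    rw [h1, h2, hw, mul_zero, mul_zero]
  have h4 : ∀ (H : Subgroup G) [Fintype H], H ≤ Q → ∑ u : H, f (w⁻¹ * u * w) = f 1 :=
    fun H _ hH => by
      rw [Finset.sum_eq_single 1 (fun u _ hu => h3 _ fun h => hu (Subtype.ext (R.reg u (hH u.2) h)))
        (by simp)]
      simp
  rw [h4 _ le_rfl, h4 _ R.le] at hL
  have h5 : f 1 = 0 := by
    by_contra h
    exact R.ne (Nat.cast_injective (mul_right_cancel₀ h hL))
  by_cases hg : g ∈ P
  · simpa [h5] using h1 1 ⟨g, hg⟩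
  · exact h3 g hg

theorem sph_w (R : Rk P Z Q w) (hχ : IsClassFunction G χ) (h : Wo Z Q χ) (h1 : sph θ χ 1 ≠ 0) :
    sph θ χ w ≠ 0 := fun hw => h1 (key R sph_right (sph_left hχ) hw (sph_L hχ h) 1)

theorem sph_conv (hχ : IsIrrCharacter G χ) (hχ' : IsIrrCharacter G χ') :
    ∑ g, conj (χ' g) * sph θ χ g = Nat.card G * classInner χ χ' / χ 1 * sph θ χ 1 := by
  have e : ∑ g, conj (χ' g) * χ g = Nat.card G * classInner χ χ' := by
    rw [classInner, mul_inv_cancel_left₀ (card_ne_zero' G)]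
    exact Finset.sum_congr rfl fun g _ => mul_comm _ _
  simp only [sph, Finset.mul_sum, one_mul]
  rw [Finset.sum_comm]
  refine Finset.sum_congr rfl fun p _ => ?_
  rw [← e, ← mul_assoc, ← hχ.sum_mul_apply_mul hχ'.conj.isClassFunction, Finset.sum_mul]
  exact Finset.sum_congr rfl fun g _ => (mul_assoc _ _ _).symm

theorem sph_inj (R : Rk P Z Q w) (hχ : IsIrrCharacter G χ) (hχ' : IsIrrCharacter G χ')
    (h : Wo Z Q χ) (h' : Wo Z Q χ') (h1 : sph θ χ 1 ≠ 0) (h1' : sph θ χ' 1 ≠ 0) : χ = χ' := by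
  by_contra hne
  have k := key (θ := θ) (f := fun g => sph θ χ' w * sph θ χ g - sph θ χ w * sph θ χ' g) R
    (fun g p => by simp only [sph_right]; ring)
    (fun g p => by simp only [sph_left hχ.isClassFunction, sph_left hχ'.isClassFunction]; ring)
    (by ring) (by
      simp only [Finset.sum_sub_distrib, ← Finset.mul_sum]
      linear_combination sph θ χ' w * sph_L (θ := θ) (w := w) hχ.isClassFunction h -
        sph θ χ w * sph_L (θ := θ) (w := w) hχ'.isClassFunction h')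
  have k2 : sph θ χ' w * ∑ g, conj (χ g) * sph θ χ g = sph θ χ w * ∑ g, conj (χ g) * sph θ χ' g := by
    rw [Finset.mul_sum, Finset.mul_sum]
    exact Finset.sum_congr rfl fun g _ => by linear_combination conj (χ g) * k g
  rw [sph_conv hχ hχ, sph_conv hχ' hχ, hχ.classInner_self, hχ'.classInner_of_ne hχ (Ne.symm hne)] at k2
  simp [sph_w R hχ'.isClassFunction h' h1', h1, hχ.apply_one_ne_zero] at k2

theorem sum_sub (H : Subgroup G) [Fintype H] [DecidablePred (· ∈ H)] (f : G → ℂ) :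
    ∑ x : H, f x = ∑ g, if g ∈ H then f g else 0 :=
  (Finset.sum_subtype (Finset.univ.filter (· ∈ H)) (by simp) f).symm.trans (Finset.sum_filter _ _)

theorem exists_theta {A : Type} [CommGroup A] [Finite A] (ev : P →* A) (hle : Q ≤ P)
    (hev : ∀ p, ev p = 1 ↔ p.1 ∈ Q) (h : ∑ u : Q, χ u ≠ 0) :
    ∃ θ₀ : A →* ℂˣ, sph (θ₀.comp ev) χ 1 ≠ 0 := by
  classical
  by_contra! h0
  have : Finite (A →* ℂˣ) := Nat.finite_of_card_ne_zero (by
    rw [CommGroup.card_monoidHom_of_hasEnoughRootsOfUnity]; exact Nat.card_pos.ne')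
  have := Fintype.ofFinite (A →* ℂˣ)
  have h1 : ∀ p : P, ∑ θ₀ : A →* ℂˣ, χ (1 * p) * ((θ₀.comp ev) p⁻¹ : ℂˣ) =
      if p.1 ∈ Q then Fintype.card (A →* ℂˣ) * χ p else 0 := fun p => by
    rw [← Finset.mul_sum, one_mul]
    split_ifs with hp
    · simp [(hev p).2 hp, mul_comm]
    · obtain ⟨φ, hφ⟩ := CommGroup.exists_apply_ne_one_of_hasEnoughRootsOfUnity A ℂ
        (a := ev p⁻¹) fun h => hp ((hev p).1 (by simpa using h))
      have h2 := sum_hom_units_eq_zero ((Units.coeHom ℂ).comp (MonoidHom.eval (ev p⁻¹) : (A →* ℂˣ) →* ℂˣ))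
        fun h => hφ (Units.ext (DFunLike.congr_fun h φ))
      exact mul_eq_zero_of_right _ h2
  have h2 : ∑ θ₀ : A →* ℂˣ, sph (θ₀.comp ev) χ 1 = 0 := Finset.sum_eq_zero fun θ₀ _ => h0 θ₀
  simp only [sph] at h2
  rw [Finset.sum_comm, Finset.sum_congr rfl fun p _ => h1 p,
    sum_sub P fun g => if g ∈ Q then Fintype.card (A →* ℂˣ) * χ g else 0] at h2
  refine h (mul_left_cancel₀ (Nat.cast_ne_zero.2 (Fintype.card_ne_zero (α := A →* ℂˣ))) ?_)
  rw [mul_zero, ← h2, Finset.mul_sum, sum_sub Q fun g => Fintype.card (A →* ℂˣ) * χ g]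
  refine Finset.sum_congr rfl fun g _ => ?_
  by_cases hg : g ∈ Q
  · simp [hg, hle hg]
  · simp [hg]

end Abs

section Geo

variable {S : HS} {e f : S.V}

theorem exists_ev (he : S.Iso e) : ∃ ev : S.Ps e →* S.Fˣ, ∀ p, p.1.1 e = (ev p : S.F) • e := by
  choose a ha using fun p : S.Ps e => p.2
  refine ⟨MonoidHom.mk' a fun p p' => Units.ext (smul_left_injective S.F he.1 ?_), ha⟩
  change _ • e = _ • e
  rw [← ha, Units.val_mul, mul_comm, ← smul_smul, ← ha p, ← map_smul, ← ha p']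
  rfl

theorem line (hn : S.n = 3) (he : S.Iso e) {y : S.V} (hy : S.Iso y) (h : S.B e y = 0) :
    ∃ a : S.Fˣ, y = (a : S.F) • e := by
  by_cases hl : LinearIndependent S.F ![e, y]
  · have h1 := S.h.finrank_add_finrank_perp (Submodule.span S.F {e, y})
    have h2 : finrank S.F (Submodule.span S.F {e, y}) = 2 := by
      have := finrank_span_eq_card hl
      rwa [Matrix.range_cons_cons_empty] at this
    have h3 : Submodule.span S.F {e, y} ≤ perp S.B (Submodule.span S.F {e, y}) := by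
      rw [Submodule.span_le]
      rintro _ (rfl | rfl)
      · exact mem_perp_pair.2 ⟨he.2, S.h.eq_zero_comm.1 h⟩
      · exact mem_perp_pair.2 ⟨h, hy.2⟩
    have h4 := Submodule.finrank_mono h3
    have h5 : finrank S.F S.V = 3 := hn
    omega
  · rw [LinearIndependent.pair_iff' he.1] at hl
    push Not at hl
    obtain ⟨a, rfl⟩ := hl
    exact ⟨Units.mk0 a (left_ne_zero_of_smul hy.1), rfl⟩

/-- Move an isotropic vector outside `e^⊥` to the line of `f`. -/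
theorem move (H : IsHyp S.B e f) {y : S.V} (hy : S.B y y = 0) (h : S.B e y ≠ 0) :
    ∃ u ∈ S.Qs e, u.1 y = S.B e y • f := by
  obtain ⟨g, hg, hu, hf⟩ := S.h.exists_unipRad_map (y := (S.B e y)⁻¹ • y) H.ee H.ff H.ef
    (by simp [hy]) (by simp [h])
  refine ⟨(⟨g, hg⟩ : S.G)⁻¹, inv_mem (show (⟨g, hg⟩ : S.G) ∈ S.Qs e from hu), g.symm_apply_eq.2 ?_⟩
  rw [map_smul, hf, smul_smul, mul_inv_cancel₀ h, one_smul]

theorem rk (hn : S.n = 3) (H : IsHyp S.B e f) {w : S.G} (hw : w.1 e = f) :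
    Rk (S.Ps e) (S.Zs e) (S.Qs e) w := by
  have he := iso_of_hyp H
  refine ⟨Zs_le_Qs he, ?_, fun g => ?_, fun u hu ⟨a, ha⟩ => ?_⟩
  · have := S.two_le_q
    rw [card_Zs he, card_Qs he, hn]
    exact (lt_self_pow₀ (by omega) (by omega)).ne
  · by_cases h : S.B e (g.1 e) = 0
    · exact .inl (line hn he (he.map g) h)
    · obtain ⟨u, hu, h1⟩ := move H (he.map g).2 h
      refine .inr ⟨⟨u⁻¹, inv_mem (Rs_le_Ps e (Qs_le_Rs e hu))⟩,
        ⟨w⁻¹ * u * g, Units.mk0 _ h, w.1.symm_apply_eq.2 ?_⟩, by simp [mul_assoc]⟩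
      rw [map_smul, hw]
      exact h1
  · have h1 : u.1 f = (a : S.F) • f := by
      rw [← hw, ← map_smul]
      exact w.1.symm_apply_eq.1 ha
    have h2 := u.2.1 e f
    rw [mem_Rs.1 (Qs_le_Rs e hu), h1, map_smul, H.ef, smul_eq_mul, mul_one] at h2
    rw [h2, one_smul] at h1
    have h3 : u.1 f = f - (0 : hypPerp S.B e f) - (0 : S.F) • e := by simpa using h1
    have h4 : (1 : S.V ≃ₗ[S.F] S.V) f = f - (0 : hypPerp S.B e f) - (0 : S.F) • e := by simp
    exact Subtype.ext (H.ext hu (one_mem _) ((H.cu_eq h3).trans (H.cu_eq h4).symm)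
      ((H.ca_eq h3).trans (H.ca_eq h4).symm))

theorem tor (hn : S.n = 3) (H : IsHyp S.B e f) {w : S.G} (hw : w.1 e = f) {ev : S.Ps e →* S.Fˣ}
    (hev : ∀ p, p.1.1 e = (ev p : S.F) • e) (a : S.Fˣ) :
    ∃ t t' : S.Ps e, t.1 * w = w * t'.1 ∧ ev t = a ∧ ev t' = (a ^ S.q)⁻¹ := by
  have he := iso_of_hyp H
  obtain ⟨p, hp⟩ := exists_eig hn.ge he a
  have h1 : S.B e (p.1 f) = ((a ^ S.q)⁻¹ : S.Fˣ) := by
    have h := p.2.1 e f
    rw [hp, form_smul_left, H.ef, frob_apply] at h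
    simpa using eq_inv_of_mul_eq_one_right h
  obtain ⟨u, hu, h2⟩ := move H ((p.2.1 f f).trans H.ff) (by rw [h1]; exact Units.ne_zero _)
  have h3 : (u * p).1 e = (a : S.F) • e := by
    change u.1 (p.1 e) = _
    rw [hp, map_smul, mem_Rs.1 (Qs_le_Rs e hu)]
  have h4 : (w⁻¹ * (u * p) * w).1 e = (((a ^ S.q)⁻¹ : S.Fˣ) : S.F) • e := by
    refine w.1.symm_apply_eq.2 ?_
    change u.1 (p.1 (w.1 e)) = _
    rw [map_smul, hw, ← h1]
    exact h2
  exact ⟨⟨_, _, h3⟩, ⟨_, _, h4⟩, by simp [mul_assoc],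
    Units.ext (smul_left_injective S.F he.1 ((hev _).symm.trans h3)),
    Units.ext (smul_left_injective S.F he.1 ((hev _).symm.trans h4))⟩

end Geo

theorem jobP3 (ge : JobGE) : JobP3 := fun S e hn he s hs => by
  classical
  obtain ⟨f, H⟩ := he.exists_hyp
  obtain ⟨w, hw⟩ := trans hn.ge he (iso_of_hyp H.symm)
  obtain ⟨ev, hev⟩ := exists_ev he
  have R := rk hn H hw
  have := Fintype.ofFinite S.G
  have hRQ : S.Rs e ≤ S.Qs e := ge S e he _ le_rfl fun y hy h => by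
    obtain ⟨a, rfl⟩ := line hn he hy h
    rw [Qs_smul e a.ne_zero]
    exact inf_le_left
  have hk : ∀ p, ev p = 1 ↔ p.1 ∈ S.Qs e := fun p =>
    ⟨fun h => hRQ (by rw [mem_Rs, hev, h, Units.val_one, one_smul]), fun h =>
      Units.ext (smul_left_injective S.F he.1 ((hev p).symm.trans (h.2.1.trans (one_smul _ _).symm)))⟩
  have hW : ∀ χ ∈ s, Wo (S.Zs e) (S.Qs e) χ := fun χ hχ => by
    obtain ⟨⟨N, ρ, -, rfl⟩, h, -⟩ := hs χ hχ
    exact wo_rep ρ R.le ((W_iff ρ).1 h e he)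
  have hθ : ∀ χ, ∃ θ₀ : S.Fˣ →* ℂˣ, χ ∈ s → sph (θ₀.comp ev) χ 1 ≠ 0 := fun χ => by
    by_cases hχ : χ ∈ s
    · obtain ⟨θ₀, h⟩ := exists_theta (χ := χ) ev ((Qs_le_Rs e).trans (Rs_le_Ps e)) hk fun h =>
        (hs χ hχ).2.2 (av_eq_zero.2 (by rw [finsum_eq_sum_of_fintype, h]))
      exact ⟨θ₀, fun _ => h⟩
    · exact ⟨1, fun h => absurd h hχ⟩
  choose θ hθ using hθ
  obtain ⟨φ⟩ := CommGroup.monoidHom_mulEquiv_of_hasEnoughRootsOfUnity S.Fˣ ℂ
  have : IsCyclic (S.Fˣ →* ℂˣ) := φ.isCyclic.2 inferInstance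
  have : Finite (S.Fˣ →* ℂˣ) := Finite.of_equiv _ φ.symm.toEquiv
  have := Fintype.ofFinite (S.Fˣ →* ℂˣ)
  refine (Finset.card_le_card_of_injOn θ (fun χ hχ => ?_) fun χ hχ χ' hχ' h => ?_).trans
    (IsCyclic.card_pow_eq_one_le (n := S.q + 1) (Nat.succ_pos _))
  · simp only [Finset.coe_filter, Finset.mem_univ, true_and, Set.mem_setOf_eq]
    refine MonoidHom.ext fun a => ?_
    obtain ⟨t, t', h1, h2, h3⟩ := tor hn H hw hev a
    have hc := (hs χ hχ).1.isClassFunction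
    have h4 := congrArg (sph ((θ χ).comp ev) χ) h1
    rw [sph_left hc, sph_right] at h4
    have h5 := Units.ext (mul_right_cancel₀ (sph_w R hc (hW χ hχ) (hθ χ hχ)) h4)
    rw [MonoidHom.comp_apply, MonoidHom.comp_apply, h2, h3, map_inv, map_pow] at h5
    rw [MonoidHom.pow_apply, pow_succ, MonoidHom.one_apply]
    exact mul_eq_one_iff_inv_eq.2 h5.symm
  · exact sph_inj R (hs χ hχ).1 (hs χ' hχ').1 (hW χ hχ) (hW χ' hχ') (hθ χ hχ) (h ▸ hθ χ' hχ')

end H4.WUP3
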