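import Cfsg.Agent.H64.YESpec
import Cfsg.Agent.H64.SGK89
import Cfsg.Agent.H9.UfK1
import Cfsg.Agent.H14.Std

/-! STD-SP endgame, slot C3: `C(Φ c) ≤ M` in the orthogonal models. -/

set_option autoImplicit false
set_option linter.unusedSectionVars false

namespace H4.YEC3

open H64.SG (Syl Cz Cs Ns cjs Is2 UF mem_Cz mem_Cs is2_of_sq isPGroup_iff_is2 Cs_le_Ns
  odd_orderOf_of_mem odd_card_sup syl_iff)
open Subgroup H67.UA H67.SP H64.YE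
open H67.SA (St conj_mem_St mem_St)
open H59.SO (Ind ind_conj mem_Cs_map mem_Cs_range)

universe u

variable {n : ℕ} {F : Type} [Field F] [StarRing F] [TrivialStar F] [CharP F 2] [Finite F]
  {Y : Type} [Group Y] [Finite Y] [QS Y] {G : Type u} [Group G] [Finite G] {ι : XU n F →* Y}
  {τ : MulAut Y} {Gd Go : XU n F → Prop} {U : Subgroup Y} {e : XU n F →* G} {t : G} {Φ : Y →* G}
  {K₀ : Subgroup G} (h : E1 ι τ Gd Go U e t Φ K₀) {c : Y} {R R₀ R₁ : Subgroup Y}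

theorem cm_one {O Q : Subgroup G} (hO : Odd (Nat.card O)) (hQ : IsPGroup 2 Q) (h1 : Q ≤ Ns O)
    {o : G} (ho : o ∈ O) (h2 : o ∈ Ns Q) : o ∈ Cs Q := fun x hx => by
  have k1 : o * x * o⁻¹ * x⁻¹ ∈ Q := mul_mem (H98.conj_mem_of_mem_normalizer h2 hx) (inv_mem hx)
  have k2 : o * x * o⁻¹ * x⁻¹ ∈ O := by
    simpa only [mul_assoc] using mul_mem ho (H98.conj_mem_of_mem_normalizer (h1 hx) (inv_mem ho))
  have := (isPGroup_iff_is2.1 hQ _ k1).eq_one (odd_orderOf_of_mem hO k2)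
  rw [mul_inv_eq_one, mul_inv_eq_iff_eq_mul] at this
  exact this.symm

theorem Phi_mem (y : Y) : Φ y ∈ Ns Φ.range := le_normalizer ⟨y, rfl⟩

include h

theorem co {A : Subgroup Y} (hA : IsPGroup 2 A) (k : Co A) {o : G} (hm : o ∈ Ns Φ.range)
    (ho : Odd (orderOf o)) (hc : o ∈ Cs (A.map Φ)) : o ∈ Cs Φ.range := by
  obtain ⟨β, hβ⟩ := exists_ind h.ker hm
  exact (H64.YE.ind_eq_one_iff h.ker hβ).1 (k β (ind_fix h.ker hβ hA hc) (ind_odd h.ker hβ ho))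

theorem oc {O : Subgroup G} {B : Subgroup Y} (hO : Odd (Nat.card O)) (ht : t ∈ Ns O)
    (hB : B.map Φ ≤ Ns O) (hM : O ⊓ Ns Φ.range ≤ Cs Φ.range) : O ≤ Cs ((EG ι Go B).map Φ) := by
  have key : ∀ v, v * v = 1 → Go v → ι v ∈ B → O ≤ Cz (Φ (ι v)) := fun v v2 gv hv => by
    by_cases v1 : Φ (ι v) = 1
    · exact fun x _ => mem_Cz.2 (by rw [v1, mul_one, one_mul])
    have k : ∀ a : G, Cz a ≤ Ns Φ.range → O ⊓ Cz a ≤ Cz (Φ (ι v)) := fun a ha x hx =>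
      mem_Cz.2 (hM ⟨hx.1, ha hx.2⟩ _ ⟨_, rfl⟩)
    refine H14.le_of_four (a := t) (b := Φ (ι v)) (orderOf_eq_prime (by rw [sq, h.uf.inv.1]) h.uf.inv.2)
      (orderOf_eq_prime (by rw [sq, ← map_mul, ← map_mul, v2, map_one, map_one]) v1)
      (h.act.comm ((h.fix _).2 ⟨v, rfl⟩)) (fun k => h.nt (k ▸ h.le ⟨_, rfl⟩))
      (Nat.coprime_two_right.2 hO) ht (hB ⟨_, hv, rfl⟩) (k _ h.ct) inf_le_right (k _ ?_)
    rw [h.res]; exact h.go v v2 gv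
  intro o ho
  refine mem_Cs_map.2 fun s hs => ?_
  refine (mem_Cz.1 ((closure_le (K := (Cz o).comap Φ)).2 ?_ hs : Φ s ∈ Cz o)).symm
  rintro _ ⟨b, hb, v, v2, gv, hv, rfl⟩
  have := mem_Cz.1 (key v v2 gv hv (H98.conj_mem_of_mem_normalizer' (hB ⟨b, hb, rfl⟩) ho))
  refine mem_Cz.2 ?_
  simp only [map_mul, map_inv]
  calc _ = Φ b * ((Φ b)⁻¹ * o * Φ b * Φ (ι v)) * (Φ b)⁻¹ := by group
    _ = _ := by rw [← this]; group

variable (tc : τ c = c) (gR : Good τ U R) (os : OS ι τ c R) (k : OC ι τ Go c R R₀ R₁)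
  (nr : Ns (R.map Φ) ≤ Ns Φ.range)

omit h in
theorem twoR (os : OS ι τ c R) : IsPGroup 2 R := isPGroup_iff_is2.2 fun x hx => is2_of_sq (os.el x hx)

omit h in
theorem commR (os : OS ι τ c R) {x y : Y} (hx : x ∈ R) (hy : y ∈ R) : x * y = y * x := by
  rw [← inv_eq_of_mul_eq_one_right (os.el _ (mul_mem hx hy)), mul_inv_rev,
    inv_eq_of_mul_eq_one_right (os.el _ hx), inv_eq_of_mul_eq_one_right (os.el _ hy)]

include os in
theorem ind_c {m : G} (hm : m ∈ Ns Φ.range) (hc : m ∈ Cz (Φ c)) : ∃ β, Ind Φ m β ∧ β c = c := by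
  obtain ⟨β, hβ⟩ := exists_ind h.ker hm
  exact ⟨β, hβ, (ind_comm_iff h.ker hβ (is2_of_sq (os.el c os.cr))).1 (mem_Cz.1 hc).symm⟩

include os in
theorem mq : Ns Φ.range ⊓ Cz (Φ c) ≤ Ns (R.map Φ) := fun _ hm => by
  obtain ⟨β, hβ, e⟩ := ind_c h os hm.1 hm.2
  exact hβ.mem_Ns_map (os.st β e)

omit h in
theorem qh (os : OS ι τ c R) : R.map Φ ≤ Cz (Φ c) := by
  rintro _ ⟨x, hx, rfl⟩
  exact mem_Cz.2 (by rw [← map_mul, ← map_mul, commR os os.cr hx])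

include tc gR os k nr

theorem case1 {O : Subgroup G} (hl : O ≤ Cz (Φ c)) (hO : Odd (Nat.card O))
    (hN : Ns (Cz (Φ c)) ≤ Ns O)
    (hd : ∀ x ∈ Cz (Φ c), ∃ o ∈ O, ∃ m ∈ Cz (Φ c) ⊓ Ns (R.map Φ), x = o * m) :
    Cz (Φ c) ≤ Ns Φ.range := by
  have hH : Cz (Φ c) ≤ Ns O := le_normalizer.trans hN
  have h1 : O ⊓ Ns Φ.range ≤ Cs Φ.range := fun o ho => co h (twoR os) gR.co ho.2
    (odd_orderOf_of_mem hO ho.1) (cm_one hO ((twoR os).map Φ) ((qh os).trans hH) ho.1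
      (mq h os ⟨ho.2, hl ho.1⟩))
  have h2 : O ≤ Cs (R₀.map Φ) := (oc h (B := Cz c) hO (hH (mem_Cz.2 (h.act.comm tc).symm)) (by
    rintro _ ⟨p, hp, rfl⟩
    exact hH (mem_Cz.2 (by rw [← map_mul, ← map_mul, mem_Cz.1 hp]))) h1).trans
      (centralizer_le (map_mono k.gr))
  obtain ⟨g, -, g1, g2, g3⟩ := k.two
  have h3 : O ≤ Ns Φ.range := fun o ho => by
    have a1 : Φ g * o * (Φ g)⁻¹ ∈ Cs ((cjs g R₀).map Φ) := mem_Cs_map.2 (by
      rintro _ ⟨x, hx, rfl⟩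
      have := h2 ho _ ⟨x, hx, rfl⟩
      simp only [MulEquiv.coe_toMonoidHom, MulAut.conj_apply, map_mul, map_inv]
      calc _ = Φ g * (Φ x * o) * (Φ g)⁻¹ := by group
        _ = _ := by rw [this]; group)
    have a2 : Φ g * o * (Φ g)⁻¹ ∈ Cz (Φ c) := mem_Cz.2 (a1 _ ⟨c, g1, rfl⟩)
    have a3 : Odd (orderOf (Φ g * o * (Φ g)⁻¹)) :=
      (odd_orderOf_of_mem hO ho).of_dvd_nat (orderOf_map_dvd (MulAut.conj (Φ g)).toMonoidHom o)
    obtain ⟨o₁, ho₁, m, hm, e⟩ := hd _ a2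
    have e' : m = o₁⁻¹ * (Φ g * o * (Φ g)⁻¹) := by rw [e, inv_mul_cancel_left]
    have a4 : Odd (orderOf m) := odd_orderOf_of_mem
      (odd_card_sup hO (by rwa [Nat.card_zpowers]) (zpowers_le.2 (hH a2)))
      (e' ▸ mul_mem (mem_sup_left (inv_mem ho₁)) (mem_sup_right (mem_zpowers _)))
    have a5 : m ∈ Cs Φ.range := co h ((twoR os).to_le (inf_le_left.trans k.l0)) g3 (nr hm.2) a4
      (e' ▸ mul_mem (centralizer_le (map_mono inf_le_left) (inv_mem (h2 ho₁)))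
        (centralizer_le (map_mono inf_le_right) a1))
    have a6 : Φ g * o * (Φ g)⁻¹ ∈ Cs (R₀.map Φ) :=
      e ▸ mul_mem (h2 ho₁) (centralizer_le (map_le_range Φ R₀) a5)
    have a7 : Φ g * o * (Φ g)⁻¹ ∈ Cs (R.map Φ) := fun x hx => by
      have : (R₀ ⊔ cjs g R₀).map Φ ≤ Cz (Φ g * o * (Φ g)⁻¹) := by
        rw [Subgroup.map_sup]
        exact sup_le (fun y hy => mem_Cz.2 (a6 y hy).symm) fun y hy => mem_Cz.2 (a1 y hy).symm
      exact (mem_Cz.1 (this (map_mono g2 hx))).symm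
    have := nr (Cs_le_Ns _ a7)
    rwa [mul_mem_cancel_right (inv_mem (Phi_mem g)), mul_mem_cancel_left (Phi_mem g)] at this
  intro x hx
  obtain ⟨o, ho, m, hm, rfl⟩ := hd x hx
  exact mul_mem (h3 ho) (nr hm.2)

theorem case2 {T N B : Subgroup G}
    (d : GD (Ns Φ.range) (Cz (Φ c)) T (zpowers (Φ c)) (R.map Φ) N B) : False := by
  have th : t ∈ Cz (Φ c) := mem_Cz.2 (h.act.comm tc).symm
  have t2 := h.uf.inv.1
  have act : ∀ a ∈ R, ∀ a' ∈ R, Φ a ∉ B → Φ a' ∉ B → ∃ (m : G) (β : MulAut Y), Ind Φ m β ∧ β c = c ∧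
      m ∈ Cs B ∧ Φ (β a * a'⁻¹) ∈ B := fun a ha a' ha' b b' => by
    obtain ⟨m, -, m1, m2, m3⟩ := d.tr _ ⟨a, ha, rfl⟩ _ ⟨a', ha', rfl⟩ b b'
    obtain ⟨β, hβ, e⟩ := ind_c h os (nr m1) (mem_Cz.2 (m2 _ (d.vb (mem_zpowers _))))
    exact ⟨m, β, hβ, e, m2, by rwa [map_mul, map_inv, ← hβ]⟩
  rcases k.irr (R ⊓ B.comap Φ) inf_le_left (fun p hp => by
    have p1 : Φ p ∈ Cz (Φ c) := mem_Cz.2 (by rw [← map_mul, ← map_mul, mem_Cz.1 hp])
    have s1 := (d.inv t th t2 h.ct).2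
    have s2 := (d.inv (Φ p * t * (Φ p)⁻¹) (mul_mem (mul_mem p1 th) (inv_mem p1)) (by
      rw [conj_mul, t2, mul_one, mul_inv_cancel]) fun g hg => by
        have : (Φ p)⁻¹ * g * Φ p ∈ Cz t := mem_Cz.2 (by
          calc _ = (Φ p)⁻¹ * (Φ p * t * (Φ p)⁻¹ * g) * Φ p := by group
            _ = _ := by rw [mem_Cz.1 hg]; group)
        have := h.ct this
        rwa [mul_mem_cancel_right (Phi_mem p), mul_mem_cancel_left (inv_mem (Phi_mem p))] at this).2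
    have s3 : Φ (p * (τ p)⁻¹) ∈ Ns B := by
      have := mul_mem s2 (inv_mem s1)
      rwa [map_mul, map_inv, ← h.act p, show Φ p * (t * Φ p * t⁻¹)⁻¹ = Φ p * t * (Φ p)⁻¹ * t⁻¹ by group]
    have s4 : p * (τ p)⁻¹ ∈ Cz c := mul_mem hp (inv_mem (mem_Cz.2 (by
      rw [← tc, ← map_mul, ← map_mul, mem_Cz.1 hp])))
    refine inf_normalizer_le_normalizer_inf ⟨conj_mem_St.1 (os.st _ ?_), le_normalizer_comap Φ s3⟩
    rw [MulAut.conj_apply, ← mem_Cz.1 s4, mul_inv_cancel_right]) with k1 | k1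
  · obtain ⟨a, ha, ha1⟩ := SetLike.not_le_iff_exists.1 k.n1
    obtain ⟨a', ha', ha0⟩ := SetLike.not_le_iff_exists.1 k.n0
    obtain ⟨m, β, -, e, -, m3⟩ := act a (k.l0 ha) a' ha' (fun b => ha1 (k1 ⟨k.l0 ha, b⟩))
      fun b => ha0 (k.l1 (k1 ⟨ha', b⟩))
    have b0 := (k.st β e a).1 ha
    have := k.l1 (k1 (mem_inf.2 ⟨mul_mem (k.l0 b0) (inv_mem ha'), m3⟩))
    rw [mul_mem_cancel_left b0, inv_mem_iff] at this
    exact ha0 this
  · obtain ⟨_, ⟨x, hx, rfl⟩, _, ⟨y, hy, rfl⟩, b1, b2, b3⟩ := d.four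
    obtain ⟨m, β, hβ, e, m2, m3⟩ := act x hx y hy b1 b2
    have m4 : Φ (β x * x⁻¹) ∈ B := (k1 (k.tv β (os.st β e) (ind_fix h.ker hβ
      ((twoR os).to_le k.l0) (centralizer_le (by rintro _ ⟨z, hz, rfl⟩; exact (k1 hz).2) m2)) x hx)).2
    have := mul_mem (inv_mem m4) m3
    rw [← map_inv, ← map_mul, show (β x * x⁻¹)⁻¹ * (β x * y⁻¹) = x * y⁻¹ by group,
      inv_eq_of_mul_eq_one_right (os.el y hy), ← inv_eq_of_mul_eq_one_right (os.el x hx), map_mul,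
      map_inv] at this
    exact b3 this

end H4.YEC3

namespace H4.YEC3

open H64.SG (Syl Cz Cs Ns cjs Is2 UF mem_Cz is2_of_sq isPGroup_iff_is2 syl_iff)
open Subgroup H64.YE

universe u

theorem jobC3 : JobC3.{u} := by
  intro gc n F _ _ _ _ _ _ G _ _ e t Y _ _ _ ι τ Gd Go U Φ K₀ h c R R₀ R₁ tc gR os k sr nr
  have th : t ∈ Cz (Φ c) := mem_Cz.2 (h.act.comm tc).symm
  obtain ⟨T, hT, hle⟩ := H98.exists_isSyl_le (IsPGroup.to_sup_of_normal_left' ((twoR os).map Φ)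
    (is2_of_sq h.uf.inv.1).zpowers (zpowers_le.2 (h.act.mem_Ns_map gR.st)))
    (sup_le (qh os) (zpowers_le.2 th))
  have tm : T ≤ Ns Φ.range := (H9.UF.jobK1 h.uf (IsConj.refl t) h.uf.mem).2 T hT.2.1
    (hle (mem_sup_right (mem_zpowers t)))
  rcases gc G (Ns Φ.range) (Cz (Φ c)) T (zpowers (Φ c)) (R.map Φ) (syl_iff.2 hT)
    (zpowers_le.2 ⟨c, os.cr, rfl⟩) (le_sup_left.trans hle)
    (fun g hg => H64.SG.mem_Cs_zpowers.2 (mem_Cz.1 hg))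
    (by rintro _ ⟨x, hx, rfl⟩; rw [← map_mul, os.el x hx, map_one]; exact one_mem _)
    (by
      rintro _ ⟨x, hx, rfl⟩ g hg hm
      exact sr x hx g hg (h.two2 _ (tm hm) (isPGroup_iff_is2.1 hT.2.1 _ hm)
        (h.nor.conj_mem _ (h.le ⟨x, rfl⟩) g)))
    (mq h os) with ⟨O, h1, h2, h3, h4⟩ | ⟨N, B, d⟩
  · exact case1 h tc gR os k nr h1 h2 h3 h4
  · exact (case2 h tc gR os k nr d).elim

end H4.YEC3
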